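/-
helper21 shared library: basic theory of quasisimple groups and components
(Prelude `Def_Local` / `Def_CaseTheorems` vocabulary).
All declarations live in `Cfsg.Agent.Lib.Helper21`.
-/
import Mathlib
import Cfsg.Prelude.Def_Local
import Cfsg.Agent.Lib.Helper29.Iso
import Cfsg.Agent.Lib.Helper71.Fitting

set_option autoImplicit false

namespace Cfsg.Agent.Lib.Helper21

open Cfsg
open scoped Pointwise

universe u

section General

variable {G : Type*} [Group G]

/-- Elements of `H ⊔ N` with `N` normal are products `h * n`. -/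
theorem exists_mul_of_mem_sup_normal {H N : Subgroup G} [N.Normal] {x : G} (hx : x ∈ H ⊔ N) :
    ∃ h ∈ H, ∃ n ∈ N, h * n = x := by
  have hx' : x ∈ ((H : Set G) * (N : Set G)) := by
    rw [← Subgroup.mul_normal]; exact hx
  obtain ⟨h, hh, n, hn, e⟩ := Set.mem_mul.mp hx'
  exact ⟨h, hh, n, hn, e⟩

/-- `⁅H, K⁆ = ⊥` iff elementwise commuting. -/
theorem commutator_eq_bot_iff_commute {H K : Subgroup G} :
    ⁅H, K⁆ = ⊥ ↔ ∀ h ∈ H, ∀ k ∈ K, h * k = k * h := by
  rw [Subgroup.commutator_eq_bot_iff_le_centralizer]
  constructor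
  · intro h x hx k hk
    exact (h hx k hk).symm
  · intro h x hx k hk
    exact (h x hx k hk).symm

theorem commutator_eq_bot_iff_le_centralizer' {H K : Subgroup G} :
    ⁅H, K⁆ = ⊥ ↔ K ≤ Subgroup.centralizer (H : Set G) := by
  rw [Subgroup.commutator_comm, Subgroup.commutator_eq_bot_iff_le_centralizer]

/-- If `L` is perfect and `⁅⁅H, L⁆, L⁆ = ⊥` then `⁅L, H⁆ = ⊥`. -/
theorem commutator_eq_bot_of_perfect {L H : Subgroup G} (hL : ⁅L, L⁆ = L)
    (h : ⁅⁅H, L⁆, L⁆ = ⊥) : ⁅L, H⁆ = ⊥ := by
  have h1 : ⁅⁅L, H⁆, L⁆ = ⊥ := by rw [Subgroup.commutator_comm L H]; exact h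
  have h2 : ⁅⁅L, L⁆, H⁆ = ⊥ := Subgroup.commutator_commutator_eq_bot_of_rotate h1 h
  rwa [hL] at h2

/-- Transfer of commutators along `subgroupOf`. -/
theorem map_subtype_commutator_subgroupOf {K : Subgroup G} (L H : Subgroup G) :
    (⁅L.subgroupOf K, H.subgroupOf K⁆).map K.subtype = ⁅L ⊓ K, H ⊓ K⁆ := by
  rw [Subgroup.map_commutator, Subgroup.subgroupOf_map_subtype, Subgroup.subgroupOf_map_subtype]

theorem commutator_eq_bot_of_subgroupOf {K L H : Subgroup G} (hL : L ≤ K) (hH : H ≤ K)
    (h : ⁅L.subgroupOf K, H.subgroupOf K⁆ = ⊥) : ⁅L, H⁆ = ⊥ := by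
  have := map_subtype_commutator_subgroupOf (K := K) L H
  rw [h, Subgroup.map_bot, inf_of_le_left hL, inf_of_le_left hH] at this
  exact this.symm

theorem commutator_subgroupOf_eq_bot {K L H : Subgroup G}
    (h : ⁅L, H⁆ = ⊥) : ⁅L.subgroupOf K, H.subgroupOf K⁆ = ⊥ := by
  have h1 := map_subtype_commutator_subgroupOf (K := K) L H
  have h2 : ⁅L ⊓ K, H ⊓ K⁆ = ⊥ := by
    rw [eq_bot_iff, ← h]
    exact Subgroup.commutator_mono inf_le_left inf_le_left
  rw [h2] at h1
  exact (Subgroup.map_eq_bot_iff_of_injective _ K.subtype_injective).mp h1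

end General

section Quasisimple

variable {X : Type*} [Group X]

theorem qs_isPerfect (h : IsQuasisimple X) : Group.IsPerfect X := h.1

theorem qs_nontrivial (h : IsQuasisimple X) : Nontrivial X := by
  have := h.2
  have : Nontrivial (X ⧸ Subgroup.center X) := IsSimpleGroup.toNontrivial
  exact (QuotientGroup.mk'_surjective (Subgroup.center X)).nontrivial

theorem qs_not_isSolvable (h : IsQuasisimple X) : ¬ Group.IsSolvable X := by
  have := qs_nontrivial h
  have := h.1
  exact Group.IsPerfect.not_isSolvable X

theorem qs_not_isMulCommutative (h : IsQuasisimple X) : ¬ IsMulCommutative X := by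
  have := qs_nontrivial h
  have := h.1
  exact Group.IsPerfect.not_isMulCommutative X

/-- In a quasisimple group a normal subgroup is everything or central. -/
theorem qs_normal_eq_top_or_le_center (h : IsQuasisimple X) (N : Subgroup X)
    [hN : N.Normal] : N = ⊤ ∨ N ≤ Subgroup.center X := by
  have := h.2
  set Z := Subgroup.center X
  have hmap : (N.map (QuotientGroup.mk' Z)).Normal :=
    hN.map _ (QuotientGroup.mk'_surjective Z)
  rcases hmap.eq_bot_or_eq_top with h1 | h1
  · right
    intro x hx
    have : (QuotientGroup.mk' Z) x ∈ N.map (QuotientGroup.mk' Z) := ⟨x, hx, rfl⟩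
    rw [h1, Subgroup.mem_bot] at this
    exact (QuotientGroup.eq_one_iff x).mp this
  · left
    have h2 : N ⊔ Z = ⊤ := by
      have := congrArg (Subgroup.comap (QuotientGroup.mk' Z)) h1
      rwa [Subgroup.comap_map_eq, QuotientGroup.ker_mk', Subgroup.comap_top] at this
    have h3 : ⁅N ⊔ Z, (⊤ : Subgroup X)⁆ ≤ N := by
      apply Cfsg.Agent.Lib.Helper71.commutator_sup_le
      · exact Subgroup.commutator_le_left N ⊤
      · have : ⁅Z, (⊤ : Subgroup X)⁆ = ⊥ := by
          rw [Subgroup.commutator_eq_bot_iff_le_centralizer]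
          intro z hz x _
          exact (Subgroup.mem_center_iff.mp hz x)
        rw [this]; exact bot_le
    rw [h2] at h3
    have h4 : ⁅(⊤ : Subgroup X), (⊤ : Subgroup X)⁆ = ⊤ := h.1.commutator_eq_top
    rw [h4] at h3
    exact top_le_iff.mp h3

/-- S1259: in a quasisimple group every subnormal subgroup is everything or central. -/
theorem qs_subnormal_eq_top_or_le_center (h : IsQuasisimple X) (H : Subgroup X)
    (hH : H.IsSubnormal) : H = ⊤ ∨ H ≤ Subgroup.center X := by
  induction hH with
  | top => left; rfl
  | step H K h_le hSubn hN ih =>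
    rcases ih with rfl | hK
    · have hn : H.Normal := by
        have := Subgroup.normal_subgroupOf_iff_le_normalizer (le_top : H ≤ ⊤) |>.mp hN
        exact Subgroup.normalizer_eq_top_iff.mp (top_le_iff.mp this)
      exact qs_normal_eq_top_or_le_center h H
    · right; exact h_le.trans hK

end Quasisimple


section Component

variable {G : Type*} [Group G]

/-- A perfect subgroup (as a group) is perfect (as a subgroup). -/
theorem qs_commutator_eq_self {L : Subgroup G} (h : IsQuasisimple L) : ⁅L, L⁆ = L :=
  Subgroup.isPerfect_iff.mp h.1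

/-- In a quasisimple subgroup `L`, a subgroup normalized by `L` is `L` or centralizes `L`. -/
theorem qs_eq_or_commutator_eq_bot {L N : Subgroup G} (h : IsQuasisimple L) (hNL : N ≤ L)
    (hnorm : L ≤ Subgroup.normalizer (N : Set G)) : N = L ∨ ⁅L, N⁆ = ⊥ := by
  have hn : (N.subgroupOf L).Normal := (Subgroup.normal_subgroupOf_iff_le_normalizer hNL).mpr hnorm
  rcases qs_normal_eq_top_or_le_center h (N.subgroupOf L) with h1 | h1
  · left
    rw [Subgroup.subgroupOf_eq_top] at h1
    exact le_antisymm hNL h1
  · right
    rw [commutator_eq_bot_iff_commute]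
    intro l hl n hn'
    have hmem : (⟨n, hNL hn'⟩ : L) ∈ N.subgroupOf L := by
      simpa [Subgroup.mem_subgroupOf] using hn'
    have := Subgroup.mem_center_iff.mp (h1 hmem) ⟨l, hl⟩
    exact congrArg Subtype.val this

theorem isComponent_subgroupOf {L K : Subgroup G} (hL : IsComponent L) (hLK : L ≤ K) :
    IsComponent (L.subgroupOf K) :=
  ⟨hL.1.subgroupOf, Cfsg.Agent.Lib.Helper29.isQuasisimple_of_mulEquiv
    (Subgroup.subgroupOfEquivOfLe hLK).symm hL.2⟩

theorem isComponent_map_subtype {K : Subgroup G} {L : Subgroup K} (hK : K.IsSubnormal)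
    (hL : IsComponent L) : IsComponent (L.map K.subtype) :=
  ⟨hL.1.trans' hK, Cfsg.Agent.Lib.Helper29.isQuasisimple_of_mulEquiv
    (Subgroup.equivMapOfInjective L K.subtype K.subtype_injective) hL.2⟩

theorem isComponent_of_map_subtype {K : Subgroup G} {L : Subgroup K}
    (hL : IsComponent (L.map K.subtype)) : IsComponent L := by
  refine ⟨?_, Cfsg.Agent.Lib.Helper29.isQuasisimple_of_mulEquiv
    (Subgroup.equivMapOfInjective L K.subtype K.subtype_injective).symm hL.2⟩
  have := hL.1.subgroupOf (K := K)
  rwa [Subgroup.subgroupOf, Subgroup.comap_map_eq_self_of_injective K.subtype_injective] at this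

/-- Key lemma (normal case), by induction on the order of the group. -/
theorem component_le_or_commutator_eq_bot_of_normal_aux (n : ℕ) :
    ∀ (G : Type u) [Group G] [Finite G], Nat.card G = n → ∀ L H : Subgroup G,
      IsComponent L → H.Normal → L ≤ H ∨ ⁅L, H⁆ = ⊥ := by
  induction n using Nat.strong_induction_on with
  | _ n ih =>
    intro G _ _ hcard L H hL hH
    by_cases hLtop : L = ⊤
    · -- `G` itself is quasisimple
      subst hLtop
      have hq : IsQuasisimple G :=
        Cfsg.Agent.Lib.Helper29.isQuasisimple_of_mulEquiv Subgroup.topEquiv hL.2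
      rcases qs_normal_eq_top_or_le_center hq H with h1 | h1
      · left; rw [h1]
      · right
        rw [commutator_eq_bot_iff_commute]
        intro l _ h hh
        exact (Subgroup.mem_center_iff.mp (h1 hh) l)
    · obtain ⟨K, hKn, hLK, hKlt⟩ := hL.1.exists_normal_and_le_and_lt_top_of_ne hLtop
      have hcardK : Nat.card K < n := by
        rw [← hcard]
        have hne : K ≠ ⊤ := hKlt.ne
        have hle : Nat.card K ≤ Nat.card G := Subgroup.card_le_card_group K
        rcases hle.lt_or_eq with h | h
        · exact h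
        · exact absurd ((Subgroup.card_eq_iff_eq_top K).mp h) hne
      have hn' : (H.subgroupOf K).Normal := hH.subgroupOf K
      rcases ih _ hcardK K rfl (L.subgroupOf K) (H.subgroupOf K)
        (isComponent_subgroupOf hL hLK) hn' with h1 | h1
      · left
        intro x hx
        have : (⟨x, hLK hx⟩ : K) ∈ L.subgroupOf K := by
          simpa [Subgroup.mem_subgroupOf] using hx
        have := h1 this
        simpa [Subgroup.mem_subgroupOf] using this
      · right
        -- `⁅L, H ⊓ K⁆ = ⊥`
        have h2 : ⁅L, H ⊓ K⁆ = ⊥ := by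
          have h3 := map_subtype_commutator_subgroupOf (K := K) L H
          rw [h1, Subgroup.map_bot, inf_of_le_left hLK] at h3
          exact h3.symm
        apply commutator_eq_bot_of_perfect (qs_commutator_eq_self hL.2)
        rw [eq_bot_iff, ← h2, Subgroup.commutator_comm L (H ⊓ K)]
        apply Subgroup.commutator_mono _ le_rfl
        apply le_inf
        · exact Subgroup.commutator_le_left H L
        · exact (Subgroup.commutator_mono le_top hLK).trans (Subgroup.commutator_le_right ⊤ K)

/-- A component `L` and a normal subgroup `H`: `L ≤ H` or they commute. -/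
theorem component_le_or_commutator_eq_bot_of_normal {G : Type u} [Group G] [Finite G]
    {L H : Subgroup G} (hL : IsComponent L) (hH : H.Normal) : L ≤ H ∨ ⁅L, H⁆ = ⊥ :=
  component_le_or_commutator_eq_bot_of_normal_aux _ G rfl L H hL hH

/-- S1261: a component `L` and a subnormal subgroup `H`: `L ≤ H` or they commute. -/
theorem component_le_or_commutator_eq_bot {G : Type u} [Group G] [Finite G]
    {L H : Subgroup G} (hL : IsComponent L) (hH : H.IsSubnormal) : L ≤ H ∨ ⁅L, H⁆ = ⊥ := by
  induction hH with
  | top => left; exact le_top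
  | step H K h_le hSubn hN ih =>
    rcases ih with hLK | hLK
    · rcases component_le_or_commutator_eq_bot_of_normal
        (isComponent_subgroupOf hL hLK) hN with h1 | h1
      · left
        intro x hx
        have : (⟨x, hLK hx⟩ : K) ∈ L.subgroupOf K := by
          simpa [Subgroup.mem_subgroupOf] using hx
        have := h1 this
        simpa [Subgroup.mem_subgroupOf] using this
      · right
        exact commutator_eq_bot_of_subgroupOf hLK h_le h1
    · right
      rw [eq_bot_iff, ← hLK]
      exact Subgroup.commutator_mono le_rfl h_le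

end Component

end Cfsg.Agent.Lib.Helper21
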