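/-
helper21 shared library: components, layer, generalized Fitting subgroup.
All declarations live in `Cfsg.Agent.Lib.Helper21`.
-/
import Mathlib
import Cfsg.Prelude.Def_Local
import Cfsg.Agent.Lib.Helper21.Quasisimple

set_option autoImplicit false

namespace Cfsg.Agent.Lib.Helper21

open Cfsg
open scoped Pointwise

universe u

section Component

variable {G : Type u} [Group G] [Finite G]

omit [Finite G] in
/-- A quasisimple subgroup is not contained in a solvable subgroup. -/
theorem qs_not_le_solvable {L H : Subgroup G} (hL : IsQuasisimple L) (hH : Group.IsSolvable H) :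
    ¬ L ≤ H := by
  intro hle
  apply qs_not_isSolvable hL
  exact Group.isSolvable_of_isSolvable_injective (Subgroup.inclusion_injective hle)

/-- S1262: a component commutes with every solvable subgroup it normalizes. -/
theorem component_commutator_solvable_eq_bot {L H : Subgroup G} (hL : IsComponent L)
    (hsolv : Group.IsSolvable H) (hinv : L ≤ Subgroup.normalizer (H : Set G)) : ⁅L, H⁆ = ⊥ := by
  set M : Subgroup G := L ⊔ H with hM
  have hLM : L ≤ M := le_sup_left
  have hHM : H ≤ M := le_sup_right
  have hMn : M ≤ Subgroup.normalizer (H : Set G) := sup_le hinv Subgroup.le_normalizer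
  have hn : (H.subgroupOf M).Normal := (Subgroup.normal_subgroupOf_iff_le_normalizer hHM).mpr hMn
  rcases component_le_or_commutator_eq_bot_of_normal (isComponent_subgroupOf hL hLM) hn with h1 | h1
  · exfalso
    apply qs_not_le_solvable hL.2 hsolv
    intro x hx
    have : (⟨x, hLM hx⟩ : M) ∈ L.subgroupOf M := by
      simpa [Subgroup.mem_subgroupOf] using hx
    have := h1 this
    simpa [Subgroup.mem_subgroupOf] using this
  · exact commutator_eq_bot_of_subgroupOf hLM hHM h1

/-- Distinct components commute. -/
theorem component_commutator_eq_bot_of_ne {L₁ L₂ : Subgroup G} (h₁ : IsComponent L₁)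
    (h₂ : IsComponent L₂) (hne : L₁ ≠ L₂) : ⁅L₁, L₂⁆ = ⊥ := by
  rcases component_le_or_commutator_eq_bot h₁ h₂.1 with h | h
  · -- `L₁ ≤ L₂` is subnormal in the quasisimple `L₂`
    exfalso
    have hsn : (L₁.subgroupOf L₂).IsSubnormal := h₁.1.subgroupOf
    rcases qs_subnormal_eq_top_or_le_center h₂.2 _ hsn with h3 | h3
    · rw [Subgroup.subgroupOf_eq_top] at h3
      exact hne (le_antisymm h h3)
    · -- then `L₁` is abelian
      apply qs_not_isMulCommutative h₁.2
      refine ⟨⟨fun a b => ?_⟩⟩
      have ha : (⟨a.1, h a.2⟩ : L₂) ∈ L₁.subgroupOf L₂ := by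
        simp [Subgroup.mem_subgroupOf]
      have := Subgroup.mem_center_iff.mp (h3 ha) ⟨b.1, h b.2⟩
      apply Subtype.ext
      exact (congrArg Subtype.val this).symm
  · exact h

omit [Finite G] in
/-- Conjugates of components are components. -/
theorem isComponent_map_conj {L : Subgroup G} (hL : IsComponent L) (g : G) :
    IsComponent (L.map (MulAut.conj g).toMonoidHom) :=
  Cfsg.Agent.Lib.Helper29.isComponent_map_mulEquiv (MulAut.conj g) hL

omit [Finite G] in
theorem component_le_layer {L : Subgroup G} (hL : IsComponent L) : L ≤ layer G :=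
  le_sSup hL

/-- The layer normalizes each component. -/
theorem layer_le_normalizer_component {L : Subgroup G} (hL : IsComponent L) :
    layer G ≤ Subgroup.normalizer (L : Set G) := by
  unfold layer
  apply sSup_le
  intro K hK
  by_cases h : K = L
  · subst h; exact Subgroup.le_normalizer
  · have hc := component_commutator_eq_bot_of_ne hK hL h
    rw [Subgroup.commutator_eq_bot_iff_le_centralizer] at hc
    exact hc.trans (Subgroup.centralizer_le_normalizer _)

/-- The layer commutes with every solvable normal subgroup. -/
theorem layer_commutator_solvable_normal_eq_bot {H : Subgroup G} (hH : H.Normal)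
    (hsolv : Group.IsSolvable H) : ⁅layer G, H⁆ = ⊥ := by
  rw [Subgroup.commutator_eq_bot_iff_le_centralizer]
  unfold layer
  apply sSup_le
  intro K hK
  rw [← Subgroup.commutator_eq_bot_iff_le_centralizer]
  apply component_commutator_solvable_eq_bot hK hsolv
  rw [Subgroup.normalizer_eq_top_iff.mpr hH]
  exact le_top

theorem layer_commutator_fittingSubgroup_eq_bot : ⁅layer G, fittingSubgroup G⁆ = ⊥ := by
  apply layer_commutator_solvable_normal_eq_bot inferInstance
  have := Cfsg.Agent.Lib.Helper71.fittingSubgroup_isNilpotent (G := G)
  exact IsNilpotent.to_isSolvable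

end Component

end Cfsg.Agent.Lib.Helper21
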