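/-
helper21 shared library: Fitting subgroup contains subnormal nilpotent subgroups,
`C_G(F*(G)) ≤ F*(G)` and related facts.
All declarations live in `Cfsg.Agent.Lib.Helper21`.
-/
import Mathlib
import Cfsg.Prelude.Def_Local
import Cfsg.Agent.Lib.Helper21.Components

set_option autoImplicit false

namespace Cfsg.Agent.Lib.Helper21

open Cfsg
open scoped Pointwise commutatorElement

universe u

section Nilpotent

/-- A group whose commutator subgroup is central is nilpotent. -/
theorem isNilpotent_of_commutator_le_center {N : Type*} [Group N]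
    (h : commutator N ≤ Subgroup.center N) : Group.IsNilpotent N := by
  apply Subgroup.isNilpotent_of_ker_le_center (Abelianization.of (G := N))
  rw [Abelianization.ker_of]
  exact h

/-- A subgroup `S` with `⁅⁅S, S⁆, S⁆ = ⊥` is nilpotent. -/
theorem isNilpotent_of_commutator_commutator_eq_bot {G : Type*} [Group G] {S : Subgroup G}
    (h : ⁅⁅S, S⁆, S⁆ = ⊥) : Group.IsNilpotent S := by
  apply isNilpotent_of_commutator_le_center
  intro x hx
  rw [Subgroup.mem_center_iff]
  intro g
  have hx' : (x : G) ∈ ⁅S, S⁆ := by
    have : (commutator S).map S.subtype = ⁅S, S⁆ := by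
      rw [commutator_def, Subgroup.map_commutator, ← MonoidHom.range_eq_map, Subgroup.range_subtype]
    rw [← this]
    exact ⟨x, hx, rfl⟩
  have hc := (commutator_eq_bot_iff_commute.mp h) x hx' g g.2
  apply Subtype.ext
  exact hc.symm

end Nilpotent

section Fitting

theorem le_fittingSubgroup_of_normal_nilpotent {G : Type*} [Group G] {N : Subgroup G}
    (hN : N.Normal) (hnil : Group.IsNilpotent N) : N ≤ fittingSubgroup G :=
  le_sSup ⟨hN, hnil⟩

/-- The Fitting subgroup of a normal subgroup lies in the Fitting subgroup. -/
theorem map_fittingSubgroup_le {G : Type*} [Group G] (K : Subgroup G) [hK : K.Normal] [Finite K] :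
    (fittingSubgroup K).map K.subtype ≤ fittingSubgroup G := by
  have := Cfsg.Agent.Lib.Helper29.fittingSubgroup_characteristic K
  apply le_fittingSubgroup_of_normal_nilpotent
  · exact ConjAct.normal_of_characteristic_of_normal
  · have := Cfsg.Agent.Lib.Helper71.fittingSubgroup_isNilpotent (G := K)
    exact Group.nilpotent_of_mulEquiv
      (Subgroup.equivMapOfInjective (fittingSubgroup K) K.subtype K.subtype_injective)

theorem subnormal_nilpotent_le_fitting_aux (n : ℕ) :
    ∀ (G : Type u) [Group G] [Finite G], Nat.card G = n → ∀ S : Subgroup G,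
      S.IsSubnormal → Group.IsNilpotent S → S ≤ fittingSubgroup G := by
  induction n using Nat.strong_induction_on with
  | _ n ih =>
    intro G _ _ hcard S hS hnil
    by_cases hStop : S = ⊤
    · subst hStop
      exact le_fittingSubgroup_of_normal_nilpotent Subgroup.normal_top hnil
    · obtain ⟨K, hKn, hSK, hKlt⟩ := hS.exists_normal_and_le_and_lt_top_of_ne hStop
      have hcardK : Nat.card K < n := by
        rw [← hcard]
        have hne : K ≠ ⊤ := hKlt.ne
        have hle : Nat.card K ≤ Nat.card G := Subgroup.card_le_card_group K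
        rcases hle.lt_or_eq with h | h
        · exact h
        · exact absurd ((Subgroup.card_eq_iff_eq_top K).mp h) hne
      have hnil' : Group.IsNilpotent (S.subgroupOf K) :=
        Group.nilpotent_of_mulEquiv (Subgroup.subgroupOfEquivOfLe hSK).symm
      have h1 := ih _ hcardK K rfl (S.subgroupOf K) hS.subgroupOf hnil'
      have h2 : S ≤ (fittingSubgroup K).map K.subtype := by
        intro x hx
        refine ⟨⟨x, hSK hx⟩, h1 ?_, rfl⟩
        simpa [Subgroup.mem_subgroupOf] using hx
      exact h2.trans (map_fittingSubgroup_le K)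

/-- Subnormal nilpotent subgroups lie in the Fitting subgroup. -/
theorem subnormal_nilpotent_le_fitting {G : Type u} [Group G] [Finite G] {S : Subgroup G}
    (hS : S.IsSubnormal) (hnil : Group.IsNilpotent S) : S ≤ fittingSubgroup G :=
  subnormal_nilpotent_le_fitting_aux _ G rfl S hS hnil

end Fitting

section MinSubnormal

variable {G : Type u} [Group G]

theorem le_normalizer_commutator_self (S : Subgroup G) :
    S ≤ Subgroup.normalizer ((⁅S, S⁆ : Subgroup G) : Set G) := by
  intro s hs
  rw [Subgroup.mem_normalizer_iff_map_conj_eq, Subgroup.map_commutator]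
  have : S.map (MulAut.conj s : G →* G) = S :=
    Subgroup.mem_normalizer_iff_map_conj_eq.mp (Subgroup.le_normalizer hs)
  rw [this]

/-- If every proper subgroup of `S` normalized by `S` centralizes `S`, then `S` is nilpotent or
quasisimple. -/
theorem isNilpotent_or_isQuasisimple {S : Subgroup G}
    (h : ∀ T : Subgroup G, T ≤ S → S ≤ Subgroup.normalizer (T : Set G) → T ≠ S → ⁅S, T⁆ = ⊥) :
    Group.IsNilpotent S ∨ IsQuasisimple S := by
  by_cases hp : ⁅S, S⁆ = S
  · by_cases hbot : S = ⊥
    · left
      subst hbot
      infer_instance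
    right
    refine ⟨Subgroup.isPerfect_iff.mpr hp, ?_⟩
    -- nontriviality of the central quotient
    have hnt : Nontrivial (↥S ⧸ Subgroup.center ↥S) := by
      by_contra hnt
      rw [not_nontrivial_iff_subsingleton] at hnt
      have hc : Subgroup.center ↥S = ⊤ := by
        rw [eq_top_iff]
        intro x _
        have : (QuotientGroup.mk' (Subgroup.center ↥S)) x = 1 := Subsingleton.elim _ _
        exact (QuotientGroup.eq_one_iff x).mp this
      -- then `S` is commutative, so `⁅S, S⁆ = ⊥`
      have hSS : ⁅S, S⁆ = ⊥ := by
        rw [commutator_eq_bot_iff_commute]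
        intro a ha b hb
        have : (⟨a, ha⟩ : S) ∈ Subgroup.center ↥S := by rw [hc]; exact Subgroup.mem_top _
        have := Subgroup.mem_center_iff.mp this ⟨b, hb⟩
        exact (congrArg Subtype.val this).symm
      rw [hp] at hSS
      exact hbot hSS
    refine { toNontrivial := hnt, eq_bot_or_eq_top_of_normal := ?_ }
    intro Nbar hNbar
    set Z := Subgroup.center ↥S
    set N : Subgroup ↥S := Nbar.comap (QuotientGroup.mk' Z) with hN
    have hNn : N.Normal := hNbar.comap _
    have hNbar_eq : Nbar = N.map (QuotientGroup.mk' Z) := by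
      rw [hN, Subgroup.map_comap_eq_self_of_surjective (QuotientGroup.mk'_surjective Z)]
    set T : Subgroup G := N.map S.subtype with hT
    have hTS : T ≤ S := Subgroup.map_subtype_le N
    have hTsub : T.subgroupOf S = N := by
      rw [hT, Subgroup.subgroupOf, Subgroup.comap_map_eq_self_of_injective S.subtype_injective]
    have hnorm : S ≤ Subgroup.normalizer (T : Set G) := by
      rw [← Subgroup.normal_subgroupOf_iff_le_normalizer hTS, hTsub]
      exact hNn
    by_cases hTeq : T = S
    · right
      have : N = ⊤ := by
        rw [← hTsub, hTeq]; exact Subgroup.subgroupOf_self S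
      rw [hNbar_eq, this, ← MonoidHom.range_eq_map,
        MonoidHom.range_eq_top.mpr (QuotientGroup.mk'_surjective Z)]
    · left
      have hc := h T hTS hnorm hTeq
      have hNZ : N ≤ Z := by
        intro x hx
        rw [Subgroup.mem_center_iff]
        intro g
        have hxT : (x : G) ∈ T := ⟨x, hx, rfl⟩
        have := (commutator_eq_bot_iff_commute.mp hc) g g.2 x hxT
        apply Subtype.ext
        exact this
      rw [hNbar_eq, eq_bot_iff]
      rintro _ ⟨x, hx, rfl⟩
      rw [Subgroup.mem_bot]
      exact (QuotientGroup.eq_one_iff x).mpr (hNZ hx)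
  · left
    apply isNilpotent_of_commutator_commutator_eq_bot
    have h1 : ⁅S, ⁅S, S⁆⁆ = ⊥ := by
      apply h
      · exact Subgroup.commutator_le_self S
      · exact le_normalizer_commutator_self S
      · exact hp
    rw [Subgroup.commutator_comm]
    exact h1

end MinSubnormal


section SelfCentralizing

variable {G : Type u} [Group G] [Finite G]

/-- S1265: `C_G(F*(G)) ≤ F*(G)`. -/
theorem centralizer_generalizedFittingSubgroup_le :
    Subgroup.centralizer (generalizedFittingSubgroup G : Set G) ≤ generalizedFittingSubgroup G := by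
  set Fs := generalizedFittingSubgroup G with hFs
  set C := Subgroup.centralizer (Fs : Set G) with hC
  have hFsn : Fs.Normal := Cfsg.Agent.Lib.Helper29.generalizedFittingSubgroup_normal G
  have hCn : C.Normal := Subgroup.normal_centralizer
  by_contra hCF
  obtain ⟨S, ⟨hSsn, hSC, hSF⟩, hmin⟩ := exists_minimal_of_wellFoundedLT
    (fun S : Subgroup G => S.IsSubnormal ∧ S ≤ C ∧ ¬ S ≤ Fs) ⟨C, hCn.isSubnormal, le_rfl, hCF⟩
  have key : ∀ T : Subgroup G, T ≤ S → S ≤ Subgroup.normalizer (T : Set G) → T ≠ S →
      ⁅S, T⁆ = ⊥ := by
    intro T hTS hnorm hne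
    have hTsn : T.IsSubnormal := Subgroup.IsSubnormal.step T S hTS hSsn
      ((Subgroup.normal_subgroupOf_iff_le_normalizer hTS).mpr hnorm)
    have hTF : T ≤ Fs := by
      by_contra hTF
      have := hmin ⟨hTsn, hTS.trans hSC, hTF⟩ hTS
      exact hne (le_antisymm hTS this)
    rw [Subgroup.commutator_eq_bot_iff_le_centralizer]
    exact hSC.trans (Subgroup.centralizer_le hTF)
  rcases isNilpotent_or_isQuasisimple key with hnil | hqs
  · exact hSF ((subnormal_nilpotent_le_fitting hSsn hnil).trans le_sup_right)
  · exact hSF ((component_le_layer ⟨hSsn, hqs⟩).trans le_sup_left)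

theorem solvable_le_fitting_aux (n : ℕ) : ∀ N : Subgroup G, Nat.card N = n →
    N ≤ Subgroup.centralizer (fittingSubgroup G : Set G) →
    Subgroup.centralizer (fittingSubgroup G : Set G) ≤ Subgroup.normalizer (N : Set G) →
    Group.IsSolvable N → N ≤ fittingSubgroup G := by
  induction n using Nat.strong_induction_on with
  | _ n ih =>
    intro N hcard hNC hnorm hsolv
    set F := fittingSubgroup G with hF
    set C := Subgroup.centralizer (F : Set G) with hC
    have hCn : C.Normal := Subgroup.normal_centralizer
    by_cases hp : ⁅N, N⁆ = N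
    · -- perfect and solvable: trivial
      have hperf : Group.IsPerfect N := Subgroup.isPerfect_iff.mpr hp
      have hsub : Subsingleton N := by
        by_contra hns
        rw [not_subsingleton_iff_nontrivial] at hns
        exact Group.IsPerfect.not_isSolvable N hsolv
      have : N = ⊥ := Subgroup.eq_bot_of_subsingleton N
      rw [this]; exact bot_le
    · have hlt : ⁅N, N⁆ < N := lt_of_le_of_ne (Subgroup.commutator_le_self N) hp
      have hcard' : Nat.card (⁅N, N⁆ : Subgroup G) < n := by
        rw [← hcard]
        by_contra hge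
        exact hlt.ne (Subgroup.eq_of_le_of_card_ge hlt.le (not_lt.mp hge))
      have hN'F : ⁅N, N⁆ ≤ F := by
        apply ih _ hcard' _ rfl (hlt.le.trans hNC)
        · intro c hc
          have hcN := hnorm hc
          rw [Subgroup.mem_normalizer_iff_map_conj_eq] at hcN ⊢
          rw [Subgroup.map_commutator, hcN]
        · exact Group.isSolvable_of_isSolvable_injective (Subgroup.inclusion_injective hlt.le)
      have hnil : Group.IsNilpotent N := by
        apply isNilpotent_of_commutator_commutator_eq_bot
        rw [Subgroup.commutator_comm, Subgroup.commutator_eq_bot_iff_le_centralizer]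
        exact hNC.trans (Subgroup.centralizer_le hN'F)
      have hsn : N.IsSubnormal := Subgroup.IsSubnormal.step N C hNC hCn.isSubnormal
        ((Subgroup.normal_subgroupOf_iff_le_normalizer hNC).mpr hnorm)
      exact subnormal_nilpotent_le_fitting hsn hnil

/-- S1264: a solvable subgroup of `C_G(F(G))` normalized by `C_G(F(G))` lies in `Z(F(G))`. -/
theorem solvable_le_center_fitting {N : Subgroup G}
    (hN : N ≤ Subgroup.centralizer (fittingSubgroup G : Set G))
    (hnorm : Subgroup.centralizer (fittingSubgroup G : Set G) ≤ Subgroup.normalizer (N : Set G))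
    (hsolv : Group.IsSolvable N) :
    N ≤ (Subgroup.center ↥(fittingSubgroup G)).map (fittingSubgroup G).subtype := by
  have hNF := solvable_le_fitting_aux _ N rfl hN hnorm hsolv
  intro x hx
  refine ⟨⟨x, hNF hx⟩, ?_, rfl⟩
  show (⟨x, hNF hx⟩ : fittingSubgroup G) ∈ Subgroup.center ↥(fittingSubgroup G)
  rw [Subgroup.mem_center_iff]
  intro g
  apply Subtype.ext
  exact (hN hx) g.1 g.2

end SelfCentralizing

end Cfsg.Agent.Lib.Helper21
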