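/-
helper21 shared library: strongly embedded subgroups (Prelude `Def_Involutions`).
Involutions fix exactly one coset, conjugacy of involutions, counting involutions swapping
two cosets (S1224, S1225).
All declarations live in `Cfsg.Agent.Lib.Helper21`.
-/
import Mathlib
import Cfsg.Prelude.Def_Involutions

set_option autoImplicit false

namespace Cfsg.Agent.Lib.Helper21

open Cfsg
open scoped Pointwise

section Involutions

variable {G : Type*} [Group G]

theorem inv_ne_one {t : G} (ht : orderOf t = 2) : t ≠ 1 := by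
  intro h
  rw [h, orderOf_one] at ht
  norm_num at ht

theorem inv_mul_self {t : G} (ht : orderOf t = 2) : t * t = 1 := by
  have := pow_orderOf_eq_one t
  rwa [ht, pow_two] at this

theorem inv_inv_eq {t : G} (ht : orderOf t = 2) : t⁻¹ = t :=
  inv_eq_of_mul_eq_one_left (inv_mul_self ht)

theorem orderOf_eq_two_of {t : G} (h1 : t ≠ 1) (h2 : t * t = 1) : orderOf t = 2 := by
  apply orderOf_eq_prime
  · rw [pow_two]; exact h2
  · exact h1

theorem orderOf_conj_eq_two {t : G} (ht : orderOf t = 2) (g : G) : orderOf (g * t * g⁻¹) = 2 := by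
  have : g * t * g⁻¹ = MulAut.conj g t := by simp
  rw [this, MulEquiv.orderOf_eq]
  exact ht

theorem conj_pow_of_conj_inv {c r : G} (hcc : c * c = 1) (hcr : c * r * c = r⁻¹) (j : ℕ) :
    c * r ^ j * c = (r ^ j)⁻¹ := by
  induction j with
  | zero => simp [hcc]
  | succ j ih =>
    calc c * r ^ (j + 1) * c = (c * r ^ j * c) * (c * r * c) := by
          rw [pow_succ]
          calc c * (r ^ j * r) * c = c * r ^ j * 1 * r * c := by group
            _ = c * r ^ j * (c * c) * r * c := by rw [hcc]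
            _ = (c * r ^ j * c) * (c * r * c) := by group
      _ = (r ^ j)⁻¹ * r⁻¹ := by rw [ih, hcr]
      _ = (r ^ (j + 1))⁻¹ := by
          rw [pow_succ', mul_inv_rev]

/-- The dihedral trick: if `a`, `b` are involutions and `b * a` has odd order, there is an
involution `i` in the subgroup generated by them with `i * a * i⁻¹ = b`. -/
theorem exists_involution_conj_of_odd {a b : G} (ha : orderOf a = 2) (hb : orderOf b = 2)
    (hodd : Odd (orderOf (b * a))) :
    ∃ i : G, orderOf i = 2 ∧ i * a * i⁻¹ = b ∧ i ∈ Subgroup.closure ({a, b} : Set G) := by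
  obtain ⟨k, hk⟩ := hodd
  set r := b * a with hr
  have haa := inv_mul_self ha
  have hbb := inv_mul_self hb
  have hainv := inv_inv_eq ha
  -- `a * r * a = r⁻¹`
  have har : a * r * a = r⁻¹ := by
    rw [hr, mul_inv_rev, hainv, inv_inv_eq hb]
    calc a * (b * a) * a = a * b * (a * a) := by group
      _ = a * b := by rw [haa, mul_one]
  have harj : ∀ j : ℕ, a * r ^ j * a = (r ^ j)⁻¹ := fun j => conj_pow_of_conj_inv haa har j
  have hrn : r ^ (2 * k + 1) = 1 := by rw [← hk]; exact pow_orderOf_eq_one r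
  set g := r ^ (k + 1) with hg
  set i := g * a with hi
  have hgag : a * g * a = g⁻¹ := harj (k + 1)
  -- `i * i = 1`
  have hii : i * i = 1 := by
    calc i * i = g * (a * g * a) := by rw [hi]; group
      _ = 1 := by rw [hgag, mul_inv_cancel]
  -- `g * g = r`
  have hgg : g * g = r := by
    rw [hg, ← pow_add]
    have : k + 1 + (k + 1) = (2 * k + 1) + 1 := by ring
    rw [this, pow_succ, hrn, one_mul]
  have hconj : i * a * i⁻¹ = b := by
    have hiinv : i⁻¹ = i := inv_eq_of_mul_eq_one_left hii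
    rw [hiinv, hi]
    calc g * a * a * (g * a) = g * (a * a) * g * a := by group
      _ = g * g * a := by rw [haa, mul_one]
      _ = r * a := by rw [hgg]
      _ = b := by rw [hr, mul_assoc, haa, mul_one]
  have hi1 : i ≠ 1 := by
    intro h
    rw [h] at hconj
    simp only [one_mul, inv_one, mul_one] at hconj
    -- `a = b`, so `r = 1`, `g = 1`, `i = a ≠ 1`
    have hr1 : r = 1 := by rw [hr, ← hconj, haa]
    have : i = a := by rw [hi, hg, hr1, one_pow, one_mul]
    rw [this] at h
    exact inv_ne_one ha h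
  refine ⟨i, orderOf_eq_two_of hi1 hii, hconj, ?_⟩
  have ha' : a ∈ Subgroup.closure ({a, b} : Set G) := Subgroup.subset_closure (by simp)
  have hb' : b ∈ Subgroup.closure ({a, b} : Set G) := Subgroup.subset_closure (by simp)
  exact Subgroup.mul_mem _ (Subgroup.pow_mem _ (Subgroup.mul_mem _ hb' ha') _) ha'

/-- If `a`, `b` are involutions and `b * a` has even order, there is an involution commuting with
both. -/
theorem exists_involution_commute_of_even {a b : G} (ha : orderOf a = 2) (hb : orderOf b = 2)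
    (heven : Even (orderOf (b * a))) (hpos : 0 < orderOf (b * a)) :
    ∃ z : G, orderOf z = 2 ∧ z * a = a * z ∧ z * b = b * z := by
  obtain ⟨k, hk⟩ := heven
  set r := b * a with hr
  have haa := inv_mul_self ha
  have hbb := inv_mul_self hb
  have hainv := inv_inv_eq ha
  have hbinv := inv_inv_eq hb
  have har : a * r * a = r⁻¹ := by
    rw [hr, mul_inv_rev, hainv, hbinv]
    calc a * (b * a) * a = a * b * (a * a) := by group
      _ = a * b := by rw [haa, mul_one]
  have hbr : b * r * b = r⁻¹ := by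
    rw [hr, mul_inv_rev, hainv, hbinv]
    calc b * (b * a) * b = (b * b) * a * b := by group
      _ = a * b := by rw [hbb, one_mul]
  have conj_pow : ∀ (c : G), c * c = 1 → c * r * c = r⁻¹ → ∀ j : ℕ, c * r ^ j * c = (r ^ j)⁻¹ :=
    fun c hcc hcr j => conj_pow_of_conj_inv hcc hcr j
  have hkpos : 0 < k := by omega
  set z := r ^ k with hz
  have hzz : z * z = 1 := by
    rw [hz, ← pow_add, ← hk]; exact pow_orderOf_eq_one r
  have hz1 : z ≠ 1 := by
    intro h
    have := orderOf_dvd_of_pow_eq_one h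
    have h2 : orderOf r ≤ k := Nat.le_of_dvd hkpos this
    omega
  have hzinv : z⁻¹ = z := inv_eq_of_mul_eq_one_left hzz
  refine ⟨z, orderOf_eq_two_of hz1 hzz, ?_, ?_⟩
  · have h1 := conj_pow a haa har k
    rw [← hz, hzinv] at h1
    -- a * z * a = z  ⟹ z * a = a * z
    calc z * a = (a * a) * z * a := by rw [haa, one_mul]
      _ = a * (a * z * a) := by group
      _ = a * z := by rw [h1]
  · have h1 := conj_pow b hbb hbr k
    rw [← hz, hzinv] at h1
    calc z * b = (b * b) * z * b := by rw [hbb, one_mul]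
      _ = b * (b * z * b) := by group
      _ = b * z := by rw [h1]

end Involutions


section CosetAction

variable {G : Type*} [Group G] {H : Subgroup G}

theorem smul_mk_eq_mk_iff (t g : G) :
    t • (QuotientGroup.mk g : G ⧸ H) = QuotientGroup.mk g ↔ g⁻¹ * t * g ∈ H := by
  rw [MulAction.Quotient.smul_mk, eq_comm, QuotientGroup.eq, smul_eq_mul, ← mul_assoc]

theorem smul_mk_one_eq_iff (t : G) :
    t • (QuotientGroup.mk 1 : G ⧸ H) = QuotientGroup.mk 1 ↔ t ∈ H := by
  rw [smul_mk_eq_mk_iff]; simp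

theorem mem_map_conj_iff (g x : G) :
    x ∈ H.map (MulAut.conj g).toMonoidHom ↔ g⁻¹ * x * g ∈ H := by
  constructor
  · rintro ⟨h, hh, rfl⟩
    simpa [mul_assoc] using hh
  · intro h
    exact ⟨g⁻¹ * x * g, h, by simp [mul_assoc]⟩

theorem mem_map_conj_iff_smul (g x : G) :
    x ∈ H.map (MulAut.conj g).toMonoidHom ↔
      x • (QuotientGroup.mk g : G ⧸ H) = QuotientGroup.mk g := by
  rw [mem_map_conj_iff, smul_mk_eq_mk_iff]

end CosetAction

section StronglyEmbedded

variable {G : Type*} [Group G] [Finite G] {H : Subgroup G}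

/-- A strongly embedded subgroup contains an involution. -/
theorem se_exists_involution (hH : IsStronglyEmbedded H) : ∃ t ∈ H, orderOf t = 2 := by
  have h2 : 2 ∣ Nat.card H := even_iff_two_dvd.mp hH.2.1
  have : Fact (Nat.Prime 2) := ⟨Nat.prime_two⟩
  obtain ⟨t, ht⟩ := exists_prime_orderOf_dvd_card' (G := H) 2 h2
  refine ⟨t.1, t.2, ?_⟩
  rw [← ht]
  exact (Subgroup.orderOf_coe t)

omit [Finite G] in
/-- An involution fixing two cosets: the cosets coincide. -/
theorem se_fixed_unique (hH : IsStronglyEmbedded H) {t : G} (ht : orderOf t = 2)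
    {x y : G ⧸ H} (hx : t • x = x) (hy : t • y = y) : x = y := by
  obtain ⟨a, rfl⟩ := QuotientGroup.mk_surjective x
  obtain ⟨b, rfl⟩ := QuotientGroup.mk_surjective y
  rw [smul_mk_eq_mk_iff] at hx hy
  by_contra hne
  have hg : a⁻¹ * b ∉ H := by
    intro h
    exact hne (QuotientGroup.eq.mpr h)
  have hodd := hH.2.2 _ hg
  set s := a⁻¹ * t * a with hs
  have hs2 : orderOf s = 2 := by
    have := orderOf_conj_eq_two ht a⁻¹
    simpa [hs] using this
  have hsmem : s ∈ H ⊓ H.map (MulAut.conj (a⁻¹ * b)).toMonoidHom := by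
    refine Subgroup.mem_inf.mpr ⟨hx, ?_⟩
    rw [mem_map_conj_iff]
    have : (a⁻¹ * b)⁻¹ * s * (a⁻¹ * b) = b⁻¹ * t * b := by rw [hs]; group
    rw [this]; exact hy
  have hdvd : orderOf (⟨s, hsmem⟩ : ↥(H ⊓ H.map (MulAut.conj (a⁻¹ * b)).toMonoidHom)) ∣
      Nat.card ↥(H ⊓ H.map (MulAut.conj (a⁻¹ * b)).toMonoidHom) := orderOf_dvd_natCard _
  rw [Subgroup.orderOf_mk, hs2] at hdvd
  exact (Nat.not_even_iff_odd.mpr hodd) (even_iff_two_dvd.mpr hdvd)

omit [Finite G] in
/-- `H` contains the centralizer of each of its involutions. -/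
theorem se_centralizer_le (hH : IsStronglyEmbedded H) {t : G} (ht : orderOf t = 2) (htH : t ∈ H)
    {c : G} (hc : c * t = t * c) : c ∈ H := by
  have h1 : t • (QuotientGroup.mk 1 : G ⧸ H) = QuotientGroup.mk 1 := (smul_mk_one_eq_iff t).mpr htH
  have h2 : t • (QuotientGroup.mk c : G ⧸ H) = QuotientGroup.mk c := by
    rw [smul_mk_eq_mk_iff]
    have : c⁻¹ * t * c = t := by
      calc c⁻¹ * t * c = c⁻¹ * (t * c) := by group
        _ = c⁻¹ * (c * t) := by rw [hc]
        _ = t := by group
    rw [this]; exact htH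
  have := se_fixed_unique hH ht h2 h1
  have h3 := QuotientGroup.eq.mp this
  simpa using h3

/-- Every involution fixes some coset of a strongly embedded subgroup. -/
theorem se_exists_fixed (hH : IsStronglyEmbedded H) {u : G} (hu : orderOf u = 2) :
    ∃ x : G ⧸ H, u • x = x := by
  obtain ⟨t, htH, ht⟩ := se_exists_involution hH
  rcases Nat.even_or_odd (orderOf (u * t)) with heven | hodd
  · have hpos : 0 < orderOf (u * t) := orderOf_pos _
    obtain ⟨z, hz, hzt, hzu⟩ := exists_involution_commute_of_even ht hu heven hpos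
    have hzH : z ∈ H := se_centralizer_le hH ht htH hzt
    have huH : u ∈ H := se_centralizer_le hH hz hzH hzu.symm
    exact ⟨QuotientGroup.mk 1, (smul_mk_one_eq_iff u).mpr huH⟩
  · obtain ⟨i, _, hi, _⟩ := exists_involution_conj_of_odd ht hu hodd
    refine ⟨QuotientGroup.mk i, ?_⟩
    rw [smul_mk_eq_mk_iff, ← hi]
    have : i⁻¹ * (i * t * i⁻¹) * i = t := by group
    rw [this]; exact htH

/-- Every involution fixes exactly one coset of a strongly embedded subgroup. -/
theorem se_existsUnique_fixed (hH : IsStronglyEmbedded H) {u : G} (hu : orderOf u = 2) :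
    ∃! x : G ⧸ H, u • x = x := by
  obtain ⟨x, hx⟩ := se_exists_fixed hH hu
  exact ⟨x, hx, fun y hy => se_fixed_unique hH hu hy hx⟩

/-- An element fixing two distinct cosets has odd order. -/
theorem se_odd_orderOf_of_fixes_two (hH : IsStronglyEmbedded H) {d : G} {x y : G ⧸ H}
    (hxy : x ≠ y) (hx : d • x = x) (hy : d • y = y) : Odd (orderOf d) := by
  by_contra hnodd
  rw [Nat.not_odd_iff_even] at hnodd
  obtain ⟨k, hk⟩ := hnodd
  have hpos : 0 < orderOf d := orderOf_pos d
  have hkpos : 0 < k := by omega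
  set z := d ^ k with hz
  have hzz : z * z = 1 := by rw [hz, ← pow_add, ← hk]; exact pow_orderOf_eq_one d
  have hz1 : z ≠ 1 := by
    intro h
    have := orderOf_dvd_of_pow_eq_one h
    have h2 : orderOf d ≤ k := Nat.le_of_dvd hkpos this
    omega
  have hz2 : orderOf z = 2 := orderOf_eq_two_of hz1 hzz
  have fixpow : ∀ (w : G ⧸ H), d • w = w → z • w = w := by
    intro w hw
    rw [hz]
    induction k with
    | zero => simp
    | succ k ih =>
      clear ih
      have : ∀ n : ℕ, d ^ n • w = w := by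
        intro n
        induction n with
        | zero => simp
        | succ n ihn => rw [pow_succ, mul_smul, hw, ihn]
      exact this _
  exact hxy (se_fixed_unique hH hz2 (fixpow x hx) (fixpow y hy))

/-- Two involutions with distinct fixed cosets have a product of odd order. -/
theorem se_odd_orderOf_mul (hH : IsStronglyEmbedded H) {a b : G} (ha : orderOf a = 2)
    (hb : orderOf b = 2) {x y : G ⧸ H} (hxy : x ≠ y) (hx : a • x = x) (hy : b • y = y) :
    Odd (orderOf (b * a)) := by
  by_contra hnodd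
  rw [Nat.not_odd_iff_even] at hnodd
  obtain ⟨z, hz, hza, hzb⟩ := exists_involution_commute_of_even ha hb hnodd (orderOf_pos _)
  -- `z` fixes the fixed point of `a` and that of `b`
  have h1 : z • x = x := by
    have : a • (z • x) = z • x := by
      rw [← mul_smul, ← hza, mul_smul, hx]
    exact se_fixed_unique hH ha this hx
  have h2 : z • y = y := by
    have : b • (z • y) = z • y := by
      rw [← mul_smul, ← hzb, mul_smul, hy]
    exact se_fixed_unique hH hb this hy
  exact hxy (se_fixed_unique hH hz h1 h2)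

/-- Transitivity: for involutions `a` fixing `x` and `b` fixing `y ≠ x` there is an involution `i`
with `i • x = y`, `i • y = x` and `i * a * i⁻¹ = b`. -/
theorem se_exists_swap_conj (hH : IsStronglyEmbedded H) {a b : G} (ha : orderOf a = 2)
    (hb : orderOf b = 2) {x y : G ⧸ H} (hxy : x ≠ y) (hx : a • x = x) (hy : b • y = y) :
    ∃ i : G, orderOf i = 2 ∧ i • x = y ∧ i • y = x ∧ i * a * i⁻¹ = b ∧
      i ∈ Subgroup.closure ({a, b} : Set G) := by
  obtain ⟨i, hi, hconj, hmem⟩ :=
    exists_involution_conj_of_odd ha hb (se_odd_orderOf_mul hH ha hb hxy hx hy)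
  have hix : i • x = y := by
    have : b • (i • x) = i • x := by
      rw [← hconj, ← mul_smul]
      have : i * a * i⁻¹ * i = i * a := by group
      rw [this, mul_smul, hx]
    exact se_fixed_unique hH hb this hy
  refine ⟨i, hi, hix, ?_, hconj, hmem⟩
  rw [← hix, ← mul_smul, inv_mul_self hi, one_smul]


/-- An element of odd order inverting `c` forces `c * c = 1`. -/
theorem mul_self_eq_one_of_odd_inverts {G : Type*} [Group G] {c d : G} (hodd : Odd (orderOf d))
    (hinv : d * c * d⁻¹ = c⁻¹) : c * c = 1 := by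
  obtain ⟨k, hk⟩ := hodd
  have key : ∀ n : ℕ, d ^ n * c * (d ^ n)⁻¹ = if Even n then c else c⁻¹ := by
    intro n
    induction n with
    | zero => simp
    | succ n ih =>
      have : d ^ (n + 1) * c * (d ^ (n + 1))⁻¹ = d * (d ^ n * c * (d ^ n)⁻¹) * d⁻¹ := by
        rw [pow_succ']; group
      rw [this, ih]
      by_cases hn : Even n
      · have hn1 : ¬ Even (n + 1) := by
          rw [Nat.even_add_one]; exact not_not.mpr hn
        rw [if_pos hn, if_neg hn1, hinv]
      · have hn1 : Even (n + 1) := by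
          rw [Nat.even_add_one]; exact hn
        rw [if_neg hn, if_pos hn1]
        have : d * c⁻¹ * d⁻¹ = (d * c * d⁻¹)⁻¹ := by group
        rw [this, hinv, inv_inv]
  have h1 := key (orderOf d)
  rw [pow_orderOf_eq_one] at h1
  have hnev : ¬ Even (orderOf d) := by
    rw [hk]; exact Nat.not_even_iff_odd.mpr ⟨k, rfl⟩
  rw [if_neg hnev] at h1
  simp only [one_mul, inv_one, mul_one] at h1
  calc c * c = c * c⁻¹ := by rw [← h1]
    _ = 1 := mul_inv_cancel c

/-- Uniqueness: two involutions swapping `x ≠ y` that conjugate an involution `s` fixing `x` to the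
same involution are equal. -/
theorem se_swap_conj_unique (hH : IsStronglyEmbedded H) {s i₁ i₂ : G} (hs : orderOf s = 2)
    (h₁ : orderOf i₁ = 2) (h₂ : orderOf i₂ = 2) {x y : G ⧸ H} (hxy : x ≠ y) (hsx : s • x = x)
    (h₁x : i₁ • x = y) (h₂x : i₂ • x = y) (hconj : i₁ * s * i₁⁻¹ = i₂ * s * i₂⁻¹) : i₁ = i₂ := by
  have h11 := inv_mul_self h₁
  have h22 := inv_mul_self h₂
  have h1inv := inv_inv_eq h₁
  have h2inv := inv_inv_eq h₂
  have h₁y : i₁ • y = x := by rw [← h₁x, ← mul_smul, h11, one_smul]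
  have h₂y : i₂ • y = x := by rw [← h₂x, ← mul_smul, h22, one_smul]
  set c := i₂ * i₁ with hc
  have hcx : c • x = x := by rw [hc, mul_smul, h₁x, h₂y]
  have hcy : c • y = y := by rw [hc, mul_smul, h₁y, h₂x]
  have hcinv : c⁻¹ = i₁ * i₂ := by rw [hc, mul_inv_rev, h1inv, h2inv]
  -- `c` commutes with `s`
  have hcs : c * s * c⁻¹ = s := by
    rw [hcinv, hc]
    have e1 : i₂ * i₁ * s * (i₁ * i₂) = i₂ * (i₁ * s * i₁⁻¹) * i₂ := by rw [h1inv]; group
    rw [e1, hconj, h2inv]
    calc i₂ * (i₂ * s * i₂) * i₂ = (i₂ * i₂) * s * (i₂ * i₂) := by group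
      _ = s := by rw [h22, one_mul, mul_one]
  -- `i₁` inverts `c`
  have hi1c : i₁ * c * i₁⁻¹ = c⁻¹ := by
    rw [hcinv, hc, h1inv]
    calc i₁ * (i₂ * i₁) * i₁ = i₁ * i₂ * (i₁ * i₁) := by group
      _ = i₁ * i₂ := by rw [h11, mul_one]
  set s' := i₁ * s * i₁⁻¹ with hs'
  have hs'2 : orderOf s' = 2 := orderOf_conj_eq_two hs i₁
  have hs'y : s' • y = y := by
    rw [hs', mul_smul, mul_smul, h1inv, h₁y, hsx, h₁x]
  -- `s'` commutes with `c`
  have hcs' : c * s' * c⁻¹ = s' := by
    have e1 : c * s' * c⁻¹ = i₁ * ((i₁⁻¹ * c * i₁) * s * (i₁⁻¹ * c * i₁)⁻¹) * i₁⁻¹ := by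
      rw [hs']; group
    have e2 : i₁⁻¹ * c * i₁ = c⁻¹ := by
      rw [h1inv]
      have : i₁ * c * i₁ = i₁ * c * i₁⁻¹ := by rw [h1inv]
      rw [this, hi1c]
    rw [e1, e2, inv_inv]
    have e3 : c⁻¹ * s * c = s := by
      calc c⁻¹ * s * c = c⁻¹ * (c * s * c⁻¹) * c := by rw [hcs]
        _ = s := by group
    rw [e3]
  -- the involution `w` in `⟨s, s'⟩` conjugating `s` to `s'`
  obtain ⟨w, hw2, hwx, hwy, hwconj, hwmem⟩ := se_exists_swap_conj hH hs hs'2 hxy hsx hs'y
  have hwc : w * c = c * w := by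
    have hle : Subgroup.closure ({s, s'} : Set G) ≤ Subgroup.centralizer ({c} : Set G) := by
      rw [Subgroup.closure_le]
      intro z hz
      rw [SetLike.mem_coe, Subgroup.mem_centralizer_singleton_iff]
      rcases hz with rfl | rfl
      · calc z * c = (c * z * c⁻¹) * c := by rw [hcs]
          _ = c * z := by group
      · calc s' * c = (c * s' * c⁻¹) * c := by rw [hcs']
          _ = c * s' := by group
    have := hle hwmem
    rwa [Subgroup.mem_centralizer_singleton_iff] at this
  -- `c' = w * i₁` fixes `x` and `y`, hence has odd order, and inverts `c`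
  set c' := w * i₁ with hc'
  have hc'x : c' • x = x := by rw [hc', mul_smul, h₁x, hwy]
  have hc'y : c' • y = y := by rw [hc', mul_smul, h₁y, hwx]
  have hc'odd : Odd (orderOf c') := se_odd_orderOf_of_fixes_two hH hxy hc'x hc'y
  have hc'inv : c' * c * c'⁻¹ = c⁻¹ := by
    have e1 : c' * c * c'⁻¹ = w * (i₁ * c * i₁⁻¹) * w⁻¹ := by rw [hc']; group
    rw [e1, hi1c]
    have : w * c⁻¹ = c⁻¹ * w := by
      calc w * c⁻¹ = c⁻¹ * (c * w) * c⁻¹ := by group
        _ = c⁻¹ * (w * c) * c⁻¹ := by rw [hwc]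
        _ = c⁻¹ * w := by group
    rw [this]; group
  have hcc : c * c = 1 := mul_self_eq_one_of_odd_inverts hc'odd hc'inv
  -- `c` has odd order and `c * c = 1`, so `c = 1`
  have hcodd : Odd (orderOf c) := se_odd_orderOf_of_fixes_two hH hxy hcx hcy
  have hc1 : c = 1 := by
    have hdvd : orderOf c ∣ 2 := orderOf_dvd_of_pow_eq_one (by rw [pow_two]; exact hcc)
    have : orderOf c = 1 := by
      rcases (Nat.dvd_prime Nat.prime_two).mp hdvd with h | h
      · exact h
      · rw [h] at hcodd; exact absurd hcodd (by decide)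
    exact orderOf_eq_one_iff.mp this
  calc i₁ = i₂⁻¹ * (i₂ * i₁) := by group
    _ = i₂⁻¹ := by rw [← hc, hc1, mul_one]
    _ = i₂ := h2inv


/-- Each coset is fixed by some involution. -/
theorem se_exists_involution_fixing (hH : IsStronglyEmbedded H) (x : G ⧸ H) :
    ∃ s : G, orderOf s = 2 ∧ s • x = x := by
  obtain ⟨t, htH, ht⟩ := se_exists_involution hH
  obtain ⟨a, rfl⟩ := QuotientGroup.mk_surjective x
  refine ⟨a * t * a⁻¹, orderOf_conj_eq_two ht a, ?_⟩
  rw [smul_mk_eq_mk_iff]
  have : a⁻¹ * (a * t * a⁻¹) * a = t := by group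
  rw [this]; exact htH

omit [Finite G] in
/-- The involutions fixing a coset are in bijection with the involutions of `H`. -/
theorem se_card_involutions_fixing (y : G ⧸ H) :
    Nat.card {t : G // orderOf t = 2 ∧ t • y = y} = Nat.card {t : G // orderOf t = 2 ∧ t ∈ H} := by
  obtain ⟨b, rfl⟩ := QuotientGroup.mk_surjective y
  apply Nat.card_congr
  refine Equiv.subtypeEquiv (MulAut.conj b⁻¹).toEquiv ?_
  intro t
  simp only [MulEquiv.toEquiv_eq_coe, EquivLike.coe_coe, MulAut.conj_apply, inv_inv]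
  rw [smul_mk_eq_mk_iff]
  constructor
  · rintro ⟨h1, h2⟩
    refine ⟨?_, h2⟩
    have := orderOf_conj_eq_two h1 b⁻¹
    simpa using this
  · rintro ⟨h1, h2⟩
    refine ⟨?_, h2⟩
    have := orderOf_conj_eq_two h1 b
    have e : b * (b⁻¹ * t * b) * b⁻¹ = t := by group
    rwa [e] at this

/-- S1224: the number of involutions swapping two distinct cosets equals the number of
involutions of `H`. -/
theorem se_card_swapping (hH : IsStronglyEmbedded H) {x y : G ⧸ H} (hxy : x ≠ y) :
    Nat.card {i : G // orderOf i = 2 ∧ i • x = y} =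
      Nat.card {t : G // orderOf t = 2 ∧ t ∈ H} := by
  rw [← se_card_involutions_fixing y]
  obtain ⟨s, hs, hsx⟩ := se_exists_involution_fixing hH x
  let Φ : {i : G // orderOf i = 2 ∧ i • x = y} → {t : G // orderOf t = 2 ∧ t • y = y} :=
    fun i => ⟨i.1 * s * i.1⁻¹, orderOf_conj_eq_two hs i.1, by
      obtain ⟨i, hi2, hix⟩ := i
      have hiy : i • y = x := by
        have h1 : i • (i • x) = x := by rw [← mul_smul, inv_mul_self hi2, one_smul]
        rwa [hix] at h1
      show (i * s * i⁻¹) • y = y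
      rw [mul_smul, mul_smul, inv_inv_eq hi2, hiy, hsx, hix]⟩
  apply Nat.card_congr
  refine Equiv.ofBijective Φ ⟨?_, ?_⟩
  · rintro ⟨i₁, h₁, h₁x⟩ ⟨i₂, h₂, h₂x⟩ h
    have hconj : i₁ * s * i₁⁻¹ = i₂ * s * i₂⁻¹ := congrArg Subtype.val h
    exact Subtype.ext (se_swap_conj_unique hH hs h₁ h₂ hxy hsx h₁x h₂x hconj)
  · rintro ⟨t, ht, hty⟩
    obtain ⟨i, hi, hix, _, hconj, _⟩ := se_exists_swap_conj hH hs ht hxy hsx hty
    exact ⟨⟨i, hi, hix⟩, Subtype.ext hconj⟩

/-- S1225, first part: two involutions of `H` are conjugate under `H ∩ uHu⁻¹`. -/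
theorem se_involutions_conj_in_inter (hH : IsStronglyEmbedded H) {u : G} (hu : orderOf u = 2)
    (huH : u ∉ H) {s t : G} (hs : orderOf s = 2) (hsH : s ∈ H) (ht : orderOf t = 2) (htH : t ∈ H) :
    ∃ d ∈ (H ⊓ H.map (MulAut.conj u).toMonoidHom), d * s * d⁻¹ = t := by
  set x : G ⧸ H := QuotientGroup.mk 1 with hx
  set y : G ⧸ H := QuotientGroup.mk u with hy
  have hxy : x ≠ y := by
    intro h
    have := QuotientGroup.eq.mp h
    simp only [inv_one, one_mul] at this
    exact huH this
  have hux : u • x = y := by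
    rw [hx, hy, MulAction.Quotient.smul_mk, smul_eq_mul, mul_one]
  have huy : u • y = x := by
    rw [← hux, ← mul_smul, inv_mul_self hu, one_smul]
  have htx : t • x = x := (smul_mk_one_eq_iff t).mpr htH
  have hsx : s • x = x := (smul_mk_one_eq_iff s).mpr hsH
  set s' := u * s * u⁻¹ with hs'
  have hs'2 : orderOf s' = 2 := orderOf_conj_eq_two hs u
  have hs'y : s' • y = y := by
    rw [hs', mul_smul, mul_smul, inv_inv_eq hu, huy, hsx, hux]
  obtain ⟨i, hi, hix, hiy, hconj, _⟩ := se_exists_swap_conj hH ht hs'2 hxy htx hs'y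
  -- `d = i⁻¹ * u`
  refine ⟨i⁻¹ * u, ?_, ?_⟩
  · have hdx : (i⁻¹ * u) • x = x := by
      rw [mul_smul, hux, inv_inv_eq hi, hiy]
    have hdy : (i⁻¹ * u) • y = y := by
      rw [mul_smul, huy, inv_inv_eq hi, hix]
    refine Subgroup.mem_inf.mpr ⟨(smul_mk_one_eq_iff _).mp hdx, ?_⟩
    rw [mem_map_conj_iff_smul]
    exact hdy
  · have : i⁻¹ * u * s * (i⁻¹ * u)⁻¹ = i⁻¹ * (u * s * u⁻¹) * i := by group
    rw [this, ← hs', ← hconj]
    group

/-- S1225, second part: all involutions are conjugate. -/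
theorem se_involutions_isConj (hH : IsStronglyEmbedded H) {a b : G} (ha : orderOf a = 2)
    (hb : orderOf b = 2) : IsConj a b := by
  -- auxiliary: involutions with distinct fixed points are conjugate
  have key : ∀ {a b : G}, orderOf a = 2 → orderOf b = 2 → ∀ {x y : G ⧸ H}, x ≠ y →
      a • x = x → b • y = y → IsConj a b := by
    intro a b ha hb x y hxy hx hy
    obtain ⟨i, _, _, _, hconj, _⟩ := se_exists_swap_conj hH ha hb hxy hx hy
    exact isConj_iff.mpr ⟨i, hconj⟩
  obtain ⟨x, hx⟩ := se_exists_fixed hH ha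
  obtain ⟨y, hy⟩ := se_exists_fixed hH hb
  by_cases hxy : x = y
  · subst hxy
    -- choose a third point
    have hne : ∃ z : G ⧸ H, z ≠ x := by
      by_contra hcon
      push Not at hcon
      apply hH.1
      rw [eq_top_iff]
      intro g _
      have h1 : (QuotientGroup.mk g : G ⧸ H) = QuotientGroup.mk 1 := by
        rw [hcon (QuotientGroup.mk g), hcon (QuotientGroup.mk 1)]
      have := QuotientGroup.eq.mp h1
      have h2 : g⁻¹ ∈ H := by simpa using this
      simpa using H.inv_mem h2
    obtain ⟨z, hz⟩ := hne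
    obtain ⟨c, hc, hcz⟩ := se_exists_involution_fixing hH z
    exact (key ha hc hz.symm hx hcz).trans (key hc hb hz hcz hy)
  · exact key ha hb hxy hx hy

end StronglyEmbedded

end Cfsg.Agent.Lib.Helper21
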