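/-
helper21 shared library: finite groups in which the centralizer of every involution is an
elementary abelian 2-group, part 5: the field structure on the Sylow 2-subgroup `T` (addition is
the group law of `T`, multiplication comes from the regular action of the two point stabilizer
`D` on `T ∖ {1}`), towards S1230.
All declarations live in `Cfsg.Agent.Lib.Helper21`.
-/
import Mathlib
import Cfsg.Prelude.Def_Involutions
import Cfsg.Agent.Lib.Helper21.ElemAbCent4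

set_option autoImplicit false

namespace Cfsg.Agent.Lib.Helper21

open Cfsg
open scoped Pointwise

universe u

/-- The data needed to put coordinates on `G / N_G(T)`. -/
structure EabData (G : Type u) [Group G] [Finite G] where
  /-- the Sylow subgroup -/
  T : Sylow 2 G
  hnc : ¬ IsCyclic (T : Subgroup G)
  hnn : ¬ (T : Subgroup G).Normal
  hC : InvCentElemAb G
  /-- an involution outside `N(T)` -/
  u : G
  hu : orderOf u = 2
  huH : u ∉ eabH T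
  /-- the unit element -/
  e : G
  he : e ∈ (T : Subgroup G)
  he1 : e ≠ 1

section Field

variable {G : Type u} [Group G] [Finite G]

/-- The carrier of the field: the elements of `T`. -/
@[ext] structure EabK (𝔡 : EabData G) where
  /-- the underlying group element -/
  val : G
  mem : val ∈ (𝔡.T : Subgroup G)

variable {𝔡 : EabData G}

/-- `D` normalizes `T`. -/
theorem EabData.conj_mem (𝔡 : EabData G) {d : G} (hd : d ∈ eabD 𝔡.T 𝔡.u) {t : G}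
    (ht : t ∈ (𝔡.T : Subgroup G)) : d * t * d⁻¹ ∈ (𝔡.T : Subgroup G) :=
  (Subgroup.mem_normalizer_iff.mp (Subgroup.mem_inf.mp hd).1 t).mp ht

theorem EabData.exists_D (𝔡 : EabData G) {a : G} (ha : a ∈ (𝔡.T : Subgroup G)) (ha1 : a ≠ 1) :
    ∃ d ∈ eabD 𝔡.T 𝔡.u, d * 𝔡.e * d⁻¹ = a := by
  have hse := eab_normalizer_stronglyEmbedded 𝔡.hnc 𝔡.hnn 𝔡.hC
  exact se_involutions_conj_in_inter hse 𝔡.hu 𝔡.huH (eab_orderOf_eq_two 𝔡.hnc 𝔡.hC 𝔡.he 𝔡.he1)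
    (Subgroup.le_normalizer 𝔡.he) (eab_orderOf_eq_two 𝔡.hnc 𝔡.hC ha ha1) (Subgroup.le_normalizer ha)

theorem EabData.D_unique (𝔡 : EabData G) {d d' : G} (hd : d ∈ eabD 𝔡.T 𝔡.u)
    (hd' : d' ∈ eabD 𝔡.T 𝔡.u) (h : d * 𝔡.e * d⁻¹ = d' * 𝔡.e * d'⁻¹) : d = d' := by
  have hcz : d'⁻¹ * d ∈ Subgroup.centralizer ({𝔡.e} : Set G) := by
    rw [Subgroup.mem_centralizer_singleton_iff]
    calc d'⁻¹ * d * 𝔡.e = d'⁻¹ * (d * 𝔡.e * d⁻¹) * d := by group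
      _ = d'⁻¹ * (d' * 𝔡.e * d'⁻¹) * d := by rw [h]
      _ = 𝔡.e * (d'⁻¹ * d) := by group
  rw [eab_centralizer_eq 𝔡.hnc 𝔡.hC 𝔡.he 𝔡.he1] at hcz
  have hmem : d'⁻¹ * d ∈ eabD 𝔡.T 𝔡.u := (eabD 𝔡.T 𝔡.u).mul_mem ((eabD 𝔡.T 𝔡.u).inv_mem hd') hd
  have := (Subgroup.disjoint_def.mp (eab_D_disjoint_T 𝔡.hnc 𝔡.hnn 𝔡.hC 𝔡.huH)) hmem hcz
  calc d = d' * (d'⁻¹ * d) := by group
    _ = d' := by rw [this, mul_one]

open Classical in
/-- The element of `D` carrying the unit `e` to `a`. -/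
noncomputable def EabData.dOf (𝔡 : EabData G) (a : EabK 𝔡) : G :=
  if h : a.val = 1 then 1 else Classical.choose (𝔡.exists_D a.mem h)

theorem EabData.dOf_mem (𝔡 : EabData G) (a : EabK 𝔡) : 𝔡.dOf a ∈ eabD 𝔡.T 𝔡.u := by
  unfold EabData.dOf
  split_ifs with h
  · exact Subgroup.one_mem _
  · exact (Classical.choose_spec (𝔡.exists_D a.mem h)).1

theorem EabData.dOf_spec (𝔡 : EabData G) (a : EabK 𝔡) (h : a.val ≠ 1) :
    𝔡.dOf a * 𝔡.e * (𝔡.dOf a)⁻¹ = a.val := by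
  unfold EabData.dOf
  rw [dif_neg h]
  exact (Classical.choose_spec (𝔡.exists_D a.mem h)).2

theorem EabData.dOf_unique (𝔡 : EabData G) (a : EabK 𝔡) {d : G} (hd : d ∈ eabD 𝔡.T 𝔡.u)
    (h : d * 𝔡.e * d⁻¹ = a.val) : 𝔡.dOf a = d := by
  have ha : a.val ≠ 1 := by
    intro h1
    rw [h1] at h
    apply 𝔡.he1
    calc 𝔡.e = d⁻¹ * (d * 𝔡.e * d⁻¹) * d := by group
      _ = 1 := by rw [h]; group
  apply 𝔡.D_unique (𝔡.dOf_mem a) hd
  rw [𝔡.dOf_spec a ha, h]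

instance : Zero (EabK 𝔡) := ⟨⟨1, Subgroup.one_mem _⟩⟩
instance : One (EabK 𝔡) := ⟨⟨𝔡.e, 𝔡.he⟩⟩
instance : Add (EabK 𝔡) := ⟨fun a b => ⟨a.val * b.val, Subgroup.mul_mem _ a.mem b.mem⟩⟩
instance : Neg (EabK 𝔡) := ⟨fun a => a⟩

open Classical in
noncomputable instance : Mul (EabK 𝔡) :=
  ⟨fun a b => if a.val = 1 then 0 else
    ⟨𝔡.dOf a * b.val * (𝔡.dOf a)⁻¹, 𝔡.conj_mem (𝔡.dOf_mem a) b.mem⟩⟩

open Classical in
noncomputable instance : Inv (EabK 𝔡) :=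
  ⟨fun a => if a.val = 1 then 0 else
    ⟨(𝔡.dOf a)⁻¹ * 𝔡.e * ((𝔡.dOf a)⁻¹)⁻¹,
      𝔡.conj_mem ((eabD 𝔡.T 𝔡.u).inv_mem (𝔡.dOf_mem a)) 𝔡.he⟩⟩

@[simp] theorem EabK.zero_val : (0 : EabK 𝔡).val = 1 := rfl
@[simp] theorem EabK.one_val : (1 : EabK 𝔡).val = 𝔡.e := rfl
@[simp] theorem EabK.add_val (a b : EabK 𝔡) : (a + b).val = a.val * b.val := rfl
@[simp] theorem EabK.neg_val (a : EabK 𝔡) : (-a).val = a.val := rfl

theorem EabK.eq_zero_iff (a : EabK 𝔡) : a = 0 ↔ a.val = 1 :=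
  ⟨fun h => by rw [h]; rfl, fun h => EabK.ext h⟩

open Classical in
theorem EabK.mul_val_of_ne (a b : EabK 𝔡) (h : a.val ≠ 1) :
    (a * b).val = 𝔡.dOf a * b.val * (𝔡.dOf a)⁻¹ := by
  show (if a.val = 1 then (0 : EabK 𝔡) else _).val = _
  rw [if_neg h]

open Classical in
theorem EabK.mul_of_eq (a b : EabK 𝔡) (h : a.val = 1) : a * b = 0 := by
  show (if a.val = 1 then (0 : EabK 𝔡) else _) = _
  rw [if_pos h]

open Classical in
theorem EabK.inv_val_of_ne (a : EabK 𝔡) (h : a.val ≠ 1) :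
    (a⁻¹).val = (𝔡.dOf a)⁻¹ * 𝔡.e * 𝔡.dOf a := by
  show (if a.val = 1 then (0 : EabK 𝔡) else _).val = _
  rw [if_neg h]
  show (𝔡.dOf a)⁻¹ * 𝔡.e * ((𝔡.dOf a)⁻¹)⁻¹ = _
  rw [inv_inv]

open Classical in
theorem EabK.inv_of_eq (a : EabK 𝔡) (h : a.val = 1) : a⁻¹ = 0 := by
  show (if a.val = 1 then (0 : EabK 𝔡) else _) = _
  rw [if_pos h]

theorem EabK.mul_zero' (a : EabK 𝔡) : a * 0 = 0 := by
  by_cases h : a.val = 1
  · exact EabK.mul_of_eq a 0 h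
  · apply EabK.ext
    rw [EabK.mul_val_of_ne a 0 h, EabK.zero_val]
    group

theorem EabK.mul_val_ne (a b : EabK 𝔡) (ha : a.val ≠ 1) (hb : b.val ≠ 1) : (a * b).val ≠ 1 := by
  rw [EabK.mul_val_of_ne a b ha]
  intro h
  apply hb
  calc b.val = (𝔡.dOf a)⁻¹ * (𝔡.dOf a * b.val * (𝔡.dOf a)⁻¹) * 𝔡.dOf a := by group
    _ = 1 := by rw [h]; group

theorem EabK.dOf_mul (a b : EabK 𝔡) (ha : a.val ≠ 1) (hb : b.val ≠ 1) :
    𝔡.dOf (a * b) = 𝔡.dOf a * 𝔡.dOf b := by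
  apply 𝔡.dOf_unique _ ((eabD 𝔡.T 𝔡.u).mul_mem (𝔡.dOf_mem a) (𝔡.dOf_mem b))
  rw [EabK.mul_val_of_ne a b ha, ← 𝔡.dOf_spec b hb]
  group

theorem EabK.dOf_one : 𝔡.dOf (1 : EabK 𝔡) = 1 := by
  apply 𝔡.dOf_unique _ (Subgroup.one_mem _)
  rw [EabK.one_val]
  group

/-- The field structure on `T`. -/
noncomputable instance EabK.instField : Field (EabK 𝔡) := by
  have hT := eab_T_props 𝔡.hnc 𝔡.hC
  refine Field.ofMinimalAxioms (EabK 𝔡) ?_ ?_ ?_ ?_ ?_ ?_ ?_ ?_ ?_ ?_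
  · intro a b c
    apply EabK.ext
    simp only [EabK.add_val, mul_assoc]
  · intro a
    apply EabK.ext
    simp only [EabK.add_val, EabK.zero_val, one_mul]
  · intro a
    apply EabK.ext
    simp only [EabK.add_val, EabK.neg_val, EabK.zero_val]
    exact hT.2 a.val a.mem
  · intro a b c
    by_cases ha : a.val = 1
    · rw [EabK.mul_of_eq a b ha, EabK.mul_of_eq a (b * c) ha]
      exact EabK.mul_of_eq 0 c rfl
    · by_cases hb : b.val = 1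
      · rw [EabK.mul_of_eq b c hb, (EabK.eq_zero_iff b).mpr hb, EabK.mul_zero']
        exact EabK.mul_of_eq 0 c rfl
      · apply EabK.ext
        rw [EabK.mul_val_of_ne (a * b) c (EabK.mul_val_ne a b ha hb), EabK.dOf_mul a b ha hb,
          EabK.mul_val_of_ne a (b * c) ha, EabK.mul_val_of_ne b c hb]
        group
  · intro a b
    by_cases ha : a.val = 1
    · rw [EabK.mul_of_eq a b ha, (EabK.eq_zero_iff a).mpr ha, EabK.mul_zero']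
    · by_cases hb : b.val = 1
      · rw [EabK.mul_of_eq b a hb, (EabK.eq_zero_iff b).mpr hb, EabK.mul_zero']
      · apply EabK.ext
        rw [EabK.mul_val_of_ne a b ha, EabK.mul_val_of_ne b a hb, ← 𝔡.dOf_spec a ha,
          ← 𝔡.dOf_spec b hb]
        have hcomm := eab_D_comm 𝔡.hnc 𝔡.hnn 𝔡.hC 𝔡.hu 𝔡.huH (𝔡.dOf_mem a) (𝔡.dOf_mem b)
        calc 𝔡.dOf a * (𝔡.dOf b * 𝔡.e * (𝔡.dOf b)⁻¹) * (𝔡.dOf a)⁻¹
            = (𝔡.dOf a * 𝔡.dOf b) * 𝔡.e * (𝔡.dOf a * 𝔡.dOf b)⁻¹ := by group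
          _ = (𝔡.dOf b * 𝔡.dOf a) * 𝔡.e * (𝔡.dOf b * 𝔡.dOf a)⁻¹ := by rw [hcomm]
          _ = 𝔡.dOf b * (𝔡.dOf a * 𝔡.e * (𝔡.dOf a)⁻¹) * (𝔡.dOf b)⁻¹ := by group
  · intro a
    apply EabK.ext
    rw [EabK.mul_val_of_ne 1 a 𝔡.he1, EabK.dOf_one]
    group
  · intro a ha
    have ha' : a.val ≠ 1 := fun h => ha ((EabK.eq_zero_iff a).mpr h)
    apply EabK.ext
    rw [EabK.mul_val_of_ne a a⁻¹ ha', EabK.inv_val_of_ne a ha', EabK.one_val]
    group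
  · exact EabK.inv_of_eq 0 rfl
  · intro a b c
    by_cases ha : a.val = 1
    · rw [EabK.mul_of_eq a _ ha, EabK.mul_of_eq a _ ha, EabK.mul_of_eq a _ ha]
      apply EabK.ext
      simp
    · apply EabK.ext
      rw [EabK.add_val, EabK.mul_val_of_ne a _ ha, EabK.mul_val_of_ne a _ ha,
        EabK.mul_val_of_ne a _ ha, EabK.add_val]
      group
  · refine ⟨0, 1, ?_⟩
    intro h
    exact 𝔡.he1 (congrArg EabK.val h).symm

/-- The carrier is in bijection with `T`. -/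
def EabK.equivT (𝔡 : EabData G) : EabK 𝔡 ≃ ↥(𝔡.T : Subgroup G) where
  toFun a := ⟨a.val, a.mem⟩
  invFun t := ⟨t.1, t.2⟩
  left_inv _ := rfl
  right_inv _ := rfl

instance : Finite (EabK 𝔡) := Finite.of_equiv _ (EabK.equivT 𝔡).symm

theorem EabK.card_eq : Nat.card (EabK 𝔡) = Nat.card (𝔡.T : Subgroup G) :=
  Nat.card_congr (EabK.equivT 𝔡)

theorem EabK.two_eq_zero : (2 : EabK 𝔡) = 0 := by
  rw [← one_add_one_eq_two]
  apply EabK.ext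
  show 𝔡.e * 𝔡.e = 1
  exact (eab_T_props 𝔡.hnc 𝔡.hC).2 𝔡.e 𝔡.he

theorem EabK.add_self (a : EabK 𝔡) : a + a = 0 := by
  apply EabK.ext
  show a.val * a.val = 1
  exact (eab_T_props 𝔡.hnc 𝔡.hC).2 a.val a.mem

theorem EabK.neg_eq (a : EabK 𝔡) : -a = a := rfl

theorem EabK.ne_zero_iff (a : EabK 𝔡) : a ≠ 0 ↔ a.val ≠ 1 := (EabK.eq_zero_iff a).not

/-- Multiplication by a nonzero `a` is conjugation by `dOf a`. -/
theorem EabK.mul_val (a b : EabK 𝔡) (ha : a ≠ 0) :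
    (a * b).val = 𝔡.dOf a * b.val * (𝔡.dOf a)⁻¹ :=
  EabK.mul_val_of_ne a b ((EabK.ne_zero_iff a).mp ha)

theorem EabK.inv_val (a : EabK 𝔡) (ha : a ≠ 0) :
    (a⁻¹).val = (𝔡.dOf a)⁻¹ * 𝔡.e * 𝔡.dOf a :=
  EabK.inv_val_of_ne a ((EabK.ne_zero_iff a).mp ha)

end Field

end Cfsg.Agent.Lib.Helper21
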