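/-
helper21 shared library: finite groups in which the centralizer of every involution is an
elementary abelian 2-group, part 6: coordinates on `G / N_G(T)` by the projective line over the
field `EabK`, towards S1230.
All declarations live in `Cfsg.Agent.Lib.Helper21`.
-/
import Mathlib
import Cfsg.Prelude.Def_Involutions
import Cfsg.Agent.Lib.Helper21.ElemAbField

set_option autoImplicit false

namespace Cfsg.Agent.Lib.Helper21

open Cfsg
open scoped Pointwise LinearAlgebra.Projectivization Matrix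

universe u

section Proj

variable {G : Type u} [Group G] [Finite G] (𝔡 : EabData G)

/-- The point `∞`. -/
abbrev EabData.pInf : G ⧸ eabH 𝔡.T := QuotientGroup.mk 1

/-- The point `0`. -/
abbrev EabData.pZero : G ⧸ eabH 𝔡.T := QuotientGroup.mk 𝔡.u

theorem EabData.pInf_ne_pZero : 𝔡.pInf ≠ 𝔡.pZero := eab_mk_ne 𝔡.huH

theorem EabData.smul_pInf {t : G} (ht : t ∈ (𝔡.T : Subgroup G)) : t • 𝔡.pInf = 𝔡.pInf :=
  (smul_mk_one_eq_iff t).mpr (Subgroup.le_normalizer ht)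

theorem EabData.smul_pZero_ne_pInf {t : G} (ht : t ∈ (𝔡.T : Subgroup G)) :
    t • 𝔡.pZero ≠ 𝔡.pInf := by
  intro h
  apply 𝔡.pInf_ne_pZero
  have h1 : t⁻¹ • (t • 𝔡.pZero) = t⁻¹ • 𝔡.pInf := by rw [h]
  rw [inv_smul_smul, 𝔡.smul_pInf (Subgroup.inv_mem _ ht)] at h1
  exact h1.symm

theorem EabData.exists_coord (x : G ⧸ eabH 𝔡.T) (hx : x ≠ 𝔡.pInf) :
    ∃ t ∈ (𝔡.T : Subgroup G), t • 𝔡.pZero = x :=
  eab_exists_T_smul_mk 𝔡.hnc 𝔡.hnn 𝔡.hC 𝔡.hu 𝔡.huH x hx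

theorem EabData.eq_of_smul_pZero_eq {s t : G} (hs : s ∈ (𝔡.T : Subgroup G))
    (ht : t ∈ (𝔡.T : Subgroup G)) (h : s • 𝔡.pZero = t • 𝔡.pZero) : s = t := by
  by_contra hne
  have h1 : (t⁻¹ * s) • 𝔡.pZero = 𝔡.pZero := by
    rw [mul_smul, h, inv_smul_smul]
  have h2 : t⁻¹ * s ≠ 1 := by
    intro h3
    apply hne
    calc s = t * (t⁻¹ * s) := by group
      _ = t := by rw [h3, mul_one]
  have := eab_T_fixed 𝔡.hnc 𝔡.hnn 𝔡.hC (Subgroup.mul_mem _ (Subgroup.inv_mem _ ht) hs) h2 h1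
  exact 𝔡.pInf_ne_pZero this.symm

open Classical in
/-- The coordinate of a point (`0` for the point `∞`). -/
noncomputable def EabData.coord (x : G ⧸ eabH 𝔡.T) : EabK 𝔡 :=
  if h : x = 𝔡.pInf then 0 else
    ⟨Classical.choose (𝔡.exists_coord x h), (Classical.choose_spec (𝔡.exists_coord x h)).1⟩

theorem EabData.coord_smul (x : G ⧸ eabH 𝔡.T) (hx : x ≠ 𝔡.pInf) :
    (𝔡.coord x).val • 𝔡.pZero = x := by
  unfold EabData.coord
  rw [dif_neg hx]
  exact (Classical.choose_spec (𝔡.exists_coord x hx)).2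

theorem EabData.coord_of_smul {t : G} (ht : t ∈ (𝔡.T : Subgroup G)) :
    𝔡.coord (t • 𝔡.pZero) = ⟨t, ht⟩ := by
  apply EabK.ext
  exact 𝔡.eq_of_smul_pZero_eq (𝔡.coord _).mem ht (𝔡.coord_smul _ (𝔡.smul_pZero_ne_pInf ht))

theorem EabData.coord_pZero : 𝔡.coord 𝔡.pZero = 0 := by
  have := 𝔡.coord_of_smul (Subgroup.one_mem _)
  rw [one_smul] at this
  exact this

/-- The point of `X` with coordinate `a`. -/
def EabData.ptOf (a : EabK 𝔡) : G ⧸ eabH 𝔡.T := a.val • 𝔡.pZero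

theorem EabData.ptOf_ne_pInf (a : EabK 𝔡) : 𝔡.ptOf a ≠ 𝔡.pInf := 𝔡.smul_pZero_ne_pInf a.mem

theorem EabData.coord_ptOf (a : EabK 𝔡) : 𝔡.coord (𝔡.ptOf a) = a := 𝔡.coord_of_smul a.mem

theorem EabData.ptOf_coord (x : G ⧸ eabH 𝔡.T) (hx : x ≠ 𝔡.pInf) : 𝔡.ptOf (𝔡.coord x) = x :=
  𝔡.coord_smul x hx

theorem EabData.ptOf_zero : 𝔡.ptOf 0 = 𝔡.pZero := one_smul _ _

/-- Every point is `∞` or has a coordinate. -/
theorem EabData.eq_pInf_or_exists_ptOf (x : G ⧸ eabH 𝔡.T) : x = 𝔡.pInf ∨ ∃ a, x = 𝔡.ptOf a := by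
  by_cases h : x = 𝔡.pInf
  · exact Or.inl h
  · exact Or.inr ⟨𝔡.coord x, (𝔡.ptOf_coord x h).symm⟩

theorem EabData.vInf_ne : (![1, 0] : Fin 2 → EabK 𝔡) ≠ 0 := by
  intro h
  have := congrFun h 0
  simp at this

theorem EabData.vOf_ne (a : EabK 𝔡) : (![a, 1] : Fin 2 → EabK 𝔡) ≠ 0 := by
  intro h
  have := congrFun h 1
  simp at this

open Classical in
/-- The coordinate map `G / N(T) → ℙ¹(K)`. -/
noncomputable def EabData.beta (x : G ⧸ eabH 𝔡.T) : ℙ (EabK 𝔡) (Fin 2 → EabK 𝔡) :=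
  if x = 𝔡.pInf then Projectivization.mk _ ![1, 0] 𝔡.vInf_ne
  else Projectivization.mk _ ![𝔡.coord x, 1] (𝔡.vOf_ne _)

theorem EabData.beta_pInf :
    𝔡.beta 𝔡.pInf = Projectivization.mk _ ![1, 0] 𝔡.vInf_ne := by
  unfold EabData.beta
  rw [if_pos rfl]

theorem EabData.beta_ptOf (a : EabK 𝔡) :
    𝔡.beta (𝔡.ptOf a) = Projectivization.mk _ ![a, 1] (𝔡.vOf_ne a) := by
  unfold EabData.beta
  rw [if_neg (𝔡.ptOf_ne_pInf a)]
  simp only [𝔡.coord_ptOf a]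

theorem EabData.beta_injective : Function.Injective 𝔡.beta := by
  intro x y hxy
  rcases 𝔡.eq_pInf_or_exists_ptOf x with rfl | ⟨a, rfl⟩ <;>
    rcases 𝔡.eq_pInf_or_exists_ptOf y with rfl | ⟨b, rfl⟩
  · rfl
  · exfalso
    rw [𝔡.beta_pInf, 𝔡.beta_ptOf, Projectivization.mk_eq_mk_iff'] at hxy
    obtain ⟨c, hc⟩ := hxy
    have h0 := congrFun hc 0
    have h1 := congrFun hc 1
    simp at h0 h1
    rw [h1] at h0
    simp at h0
  · exfalso
    rw [𝔡.beta_pInf, 𝔡.beta_ptOf, Projectivization.mk_eq_mk_iff'] at hxy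
    obtain ⟨c, hc⟩ := hxy
    have h1 := congrFun hc 1
    simp at h1
  · rw [𝔡.beta_ptOf, 𝔡.beta_ptOf, Projectivization.mk_eq_mk_iff'] at hxy
    obtain ⟨c, hc⟩ := hxy
    have h0 := congrFun hc 0
    have h1 := congrFun hc 1
    simp at h0 h1
    rw [h1, one_mul] at h0
    rw [h0]

theorem EabData.beta_surjective : Function.Surjective 𝔡.beta := by
  intro p
  induction p using Projectivization.ind with
  | _ v hv =>
    by_cases h1 : v 1 = 0
    · refine ⟨𝔡.pInf, ?_⟩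
      rw [𝔡.beta_pInf, Projectivization.mk_eq_mk_iff']
      have h0 : v 0 ≠ 0 := by
        intro h0
        apply hv
        funext i
        fin_cases i
        · exact h0
        · exact h1
      refine ⟨(v 0)⁻¹, ?_⟩
      funext i
      fin_cases i
      · simp [h0]
      · simp [h1]
    · refine ⟨𝔡.ptOf (v 0 * (v 1)⁻¹), ?_⟩
      rw [𝔡.beta_ptOf, Projectivization.mk_eq_mk_iff']
      refine ⟨(v 1)⁻¹, ?_⟩
      funext i
      fin_cases i
      · simp [mul_comm]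
      · simp [h1]

end Proj

end Cfsg.Agent.Lib.Helper21
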