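/-
helper21 shared library: finite groups in which the centralizer of every involution is an
elementary abelian 2-group, part 7: every element acts on the coordinates as an element of
`SL₂(K)`, towards S1230.
All declarations live in `Cfsg.Agent.Lib.Helper21`.
-/
import Mathlib
import Cfsg.Prelude.Def_Involutions
import Cfsg.Agent.Lib.Helper21.ElemAbProj

set_option autoImplicit false

namespace Cfsg.Agent.Lib.Helper21

open Cfsg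
open scoped Pointwise LinearAlgebra.Projectivization Matrix

universe u

section SL

variable {K : Type*} [Field K]

/-- An element of `SL₂(K)` from a matrix of determinant one. -/
def slOf (A : Matrix (Fin 2) (Fin 2) K) (h : A.det = 1) : Matrix.SpecialLinearGroup (Fin 2) K :=
  ⟨A, h⟩

theorem slOf_smul_mk (A : Matrix (Fin 2) (Fin 2) K) (h : A.det = 1) (v : Fin 2 → K) (hv : v ≠ 0)
    (w : Fin 2 → K) (hw : w ≠ 0) (c : K) (hc : c • w = A *ᵥ v) :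
    slOf A h • Projectivization.mk K v hv = Projectivization.mk K w hw := by
  rw [Projectivization.smul_mk, Projectivization.mk_eq_mk_iff']
  exact ⟨c, hc⟩

end SL

section Moebius

variable {G : Type u} [Group G] [Finite G] (𝔡 : EabData G)

/-- `g` acts on the coordinates as the matrix `M`. -/
def EabData.ActsAs (g : G) (M : Matrix.SpecialLinearGroup (Fin 2) (EabK 𝔡)) : Prop :=
  ∀ x : G ⧸ eabH 𝔡.T, 𝔡.beta (g • x) = M • 𝔡.beta x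

theorem EabData.actsAs_one : 𝔡.ActsAs 1 1 := by
  intro x
  rw [one_smul, one_smul]

variable {𝔡} in
theorem EabData.ActsAs.mul {g h : G} {M N : Matrix.SpecialLinearGroup (Fin 2) (EabK 𝔡)}
    (hg : 𝔡.ActsAs g M) (hh : 𝔡.ActsAs h N) : 𝔡.ActsAs (g * h) (M * N) := by
  intro x
  rw [mul_smul, hg, hh, mul_smul]

variable {𝔡} in
theorem EabData.ActsAs.inv {g : G} {M : Matrix.SpecialLinearGroup (Fin 2) (EabK 𝔡)}
    (hg : 𝔡.ActsAs g M) : 𝔡.ActsAs g⁻¹ M⁻¹ := by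
  intro x
  have := hg (g⁻¹ • x)
  rw [smul_inv_smul] at this
  rw [this, inv_smul_smul]

/-- The subgroup of elements acting as matrices. -/
def EabData.moebius : Subgroup G where
  carrier := {g | ∃ M, 𝔡.ActsAs g M}
  one_mem' := ⟨1, 𝔡.actsAs_one⟩
  mul_mem' := by
    rintro g h ⟨M, hM⟩ ⟨N, hN⟩
    exact ⟨M * N, hM.mul hN⟩
  inv_mem' := by
    rintro g ⟨M, hM⟩
    exact ⟨M⁻¹, hM.inv⟩

theorem EabData.mem_moebius {g : G} : g ∈ 𝔡.moebius ↔ ∃ M, 𝔡.ActsAs g M := Iff.rfl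

/-- Translations. -/
theorem EabData.T_le_moebius : (𝔡.T : Subgroup G) ≤ 𝔡.moebius := by
  intro t ht
  refine ⟨slOf !![1, ⟨t, ht⟩; 0, 1] (by simp [Matrix.det_fin_two_of]), ?_⟩
  intro x
  rcases 𝔡.eq_pInf_or_exists_ptOf x with rfl | ⟨b, rfl⟩
  · rw [𝔡.smul_pInf ht, 𝔡.beta_pInf]
    symm
    apply slOf_smul_mk _ _ _ _ _ _ 1
    funext i
    fin_cases i <;> simp [Matrix.mulVec, dotProduct, Fin.sum_univ_two]
  · have h1 : t • 𝔡.ptOf b = 𝔡.ptOf (b + ⟨t, ht⟩) := by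
      unfold EabData.ptOf
      rw [← mul_smul]
      congr 1
      exact (eab_T_props 𝔡.hnc 𝔡.hC).1 t ht b.val b.mem
    rw [h1, 𝔡.beta_ptOf, 𝔡.beta_ptOf]
    symm
    apply slOf_smul_mk _ _ _ _ _ _ 1
    funext i
    fin_cases i <;> simp [Matrix.mulVec, dotProduct, Fin.sum_univ_two]

theorem EabData.D_smul_pZero {d : G} (hd : d ∈ eabD 𝔡.T 𝔡.u) : d • 𝔡.pZero = 𝔡.pZero :=
  (eab_mem_D_iff.mp hd).2

theorem EabData.D_smul_pInf {d : G} (hd : d ∈ eabD 𝔡.T 𝔡.u) : d • 𝔡.pInf = 𝔡.pInf :=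
  (eab_mem_D_iff.mp hd).1

/-- Conjugation by `d ∈ D` on coordinates. -/
theorem EabData.D_smul_ptOf {d : G} (hd : d ∈ eabD 𝔡.T 𝔡.u) (s : EabK 𝔡) :
    d • 𝔡.ptOf s = 𝔡.ptOf ⟨d * s.val * d⁻¹, 𝔡.conj_mem hd s.mem⟩ := by
  unfold EabData.ptOf
  have h1 : (d * s.val * d⁻¹) • 𝔡.pZero = d • (s.val • (d⁻¹ • 𝔡.pZero)) := by
    rw [mul_smul, mul_smul]
  rw [h1, 𝔡.D_smul_pZero (Subgroup.inv_mem _ hd)]

/-- Dilations. -/
theorem EabData.D_le_moebius : eabD 𝔡.T 𝔡.u ≤ 𝔡.moebius := by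
  intro d hd
  -- `a = d e d⁻¹`, `b² = a`
  set a : EabK 𝔡 := ⟨d * 𝔡.e * d⁻¹, 𝔡.conj_mem hd 𝔡.he⟩ with ha
  have hda : 𝔡.dOf a = d := 𝔡.dOf_unique a hd rfl
  have ha0 : a ≠ 0 := by
    rw [EabK.ne_zero_iff]
    intro h
    apply 𝔡.he1
    calc 𝔡.e = d⁻¹ * (d * 𝔡.e * d⁻¹) * d := by group
      _ = 1 := by rw [show d * 𝔡.e * d⁻¹ = 1 from h]; group
  have hchar : ringChar (EabK 𝔡) = 2 := by
    have h2 : (2 : EabK 𝔡) = 0 := EabK.two_eq_zero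
    have hdvd : ringChar (EabK 𝔡) ∣ 2 := by
      apply ringChar.dvd
      exact_mod_cast h2
    rcases (Nat.dvd_prime Nat.prime_two).mp hdvd with h | h
    · exfalso
      have := CharP.ringChar_ne_one (R := EabK 𝔡)
      exact this h
    · exact h
  obtain ⟨b, hb⟩ := FiniteField.isSquare_of_char_two hchar a
  have hb0 : b ≠ 0 := by
    intro h
    rw [h, mul_zero] at hb
    exact ha0 hb
  refine ⟨slOf !![b, 0; 0, b⁻¹] (by simp [Matrix.det_fin_two_of, hb0]), ?_⟩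
  intro x
  rcases 𝔡.eq_pInf_or_exists_ptOf x with rfl | ⟨s, rfl⟩
  · rw [𝔡.D_smul_pInf hd, 𝔡.beta_pInf]
    symm
    apply slOf_smul_mk _ _ _ _ _ _ b
    funext i
    fin_cases i <;> simp [Matrix.mulVec, dotProduct, Fin.sum_univ_two]
  · have h1 : (⟨d * s.val * d⁻¹, 𝔡.conj_mem hd s.mem⟩ : EabK 𝔡) = a * s := by
      apply EabK.ext
      rw [EabK.mul_val a s ha0, hda]
    rw [𝔡.D_smul_ptOf hd, h1, 𝔡.beta_ptOf, 𝔡.beta_ptOf]
    symm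
    apply slOf_smul_mk _ _ _ _ _ _ b⁻¹
    funext i
    fin_cases i
    · simp [Matrix.mulVec, dotProduct, Fin.sum_univ_two]
      rw [hb]
      field_simp
    · simp [Matrix.mulVec, dotProduct, Fin.sum_univ_two]

theorem EabData.u_smul_pInf : 𝔡.u • 𝔡.pInf = 𝔡.pZero := (eab_u_swap (T := 𝔡.T) 𝔡.hu).1

theorem EabData.u_smul_pZero : 𝔡.u • 𝔡.pZero = 𝔡.pInf := (eab_u_swap (T := 𝔡.T) 𝔡.hu).2

/-- `ptOf a = dOf a • ptOf 1` for `a ≠ 0`. -/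
theorem EabData.ptOf_eq_dOf_smul (a : EabK 𝔡) (ha : a ≠ 0) :
    𝔡.ptOf a = 𝔡.dOf a • 𝔡.ptOf 1 := by
  have h := 𝔡.D_smul_ptOf (𝔡.dOf_mem a) 1
  rw [h]
  congr 1
  apply EabK.ext
  exact (𝔡.dOf_spec a ((EabK.ne_zero_iff a).mp ha)).symm

/-- The inversion. -/
theorem EabData.u_mem_moebius (hfix : 𝔡.u • 𝔡.ptOf 1 = 𝔡.ptOf 1) : 𝔡.u ∈ 𝔡.moebius := by
  refine ⟨slOf !![0, 1; 1, 0] (by
    simp only [Matrix.det_fin_two_of, mul_zero, mul_one, zero_sub]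
    exact EabK.neg_eq 1), ?_⟩
  intro x
  rcases 𝔡.eq_pInf_or_exists_ptOf x with rfl | ⟨a, rfl⟩
  · rw [𝔡.u_smul_pInf, ← 𝔡.ptOf_zero, 𝔡.beta_ptOf, 𝔡.beta_pInf]
    symm
    apply slOf_smul_mk _ _ _ _ _ _ 1
    funext i
    fin_cases i <;> simp [Matrix.mulVec, dotProduct, Fin.sum_univ_two]
  · by_cases ha : a = 0
    · subst ha
      rw [𝔡.ptOf_zero, 𝔡.u_smul_pZero, 𝔡.beta_pInf, ← 𝔡.ptOf_zero, 𝔡.beta_ptOf]
      symm
      apply slOf_smul_mk _ _ _ _ _ _ 1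
      funext i
      fin_cases i <;> simp [Matrix.mulVec, dotProduct, Fin.sum_univ_two]
    · have hd := 𝔡.dOf_mem a
      have hinv := eab_u_inverts_D 𝔡.hnc 𝔡.hnn 𝔡.hC 𝔡.hu 𝔡.huH hd
      have h1 : 𝔡.u • 𝔡.ptOf a = 𝔡.ptOf a⁻¹ := by
        have hne : a⁻¹ ≠ 0 := inv_ne_zero ha
        rw [𝔡.ptOf_eq_dOf_smul a ha, ← mul_smul]
        have h2 : 𝔡.u * 𝔡.dOf a = (𝔡.dOf a)⁻¹ * 𝔡.u := by
          rw [← hinv]; group
        rw [h2, mul_smul, hfix, 𝔡.D_smul_ptOf (Subgroup.inv_mem _ hd)]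
        congr 1
        apply EabK.ext
        rw [EabK.inv_val a ha]
        show (𝔡.dOf a)⁻¹ * 𝔡.e * ((𝔡.dOf a)⁻¹)⁻¹ = _
        rw [inv_inv]
      rw [h1, 𝔡.beta_ptOf, 𝔡.beta_ptOf]
      symm
      apply slOf_smul_mk _ _ _ _ _ _ a
      funext i
      fin_cases i <;> simp [Matrix.mulVec, dotProduct, Fin.sum_univ_two, ha]

/-- Every element of `G` acts as a matrix. -/
theorem EabData.moebius_eq_top (hfix : 𝔡.u • 𝔡.ptOf 1 = 𝔡.ptOf 1) : 𝔡.moebius = ⊤ := by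
  rw [eq_top_iff]
  intro g _
  have hH : eabH 𝔡.T ≤ 𝔡.moebius := by
    intro h hh
    obtain ⟨d, hd, t, ht, rfl⟩ := eab_exists_mul_of_mem_H 𝔡.hnc 𝔡.hnn 𝔡.hC 𝔡.hu 𝔡.huH hh
    exact Subgroup.mul_mem _ (𝔡.D_le_moebius hd) (𝔡.T_le_moebius ht)
  by_cases hg : g ∈ eabH 𝔡.T
  · exact hH hg
  · have hne : g • 𝔡.pInf ≠ 𝔡.pInf := fun h => hg ((smul_mk_one_eq_iff g).mp h)
    obtain ⟨t, ht, htg⟩ := 𝔡.exists_coord _ hne
    have h1 : ((t * 𝔡.u)⁻¹ * g) • 𝔡.pInf = 𝔡.pInf := by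
      rw [mul_smul, ← htg, ← 𝔡.u_smul_pInf, ← mul_smul t, inv_smul_smul]
    have h2 : (t * 𝔡.u)⁻¹ * g ∈ 𝔡.moebius := hH ((smul_mk_one_eq_iff _).mp h1)
    have h3 : g = (t * 𝔡.u) * ((t * 𝔡.u)⁻¹ * g) := by group
    rw [h3]
    exact Subgroup.mul_mem _ (Subgroup.mul_mem _ (𝔡.T_le_moebius ht) (𝔡.u_mem_moebius hfix)) h2

end Moebius

end Cfsg.Agent.Lib.Helper21
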