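/-
helper21 shared library: finite groups in which the centralizer of every involution is an
elementary abelian 2-group, part 8: `G ≃* PSL₂(K)` (S1230).
All declarations live in `Cfsg.Agent.Lib.Helper21`.
-/
import Mathlib
import Cfsg.Prelude.Def_Involutions
import Cfsg.Agent.Lib.Helper21.ElemAbMoebius
import Cfsg.Agent.Lib.Helper5.PSL2Small
import Cfsg.Agent.Lib.Helper29.Iso

set_option autoImplicit false

namespace Cfsg.Agent.Lib.Helper21

open Cfsg
open scoped Pointwise LinearAlgebra.Projectivization Matrix MatrixGroups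

universe u

section PSL

variable {G : Type u} [Group G] [Finite G]

/-- Coordinates exist, with `u` fixing the point `1`. -/
theorem exists_eabData (T : Sylow 2 G) (hnc : ¬ IsCyclic (T : Subgroup G))
    (hnn : ¬ (T : Subgroup G).Normal) (hC : InvCentElemAb G) :
    ∃ 𝔡 : EabData G, 𝔡.T = T ∧ 𝔡.u • 𝔡.ptOf 1 = 𝔡.ptOf 1 := by
  obtain ⟨u, hu, huH⟩ := eab_exists_u hnc hnn hC
  have : Fact (Nat.Prime 2) := ⟨Nat.prime_two⟩
  have hzp : IsPGroup 2 (Subgroup.zpowers u) := by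
    rw [IsPGroup.iff_card, Nat.card_zpowers, hu]
    exact ⟨1, by norm_num⟩
  obtain ⟨P, hP⟩ := hzp.exists_le_sylow
  obtain ⟨g, rfl⟩ := MulAction.exists_smul_eq G T P
  have huP : u ∈ ((g • T : Sylow 2 G) : Subgroup G) := hP (Subgroup.mem_zpowers u)
  have hfix : u • (QuotientGroup.mk g : G ⧸ eabH T) = QuotientGroup.mk g :=
    (eab_smul_mk_eq_iff u g).mpr (Subgroup.le_normalizer huP)
  have hne1 : (QuotientGroup.mk g : G ⧸ eabH T) ≠ QuotientGroup.mk 1 := by
    intro h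
    rw [h] at hfix
    exact huH ((smul_mk_one_eq_iff u).mp hfix)
  have hne2 : (QuotientGroup.mk g : G ⧸ eabH T) ≠ QuotientGroup.mk u := by
    intro h
    rw [h, (eab_u_swap (T := T) hu).2] at hfix
    exact eab_mk_ne huH hfix
  obtain ⟨e, he, heg⟩ := eab_exists_T_smul_mk hnc hnn hC hu huH _ hne1
  have he1 : e ≠ 1 := by
    rintro rfl
    rw [one_smul] at heg
    exact hne2 heg.symm
  refine ⟨⟨T, hnc, hnn, hC, u, hu, huH, e, he, he1⟩, rfl, ?_⟩
  show u • (e • (QuotientGroup.mk u : G ⧸ eabH T)) = e • (QuotientGroup.mk u : G ⧸ eabH T)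
  rw [heg]
  exact hfix

variable (𝔡 : EabData G)

/-- The coordinate bijection. -/
noncomputable def EabData.betaEquiv : (G ⧸ eabH 𝔡.T) ≃ ℙ (EabK 𝔡) (Fin 2 → EabK 𝔡) :=
  Equiv.ofBijective 𝔡.beta ⟨𝔡.beta_injective, 𝔡.beta_surjective⟩

/-- The action of `G` on the projective line. -/
noncomputable def EabData.Phi : G →* Equiv.Perm (ℙ (EabK 𝔡) (Fin 2 → EabK 𝔡)) :=
  (𝔡.betaEquiv.permCongrHom).toMonoidHom.comp (MulAction.toPermHom G (G ⧸ eabH 𝔡.T))

theorem EabData.Phi_beta (g : G) (x : G ⧸ eabH 𝔡.T) : 𝔡.Phi g (𝔡.beta x) = 𝔡.beta (g • x) := by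
  show 𝔡.betaEquiv (g • 𝔡.betaEquiv.symm (𝔡.beta x)) = _
  have : 𝔡.betaEquiv.symm (𝔡.beta x) = x := 𝔡.betaEquiv.symm_apply_apply x
  rw [this]
  rfl

theorem EabData.ptOf_injective : Function.Injective 𝔡.ptOf := by
  intro a b h
  rw [← 𝔡.coord_ptOf a, ← 𝔡.coord_ptOf b, h]

theorem EabData.Phi_injective : Function.Injective 𝔡.Phi := by
  rw [injective_iff_map_eq_one]
  intro g hg
  have hfix : ∀ x : G ⧸ eabH 𝔡.T, g • x = x := by
    intro x
    apply 𝔡.beta_injective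
    rw [← 𝔡.Phi_beta, hg]
    rfl
  have h01 : 𝔡.pZero ≠ 𝔡.ptOf 1 := by
    rw [← 𝔡.ptOf_zero]
    intro h
    exact zero_ne_one (𝔡.ptOf_injective h)
  exact eab_eq_one_of_fixes_three 𝔡.hnc 𝔡.hnn 𝔡.hC g 𝔡.pInf 𝔡.pZero (𝔡.ptOf 1) 𝔡.pInf_ne_pZero
    (𝔡.ptOf_ne_pInf 1).symm h01 (hfix _) (hfix _) (hfix _)

theorem EabData.Phi_mem_range (hfix : 𝔡.u • 𝔡.ptOf 1 = 𝔡.ptOf 1) (g : G) :
    𝔡.Phi g ∈ (Projectivization.PSLAction.toPermHom (K := EabK 𝔡) (ι := Fin 2)).range := by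
  have hg : g ∈ 𝔡.moebius := by rw [𝔡.moebius_eq_top hfix]; trivial
  obtain ⟨M, hM⟩ := hg
  refine ⟨(M : Matrix.ProjectiveSpecialLinearGroup (Fin 2) (EabK 𝔡)), ?_⟩
  apply Equiv.ext
  intro p
  obtain ⟨x, rfl⟩ := 𝔡.beta_surjective p
  rw [𝔡.Phi_beta, hM x]
  rfl

theorem EabData.card_eq : Nat.card G = Nat.card (Matrix.ProjectiveSpecialLinearGroup (Fin 2) (EabK 𝔡)) := by
  have : Fintype (EabK 𝔡) := Fintype.ofFinite _
  have hq : Fintype.card (EabK 𝔡) = Nat.card (𝔡.T : Subgroup G) := by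
    rw [← Nat.card_eq_fintype_card, EabK.card_eq]
  have h1 : Nat.card G = Nat.card (G ⧸ eabH 𝔡.T) * Nat.card (eabH 𝔡.T) :=
    Subgroup.card_eq_card_quotient_mul_card_subgroup _
  have h2 : Nat.card (G ⧸ eabH 𝔡.T) = Fintype.card (EabK 𝔡) + 1 := by
    rw [Nat.card_congr 𝔡.betaEquiv, Cfsg.Agent.Lib.Helper5.card_proj_line]
  have h3 := eab_card_H 𝔡.hnc 𝔡.hnn 𝔡.hC 𝔡.hu 𝔡.huH
  have h4 := Cfsg.Agent.Lib.Helper5.card_PSL2_mul (F := EabK 𝔡)
  rw [Cfsg.Agent.Lib.Helper5.center_SL2_eq_bot_of_two_eq_zero EabK.two_eq_zero,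
    Subgroup.card_bot, mul_one] at h4
  rw [h4, h1, h2, h3, hq]
  have hpos : 0 < Nat.card (𝔡.T : Subgroup G) := Nat.card_pos
  obtain ⟨m, hm⟩ : ∃ m, Nat.card (𝔡.T : Subgroup G) = m + 1 := ⟨_, (Nat.succ_pred_eq_of_pos hpos).symm⟩
  rw [hm]
  have e2 : (m + 1) ^ 2 - 1 = m ^ 2 + 2 * m := by
    have : (m + 1) ^ 2 = m ^ 2 + 2 * m + 1 := by ring
    rw [this]; rfl
  rw [e2, Nat.add_sub_cancel]
  ring

/-- **S1230**, over the field `EabK`. -/
theorem EabData.nonempty_mulEquiv_PSL (hfix : 𝔡.u • 𝔡.ptOf 1 = 𝔡.ptOf 1) :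
    Nonempty (G ≃* Matrix.ProjectiveSpecialLinearGroup (Fin 2) (EabK 𝔡)) := by
  set Ψ := Projectivization.PSLAction.toPermHom (K := EabK 𝔡) (ι := Fin 2) with hΨ
  have hΨi : Function.Injective Ψ := Matrix.ProjectiveSpecialLinearGroup.toPermHom_injective
  have hle : 𝔡.Phi.range ≤ Ψ.range := by
    rintro _ ⟨g, rfl⟩
    exact 𝔡.Phi_mem_range hfix g
  let f : G →* Matrix.ProjectiveSpecialLinearGroup (Fin 2) (EabK 𝔡) :=
    ((MonoidHom.ofInjective hΨi).symm.toMonoidHom.comp (Subgroup.inclusion hle)).comp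
      𝔡.Phi.rangeRestrict
  have hf : Function.Injective f := by
    intro a b hab
    have h1 : (MonoidHom.ofInjective hΨi).symm (Subgroup.inclusion hle (𝔡.Phi.rangeRestrict a)) =
        (MonoidHom.ofInjective hΨi).symm (Subgroup.inclusion hle (𝔡.Phi.rangeRestrict b)) := hab
    have h2 := (Subgroup.inclusion_injective hle) ((MulEquiv.injective _) h1)
    have h3 : 𝔡.Phi a = 𝔡.Phi b := congrArg Subtype.val h2
    exact 𝔡.Phi_injective h3
  have hbij : Function.Bijective f := by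
    have : Finite (Matrix.ProjectiveSpecialLinearGroup (Fin 2) (EabK 𝔡)) := by
      have : Fintype (EabK 𝔡) := Fintype.ofFinite _
      infer_instance
    rw [Nat.bijective_iff_injective_and_card]
    exact ⟨hf, 𝔡.card_eq⟩
  exact ⟨MulEquiv.ofBijective f hbij⟩

end PSL

section Transfer

/-- A ring isomorphism induces an isomorphism of special linear groups. -/
def slMapEquiv {R S : Type*} [CommRing R] [CommRing S] (e : R ≃+* S) (n : Type*) [Fintype n]
    [DecidableEq n] : Matrix.SpecialLinearGroup n R ≃* Matrix.SpecialLinearGroup n S where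
  toFun := Matrix.SpecialLinearGroup.map e.toRingHom
  invFun := Matrix.SpecialLinearGroup.map e.symm.toRingHom
  left_inv g := by
    apply Subtype.ext
    ext i j
    show e.symm (e (g.1 i j)) = g.1 i j
    exact e.symm_apply_apply _
  right_inv g := by
    apply Subtype.ext
    ext i j
    show e (e.symm (g.1 i j)) = g.1 i j
    exact e.apply_symm_apply _
  map_mul' := map_mul _

/-- A ring isomorphism induces an isomorphism of projective special linear groups. -/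
theorem nonempty_psl_mulEquiv_of_ringEquiv {R S : Type*} [CommRing R] [CommRing S] (e : R ≃+* S)
    (n : Type*) [Fintype n] [DecidableEq n] :
    Nonempty (Matrix.ProjectiveSpecialLinearGroup n R ≃*
      Matrix.ProjectiveSpecialLinearGroup n S) :=
  ⟨QuotientGroup.congr _ _ (slMapEquiv e n)
    (Cfsg.Agent.Lib.Helper29.map_center_mulEquiv (slMapEquiv e n))⟩

variable {G : Type u} [Group G] [Finite G]

/-- **S1230.** A finite group with a non-cyclic, non-normal Sylow 2-subgroup `T` in which the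
centralizer of every involution is an elementary abelian 2-group is isomorphic to `PSL₂(F)`,
`|F| = |T|`. -/
theorem eab_nonempty_mulEquiv_PSL (T : Sylow 2 G) (hnc : ¬ IsCyclic (T : Subgroup G))
    (hnn : ¬ (T : Subgroup G).Normal) (hC : InvCentElemAb G) :
    ∃ (F : Type) (_ : Field F) (_ : Fintype F), Fintype.card F = Nat.card T ∧
      Nonempty (G ≃* Matrix.ProjectiveSpecialLinearGroup (Fin 2) F) := by
  obtain ⟨𝔡, rfl, hfix⟩ := exists_eabData T hnc hnn hC
  obtain ⟨φ⟩ := 𝔡.nonempty_mulEquiv_PSL hfix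
  have hsmall : Small.{0} (EabK 𝔡) := Countable.toSmall _
  have e : Shrink.{0} (EabK 𝔡) ≃+* EabK 𝔡 := Shrink.ringEquiv.{0} (EabK 𝔡)
  have : Finite (Shrink.{0} (EabK 𝔡)) := Finite.of_equiv _ (equivShrink.{0} (EabK 𝔡))
  have inst : Fintype (Shrink.{0} (EabK 𝔡)) := Fintype.ofFinite _
  refine ⟨Shrink.{0} (EabK 𝔡), inferInstance, inst, ?_, ?_⟩
  · rw [← Nat.card_eq_fintype_card, Nat.card_congr e.toEquiv, EabK.card_eq]
  · obtain ⟨ψ⟩ := nonempty_psl_mulEquiv_of_ringEquiv e.symm (Fin 2)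
    exact ⟨φ.trans ψ⟩

end Transfer

end Cfsg.Agent.Lib.Helper21
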