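import Mathlib
import Cfsg.Agent.S1160
import Cfsg.Agent.Lib.Helper24.FittingStructure2
import Cfsg.Agent.Lib.Helper1.Fitting

/-!
# Odd-order linear groups transitive on nonzero vectors (towards S1161)

Unconditional part: for a finite group `D` of odd order acting faithfully on an elementary abelian
`q`-group `E`, transitively on `E ∖ {0}`, every `O_p(D)` is cyclic and semiregular (landed S1160),
hence `F(D)` is cyclic and semiregular; and `D'` centralizes every `O_p(D)`.  If moreover `D` is
solvable, `D' ≤ F(D)`.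
-/

set_option autoImplicit false
open scoped commutatorElement
open Cfsg

namespace Cfsg.Agent.Lib.Helper21.OddTransLinear

variable {D E : Type*} [Group D] [AddCommGroup E] [DistribMulAction D E]

/-- Stabilizers in a normal subgroup of `D`-conjugate points have the same cardinality. -/
theorem card_stabilizer_eq_of_normal (P : Subgroup D) [hP : P.Normal] (a : E) (d : D) :
    Nat.card (MulAction.stabilizer ↥P a) = Nat.card (MulAction.stabilizer ↥P (d • a)) := by
  apply Nat.card_congr
  refine ⟨fun x => ⟨⟨d * (x.1 : D) * d⁻¹, hP.conj_mem _ x.1.2 d⟩, ?_⟩,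
    fun y => ⟨⟨d⁻¹ * (y.1 : D) * d, ?_⟩, ?_⟩, ?_, ?_⟩
  · rw [MulAction.mem_stabilizer_iff, Subgroup.smul_def]
    have hx : (x.1 : D) • a = a := by
      have := x.2
      rw [MulAction.mem_stabilizer_iff, Subgroup.smul_def] at this
      exact this
    show (d * (x.1 : D) * d⁻¹) • d • a = d • a
    rw [← mul_smul, inv_mul_cancel_right, mul_smul, hx]
  · have := hP.conj_mem _ y.1.2 d⁻¹
    rwa [inv_inv] at this
  · rw [MulAction.mem_stabilizer_iff, Subgroup.smul_def]
    have hy : (y.1 : D) • d • a = d • a := by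
      have := y.2
      rw [MulAction.mem_stabilizer_iff, Subgroup.smul_def] at this
      exact this
    show (d⁻¹ * (y.1 : D) * d) • a = a
    rw [mul_smul, mul_smul, hy, inv_smul_smul]
  · intro x
    apply Subtype.ext
    apply Subtype.ext
    show d⁻¹ * (d * (x.1 : D) * d⁻¹) * d = (x.1 : D)
    group
  · intro y
    apply Subtype.ext
    apply Subtype.ext
    show d * (d⁻¹ * (y.1 : D) * d) * d⁻¹ = (y.1 : D)
    group

variable [Finite D] [Finite E] [FaithfulSMul D E]

/-- Each `O_p(D)` is cyclic and semiregular on `E ∖ {0}`. -/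
theorem pCore_cyclic_semiregular (hodd : Odd (Nat.card D)) {q : ℕ} (hq : q.Prime)
    (hE : ∀ e : E, q • e = 0)
    (htrans : ∀ a b : E, a ≠ 0 → b ≠ 0 → ∃ d : D, d • a = b) (p : ℕ) [hp : Fact p.Prime] :
    IsCyclic ↥(pCore p D) ∧ ∀ g ∈ pCore p D, g ≠ 1 → ∀ a : E, g • a = a → a = 0 := by
  have hPn : (pCore p D).Normal := Cfsg.Agent.Lib.Helper55.pCore_normal' p
  have hPp : IsPGroup p ↥(pCore p D) := Cfsg.Agent.Lib.Helper55.isPGroup_pCore p
  by_cases hp2 : p = 2
  · -- a `2`-subgroup of an odd-order group is trivial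
    obtain ⟨k, hk⟩ := IsPGroup.iff_card.mp hPp
    have hdvd : Nat.card ↥(pCore p D) ∣ Nat.card D := Subgroup.card_subgroup_dvd_card _
    have hk0 : k = 0 := by
      by_contra hne
      have h2 : 2 ∣ Nat.card ↥(pCore p D) := by
        rw [hk, hp2]; exact dvd_pow_self 2 hne
      have h3 : 2 ∣ Nat.card D := h2.trans hdvd
      rw [← even_iff_two_dvd, ← Nat.not_odd_iff_even] at h3
      exact h3 hodd
    rw [hk0, pow_zero] at hk
    have hbot : pCore p D = ⊥ := Subgroup.card_eq_one.mp hk
    have hsub : Subsingleton ↥(pCore p D) := by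
      rw [hbot]; infer_instance
    refine ⟨inferInstance, ?_⟩
    intro g hg hg1
    rw [hbot, Subgroup.mem_bot] at hg
    exact absurd hg hg1
  · have hconst : ∀ a b : E, a ≠ 0 → b ≠ 0 →
        Nat.card (MulAction.stabilizer ↥(pCore p D) a) =
          Nat.card (MulAction.stabilizer ↥(pCore p D) b) := by
      intro a b ha hb
      obtain ⟨d, rfl⟩ := htrans a b ha hb
      exact card_stabilizer_eq_of_normal (pCore p D) a d
    obtain ⟨h1, h2⟩ := Cfsg.Agent.S1160.result (P := ↥(pCore p D)) (E := E) hp2 hPp hq hE hconst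
    refine ⟨h1, ?_⟩
    intro g hg hg1 a ha
    refine h2 ⟨g, hg⟩ ?_ a ?_
    · intro h
      exact hg1 (congrArg Subtype.val h)
    · rw [Subgroup.smul_def]; exact ha

/-- `F(D)` is cyclic. -/
theorem fitting_isCyclic (hodd : Odd (Nat.card D)) {q : ℕ} (hq : q.Prime)
    (hE : ∀ e : E, q • e = 0)
    (htrans : ∀ a b : E, a ≠ 0 → b ≠ 0 → ∃ d : D, d • a = b) :
    IsCyclic ↥(fittingSubgroup D) := by
  have hnil : Group.IsNilpotent ↥(fittingSubgroup D) :=
    Cfsg.Agent.Lib.Helper1.fittingSubgroup_isNilpotent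
  have hZ : IsZGroup ↥(fittingSubgroup D) := by
    refine ⟨fun p hp P => ?_⟩
    have : Fact p.Prime := ⟨hp⟩
    have hcyc := (pCore_cyclic_semiregular hodd hq hE htrans p).1
    have hQ : IsPGroup p ↥((P : Subgroup ↥(fittingSubgroup D)).map (fittingSubgroup D).subtype) :=
      P.isPGroup'.map _
    have hle : (P : Subgroup ↥(fittingSubgroup D)).map (fittingSubgroup D).subtype ≤ pCore p D := by
      apply Cfsg.Agent.Lib.Helper24.le_pCore_of_le_fittingSubgroup p _ hQ
      rintro _ ⟨x, -, rfl⟩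
      exact x.2
    let f : ↥(P : Subgroup ↥(fittingSubgroup D)) →* ↥(pCore p D) :=
      { toFun := fun x => ⟨((x : ↥(fittingSubgroup D)) : D), hle ⟨x.1, x.2, rfl⟩⟩
        map_one' := rfl
        map_mul' := fun _ _ => rfl }
    have hf : Function.Injective f := by
      intro x y hxy
      have h := congrArg Subtype.val hxy
      exact Subtype.ext (Subtype.ext h)
    exact isCyclic_of_injective f hf
  infer_instance

/-- `F(D)` is semiregular on `E ∖ {0}`. -/
theorem fitting_semiregular (hodd : Odd (Nat.card D)) {q : ℕ} (hq : q.Prime)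
    (hE : ∀ e : E, q • e = 0)
    (htrans : ∀ a b : E, a ≠ 0 → b ≠ 0 → ∃ d : D, d • a = b) :
    ∀ g ∈ fittingSubgroup D, g ≠ 1 → ∀ a : E, g • a = a → a = 0 := by
  intro g hg hg1 a ha
  have hord : orderOf g ≠ 1 := by
    rwa [Ne, orderOf_eq_one_iff]
  obtain ⟨p, hp, hpd⟩ := Nat.exists_prime_and_dvd hord
  have : Fact p.Prime := ⟨hp⟩
  set h := g ^ (orderOf g / p) with hh
  have hhord : orderOf h = p := orderOf_pow_orderOf_div (orderOf_pos g).ne' hpd
  have hh1 : h ≠ 1 := by
    intro h1
    rw [h1, orderOf_one] at hhord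
    exact hp.ne_one hhord.symm
  have hhF : h ∈ fittingSubgroup D := Subgroup.pow_mem _ hg _
  have hha : h • a = a := by
    have : g ∈ MulAction.stabilizer D a := ha
    exact Subgroup.pow_mem _ this _
  have hzp : IsPGroup p ↥(Subgroup.zpowers h) := by
    apply IsPGroup.of_card (n := 1)
    rw [Nat.card_zpowers, hhord, pow_one]
  have hzle : Subgroup.zpowers h ≤ fittingSubgroup D := by
    rw [Subgroup.zpowers_le]; exact hhF
  have hhP : h ∈ pCore p D :=
    Cfsg.Agent.Lib.Helper24.le_pCore_of_le_fittingSubgroup p _ hzp hzle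
      (Subgroup.mem_zpowers h)
  exact (pCore_cyclic_semiregular hodd hq hE htrans p).2 h hhP hh1 a hha

omit [Finite D] in
/-- The derived subgroup centralizes every cyclic normal subgroup. -/
theorem commutator_le_centralizer_of_cyclic_normal (P : Subgroup D) [hP : P.Normal]
    [hc : IsCyclic ↥P] : commutator D ≤ Subgroup.centralizer (P : Set D) := by
  rw [commutator_def, Subgroup.commutator_le]
  intro d1 _ d2 _
  let e := IsCyclic.mulAutMulEquiv ↥P
  let φ : D →* MulAut ↥P := MulAut.conjNormal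
  have hcomm : φ d1 * φ d2 = φ d2 * φ d1 := by
    apply e.injective
    rw [map_mul, map_mul, mul_comm]
  have h1 : φ ⁅d1, d2⁆ = 1 := by
    rw [commutatorElement_def, map_mul, map_mul, map_mul, hcomm, map_inv, map_inv]
    group
  rw [Subgroup.mem_centralizer_iff]
  intro y hy
  have h2 : φ ⁅d1, d2⁆ ⟨y, hy⟩ = ⟨y, hy⟩ := by rw [h1]; rfl
  have h3 := congrArg Subtype.val h2
  have h4 : ((φ ⁅d1, d2⁆ ⟨y, hy⟩ : ↥P) : D) = ⁅d1, d2⁆ * y * ⁅d1, d2⁆⁻¹ :=
    MulAut.conjNormal_apply _ _
  rw [h4] at h3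
  simp only at h3
  exact (mul_inv_eq_iff_eq_mul.mp h3).symm

/-- If `D` is moreover solvable then `D' ≤ F(D)`. -/
theorem commutator_le_fitting [Group.IsSolvable D] (hodd : Odd (Nat.card D)) {q : ℕ} (hq : q.Prime)
    (hE : ∀ e : E, q • e = 0)
    (htrans : ∀ a b : E, a ≠ 0 → b ≠ 0 → ∃ d : D, d • a = b) :
    commutator D ≤ fittingSubgroup D := by
  apply Cfsg.Agent.Lib.Helper24.commutator_le_fittingSubgroup_of_centralizes
  intro r hr x hx _ y hy
  have : Fact r.Prime := ⟨hr⟩
  have hPn : (pCore r D).Normal := Cfsg.Agent.Lib.Helper55.pCore_normal' r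
  have hcyc := (pCore_cyclic_semiregular hodd hq hE htrans r).1
  have h1 := commutator_le_centralizer_of_cyclic_normal (pCore r D) hx
  rw [Subgroup.mem_centralizer_iff] at h1
  exact (h1 y hy).symm

end Cfsg.Agent.Lib.Helper21.OddTransLinear
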