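import Mathlib
import Cfsg.Agent.Lib.Helper21.OddTransLinear
import Cfsg.Agent.Lib.Helper22.PConstrained
import Cfsg.Agent.Lib.Helper22.SolvableLocal
import Cfsg.Agent.Lib.Helper29.Iso

/-!
# Multiplicative wrapper of `OddTransLinear` and an automorphism lemma

* `fitting_cyclic_semiregular_of_hom`: a finite group `R` of odd order acting faithfully (via an
  injective `ψ : R →* MulAut M`) on a finite abelian group `M` of prime exponent, transitively on
  `M ∖ {1}`, has `F(R)` cyclic and semiregular.
* `exists_induced_mulEquiv`: an involutive automorphism of `D₀` preserving the kernel of a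
  surjection `π : D₀ →* R` induces an automorphism of `R`.
* `mem_fitting_of_inverted`: if `τ` is an involutive automorphism of a finite group `R` of odd
  order with `C_R(F(R)) ≤ F(R)`, `F(R)` abelian and `C_{F(R)}(τ) = 1`, then every element of `R`
  inverted by `τ` lies in `F(R)`.
-/

set_option autoImplicit false
open Cfsg

namespace Cfsg.Agent.Lib.Helper21.OddTransLinear

theorem fitting_cyclic_semiregular_of_hom {R M : Type*} [Group R] [Finite R] [Group M] [Finite M]
    (ψ : R →* MulAut M) (hψ : Function.Injective ψ)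
    (hodd : Odd (Nat.card R)) {q : ℕ} (hq : q.Prime)
    (hcomm : ∀ a b : M, a * b = b * a) (hexp : ∀ m : M, m ^ q = 1)
    (htrans : ∀ a b : M, a ≠ 1 → b ≠ 1 → ∃ r : R, ψ r a = b) :
    IsCyclic ↥(fittingSubgroup R) ∧
      ∀ g ∈ fittingSubgroup R, g ≠ 1 → ∀ a : M, ψ g a = a → a = 1 := by
  let instC : CommGroup M := { (inferInstance : Group M) with mul_comm := hcomm }
  let instA : DistribMulAction R (Additive M) :=
    { smul := fun r x => Additive.ofMul (ψ r (Additive.toMul x))
      one_smul := fun x => by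
        show Additive.ofMul ((ψ 1) (Additive.toMul x)) = x
        rw [map_one]; rfl
      mul_smul := fun r r' x => by
        show Additive.ofMul ((ψ (r * r')) (Additive.toMul x)) = _
        rw [map_mul]; rfl
      smul_zero := fun r => by
        show Additive.ofMul ((ψ r) 1) = 0
        rw [map_one]; rfl
      smul_add := fun r x y => by
        show Additive.ofMul ((ψ r) (Additive.toMul x * Additive.toMul y)) = _
        rw [map_mul]; rfl }
  have hsmul : ∀ (r : R) (x : Additive M), r • x = Additive.ofMul (ψ r (Additive.toMul x)) :=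
    fun _ _ => rfl
  have instF : FaithfulSMul R (Additive M) := by
    refine ⟨fun {r1 r2} h => hψ ?_⟩
    ext m
    have := h (Additive.ofMul m)
    rw [hsmul, hsmul] at this
    exact Additive.ofMul.injective this
  have hE : ∀ e : Additive M, q • e = 0 := by
    intro e
    have := hexp (Additive.toMul e)
    exact congrArg Additive.ofMul this
  have htr : ∀ a b : Additive M, a ≠ 0 → b ≠ 0 → ∃ d : R, d • a = b := by
    intro a b ha hb
    obtain ⟨r, hr⟩ := htrans (Additive.toMul a) (Additive.toMul b)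
      (fun h => ha (Additive.toMul.injective h)) (fun h => hb (Additive.toMul.injective h))
    exact ⟨r, by rw [hsmul, hr]; rfl⟩
  refine ⟨fitting_isCyclic (E := Additive M) hodd hq hE htr, ?_⟩
  intro g hg hg1 a ha
  have h := fitting_semiregular (E := Additive M) hodd hq hE htr g hg hg1 (Additive.ofMul a)
    (by rw [hsmul]; exact congrArg Additive.ofMul ha)
  exact Additive.ofMul.injective h

/-- An involutive automorphism `c` of `D₀` preserving the kernel of a surjection `π : D₀ →* R`
induces an automorphism of `R`. -/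
theorem exists_induced_mulEquiv {D₀ R : Type*} [Group D₀] [Group R] (π : D₀ →* R)
    (hπ : Function.Surjective π) (c : D₀ ≃* D₀) (hc2 : ∀ d, c (c d) = d)
    (hker : ∀ d, π d = 1 → π (c d) = 1) :
    ∃ τ : R ≃* R, (∀ d, τ (π d) = π (c d)) ∧ ∀ x, τ (τ x) = x := by
  have hk : π.ker ≤ (π.comp c.toMonoidHom).ker := by
    intro d hd
    rw [MonoidHom.mem_ker] at hd ⊢
    exact hker d hd
  let τ₀ : R →* R := π.liftOfSurjective hπ ⟨π.comp c.toMonoidHom, hk⟩
  have h1 : ∀ d, τ₀ (π d) = π (c d) := fun d =>
    π.liftOfRightInverse_comp_apply _ (Function.rightInverse_surjInv hπ) ⟨π.comp c.toMonoidHom, hk⟩ d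
  have h2 : ∀ x, τ₀ (τ₀ x) = x := by
    intro x
    obtain ⟨d, rfl⟩ := hπ x
    rw [h1, h1, hc2]
  exact ⟨{ toFun := τ₀, invFun := τ₀, left_inv := h2, right_inv := h2, map_mul' := map_mul τ₀ },
    h1, h2⟩

/-- Elements inverted by an involutive automorphism that is fixed-point-free on the abelian,
self-centralizing Fitting subgroup of an odd-order group lie in the Fitting subgroup. -/
theorem mem_fitting_of_inverted {R : Type*} [Group R] [Finite R] (hodd : Odd (Nat.card R))
    (hCF : Subgroup.centralizer (fittingSubgroup R : Set R) ≤ fittingSubgroup R)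
    (hab : ∀ x ∈ fittingSubgroup R, ∀ y ∈ fittingSubgroup R, x * y = y * x)
    (τ : R ≃* R) (hτ2 : ∀ x, τ (τ x) = x)
    (hfix : ∀ z ∈ fittingSubgroup R, τ z = z → z = 1)
    (x : R) (hx : τ x = x⁻¹) : x ∈ fittingSubgroup R := by
  have hFn : (fittingSubgroup R).Normal := Cfsg.Agent.Lib.Helper1.fittingSubgroup_normal
  have hτF : ∀ z ∈ fittingSubgroup R, τ z ∈ fittingSubgroup R := by
    intro z hz
    have h := Cfsg.Agent.Lib.Helper29.fittingSubgroup_map_mulEquiv τ
    rw [← h]
    exact Subgroup.mem_map_of_mem _ hz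
  -- `τ` inverts `F`
  have hinv : ∀ z ∈ fittingSubgroup R, τ z = z⁻¹ := by
    intro z hz
    have h1 : τ (z * τ z) = z * τ z := by
      rw [map_mul, hτ2, hab _ (hτF z hz) _ hz]
    have h2 := hfix _ (Subgroup.mul_mem _ hz (hτF z hz)) h1
    exact (eq_inv_of_mul_eq_one_right h2)
  -- `x ^ 2` centralizes `F`
  have hx2 : x * x ∈ Subgroup.centralizer (fittingSubgroup R : Set R) := by
    rw [Subgroup.mem_centralizer_iff]
    intro z hz
    have hz' : x * z * x⁻¹ ∈ fittingSubgroup R := hFn.conj_mem z hz x
    have h1 := hinv _ hz'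
    rw [map_mul, map_mul, map_inv, hx, hinv z hz, inv_inv] at h1
    -- h1 : x⁻¹ * z⁻¹ * x = (x * z * x⁻¹)⁻¹
    have h2 : x⁻¹ * z⁻¹ * x = x * z⁻¹ * x⁻¹ := by
      rw [h1]; group
    have h3 : z⁻¹ * (x * x) = (x * x) * z⁻¹ := by
      calc z⁻¹ * (x * x) = x * (x⁻¹ * z⁻¹ * x) * x := by group
        _ = x * (x * z⁻¹ * x⁻¹) * x := by rw [h2]
        _ = (x * x) * z⁻¹ := by group
    calc z * (x * x) = z * ((x * x) * z⁻¹) * z := by group
      _ = z * (z⁻¹ * (x * x)) * z := by rw [h3]
      _ = (x * x) * z := by group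
  have hx2F : x ^ 2 ∈ fittingSubgroup R := by
    rw [pow_two]; exact hCF hx2
  -- odd order: `x` is a power of `x ^ 2`
  have hox : Odd (orderOf x) := hodd.of_dvd_nat (orderOf_dvd_natCard x)
  obtain ⟨m, hm⟩ := hox
  have : x = (x ^ 2) ^ (m + 1) := by
    rw [← pow_mul]
    have h2 : 2 * (m + 1) = orderOf x + 1 := by omega
    rw [h2, pow_succ, pow_orderOf_eq_one, one_mul]
  rw [this]
  exact Subgroup.pow_mem _ hx2F _

/-- For a solvable finite group, `C(F) ≤ F`. -/
theorem centralizer_fitting_le_of_isSolvable {R : Type*} [Group R] [Finite R]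
    (hs : Group.IsSolvable R) :
    Subgroup.centralizer (fittingSubgroup R : Set R) ≤ fittingSubgroup R :=
  Cfsg.Agent.Lib.Helper22.centralizer_fittingSubgroup_le_iff_layer_eq_bot.mpr
    (Cfsg.Agent.Lib.Helper22.layer_eq_bot_of_isSolvable hs)

end Cfsg.Agent.Lib.Helper21.OddTransLinear
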