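import Mathlib
import Cfsg.Agent.Lib.Helper12.SimsLocDefs

/-!
# S2772 (helper12's sheet), module [SL-C]

`C_G(Ω₁Z(Q)) ≤ Q`.
-/

set_option autoImplicit false

namespace Cfsg.Agent.Lib.Helper21.SimsLocC

open Cfsg.Agent.Lib.Helper12.SimsLoc

variable {H : Type*} [Group H] [Finite H]

omit [Finite H] in
/-- `G` normalizes `Ω₁Z(Q)` when it normalizes `Q` -/
private theorem omZ_normal (G Q : Subgroup H) (hQn : ∀ g ∈ G, ∀ u ∈ Q, g * u * g⁻¹ ∈ Q) :
    ∀ g ∈ G, ∀ v ∈ omZ Q, g * v * g⁻¹ ∈ omZ Q := by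
  rintro g hg v ⟨hvQ, hvc, hv2⟩
  refine ⟨hQn g hg v hvQ, fun u hu => ?_, ?_⟩
  · have hu' : g⁻¹ * u * g⁻¹⁻¹ ∈ Q := hQn g⁻¹ (inv_mem hg) u hu
    have := hvc _ hu'
    calc g * v * g⁻¹ * u = g * (v * (g⁻¹ * u * g⁻¹⁻¹)) * g⁻¹ := by group
      _ = g * ((g⁻¹ * u * g⁻¹⁻¹) * v) * g⁻¹ := by rw [this]
      _ = u * (g * v * g⁻¹) := by group
  · calc g * v * g⁻¹ * (g * v * g⁻¹) = g * (v * v) * g⁻¹ := by group
      _ = 1 := by rw [hv2]; group

/-- `Ω₁Z(S) ≠ ⊥` for a non-trivial finite `2`-group `S` -/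
private theorem omZ_ne_bot (S : Subgroup H) (hS1 : S ≠ ⊥) (two : IsPGroup 2 ↥S) : omZ S ≠ ⊥ := by
  have : Fact (Nat.Prime 2) := ⟨Nat.prime_two⟩
  have hnt : Nontrivial ↥S := (Subgroup.nontrivial_iff_ne_bot S).mpr hS1
  have hcn : Nontrivial ↥(Subgroup.center ↥S) := two.center_nontrivial
  have htwoZ : IsPGroup 2 ↥(Subgroup.center ↥S) := two.to_subgroup _
  have hdvd : 2 ∣ Nat.card ↥(Subgroup.center ↥S) := by
    rcases htwoZ.card_eq_or_dvd with h | h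
    · exfalso
      have := (Nat.card_eq_one_iff_unique.mp h).1
      exact not_subsingleton _ this
    · exact h
  obtain ⟨z, hz⟩ := exists_prime_orderOf_dvd_card' (G := ↥(Subgroup.center ↥S)) 2 hdvd
  -- `z : center S`, of order 2
  have hz2 : z ^ 2 = 1 := by rw [← hz]; exact pow_orderOf_eq_one z
  have hz1 : z ≠ 1 := by
    intro h
    rw [h, orderOf_one] at hz
    norm_num at hz
  set w : H := ((z : ↥S) : H) with hw
  have hwS : w ∈ S := (z : ↥S).2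
  have hw2 : w * w = 1 := by
    have := congrArg (fun t : ↥(Subgroup.center ↥S) => ((t : ↥S) : H)) hz2
    simpa [pow_two] using this
  have hw1 : w ≠ 1 := by
    intro h
    apply hz1
    apply Subtype.ext
    apply Subtype.ext
    exact h
  have hwc : ∀ u ∈ S, w * u = u * w := by
    intro u hu
    have hzc := z.2
    rw [Subgroup.mem_center_iff] at hzc
    have := hzc ⟨u, hu⟩
    have h2 := congrArg (fun t : ↥S => (t : H)) this
    simpa using h2.symm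
  intro hbot
  have hmem : w ∈ omZ S := ⟨hwS, hwc, hw2⟩
  rw [hbot, Subgroup.mem_bot] at hmem
  exact hw1 hmem

/-- [SL-C] `C_G(Ω₁Z(Q)) ≤ Q` -/
theorem cent_omZ_le (G S Q : Subgroup H) (x : H)
    (hQS : Q ≤ S) (hSG : S ≤ G) (hS1 : S ≠ ⊥) (two : IsPGroup 2 ↥S)
    (q : ℕ) (hq : q.Prime) (hGS : Nat.card ↥G = q * Nat.card ↥S)
    (hQn : ∀ g ∈ G, ∀ u ∈ Q, g * u * g⁻¹ ∈ Q)
    (hcent : ∀ g ∈ G, (∀ u ∈ Q, g * u = u * g) → g ∈ Q)
    (hQmax : ∀ N : Subgroup H, N ≤ G → IsPGroup 2 ↥N → (∀ g ∈ G, ∀ u ∈ N, g * u * g⁻¹ ∈ N) → N ≤ Q)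
    (hx : ∀ s ∈ S, x * s * x⁻¹ ∈ S)
    (hno : NoCommon G S x) :
    ∀ g ∈ G, (∀ v ∈ omZ Q, g * v = v * g) → g ∈ Q := by
  intro g₀ hg₀G hg₀
  by_contra hg₀Q
  have hVn := omZ_normal G Q hQn
  -- `C = C_G(V)`
  set C : Subgroup H := G ⊓ Subgroup.centralizer ((omZ Q : Subgroup H) : Set H) with hC
  have hmemC : ∀ c : H, c ∈ C ↔ c ∈ G ∧ ∀ v ∈ omZ Q, c * v = v * c := by
    intro c
    rw [hC, Subgroup.mem_inf, Subgroup.mem_centralizer_iff]
    constructor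
    · rintro ⟨h1, h2⟩
      exact ⟨h1, fun v hv => (h2 v hv).symm⟩
    · rintro ⟨h1, h2⟩
      exact ⟨h1, fun v hv => (h2 v hv).symm⟩
  have hg₀C : g₀ ∈ C := (hmemC g₀).mpr ⟨hg₀G, hg₀⟩
  have hCG : C ≤ G := inf_le_left
  have hCn : ∀ g ∈ G, ∀ u ∈ C, g * u * g⁻¹ ∈ C := by
    intro g hg u hu
    obtain ⟨huG, huc⟩ := (hmemC u).mp hu
    refine (hmemC _).mpr ⟨mul_mem (mul_mem hg huG) (inv_mem hg), fun v hv => ?_⟩
    have hv' : g⁻¹ * v * g⁻¹⁻¹ ∈ omZ Q := hVn g⁻¹ (inv_mem hg) v hv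
    have := huc _ hv'
    calc g * u * g⁻¹ * v = g * (u * (g⁻¹ * v * g⁻¹⁻¹)) * g⁻¹ := by group
      _ = g * ((g⁻¹ * v * g⁻¹⁻¹) * u) * g⁻¹ := by rw [this]
      _ = v * (g * u * g⁻¹) := by group
  by_cases hCS : C ≤ S
  · -- `C` is a normal 2-subgroup of `G`
    have htwoC : IsPGroup 2 ↥C := two.to_le hCS
    exact hg₀Q (hQmax C hCG htwoC hCn hg₀C)
  · -- some `c ∈ C`, `c ∉ S`
    obtain ⟨c, hcC, hcS⟩ := SetLike.not_le_iff_exists.mp hCS
    obtain ⟨hcG, hcc⟩ := (hmemC c).mp hcC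
    set K : Subgroup H := S ⊔ Subgroup.zpowers c with hK
    have hSK : S ≤ K := le_sup_left
    have hcK : c ∈ K := (le_sup_right : Subgroup.zpowers c ≤ K) (Subgroup.mem_zpowers c)
    have hKG : K ≤ G := sup_le hSG ((Subgroup.zpowers_le).mpr hcG)
    have hGK : G ≤ K := by
      have h1 : Nat.card ↥S ∣ Nat.card ↥K := Subgroup.card_dvd_of_le hSK
      have h2 : Nat.card ↥K ∣ Nat.card ↥G := Subgroup.card_dvd_of_le hKG
      obtain ⟨m, hm⟩ := h1
      have hSpos : 0 < Nat.card ↥S := Nat.card_pos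
      have hmq : m ∣ q := by
        rw [hm, hGS, mul_comm q] at h2
        exact (Nat.mul_dvd_mul_iff_left hSpos).mp h2
      rcases (Nat.dvd_prime hq).mp hmq with h | h
      · exfalso
        rw [h, mul_one] at hm
        have : S = K := Subgroup.eq_of_le_of_card_ge hSK (le_of_eq hm)
        exact hcS (this ▸ hcK)
      · have hKG' : Nat.card ↥G ≤ Nat.card ↥K := by
          rw [hm, h, hGS, mul_comm]
        exact (Subgroup.eq_of_le_of_card_ge hKG hKG').symm.le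
    -- `Z₁ = Ω₁Z(S)`
    have hZ1 : omZ S ≠ ⊥ := omZ_ne_bot S hS1 two
    have hZV : omZ S ≤ omZ Q := by
      rintro z ⟨hzS, hzc, hz2⟩
      have hzQ : z ∈ Q := hcent z (hSG hzS) (fun u hu => hzc u (hQS hu))
      exact ⟨hzQ, fun u hu => hzc u (hQS hu), hz2⟩
    -- `G` centralizes `Z₁`
    have hKc : K ≤ Subgroup.centralizer ((omZ S : Subgroup H) : Set H) := by
      apply sup_le
      · intro s hs
        rw [Subgroup.mem_centralizer_iff]
        intro z hz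
        exact hz.2.1 s hs
      · rw [Subgroup.zpowers_le, Subgroup.mem_centralizer_iff]
        intro z hz
        exact (hcc z (hZV hz)).symm
    have hGc : ∀ g ∈ G, ∀ z ∈ omZ S, g * z * g⁻¹ = z := by
      intro g hg z hz
      have := hKc (hGK hg)
      rw [Subgroup.mem_centralizer_iff] at this
      have h1 := this z hz
      calc g * z * g⁻¹ = (g * z) * g⁻¹ := rfl
        _ = (z * g) * g⁻¹ := by rw [← h1]
        _ = z := by group
    -- `x` maps `Z₁` into `Z₁`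
    have hxsurj : ∀ s ∈ S, ∃ s' ∈ S, x * s' * x⁻¹ = s := by
      let φ : ↥S → ↥S := fun s => ⟨x * s * x⁻¹, hx s s.2⟩
      have hinj : Function.Injective φ := by
        intro a b hab
        have := congrArg (fun t : ↥S => (t : H)) hab
        apply Subtype.ext
        have h2 : x * (a : H) * x⁻¹ = x * (b : H) * x⁻¹ := this
        calc (a : H) = x⁻¹ * (x * a * x⁻¹) * x := by group
          _ = x⁻¹ * (x * b * x⁻¹) * x := by rw [h2]
          _ = b := by group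
      have hsurj : Function.Surjective φ := Finite.injective_iff_surjective.mp hinj
      intro s hs
      obtain ⟨s', hs'⟩ := hsurj ⟨s, hs⟩
      exact ⟨s', s'.2, congrArg (fun t : ↥S => (t : H)) hs'⟩
    have hxZ : ∀ z ∈ omZ S, x * z * x⁻¹ ∈ omZ S := by
      rintro z ⟨hzS, hzc, hz2⟩
      refine ⟨hx z hzS, fun u hu => ?_, ?_⟩
      · obtain ⟨u', hu'S, rfl⟩ := hxsurj u hu
        calc x * z * x⁻¹ * (x * u' * x⁻¹) = x * (z * u') * x⁻¹ := by group
          _ = x * (u' * z) * x⁻¹ := by rw [hzc u' hu'S]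
          _ = x * u' * x⁻¹ * (x * z * x⁻¹) := by group
      · calc x * z * x⁻¹ * (x * z * x⁻¹) = x * (z * z) * x⁻¹ := by group
          _ = 1 := by rw [hz2]; group
    exact hno (omZ S) (omZ_le S) hZ1
      (fun g hg z hz => by rw [hGc g hg z hz]; exact hz) hxZ

end Cfsg.Agent.Lib.Helper21.SimsLocC
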