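import Mathlib
import Cfsg.Agent.S1398
import Cfsg.Agent.S1399
import Cfsg.Agent.Lib.Helper54.Hyperplane

/-!
# Endgame for the SCN_3 uniqueness lemma (Bender–Glauberman 9.5) (helper21 library)

* `commutator_normalizer_le_centralizer_of_isCyclic`: `N(Y)'` centralizes a cyclic subgroup `Y`.
* `scn_endgame`: in a minimal simple group of odd order, let `A` be an abelian `p`-subgroup of rank at least
  three.  Assume that (if `A` is not a uniqueness subgroup) every maximal subgroup `M ≥ C_G(A)` has a normal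
  noncyclic `p'`-subgroup `S` all of whose noncyclic subgroups are uniqueness subgroups, and that
  `A ≤ (M₁ ∩ M₂)'` for all maximal `M₁, M₂ ≥ C_G(A)`.  Then `A` is a uniqueness subgroup.
-/

set_option autoImplicit false

namespace Cfsg.Agent.Lib.Helper21

variable {G : Type*} [Group G]

/-- The derived subgroup of the normalizer of a cyclic subgroup centralizes it. -/
theorem commutator_normalizer_le_centralizer_of_isCyclic (Y : Subgroup G) (hY : IsCyclic Y) :
    ⁅Subgroup.normalizer (Y : Set G), Subgroup.normalizer (Y : Set G)⁆ ≤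
      Subgroup.centralizer (Y : Set G) := by
  let _ := (hY.mulAutMulEquiv _).toMonoidHom.commGroupOfInjective (hY.mulAutMulEquiv _).injective
  have h := Abelianization.commutator_subset_ker Y.normalizerMonoidHom
  rw [Subgroup.normalizerMonoidHom_ker] at h
  rw [← Subgroup.map_subtype_commutator]
  rintro _ ⟨x, hx, rfl⟩
  exact Subgroup.mem_subgroupOf.mp (h hx)

/-- A cyclic group all of whose elements have order dividing `p` has at most `p` elements. -/
theorem card_le_of_isCyclic_of_forall_pow_eq_one {H : Type*} [Group H] [Finite H] (hc : IsCyclic H)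
    {p : ℕ} (hp : 0 < p) (hexp : ∀ x : H, x ^ p = 1) : Nat.card H ≤ p := by
  obtain ⟨g, hg⟩ := hc.exists_generator
  have h1 : orderOf g = Nat.card H := orderOf_eq_card_of_forall_mem_zpowers hg
  have h2 : orderOf g ∣ p := orderOf_dvd_of_pow_eq_one (hexp g)
  rw [← h1]
  exact Nat.le_of_dvd hp h2

/-- In a simple nonabelian group the centralizer of a nonidentity element is a proper subgroup. -/
theorem centralizer_singleton_ne_top_of_minSimple [Finite G] (hG : Cfsg.IsMinSimpleOddOrder G)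
    {b : G} (hb : b ≠ 1) : Subgroup.centralizer ({b} : Set G) ≠ ⊤ := by
  obtain ⟨_, hsimple, hna, _⟩ := hG
  intro htop
  have hbZ : b ∈ Subgroup.center G := by
    rw [Subgroup.mem_center_iff]
    intro g
    have : g ∈ Subgroup.centralizer ({b} : Set G) := by rw [htop]; exact Subgroup.mem_top g
    exact (Subgroup.mem_centralizer_iff.mp this b rfl).symm
  rcases (inferInstance : (Subgroup.center G).Normal).eq_bot_or_eq_top with h | h
  · rw [h, Subgroup.mem_bot] at hbZ
    exact hb hbZ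
  · apply hna
    refine ⟨⟨fun x y => ?_⟩⟩
    have hx : x ∈ Subgroup.center G := by rw [h]; exact Subgroup.mem_top x
    exact ((Subgroup.mem_center_iff.mp hx) y).symm

/-- **Endgame of Bender–Glauberman Lemma 9.5.** -/
theorem scn_endgame [Finite G] (hG : Cfsg.IsMinSimpleOddOrder G)
    (p : ℕ) [Fact p.Prime] (A : Subgroup G) (hAc : IsMulCommutative A)
    (hA3 : ¬ Cfsg.PRankLE p 2 ↥A)
    (h1 : ¬ Cfsg.InUniqueMaximal A → ∀ M : Subgroup G, IsCoatom M →
      Subgroup.centralizer (A : Set G) ≤ M →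
      ∃ S : Subgroup G, S ≤ M ∧ M ≤ Subgroup.normalizer (S : Set G) ∧ ¬ IsCyclic S ∧
        ¬ p ∣ Nat.card S ∧ ∀ E : Subgroup G, E ≤ S → ¬ IsCyclic E → Cfsg.InUniqueMaximal E)
    (h4 : ¬ Cfsg.InUniqueMaximal A → ∀ M₁ M₂ : Subgroup G, IsCoatom M₁ → IsCoatom M₂ →
      Subgroup.centralizer (A : Set G) ≤ M₁ → Subgroup.centralizer (A : Set G) ≤ M₂ →
      A ≤ ⁅M₁ ⊓ M₂, M₁ ⊓ M₂⁆) :
    Cfsg.InUniqueMaximal A := by
  by_contra hU
  have hp : p.Prime := Fact.out
  -- an elementary abelian subgroup `A₃ ≤ A` of order `> p ^ 2`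
  unfold Cfsg.PRankLE at hA3
  push Not at hA3
  obtain ⟨A', hA'c, hA'e, hA'card⟩ := hA3
  set A₃ : Subgroup G := A'.map A.subtype with hA₃
  have hA₃A : A₃ ≤ A := Subgroup.map_subtype_le _
  have hAcomm : ∀ x ∈ A, ∀ y ∈ A, x * y = y * x := by
    intro x hx y hy
    have := hAc.is_comm.comm (⟨x, hx⟩ : A) ⟨y, hy⟩
    exact congrArg Subtype.val this
  have hA₃comm : ∀ x ∈ A₃, ∀ y ∈ A₃, x * y = y * x :=
    fun x hx y hy => hAcomm x (hA₃A hx) y (hA₃A hy)
  have hA₃exp : ∀ x ∈ A₃, x ^ p = 1 := by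
    rintro _ ⟨x, hx, rfl⟩
    have := hA'e x hx
    simpa using congrArg Subtype.val this
  have hA₃card : p ^ 2 < Nat.card A₃ := by
    rw [hA₃, Subgroup.card_map_of_injective A.subtype_injective]
    exact hA'card
  have hAleC : A ≤ Subgroup.centralizer (A : Set G) := by
    intro a ha
    rw [Subgroup.mem_centralizer_iff]
    intro y hy
    exact hAcomm y hy a ha
  -- `A` has rank at least two
  have hArank : ¬ Cfsg.RankLE 1 ↥A := by
    intro h
    have := h p hp A' hA'c hA'e
    have h2 : p ^ 1 ≤ p ^ 2 := Nat.pow_le_pow_right hp.pos (by norm_num)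
    omega
  -- a nonidentity element of `A`
  have hA₃ne : ∃ a ∈ A₃, a ≠ 1 := by
    by_contra hcon
    push Not at hcon
    have : A₃ = ⊥ := by
      rw [Subgroup.eq_bot_iff_forall]
      exact hcon
    rw [this, Subgroup.card_bot] at hA₃card
    have : 1 ≤ p ^ 2 := Nat.one_le_pow _ _ hp.pos
    omega
  obtain ⟨a₀, ha₀, ha₀1⟩ := hA₃ne
  -- a maximal subgroup containing `C(A)`
  have hCA : Subgroup.centralizer (A : Set G) ≠ ⊤ := by
    intro htop
    apply centralizer_singleton_ne_top_of_minSimple hG ha₀1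
    rw [eq_top_iff, ← htop]
    exact Subgroup.centralizer_le (Set.singleton_subset_iff.mpr (hA₃A ha₀))
  obtain ⟨M₁, hM₁, hCM₁⟩ := (eq_top_or_exists_le_coatom _).resolve_left hCA
  obtain ⟨S, hSM, hMS, hSnc, hSp, hSU⟩ := h1 hU M₁ hM₁ hCM₁
  -- the key dichotomy
  have key : ∀ b ∈ A, b ≠ 1 → Subgroup.centralizer ({b} : Set G) ≤ M₁ ∨
      S ⊓ Subgroup.centralizer ({b} : Set G) ≤ Subgroup.centralizer (A : Set G) := by
    intro b hb hb1
    by_cases hbM : Subgroup.centralizer ({b} : Set G) ≤ M₁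
    · exact Or.inl hbM
    right
    obtain ⟨M₂, hM₂, hbM₂⟩ := (eq_top_or_exists_le_coatom _).resolve_left
      (centralizer_singleton_ne_top_of_minSimple hG hb1)
    have hne : M₂ ≠ M₁ := fun h => hbM (h ▸ hbM₂)
    have hCM₂ : Subgroup.centralizer (A : Set G) ≤ M₂ :=
      (Subgroup.centralizer_le (Set.singleton_subset_iff.mpr hb)).trans hbM₂
    set Y : Subgroup G := S ⊓ M₂ with hY
    have hYc : IsCyclic Y := by
      by_contra hYnc
      obtain ⟨M, _, hMuniq⟩ := hSU Y inf_le_left hYnc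
      have e1 := hMuniq M₁ ⟨hM₁, inf_le_left.trans hSM⟩
      have e2 := hMuniq M₂ ⟨hM₂, inf_le_right⟩
      exact hne (e2.trans e1.symm)
    have hDN : M₁ ⊓ M₂ ≤ Subgroup.normalizer (Y : Set G) := by
      intro d hd
      have hdS := hMS hd.1
      rw [Subgroup.mem_normalizer_iff] at hdS ⊢
      intro x
      rw [hY, Subgroup.mem_inf, Subgroup.mem_inf, ← hdS x]
      constructor
      · rintro ⟨h1, h2⟩
        exact ⟨h1, M₂.mul_mem (M₂.mul_mem hd.2 h2) (M₂.inv_mem hd.2)⟩
      · rintro ⟨h1, h2⟩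
        refine ⟨h1, ?_⟩
        have : x = d⁻¹ * (d * x * d⁻¹) * d := by group
        rw [this]
        exact M₂.mul_mem (M₂.mul_mem (M₂.inv_mem hd.2) h2) hd.2
    have hAY : A ≤ Subgroup.centralizer (Y : Set G) :=
      (h4 hU M₁ M₂ hM₁ hM₂ hCM₁ hCM₂).trans
        ((Subgroup.commutator_mono hDN hDN).trans
          (commutator_normalizer_le_centralizer_of_isCyclic Y hYc))
    intro x hx
    have hxY : x ∈ Y := ⟨hx.1, hbM₂ hx.2⟩
    rw [Subgroup.mem_centralizer_iff]
    intro a ha
    exact ((Subgroup.mem_centralizer_iff.mp (hAY ha)) x hxY).symm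
  -- `A` does not centralize `S`
  have hSA : ¬ S ≤ Subgroup.centralizer (A : Set G) := by
    intro h
    apply hU
    refine Cfsg.Agent.S1399.result hG S A (hSU S le_rfl hSnc) ?_ hArank
    intro a ha
    rw [Subgroup.mem_centralizer_iff]
    intro y hy
    exact ((Subgroup.mem_centralizer_iff.mp (h hy)) a ha).symm
  -- a hyperplane of `A₃` with noncentral fixed points
  have hA₃S : A₃ ≤ Subgroup.normalizer (S : Set G) :=
    hA₃A.trans (hAleC.trans (hCM₁.trans hMS))
  obtain ⟨B, hBA₃, hBcard, hBD⟩ := Cfsg.Agent.Lib.Helper54.exists_hyperplane_centralizer A₃ S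
    (Subgroup.centralizer (A : Set G)) hA₃comm hA₃exp hSp hA₃S hSA
  have hBM₁ : B ≤ M₁ := hBA₃.trans (hA₃A.trans (hAleC.trans hCM₁))
  have hBe : Cfsg.IsElementaryAbelian p B := by
    refine ⟨⟨⟨fun x y => ?_⟩⟩, fun b hb => hA₃exp b (hBA₃ hb)⟩
    exact Subtype.ext (hA₃comm x.1 (hBA₃ x.2) y.1 (hBA₃ y.2))
  have hBnc : ¬ IsCyclic B := by
    intro hc
    have h1 : Nat.card B ≤ p := by
      refine card_le_of_isCyclic_of_forall_pow_eq_one hc hp.pos ?_
      intro x
      exact Subtype.ext (by simpa using hA₃exp x.1 (hBA₃ x.2))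
    have h2 : p * Nat.card B ≤ p * p := Nat.mul_le_mul_left p h1
    have h3 : p ^ 2 = p * p := sq p
    omega
  have hBcent : ∀ b ∈ B, b ≠ 1 → Subgroup.centralizer ({b} : Set G) ≤ M₁ := by
    intro b hb hb1
    rcases key b (hA₃A (hBA₃ hb)) hb1 with h | h
    · exact h
    · exfalso
      apply hBD
      refine le_trans ?_ h
      exact inf_le_inf_left S (Subgroup.centralizer_le (Set.singleton_subset_iff.mpr hb))
  have hBU : Cfsg.InUniqueMaximal B :=
    Cfsg.Agent.S1398.result hG M₁ hM₁ p B hBM₁ hBe hBnc (Or.inl hBcent)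
  apply hU
  refine Cfsg.Agent.S1399.result hG B A hBU ?_ hArank
  intro a ha
  rw [Subgroup.mem_centralizer_iff]
  intro y hy
  exact hAcomm y (hA₃A (hBA₃ hy)) a ha

end Cfsg.Agent.Lib.Helper21
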