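/-
helper21 shared library: Thompson's `A × B` lemma at subgroup level, and generation of
perfect groups by `p'`-elements.
All declarations live in `Cfsg.Agent.Lib.Helper21`.
-/
import Mathlib
import Cfsg.Prelude.Def_Local
import Cfsg.Agent.Lib.Helper49.CharP
import Cfsg.Agent.Lib.Helper47.Basic
import Cfsg.Agent.Lib.Helper21.Components

set_option autoImplicit false

namespace Cfsg.Agent.Lib.Helper21

open Cfsg
open scoped Pointwise commutatorElement

universe u

section PPrimeGeneration

/-- A finite perfect group is generated by its `p'`-elements. -/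
theorem pResidual_eq_top_of_isPerfect (p : ℕ) [Fact p.Prime] (X : Type*) [Group X] [Finite X]
    [hX : Group.IsPerfect X] : pResidual p X = ⊤ := by
  have hn : (pResidual p X).Normal := Cfsg.Agent.Lib.Helper47.pResidual_normal p X
  have hp : IsPGroup p (X ⧸ pResidual p X) :=
    Cfsg.Agent.Lib.Helper47.isPGroup_quotient_pResidual p X _ le_rfl
  have hnil : Group.IsNilpotent (X ⧸ pResidual p X) := hp.isNilpotent
  have hsolv : Group.IsSolvable (X ⧸ pResidual p X) := IsNilpotent.to_isSolvable
  have hsub : Subsingleton (X ⧸ pResidual p X) := by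
    by_contra hns
    rw [not_subsingleton_iff_nontrivial] at hns
    exact Group.IsPerfect.not_isSolvable (X ⧸ pResidual p X) hsolv
  rw [eq_top_iff]
  intro x _
  have : (QuotientGroup.mk' (pResidual p X)) x = 1 := Subsingleton.elim _ _
  exact (QuotientGroup.eq_one_iff x).mp this

variable {G : Type*} [Group G]

/-- `K` is generated by its `p'`-elements. -/
def IsPPrimeGenerated (p : ℕ) (K : Subgroup G) : Prop :=
  K ≤ Subgroup.closure {k : G | k ∈ K ∧ (orderOf k).Coprime p}

theorem isPPrimeGenerated_of_pResidual_eq_top {p : ℕ} {K : Subgroup G}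
    (h : pResidual p ↥K = ⊤) : IsPPrimeGenerated p K := by
  intro k hk
  have hk' : (⟨k, hk⟩ : K) ∈ pResidual p ↥K := by rw [h]; exact Subgroup.mem_top _
  unfold pResidual at hk'
  have : (Subgroup.closure {g : K | Nat.Coprime (orderOf g) p}).map K.subtype ≤
      Subgroup.closure {k : G | k ∈ K ∧ (orderOf k).Coprime p} := by
    rw [MonoidHom.map_closure]
    apply Subgroup.closure_mono
    rintro _ ⟨g, hg, rfl⟩
    refine ⟨g.2, ?_⟩
    have : orderOf ((K.subtype) g) = orderOf g := Subgroup.orderOf_coe g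
    rw [this]
    exact hg
  exact this ⟨⟨k, hk⟩, hk', rfl⟩

theorem isPPrimeGenerated_of_perfect {p : ℕ} [Fact p.Prime] [Finite G] {K : Subgroup G}
    (h : ⁅K, K⁆ = K) : IsPPrimeGenerated p K := by
  haveI : Group.IsPerfect K := Subgroup.isPerfect_iff.mpr h
  exact isPPrimeGenerated_of_pResidual_eq_top (pResidual_eq_top_of_isPerfect p K)

/-- A subgroup of order prime to `p` is generated by `p'`-elements. -/
theorem isPPrimeGenerated_of_coprime_card {p : ℕ} [Finite G] {K : Subgroup G}
    (h : (Nat.card K).Coprime p) : IsPPrimeGenerated p K := by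
  intro k hk
  apply Subgroup.subset_closure
  refine ⟨hk, ?_⟩
  have h1 : orderOf (⟨k, hk⟩ : K) ∣ Nat.card K := orderOf_dvd_natCard _
  have h2 : orderOf (⟨k, hk⟩ : K) = orderOf k := (Subgroup.orderOf_mk k hk)
  rw [h2] at h1
  exact Nat.Coprime.coprime_dvd_left h1 h

/-- Join of `p'`-generated subgroups is `p'`-generated. -/
theorem isPPrimeGenerated_sup {p : ℕ} {K₁ K₂ : Subgroup G} (h₁ : IsPPrimeGenerated p K₁)
    (h₂ : IsPPrimeGenerated p K₂) : IsPPrimeGenerated p (K₁ ⊔ K₂) := by
  unfold IsPPrimeGenerated at *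
  apply sup_le
  · refine h₁.trans (Subgroup.closure_mono ?_)
    rintro k ⟨hk, hc⟩
    exact ⟨Subgroup.mem_sup_left hk, hc⟩
  · refine h₂.trans (Subgroup.closure_mono ?_)
    rintro k ⟨hk, hc⟩
    exact ⟨Subgroup.mem_sup_right hk, hc⟩

end PPrimeGeneration

section AxB

variable {G : Type*} [Group G] [Finite G]

/-- Thompson's `A × B` lemma, subgroup form: `R` a `p`-subgroup, `P ≤ R`, `K` a subgroup generated
by `p'`-elements normalizing `R`, centralizing `P` and centralizing `C_R(P)`. Then `K` centralizes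
`R`. -/
theorem commutator_eq_bot_of_AxB {p : ℕ} [Fact p.Prime] {R P K : Subgroup G}
    (hR : IsPGroup p R) (hPR : P ≤ R) (hKR : K ≤ Subgroup.normalizer (R : Set G))
    (hKP : ⁅K, P⁆ = ⊥)
    (hKC : ∀ r ∈ R, (∀ q ∈ P, r * q = q * r) → ∀ k ∈ K, k * r = r * k)
    (hgen : IsPPrimeGenerated p K) : ⁅K, R⁆ = ⊥ := by
  rw [Subgroup.commutator_eq_bot_iff_le_centralizer]
  refine hgen.trans ?_
  rw [Subgroup.closure_le]
  rintro x ⟨hxK, hxc⟩
  have hPn : P ≤ Subgroup.normalizer (R : Set G) := hPR.trans Subgroup.le_normalizer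
  have key := Cfsg.Agent.Lib.Helper49.commute_of_AxB (T := R) (R := R) (Q := P) hR le_rfl hPR hPn
    (hKR hxK) hxc
    (fun q hq => (commutator_eq_bot_iff_commute.mp hKP) x hxK q hq)
    (fun r hr hrq => hKC r hr (fun q hq => (hrq q hq)) x hxK)
  intro r hr
  exact (key r hr).symm

end AxB

end Cfsg.Agent.Lib.Helper21
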