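/-
helper21 shared library: the layer of local subgroups (S1267, S1268, ...).
All declarations live in `Cfsg.Agent.Lib.Helper21`.
-/
import Mathlib
import Cfsg.Prelude.Def_Local
import Cfsg.Agent.Lib.Helper1.Fitting
import Cfsg.Agent.Lib.Helper21.GenFitting
import Cfsg.Agent.Lib.Helper21.AxB

set_option autoImplicit false

namespace Cfsg.Agent.Lib.Helper21

open Cfsg
open scoped Pointwise commutatorElement

universe u

section General

variable {G : Type*} [Group G]

/-- Subnormality in a bigger subgroup restricts to a smaller one. -/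
theorem subnormal_subgroupOf_of_le {A B C : Subgroup G} (hBC : B ≤ C)
    (h : (A.subgroupOf C).IsSubnormal) : (A.subgroupOf B).IsSubnormal := by
  have h1 := h.comap (Subgroup.inclusion hBC)
  have h2 : (A.subgroupOf C).comap (Subgroup.inclusion hBC) = A.subgroupOf B := by
    ext x
    simp [Subgroup.mem_subgroupOf]
  rwa [h2] at h1

/-- A subgroup of `K`, subnormal in `K`, contained in a subnormal subgroup `E` of `G` which lies
in `K`, is subnormal in `G`. -/
theorem subnormal_of_subnormal_subgroupOf {A E K : Subgroup G} (hAE : A ≤ E) (hEK : E ≤ K)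
    (hA : (A.subgroupOf K).IsSubnormal) (hE : E.IsSubnormal) : A.IsSubnormal :=
  Subgroup.IsSubnormal.trans hAE (subnormal_subgroupOf_of_le hEK hA) hE

theorem isSolvable_of_isPGroup {p : ℕ} [Fact p.Prime] [Finite G] {Q : Subgroup G}
    (hQ : IsPGroup p Q) : Group.IsSolvable Q := by
  have : Group.IsNilpotent Q := hQ.isNilpotent
  exact IsNilpotent.to_isSolvable

theorem isPGroup_pCore (p : ℕ) (G : Type*) [Group G] : IsPGroup p ↥(pCore p G) :=
  Cfsg.Agent.Lib.Helper47.pCore_isPGroup p G

/-- `p`-cores for distinct primes commute. -/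
theorem commutator_pCore_pCore_eq_bot {p r : ℕ} [hp : Fact p.Prime] [hr : Fact r.Prime]
    (hne : r ≠ p) : ⁅pCore r G, pCore p G⁆ = ⊥ := by
  have h1 : ⁅pCore r G, pCore p G⁆ ≤ pCore r G ⊓ pCore p G :=
    Subgroup.commutator_le_inf _ _
  have h2 : Disjoint (pCore r G) (pCore p G) :=
    IsPGroup.disjoint_of_ne r p hne _ _ (isPGroup_pCore r G) (isPGroup_pCore p G)
  rw [eq_bot_iff]
  exact h1.trans (disjoint_iff.mp h2).le

theorem inf_normalizer_le_normalizer_inf (A B : Subgroup G) :
    Subgroup.normalizer (A : Set G) ⊓ Subgroup.normalizer (B : Set G) ≤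
      Subgroup.normalizer ((A ⊓ B : Subgroup G) : Set G) := by
  intro n hn
  obtain ⟨hA, hB⟩ := Subgroup.mem_inf.mp hn
  rw [Subgroup.mem_normalizer_iff] at hA hB ⊢
  intro h
  rw [Subgroup.mem_inf, Subgroup.mem_inf, hA h, hB h]

end General

section Local

variable {G : Type u} [Group G] [Finite G]

/-- Transfer: a component `L` of a subgroup `N` commutes with a solvable subgroup `M ≤ N` of `G`
which `N` normalizes. -/
theorem component_subgroup_commutator_eq_bot {N M : Subgroup G} {L : Subgroup N}
    (hL : IsComponent L) (hMN : M ≤ N) (hnorm : N ≤ Subgroup.normalizer (M : Set G))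
    (hsolv : Group.IsSolvable M) : ⁅L.map N.subtype, M⁆ = ⊥ := by
  have hn : (M.subgroupOf N).Normal :=
    (Subgroup.normal_subgroupOf_iff_le_normalizer hMN).mpr hnorm
  have hs : Group.IsSolvable (M.subgroupOf N) :=
    Group.isSolvable_of_isSolvable_injective (f := (Subgroup.subgroupOfEquivOfLe hMN).toMonoidHom)
      (Subgroup.subgroupOfEquivOfLe hMN).injective
  have h1 : ⁅L, M.subgroupOf N⁆ = ⊥ := by
    apply component_commutator_solvable_eq_bot hL hs
    rw [Subgroup.normalizer_eq_top_iff.mpr hn]
    exact le_top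
  have h2 := congrArg (Subgroup.map N.subtype) h1
  rw [Subgroup.map_commutator, Subgroup.subgroupOf_map_subtype, Subgroup.map_bot,
    inf_of_le_left hMN] at h2
  exact h2

variable (p : ℕ) [Fact p.Prime]

theorem layer_le_centralizer_pCore : layer G ≤ Subgroup.centralizer (pCore p G : Set G) := by
  rw [← Subgroup.commutator_eq_bot_iff_le_centralizer]
  exact layer_commutator_solvable_normal_eq_bot (pCore_normal p G)
    (isSolvable_of_isPGroup (isPGroup_pCore p G))

/-- Key step: let `P ≤ O_p(G)` and `P C_G(P) ≤ N ≤ N_G(P)`. A component of `N` centralizes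
`F(G)`. -/
theorem component_local_commutator_fitting {P N : Subgroup G} (hP : P ≤ pCore p G)
    (hPN : P ≤ N) (hNP : N ≤ Subgroup.normalizer (P : Set G))
    (hCN : Subgroup.centralizer (P : Set G) ≤ N)
    {L : Subgroup N} (hL : IsComponent L) :
    ⁅L.map N.subtype, fittingSubgroup G⁆ = ⊥ := by
  set L' := L.map N.subtype with hL'
  set Q := pCore p G with hQ
  have hQn : Q.Normal := pCore_normal p G
  have hQp : IsPGroup p Q := isPGroup_pCore p G
  have hL'N : L' ≤ N := Subgroup.map_subtype_le L
  have hL'perf : ⁅L', L'⁆ = L' := by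
    have h1 : ⁅L, L⁆ = L := qs_commutator_eq_self hL.2
    rw [hL', ← Subgroup.map_commutator, h1]
  have hQtop : Subgroup.normalizer (Q : Set G) = ⊤ := Subgroup.normalizer_eq_top_iff.mpr hQn
  -- it suffices to treat each `O_r(G)`
  have key : ∀ r : Nat.Primes, ⁅L', pCore (r : ℕ) G⁆ = ⊥ := by
    intro r
    have : Fact (r : ℕ).Prime := ⟨r.2⟩
    by_cases hrp : (r : ℕ) = p
    · rw [hrp]
      -- Thompson's A × B lemma
      have hPsolv : Group.IsSolvable P := isSolvable_of_isPGroup (hQp.to_le hP)
      have hKP : ⁅L', P⁆ = ⊥ :=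
        component_subgroup_commutator_eq_bot hL hPN hNP hPsolv
      apply commutator_eq_bot_of_AxB (p := p) hQp hP
      · rw [hQtop]; exact le_top
      · exact hKP
      · -- `L'` centralizes `C_Q(P) ≤ Q ⊓ N`
        have hQN : ⁅L', Q ⊓ N⁆ = ⊥ := by
          apply component_subgroup_commutator_eq_bot hL inf_le_right
          · refine le_trans ?_ (inf_normalizer_le_normalizer_inf Q N)
            rw [hQtop]
            exact le_inf le_top Subgroup.le_normalizer
          · exact isSolvable_of_isPGroup (hQp.to_le inf_le_left)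
        intro r hr hrP k hk
        have hrN : r ∈ N := by
          apply hCN
          intro q hq
          exact (hrP q hq).symm
        exact (commutator_eq_bot_iff_commute.mp hQN) k hk r ⟨hr, hrN⟩
      · exact isPPrimeGenerated_of_perfect hL'perf
    · -- `O_r(G) ≤ C_G(O_p(G)) ≤ N`
      have h1 : pCore (r : ℕ) G ≤ Subgroup.centralizer (Q : Set G) := by
        rw [← Subgroup.commutator_eq_bot_iff_le_centralizer]
        exact commutator_pCore_pCore_eq_bot hrp
      have h2 : pCore (r : ℕ) G ≤ N := h1.trans ((Subgroup.centralizer_le hP).trans hCN)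
      apply component_subgroup_commutator_eq_bot hL h2
      · rw [Subgroup.normalizer_eq_top_iff.mpr (pCore_normal (r : ℕ) G)]; exact le_top
      · exact isSolvable_of_isPGroup (isPGroup_pCore (r : ℕ) G)
  rw [commutator_eq_bot_iff_le_centralizer', Cfsg.Agent.Lib.Helper1.fittingSubgroup_eq_iSup_pCore]
  apply iSup_le
  intro r
  rw [← commutator_eq_bot_iff_le_centralizer']
  exact key r

/-- Let `P ≤ O_p(G)` and `P C_G(P) ≤ N ≤ N_G(P)`. Every component of `N` is a component
of `G`. -/
theorem isComponent_of_isComponent_local {P N : Subgroup G} (hP : P ≤ pCore p G)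
    (hPN : P ≤ N) (hNP : N ≤ Subgroup.normalizer (P : Set G))
    (hCN : Subgroup.centralizer (P : Set G) ≤ N)
    {L : Subgroup N} (hL : IsComponent L) :
    IsComponent (L.map N.subtype) := by
  set L' := L.map N.subtype with hL'
  have hL'N : L' ≤ N := Subgroup.map_subtype_le L
  have hL'q : IsQuasisimple L' := Cfsg.Agent.Lib.Helper29.isQuasisimple_of_mulEquiv
    (Subgroup.equivMapOfInjective L N.subtype N.subtype_injective) hL.2
  have hL'sub : L'.subgroupOf N = L := by
    rw [hL', Subgroup.subgroupOf, Subgroup.comap_map_eq_self_of_injective N.subtype_injective]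
  set E := layer G with hE
  have hEn : E.Normal := Cfsg.Agent.Lib.Helper29.layer_normal G
  have hEN : E ≤ N :=
    (layer_le_centralizer_pCore p).trans ((Subgroup.centralizer_le hP).trans hCN)
  have hENn : (E.subgroupOf N).Normal := hEn.subgroupOf N
  rcases component_le_or_commutator_eq_bot_of_normal hL hENn with h1 | h1
  · -- `L' ≤ E`
    have hL'E : L' ≤ E := by
      rintro _ ⟨x, hx, rfl⟩
      have := h1 hx
      simpa [Subgroup.mem_subgroupOf] using this
    refine ⟨?_, hL'q⟩
    apply subnormal_of_subnormal_subgroupOf hL'E hEN _ hEn.isSubnormal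
    rw [hL'sub]
    exact hL.1
  · exfalso
    have h2 : ⁅L', E⁆ = ⊥ := by
      apply commutator_eq_bot_of_subgroupOf hL'N hEN
      rw [hL'sub]; exact h1
    have h3 : ⁅L', fittingSubgroup G⁆ = ⊥ :=
      component_local_commutator_fitting p hP hPN hNP hCN hL
    have h4 : L' ≤ Subgroup.centralizer (generalizedFittingSubgroup G : Set G) := by
      unfold generalizedFittingSubgroup
      rw [← Subgroup.commutator_eq_bot_iff_le_centralizer, Subgroup.commutator_comm]
      rw [Subgroup.commutator_comm] at h2 h3
      apply le_antisymm _ bot_le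
      have hbn : (⊥ : Subgroup G).Normal := Subgroup.normal_bot
      apply Cfsg.Agent.Lib.Helper71.commutator_sup_le
      · rw [h2]
      · rw [h3]
    have h5 : L' ≤ generalizedFittingSubgroup G := h4.trans centralizer_generalizedFittingSubgroup_le
    -- so `L'` is abelian
    have h6 : ⁅L', L'⁆ = ⊥ := by
      rw [Subgroup.commutator_eq_bot_iff_le_centralizer]
      exact h4.trans (Subgroup.centralizer_le h5)
    have h7 : ⁅L', L'⁆ = L' := qs_commutator_eq_self hL'q
    rw [h7] at h6
    have := qs_nontrivial hL'q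
    rw [h6] at this
    exact not_nontrivial _ this

/-- Let `P ≤ O_p(G)` and `P C_G(P) ≤ N ≤ N_G(P)`. Then `E(N) = E(G)`. -/
theorem layer_local_eq {P N : Subgroup G} (hP : P ≤ pCore p G)
    (hPN : P ≤ N) (hNP : N ≤ Subgroup.normalizer (P : Set G))
    (hCN : Subgroup.centralizer (P : Set G) ≤ N) :
    (layer ↥N).map N.subtype = layer G := by
  apply le_antisymm
  · unfold layer
    rw [Subgroup.map_le_iff_le_comap]
    apply sSup_le
    intro L hL
    rw [← Subgroup.map_le_iff_le_comap]
    exact le_sSup (isComponent_of_isComponent_local p hP hPN hNP hCN hL)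
  · have hEN : layer G ≤ N :=
      (layer_le_centralizer_pCore p).trans ((Subgroup.centralizer_le hP).trans hCN)
    conv_lhs => unfold layer
    apply sSup_le
    intro L hL
    have hLN : L ≤ N := (component_le_layer hL).trans hEN
    have h1 : L.subgroupOf N ≤ layer ↥N := component_le_layer (isComponent_subgroupOf hL hLN)
    intro x hx
    refine ⟨⟨x, hLN hx⟩, h1 ?_, rfl⟩
    simpa [Subgroup.mem_subgroupOf] using hx

/-- S1267: if `P ≤ O_p(G)` then `E(N_G(P)) = E(G)`. -/
theorem layer_normalizer_eq {P : Subgroup G} (hP : P ≤ pCore p G) :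
    (layer ↥(Subgroup.normalizer (P : Set G))).map (Subgroup.normalizer (P : Set G)).subtype =
      layer G :=
  layer_local_eq p hP Subgroup.le_normalizer le_rfl (Subgroup.centralizer_le_normalizer _)

end Local

end Cfsg.Agent.Lib.Helper21
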