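/-
helper21 shared library: `F*(G) = O_p(G)` is inherited by `p`-local subgroups (S1268),
and the `p`-layer preimage of a local subgroup centralizes `O_p(G)` (S1266).
All declarations live in `Cfsg.Agent.Lib.Helper21`.
-/
import Mathlib
import Cfsg.Prelude.Def_Local
import Cfsg.Agent.Lib.Helper21.LocalLayer

set_option autoImplicit false

namespace Cfsg.Agent.Lib.Helper21

open Cfsg
open scoped Pointwise commutatorElement

universe u

section AxBGeneral

variable {G : Type*} [Group G] [Finite G]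

/-- Thompson's `A × B` lemma, subgroup form with an ambient `p`-group `T ⊇ R, P`. -/
theorem commutator_eq_bot_of_AxB' {p : ℕ} [Fact p.Prime] {T R P K : Subgroup G}
    (hT : IsPGroup p T) (hRT : R ≤ T) (hPT : P ≤ T)
    (hPR : P ≤ Subgroup.normalizer (R : Set G)) (hKR : K ≤ Subgroup.normalizer (R : Set G))
    (hKP : ⁅K, P⁆ = ⊥)
    (hKC : ∀ r ∈ R, (∀ q ∈ P, r * q = q * r) → ∀ k ∈ K, k * r = r * k)
    (hgen : IsPPrimeGenerated p K) : ⁅K, R⁆ = ⊥ := by
  rw [Subgroup.commutator_eq_bot_iff_le_centralizer]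
  refine hgen.trans ?_
  rw [Subgroup.closure_le]
  rintro x ⟨hxK, hxc⟩
  have key := Cfsg.Agent.Lib.Helper49.commute_of_AxB (T := T) (R := R) (Q := P) hT hRT hPT hPR
    (hKR hxK) hxc
    (fun q hq => (commutator_eq_bot_iff_commute.mp hKP) x hxK q hq)
    (fun r hr hrq => hKC r hr (fun q hq => (hrq q hq)) x hxK)
  intro r hr
  exact (key r hr).symm

/-- Let `P` be a `p`-subgroup and `C_G(P) ≤ N ≤ N_G(P)`, `P ≤ N`. A `p'`-generated subgroup `X ≤ N`
commuting with every `p`-subgroup of `N` that `N` normalizes centralizes `O_p(G)`. -/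
theorem local_commutator_pCore_eq_bot {p : ℕ} [Fact p.Prime] {P N X : Subgroup G}
    (hPp : IsPGroup p P) (hPN : P ≤ N) (hNP : N ≤ Subgroup.normalizer (P : Set G))
    (hCN : Subgroup.centralizer (P : Set G) ≤ N)
    (hX : ∀ M : Subgroup G, M ≤ N → N ≤ Subgroup.normalizer (M : Set G) → IsPGroup p M →
      ⁅X, M⁆ = ⊥)
    (hgen : IsPPrimeGenerated p X) : ⁅X, pCore p G⁆ = ⊥ := by
  set Q := pCore p G with hQ
  have hQn : Q.Normal := pCore_normal p G
  have hQp : IsPGroup p Q := isPGroup_pCore p G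
  have hQtop : Subgroup.normalizer (Q : Set G) = ⊤ := Subgroup.normalizer_eq_top_iff.mpr hQn
  have hT : IsPGroup p (Q ⊔ P : Subgroup G) := IsPGroup.to_sup_of_normal_left hQp hPp
  apply commutator_eq_bot_of_AxB' (p := p) hT le_sup_left le_sup_right
  · rw [hQtop]; exact le_top
  · rw [hQtop]; exact le_top
  · exact hX P hPN hNP hPp
  · have hQN : ⁅X, Q ⊓ N⁆ = ⊥ := by
      apply hX _ inf_le_right
      · refine le_trans ?_ (inf_normalizer_le_normalizer_inf Q N)
        rw [hQtop]
        exact le_inf le_top Subgroup.le_normalizer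
      · exact hQp.to_le inf_le_left
    intro r hr hrP k hk
    have hrN : r ∈ N := by
      apply hCN
      intro q hq
      exact (hrP q hq).symm
    exact (commutator_eq_bot_iff_commute.mp hQN) k hk r ⟨hr, hrN⟩
  · exact hgen

end AxBGeneral


section FStarLocal

variable {G : Type u} [Group G] [Finite G] (p : ℕ) [Fact p.Prime]

omit [Fact p.Prime] in
/-- If `F*(G) = O_p(G)` then `C_G(O_p(G)) ≤ O_p(G)`. -/
theorem centralizer_pCore_le_of_gfs_eq (h : generalizedFittingSubgroup G = pCore p G) :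
    Subgroup.centralizer (pCore p G : Set G) ≤ pCore p G := by
  have := centralizer_generalizedFittingSubgroup_le (G := G)
  rwa [h] at this

/-- Assume `F*(G) = O_p(G)`, `P` a `p`-subgroup, `P C_G(P) ≤ N ≤ N_G(P)`.
Then `N` has no components. -/
theorem layer_local_eq_bot_of_gfs_eq (h : generalizedFittingSubgroup G = pCore p G)
    {P N : Subgroup G} (hPp : IsPGroup p P) (hPN : P ≤ N)
    (hNP : N ≤ Subgroup.normalizer (P : Set G))
    (hCN : Subgroup.centralizer (P : Set G) ≤ N) : layer ↥N = ⊥ := by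
  unfold layer
  rw [sSup_eq_bot]
  intro L hL
  exfalso
  set L' := L.map N.subtype with hL'
  have hL'q : IsQuasisimple L' := Cfsg.Agent.Lib.Helper29.isQuasisimple_of_mulEquiv
    (Subgroup.equivMapOfInjective L N.subtype N.subtype_injective) hL.2
  have hL'perf : ⁅L', L'⁆ = L' := qs_commutator_eq_self hL'q
  have h1 : ⁅L', pCore p G⁆ = ⊥ := by
    apply local_commutator_pCore_eq_bot hPp hPN hNP hCN
    · intro M hMN hNM hMp
      exact component_subgroup_commutator_eq_bot hL hMN hNM (isSolvable_of_isPGroup hMp)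
    · exact isPPrimeGenerated_of_perfect hL'perf
  have h2 : L' ≤ pCore p G := by
    rw [Subgroup.commutator_eq_bot_iff_le_centralizer] at h1
    exact h1.trans (centralizer_pCore_le_of_gfs_eq p h)
  exact qs_not_le_solvable hL'q (isSolvable_of_isPGroup (isPGroup_pCore p G)) h2

/-- Assume `F*(G) = O_p(G)`, `P` a `p`-subgroup, `P C_G(P) ≤ N ≤ N_G(P)`.
Then `O_r(N) = 1` for primes `r ≠ p`. -/
theorem pCore_local_eq_bot_of_gfs_eq (h : generalizedFittingSubgroup G = pCore p G)
    {P N : Subgroup G} (hPp : IsPGroup p P) (hPN : P ≤ N)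
    (hNP : N ≤ Subgroup.normalizer (P : Set G))
    (hCN : Subgroup.centralizer (P : Set G) ≤ N) (r : ℕ) [Fact r.Prime] (hr : r ≠ p) :
    pCore r ↥N = ⊥ := by
  set X := (pCore r ↥N).map N.subtype with hX
  have hXr : IsPGroup r X := (isPGroup_pCore r ↥N).map _
  have hXN : X ≤ N := Subgroup.map_subtype_le _
  have hXsub : X.subgroupOf N = pCore r ↥N := by
    rw [hX, Subgroup.subgroupOf, Subgroup.comap_map_eq_self_of_injective N.subtype_injective]
  have hcard : (Nat.card X).Coprime p := by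
    obtain ⟨n, hn⟩ := IsPGroup.iff_card.mp hXr
    rw [hn]
    apply Nat.Coprime.pow_left
    exact (Nat.coprime_primes (Fact.out : r.Prime) (Fact.out : p.Prime)).mpr hr
  have h1 : ⁅X, pCore p G⁆ = ⊥ := by
    apply local_commutator_pCore_eq_bot hPp hPN hNP hCN
    · intro M hMN hNM hMp
      have hMn : (M.subgroupOf N).Normal :=
        (Subgroup.normal_subgroupOf_iff_le_normalizer hMN).mpr hNM
      have hMp' : IsPGroup p (M.subgroupOf N) :=
        hMp.of_equiv (Subgroup.subgroupOfEquivOfLe hMN).symm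
      have h2 : ⁅pCore r ↥N, M.subgroupOf N⁆ = ⊥ := by
        have h3 : ⁅pCore r ↥N, M.subgroupOf N⁆ ≤ pCore r ↥N ⊓ M.subgroupOf N :=
          Subgroup.commutator_le_inf _ _
        have h4 : Disjoint (pCore r ↥N) (M.subgroupOf N) :=
          IsPGroup.disjoint_of_ne r p hr _ _ (isPGroup_pCore r ↥N) hMp'
        rw [eq_bot_iff]
        exact h3.trans (disjoint_iff.mp h4).le
      apply commutator_eq_bot_of_subgroupOf hXN hMN
      rw [hXsub]
      exact h2
    · exact isPPrimeGenerated_of_coprime_card hcard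
  have h2 : X ≤ pCore p G := by
    rw [Subgroup.commutator_eq_bot_iff_le_centralizer] at h1
    exact h1.trans (centralizer_pCore_le_of_gfs_eq p h)
  have h3 : X = ⊥ := by
    have hXp : IsPGroup p X := (isPGroup_pCore p G).to_le h2
    have hd : Disjoint X X := IsPGroup.disjoint_of_ne r p hr _ _ hXr hXp
    exact disjoint_self.mp hd
  exact (Subgroup.map_eq_bot_iff_of_injective _ N.subtype_injective).mp h3

/-- Assume `F*(G) = O_p(G)`, `P` a `p`-subgroup, `P C_G(P) ≤ N ≤ N_G(P)`.
Then `F*(N) = O_p(N)`. -/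
theorem gfs_local_eq_pCore_of_gfs_eq (h : generalizedFittingSubgroup G = pCore p G)
    {P N : Subgroup G} (hPp : IsPGroup p P) (hPN : P ≤ N)
    (hNP : N ≤ Subgroup.normalizer (P : Set G))
    (hCN : Subgroup.centralizer (P : Set G) ≤ N) :
    generalizedFittingSubgroup ↥N = pCore p ↥N := by
  unfold generalizedFittingSubgroup
  rw [layer_local_eq_bot_of_gfs_eq p h hPp hPN hNP hCN, bot_sup_eq,
    Cfsg.Agent.Lib.Helper1.fittingSubgroup_eq_iSup_pCore]
  apply le_antisymm
  · apply iSup_le
    intro r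
    have : Fact (r : ℕ).Prime := ⟨r.2⟩
    by_cases hr : (r : ℕ) = p
    · rw [hr]
    · rw [pCore_local_eq_bot_of_gfs_eq p h hPp hPN hNP hCN (r : ℕ) hr]
      exact bot_le
  · exact le_iSup (fun r : Nat.Primes => pCore (r : ℕ) ↥N) ⟨p, Fact.out⟩

/-- S1268. -/
theorem gfs_normalizer_eq_pCore_of_gfs_eq (h : generalizedFittingSubgroup G = pCore p G)
    (P : Subgroup G) (hP : IsPGroup p P) :
    generalizedFittingSubgroup ↥(Subgroup.normalizer (P : Set G)) =
      pCore p ↥(Subgroup.normalizer (P : Set G)) :=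
  gfs_local_eq_pCore_of_gfs_eq p h hP Subgroup.le_normalizer le_rfl
    (Subgroup.centralizer_le_normalizer _)

end FStarLocal

end Cfsg.Agent.Lib.Helper21
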