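/-
helper21 shared library: the preimage of `E(N / O_{p'}(N))` in a `p`-local subgroup `N`
centralizes `O_p(G)` (S1266).
All declarations live in `Cfsg.Agent.Lib.Helper21`.
-/
import Mathlib
import Cfsg.Prelude.Def_Local
import Cfsg.Agent.Lib.Helper21.LocalFStar

set_option autoImplicit false

namespace Cfsg.Agent.Lib.Helper21

open Cfsg
open scoped Pointwise commutatorElement

universe u

section LayerPerfect

variable {G : Type*} [Group G]

/-- The layer is perfect. -/
theorem layer_commutator_eq_self : ⁅layer G, layer G⁆ = layer G := by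
  apply le_antisymm (Subgroup.commutator_le_self _)
  conv_lhs => unfold layer
  apply sSup_le
  intro L hL
  have h1 : ⁅L, L⁆ = L := qs_commutator_eq_self hL.2
  rw [← h1]
  exact Subgroup.commutator_mono (le_sSup hL) (le_sSup hL)

theorem layer_isPerfect : Group.IsPerfect (layer G) :=
  Subgroup.isPerfect_iff.mpr layer_commutator_eq_self

end LayerPerfect

section PPrime

/-- If `O'` is a normal `p'`-subgroup of the finite group `Y` with `Y ⧸ O'` perfect, then `Y` is
generated by its `p'`-elements. -/
theorem pResidual_eq_top_of_perfect_quotient (p : ℕ) [Fact p.Prime] {Y : Type*} [Group Y]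
    [Finite Y] (O' : Subgroup Y) [O'.Normal] (hO : (Nat.card O').Coprime p)
    (hperf : Group.IsPerfect (Y ⧸ O')) : pResidual p Y = ⊤ := by
  have hn : (pResidual p Y).Normal := Cfsg.Agent.Lib.Helper47.pResidual_normal p Y
  have hO' : O' ≤ pResidual p Y := by
    intro x hx
    apply Cfsg.Agent.Lib.Helper47.mem_pResidual_of_coprime
    have h1 : orderOf (⟨x, hx⟩ : O') ∣ Nat.card O' := orderOf_dvd_natCard _
    have h2 : orderOf (⟨x, hx⟩ : O') = orderOf x := Subgroup.orderOf_mk x hx
    rw [h2] at h1
    exact Nat.Coprime.coprime_dvd_left h1 hO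
  have hp : IsPGroup p (Y ⧸ pResidual p Y) :=
    Cfsg.Agent.Lib.Helper47.isPGroup_quotient_pResidual p Y _ le_rfl
  -- the quotient by `pResidual` is a quotient of `Y ⧸ O'`, hence perfect
  have hperf' : Group.IsPerfect (Y ⧸ pResidual p Y) := by
    let f : Y ⧸ O' →* Y ⧸ pResidual p Y :=
      QuotientGroup.map O' (pResidual p Y) (MonoidHom.id Y) (by simpa using hO')
    have hf : Function.Surjective f := by
      intro y
      obtain ⟨x, rfl⟩ := QuotientGroup.mk_surjective y
      exact ⟨QuotientGroup.mk x, rfl⟩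
    exact Group.IsPerfect.ofSurjective hf
  have hnil : Group.IsNilpotent (Y ⧸ pResidual p Y) := hp.isNilpotent
  have hsolv : Group.IsSolvable (Y ⧸ pResidual p Y) := IsNilpotent.to_isSolvable
  have hsub : Subsingleton (Y ⧸ pResidual p Y) := by
    by_contra hns
    rw [not_subsingleton_iff_nontrivial] at hns
    exact Group.IsPerfect.not_isSolvable (Y ⧸ pResidual p Y) hsolv
  rw [eq_top_iff]
  intro x _
  have : (QuotientGroup.mk' (pResidual p Y)) x = 1 := Subsingleton.elim _ _
  exact (QuotientGroup.eq_one_iff x).mp this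

variable {G : Type*} [Group G]

/-- `p'`-generation is preserved by injective maps. -/
theorem isPPrimeGenerated_map {p : ℕ} {G' : Type*} [Group G'] (f : G →* G')
    (hf : Function.Injective f) {K : Subgroup G} (h : IsPPrimeGenerated p K) :
    IsPPrimeGenerated p (K.map f) := by
  unfold IsPPrimeGenerated at *
  refine (Subgroup.map_mono h).trans ?_
  rw [MonoidHom.map_closure]
  apply Subgroup.closure_mono
  rintro _ ⟨k, ⟨hk, hc⟩, rfl⟩
  refine ⟨⟨k, hk, rfl⟩, ?_⟩
  rw [orderOf_injective f hf k]
  exact hc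

end PPrime

section Preimage

variable {N : Type u} [Group N] [Finite N] (p : ℕ) [Fact p.Prime]

/-- The preimage in `N` of `E(N / O_{p'}(N))`. -/
abbrev pLayerPreimage (N : Type u) [Group N] (p : ℕ) : Subgroup N :=
  (layer (N ⧸ pPrimeCore p N)).comap (QuotientGroup.mk' (pPrimeCore p N))

omit [Finite N] [Fact p.Prime] in
theorem pPrimeCore_le_pLayerPreimage : pPrimeCore p N ≤ pLayerPreimage N p := by
  intro x hx
  rw [Subgroup.mem_comap]
  have : (QuotientGroup.mk' (pPrimeCore p N)) x = 1 := (QuotientGroup.eq_one_iff x).mpr hx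
  rw [this]
  exact Subgroup.one_mem _

/-- The preimage of `E(N / O_{p'}(N))` is generated by `p'`-elements. -/
theorem isPPrimeGenerated_pLayerPreimage : IsPPrimeGenerated p (pLayerPreimage N p) := by
  set O := pPrimeCore p N with hO
  set K := pLayerPreimage N p with hK
  set E := layer (N ⧸ O) with hE
  apply isPPrimeGenerated_of_pResidual_eq_top
  have hOK : O ≤ K := pPrimeCore_le_pLayerPreimage p
  have hOcard : (Nat.card O).Coprime p := Cfsg.Agent.Lib.Helper1.pPrimeCore_card_coprime p
  have hOn : (O.subgroupOf K).Normal := (pPrimeCore_normal p N).subgroupOf K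
  have hcard' : (Nat.card (O.subgroupOf K)).Coprime p := by
    have : Nat.card (O.subgroupOf K) = Nat.card O :=
      Nat.card_congr (Subgroup.subgroupOfEquivOfLe hOK).toEquiv
    rw [this]; exact hOcard
  apply pResidual_eq_top_of_perfect_quotient p (O.subgroupOf K) hcard'
  -- `K ⧸ (O ⊓ K) ≃* E` is perfect
  let φ : ↥K →* ↥E :=
    ((QuotientGroup.mk' O).comp K.subtype).codRestrict E (fun x => x.2)
  have hφ : Function.Surjective φ := by
    rintro ⟨y, hy⟩
    obtain ⟨x, rfl⟩ := QuotientGroup.mk'_surjective O y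
    exact ⟨⟨x, hy⟩, rfl⟩
  have hker : φ.ker = O.subgroupOf K := by
    ext x
    rw [MonoidHom.mem_ker, Subgroup.mem_subgroupOf]
    constructor
    · intro h
      have := congrArg Subtype.val h
      simp only [φ, Subgroup.coe_one] at this
      exact (QuotientGroup.eq_one_iff _).mp this
    · intro h
      apply Subtype.ext
      simp only [φ, Subgroup.coe_one]
      exact (QuotientGroup.eq_one_iff _).mpr h
  have e1 : ↥K ⧸ φ.ker ≃* ↥E := QuotientGroup.quotientKerEquivOfSurjective φ hφ
  have e2 : ↥K ⧸ O.subgroupOf K ≃* ↥K ⧸ φ.ker := QuotientGroup.quotientMulEquivOfEq hker.symm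
  have hEperf : Group.IsPerfect ↥E := layer_isPerfect
  exact Cfsg.Agent.Lib.Helper29.isPerfect_of_mulEquiv (e2.trans e1).symm hEperf

/-- The preimage of `E(N / O_{p'}(N))` commutes with every normal `p`-subgroup of `N`. -/
theorem pLayerPreimage_commutator_eq_bot {M : Subgroup N} (hMn : M.Normal) (hMp : IsPGroup p M) :
    ⁅pLayerPreimage N p, M⁆ = ⊥ := by
  set O := pPrimeCore p N with hO
  set K := pLayerPreimage N p with hK
  have hOn : O.Normal := pPrimeCore_normal p N
  have hKn : K.Normal := (Cfsg.Agent.Lib.Helper29.layer_normal (N ⧸ O)).comap _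
  have hOcard : (Nat.card O).Coprime p := Cfsg.Agent.Lib.Helper1.pPrimeCore_card_coprime p
  -- the image of `M` is a solvable normal subgroup of `N ⧸ O`
  have hMbar_n : (M.map (QuotientGroup.mk' O)).Normal :=
    hMn.map _ (QuotientGroup.mk'_surjective O)
  have hMbar_s : Group.IsSolvable (M.map (QuotientGroup.mk' O)) :=
    isSolvable_of_isPGroup (hMp.map _)
  have h1 : ⁅layer (N ⧸ O), M.map (QuotientGroup.mk' O)⁆ = ⊥ :=
    layer_commutator_solvable_normal_eq_bot hMbar_n hMbar_s
  have h2 : (⁅K, M⁆).map (QuotientGroup.mk' O) = ⊥ := by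
    rw [Subgroup.map_commutator, eq_bot_iff, ← h1]
    apply Subgroup.commutator_mono _ le_rfl
    exact Subgroup.map_comap_le _ _
  have h3 : ⁅K, M⁆ ≤ O := by
    have := (Subgroup.map_eq_bot_iff _).mp h2
    rwa [QuotientGroup.ker_mk'] at this
  have h4 : ⁅K, M⁆ ≤ M := Subgroup.commutator_le_right K M
  rw [eq_bot_iff]
  intro x hx
  rw [Subgroup.mem_bot]
  have hxO := h3 hx
  have hxM := h4 hx
  obtain ⟨k, hk⟩ := hMp ⟨x, hxM⟩
  have hk' : x ^ p ^ k = 1 := by simpa using congrArg Subtype.val hk
  have h5 : orderOf x ∣ p ^ k := orderOf_dvd_of_pow_eq_one hk'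
  have h6 : orderOf x ∣ Nat.card O := by
    have h1 : orderOf (⟨x, hxO⟩ : O) ∣ Nat.card O := orderOf_dvd_natCard _
    rwa [Subgroup.orderOf_mk] at h1
  have h7 : Nat.Coprime (Nat.card O) (p ^ k) := Nat.Coprime.pow_right k hOcard
  have h8 : orderOf x = 1 := Nat.eq_one_of_dvd_coprimes h7 h6 h5
  exact orderOf_eq_one_iff.mp h8

end Preimage

section S1266

variable {G : Type u} [Group G] [Finite G] (p : ℕ) [Fact p.Prime]

/-- S1266 (general local form). -/
theorem map_pLayerPreimage_le_centralizer_pCore {P N : Subgroup G} (hPp : IsPGroup p P)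
    (hPN : P ≤ N) (hNP : N ≤ Subgroup.normalizer (P : Set G))
    (hCN : Subgroup.centralizer (P : Set G) ≤ N) :
    (pLayerPreimage ↥N p).map N.subtype ≤ Subgroup.centralizer (pCore p G : Set G) := by
  rw [← Subgroup.commutator_eq_bot_iff_le_centralizer]
  apply local_commutator_pCore_eq_bot hPp hPN hNP hCN
  · intro M hMN hNM hMp
    have hMn : (M.subgroupOf N).Normal :=
      (Subgroup.normal_subgroupOf_iff_le_normalizer hMN).mpr hNM
    have hMp' : IsPGroup p (M.subgroupOf N) :=
      hMp.of_equiv (Subgroup.subgroupOfEquivOfLe hMN).symm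
    have h1 := pLayerPreimage_commutator_eq_bot p hMn hMp'
    have h2 := congrArg (Subgroup.map N.subtype) h1
    rw [Subgroup.map_commutator, Subgroup.subgroupOf_map_subtype, Subgroup.map_bot,
      inf_of_le_left hMN] at h2
    exact h2
  · exact isPPrimeGenerated_map N.subtype N.subtype_injective (isPPrimeGenerated_pLayerPreimage p)

end S1266

end Cfsg.Agent.Lib.Helper21
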