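/-
helper21 shared library: Bender's lemma on maximal subgroups (S1247). `F = F*(H)`, `S` subnormal
in `H` with `S ≤ F` and `C_F(S) ≤ S`; an `r`-subgroup `X` of `H` normalized by `S` centralizes every
`r'`-element of `F`.
All declarations live in `Cfsg.Agent.Lib.Helper21`.
-/
import Mathlib
import Cfsg.Prelude.Def_Local
import Cfsg.Agent.Lib.Helper21.GenFitting
import Cfsg.Agent.Lib.Helper21.AxB
import Cfsg.Agent.Lib.Helper21.PLayerPreimage
import Cfsg.Agent.Lib.Helper24.Thompson
import Cfsg.Agent.Lib.Helper24.FittingStructure2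
import Cfsg.Agent.Lib.Helper49.CommNorm
import Cfsg.Agent.Lib.Helper65.NilpBasic

set_option autoImplicit false

namespace Cfsg.Agent.Lib.Helper21

open Cfsg
open Cfsg.Agent.Lib.Helper24 (pCoreCompl)
open scoped Pointwise commutatorElement

universe u

section BenderChain

variable {H : Type*} [Group H]

/-- Induction along a subnormal chain: if `s ∈ K`, `K` subnormal, `s` normalizes `X`, the orders of
the elements of `X` are coprime to the order of `s`, and `s` centralizes `X ∩ K`, then `s`
centralizes `X`. -/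
theorem commute_of_isSubnormal_of_coprime {K : Subgroup H} (hK : K.IsSubnormal) :
    ∀ s ∈ K, ∀ X : Subgroup H, s ∈ Subgroup.normalizer (X : Set H) →
      (∀ x ∈ X, (orderOf s).Coprime (orderOf x)) →
      (∀ x ∈ X ⊓ K, Commute s x) → ∀ x ∈ X, Commute s x := by
  induction hK with
  | top =>
    intro s _ X _ _ h x hx
    exact h x ⟨hx, Subgroup.mem_top _⟩
  | step K L hKL hL hN ih =>
    intro s hs X hsN hcop hcomm
    apply ih s (hKL hs) X hsN hcop
    rintro x ⟨hxX, hxL⟩
    have hzX : x⁻¹ * (s * x * s⁻¹) ∈ X :=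
      X.mul_mem (X.inv_mem hxX) ((Subgroup.mem_normalizer_iff.mp hsN x).mp hxX)
    have hzK : x⁻¹ * (s * x * s⁻¹) ∈ K := by
      have h1 := hN.conj_mem ⟨s, hKL hs⟩ (Subgroup.mem_subgroupOf.mpr hs) ⟨x⁻¹, L.inv_mem hxL⟩
      rw [Subgroup.mem_subgroupOf] at h1
      have h2 : x⁻¹ * (s * x * s⁻¹) = (x⁻¹ * s * x⁻¹⁻¹) * s⁻¹ := by group
      rw [h2]
      exact K.mul_mem h1 (K.inv_mem hs)
    have hc : Commute s (x⁻¹ * (s * x * s⁻¹)) := hcomm _ ⟨hzX, hzK⟩
    exact Cfsg.Agent.Lib.Helper24.commute_of_comm_commute_of_coprime s x hc.eq (hcop _ hzX)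

/-- If `c` commutes with `f ^ n` and `f ^ m`, `n` and `m` coprime, then `c` commutes with `f`. -/
theorem commute_of_commute_pow_of_coprime {c f : H} {n m : ℕ} (hnm : n.Coprime m)
    (hn : Commute c (f ^ n)) (hm : Commute c (f ^ m)) : Commute c f := by
  have h1 : IsCoprime (n : ℤ) (m : ℤ) := Nat.isCoprime_iff_coprime.mpr hnm
  obtain ⟨u, v, huv⟩ := h1
  have h2 : f = (f ^ n) ^ u * (f ^ m) ^ v := by
    rw [← zpow_natCast, ← zpow_natCast, ← zpow_mul, ← zpow_mul, ← zpow_add, mul_comm (n : ℤ),
      mul_comm (m : ℤ), huv, zpow_one]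
  rw [h2]
  exact (hn.zpow_right u).mul_right (hm.zpow_right v)

end BenderChain

section BenderLocal

variable {H : Type u} [Group H] [Finite H]

/-- An `r'`-element of `F*(H)` lies in `E(H) O_{r'}(F(H))`. -/
theorem mem_layer_sup_pCoreCompl_of_coprime (r : ℕ) [Fact r.Prime] {y : H}
    (hy : y ∈ generalizedFittingSubgroup H) (hcop : (orderOf y).Coprime r) :
    y ∈ layer H ⊔ pCoreCompl r H := by
  have hLn : (layer H).Normal := Cfsg.Agent.Lib.Helper29.layer_normal H
  have hMn : (layer H ⊔ pCoreCompl r H).Normal := inferInstance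
  have hle : generalizedFittingSubgroup H ≤ (layer H ⊔ pCoreCompl r H) ⊔ pCore r H := by
    unfold generalizedFittingSubgroup
    refine sup_le (le_sup_left.trans le_sup_left) ?_
    refine (Cfsg.Agent.Lib.Helper24.fittingSubgroup_le_sup r).trans ?_
    exact sup_le le_sup_right (le_sup_right.trans le_sup_left)
  apply Cfsg.Agent.Lib.Helper49.mem_of_mem_sup_of_coprime_orderOf (isPGroup_pCore r H) _ (hle hy) hcop
  rw [Subgroup.normalizer_eq_top]
  exact le_top

/-- `E(H) O_{r'}(F(H))` centralizes `O_r(H)`. -/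
theorem layer_sup_pCoreCompl_le_centralizer_pCore (r : ℕ) [Fact r.Prime] :
    layer H ⊔ pCoreCompl r H ≤ Subgroup.centralizer (pCore r H : Set H) := by
  refine sup_le ?_ (Cfsg.Agent.Lib.Helper24.pCoreCompl_le_centralizer_pCore r)
  have h1 : ⁅layer H, fittingSubgroup H⁆ = ⊥ := layer_commutator_fittingSubgroup_eq_bot
  rw [Subgroup.commutator_eq_bot_iff_le_centralizer] at h1
  exact h1.trans (Subgroup.centralizer_le
    (SetLike.coe_subset_coe.mpr (Cfsg.Agent.Lib.Helper24.pCore_le_fittingSubgroup r)))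

/-- A subnormal subgroup `S ≤ F*(H)` with `C_{F*(H)}(S) ≤ S` contains the layer. -/
theorem layer_le_of_isSubnormal_of_centralizer_le {S : Subgroup H} (hS : S.IsSubnormal)
    (hC : generalizedFittingSubgroup H ⊓ Subgroup.centralizer (S : Set H) ≤ S) :
    layer H ≤ S := by
  apply sSup_le
  intro K hK
  rcases component_le_or_commutator_eq_bot hK hS with h | h
  · exact h
  · rw [Subgroup.commutator_eq_bot_iff_le_centralizer] at h
    exact (le_inf ((component_le_layer hK).trans le_sup_left) h).trans hC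

/-- A subnormal `r`-subgroup lies in `O_r(H)`. -/
theorem le_pCore_of_isSubnormal_of_isPGroup (r : ℕ) [Fact r.Prime] {Q : Subgroup H}
    (hQ : Q.IsSubnormal) (hQr : IsPGroup r Q) : Q ≤ pCore r H :=
  Cfsg.Agent.Lib.Helper24.le_pCore_of_le_fittingSubgroup r Q hQr
    (subnormal_nilpotent_le_fitting hQ hQr.isNilpotent)

/-- Step (D): every `r'`-element of `S` centralizes the `S`-invariant `r`-subgroup `X`. -/
theorem commute_of_mem_of_isSubnormal_of_le_generalizedFittingSubgroup (r : ℕ) [Fact r.Prime]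
    {S X : Subgroup H} (hS : S.IsSubnormal) (hSF : S ≤ generalizedFittingSubgroup H)
    (hX : IsPGroup r X) (hSX : S ≤ Subgroup.normalizer (X : Set H)) {s : H} (hs : s ∈ S)
    (hsr : (orderOf s).Coprime r) : ∀ x ∈ X, Commute s x := by
  apply commute_of_isSubnormal_of_coprime hS s hs X (hSX hs)
  · intro x hx
    obtain ⟨k, hk⟩ := hX ⟨x, hx⟩
    have hk' : x ^ r ^ k = 1 := by simpa using congrArg Subtype.val hk
    obtain ⟨j, -, hj⟩ := (Nat.dvd_prime_pow (Fact.out : r.Prime)).mp (orderOf_dvd_of_pow_eq_one hk')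
    rw [hj]
    exact Nat.Coprime.pow_right j hsr
  · have hn : ((X ⊓ S).subgroupOf S).Normal := by
      apply Subgroup.normal_subgroupOf_of_le_normalizer
      intro t ht
      rw [Subgroup.mem_normalizer_iff]
      intro x
      have h1 := Subgroup.mem_normalizer_iff.mp (hSX ht) x
      have h2 := Subgroup.mem_normalizer_iff.mp (Subgroup.le_normalizer ht) x
      rw [Subgroup.mem_inf, Subgroup.mem_inf, h1, h2]
    have hsub : (X ⊓ S).IsSubnormal := Subgroup.IsSubnormal.trans inf_le_right hn.isSubnormal hS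
    have hle := le_pCore_of_isSubnormal_of_isPGroup r hsub (hX.to_le inf_le_left)
    have hsM := layer_sup_pCoreCompl_le_centralizer_pCore r
      (mem_layer_sup_pCoreCompl_of_coprime r (hSF hs) hsr)
    intro x hx
    exact ((Subgroup.mem_centralizer_iff.mp hsM) x (hle hx)).symm

/-- Step (E): `E(H) O_{r'}(F(H))` centralizes the `S`-invariant `r`-subgroup `X`. -/
theorem layer_sup_pCoreCompl_le_centralizer_of_isPGroup (r : ℕ) [Fact r.Prime]
    {S X : Subgroup H} (hS : S.IsSubnormal) (hSF : S ≤ generalizedFittingSubgroup H)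
    (hC : generalizedFittingSubgroup H ⊓ Subgroup.centralizer (S : Set H) ≤ S)
    (hX : IsPGroup r X) (hSX : S ≤ Subgroup.normalizer (X : Set H)) :
    layer H ⊔ pCoreCompl r H ≤ Subgroup.centralizer (X : Set H) := by
  have hD : ∀ s ∈ S, (orderOf s).Coprime r → ∀ x ∈ X, Commute s x := fun s hs hsr =>
    commute_of_mem_of_isSubnormal_of_le_generalizedFittingSubgroup r hS hSF hX hSX hs hsr
  have hE : layer H ≤ S := layer_le_of_isSubnormal_of_centralizer_le hS hC
  have hLF : ⁅layer H, fittingSubgroup H⁆ = ⊥ := layer_commutator_fittingSubgroup_eq_bot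
  refine sup_le ?_ ?_
  · have hgen : IsPPrimeGenerated r (layer H) :=
      isPPrimeGenerated_of_perfect layer_commutator_eq_self
    refine hgen.trans ?_
    rw [Subgroup.closure_le]
    rintro k ⟨hk, hkc⟩
    rw [SetLike.mem_coe, Subgroup.mem_centralizer_iff]
    intro x hx
    exact ((hD k (hE hk) hkc) x hx).eq.symm
  · set Hc := pCoreCompl r H with hHc
    have hHcF : Hc ≤ fittingSubgroup H := Cfsg.Agent.Lib.Helper24.pCoreCompl_le_fittingSubgroup r
    have hnil : Group.IsNilpotent Hc :=
      Cfsg.Agent.Lib.Helper65.isNilpotent_of_le hHcF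
        (Cfsg.Agent.Lib.Helper71.fittingSubgroup_isNilpotent (G := H))
    have hXn : X ≤ Subgroup.normalizer (Hc : Set H) := by
      rw [Subgroup.normalizer_eq_top]; exact le_top
    have hHcr : (Nat.card Hc).Coprime r := Cfsg.Agent.Lib.Helper24.card_pCoreCompl_coprime r
    have hcop : (Nat.card X).Coprime (Nat.card Hc) := by
      obtain ⟨k, hk⟩ := IsPGroup.iff_card.mp hX
      rw [hk]
      exact Nat.Coprime.pow_left k hHcr.symm
    have hcr : ∀ c ∈ Hc, (orderOf c).Coprime r := by
      intro c hc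
      exact Nat.Coprime.coprime_dvd_left (Subgroup.orderOf_dvd_natCard Hc hc) hHcr
    have key := Cfsg.Agent.Lib.Helper24.centralizes_of_centralizer_self_centralizing Hc X hnil hXn
      hcop ?_
    · intro c hc
      rw [Subgroup.mem_centralizer_iff]
      intro x hx
      exact ((Subgroup.mem_centralizer_iff.mp (key hx)) c hc).symm
    · intro c hc
      obtain ⟨hcH, hcC⟩ := Subgroup.mem_inf.mp hc
      refine Subgroup.mem_inf.mpr ⟨hcH, ?_⟩
      -- `c` centralizes `S ⊓ Hc`
      have h1 : ∀ t ∈ S, t ∈ Hc → Commute c t := by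
        intro t htS htH
        have : t ∈ Hc ⊓ Subgroup.centralizer (X : Set H) := by
          refine Subgroup.mem_inf.mpr ⟨htH, ?_⟩
          rw [Subgroup.mem_centralizer_iff]
          intro x hx
          exact ((hD t htS (hcr t htH)) x hx).eq.symm
        exact ((Subgroup.mem_centralizer_iff.mp hcC) t this).symm
      -- `c` centralizes `S`
      have hcQ : c ∈ Subgroup.centralizer (pCore r H : Set H) :=
        Cfsg.Agent.Lib.Helper24.pCoreCompl_le_centralizer_pCore r hcH
      have h2 : c ∈ Subgroup.centralizer (S : Set H) := by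
        rw [Subgroup.mem_centralizer_iff]
        intro s hs
        have hsF : s ∈ ((layer H ⊔ fittingSubgroup H : Subgroup H) : Set H) := hSF hs
        rw [Subgroup.mul_normal] at hsF
        obtain ⟨e, he, f, hf, rfl⟩ := Set.mem_mul.mp hsF
        have hfS : f ∈ S := by
          have : f = e⁻¹ * (e * f) := by group
          rw [this]
          exact S.mul_mem (S.inv_mem (hE he)) hs
        have hce : Commute c e :=
          ((commutator_eq_bot_iff_commute.mp hLF) e he c (hHcF hcH)).symm
        have hfF : f ∈ ((pCore r H ⊔ pCoreCompl r H : Subgroup H) : Set H) :=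
          Cfsg.Agent.Lib.Helper24.fittingSubgroup_le_sup r hf
        rw [Subgroup.mul_normal] at hfF
        obtain ⟨a, ha, b, hb, rfl⟩ := Set.mem_mul.mp hfF
        have hab : Commute a b :=
          ((Subgroup.mem_centralizer_iff.mp
            (Cfsg.Agent.Lib.Helper24.pCoreCompl_le_centralizer_pCore r hb)) a ha)
        have ha1 : a ^ Nat.card (pCore r H) = 1 := by
          have h := congrArg Subtype.val (pow_card_eq_one' (G := pCore r H) (x := ⟨a, ha⟩))
          rw [Subgroup.coe_pow, Subgroup.coe_one] at h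
          exact h
        have hb1 : b ^ Nat.card Hc = 1 := by
          have h := congrArg Subtype.val (pow_card_eq_one' (G := Hc) (x := ⟨b, hb⟩))
          rw [Subgroup.coe_pow, Subgroup.coe_one] at h
          exact h
        have hfn : (a * b) ^ Nat.card (pCore r H) = b ^ Nat.card (pCore r H) := by
          rw [hab.mul_pow, ha1, one_mul]
        have hfm : (a * b) ^ Nat.card Hc = a ^ Nat.card Hc := by
          rw [hab.mul_pow, hb1, mul_one]
        have hc1 : Commute c ((a * b) ^ Nat.card (pCore r H)) := by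
          apply h1 _ (S.pow_mem hfS _)
          rw [hfn]
          exact Hc.pow_mem hb _
        have hc2 : Commute c ((a * b) ^ Nat.card Hc) := by
          rw [hfm]
          exact ((Subgroup.mem_centralizer_iff.mp hcQ) _ ((pCore r H).pow_mem ha _)).symm
        have hnm : (Nat.card (pCore r H)).Coprime (Nat.card Hc) := by
          obtain ⟨k, hk⟩ := IsPGroup.iff_card.mp (isPGroup_pCore r H)
          rw [hk]
          exact Nat.Coprime.pow_left k hHcr.symm
        have hcf : Commute c (a * b) := commute_of_commute_pow_of_coprime hnm hc1 hc2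
        exact (hce.mul_right hcf).eq.symm
      have h3 : c ∈ S := hC ⟨le_sup_right (α := Subgroup H) (hHcF hcH), h2⟩
      rw [Subgroup.mem_centralizer_iff]
      intro x hx
      exact ((hD c h3 (hcr c hcH)) x hx).eq.symm

/-- If `O_q(H) ≠ 1` then `O_q(H) ∩ C_H(F*(H)) ≠ 1`. -/
theorem pCore_inf_centralizer_generalizedFittingSubgroup_ne_bot (q : ℕ) [Fact q.Prime]
    (hne : pCore q H ≠ ⊥) :
    pCore q H ⊓ Subgroup.centralizer (generalizedFittingSubgroup H : Set H) ≠ ⊥ := by
  have hP : IsPGroup q (pCore q H) := isPGroup_pCore q H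
  have hnt : Nontrivial (pCore q H) := (Subgroup.nontrivial_iff_ne_bot _).mpr hne
  have hcnt : Nontrivial (Subgroup.center (pCore q H)) := hP.center_nontrivial
  obtain ⟨z, hz⟩ := exists_ne (1 : Subgroup.center (pCore q H))
  have hzP : ((z : pCore q H) : H) ∈ pCore q H := (z : pCore q H).2
  have hz1 : ((z : pCore q H) : H) ≠ 1 := by
    intro h
    apply hz
    apply Subtype.ext
    apply Subtype.ext
    exact h
  have hLF : ⁅layer H, fittingSubgroup H⁆ = ⊥ := layer_commutator_fittingSubgroup_eq_bot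
  have hzC : ((z : pCore q H) : H) ∈
      Subgroup.centralizer (generalizedFittingSubgroup H : Set H) := by
    have hle : generalizedFittingSubgroup H ≤
        Subgroup.centralizer ({((z : pCore q H) : H)} : Set H) := by
      unfold generalizedFittingSubgroup
      refine sup_le ?_ ((Cfsg.Agent.Lib.Helper24.fittingSubgroup_le_sup q).trans (sup_le ?_ ?_))
      · intro e he
        rw [Subgroup.mem_centralizer_iff]
        intro y hy
        rw [Set.mem_singleton_iff] at hy
        subst hy
        exact ((commutator_eq_bot_iff_commute.mp hLF) e he _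
          (Cfsg.Agent.Lib.Helper24.pCore_le_fittingSubgroup q hzP)).symm
      · intro a ha
        rw [Subgroup.mem_centralizer_iff]
        intro y hy
        rw [Set.mem_singleton_iff] at hy
        subst hy
        have := (Subgroup.mem_center_iff.mp z.2) ⟨a, ha⟩
        exact (congrArg Subtype.val this).symm
      · intro b hb
        rw [Subgroup.mem_centralizer_iff]
        intro y hy
        rw [Set.mem_singleton_iff] at hy
        subst hy
        exact (Subgroup.mem_centralizer_iff.mp
          (Cfsg.Agent.Lib.Helper24.pCoreCompl_le_centralizer_pCore q hb)) _ hzP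
    rw [Subgroup.mem_centralizer_iff]
    intro y hy
    exact ((Subgroup.mem_centralizer_iff.mp (hle hy)) _ rfl).symm
  intro hbot
  have : ((z : pCore q H) : H) ∈ (⊥ : Subgroup H) := by
    rw [← hbot]
    exact ⟨hzP, hzC⟩
  exact hz1 (Subgroup.mem_bot.mp this)

end BenderLocal

section BenderSimple

variable {G : Type u} [Group G]

/-- In a simple group, a maximal subgroup is the normalizer of each of its nontrivial normal
subgroups; in particular it contains their centralizers. -/
theorem centralizer_le_of_isCoatom [IsSimpleGroup G] {A W : Subgroup G} (hA : IsCoatom A)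
    (hWA : W ≤ A) (hW : W ≠ ⊥) (hAW : A ≤ Subgroup.normalizer (W : Set G)) :
    Subgroup.centralizer (W : Set G) ≤ A := by
  have h1 : Subgroup.normalizer (W : Set G) = A := by
    by_contra hne
    have hlt : A < Subgroup.normalizer (W : Set G) := lt_of_le_of_ne hAW (Ne.symm hne)
    have htop := hA.2 _ hlt
    have hn : W.Normal := Subgroup.normalizer_eq_top_iff.mp htop
    rcases hn.eq_bot_or_eq_top with h | h
    · exact hW h
    · apply hA.1
      rw [eq_top_iff, ← h]
      exact hWA
  rw [← h1]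
  exact Subgroup.centralizer_le_normalizer _

end BenderSimple

section BenderTransfer

variable {G : Type u} [Group G] [Finite G] {A S : Subgroup G}

omit [Finite G] in
/-- The hypotheses of S1247, transferred into the maximal subgroup `↥A`. -/
theorem bender_hyps_subgroupOf
    (hSF : S ≤ (generalizedFittingSubgroup ↥A).map A.subtype)
    (hSsn : (S.subgroupOf ((generalizedFittingSubgroup ↥A).map A.subtype)).IsSubnormal)
    (hSC : (generalizedFittingSubgroup ↥A).map A.subtype ⊓ Subgroup.centralizer (S : Set G) ≤ S) :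
    (S.subgroupOf A).IsSubnormal ∧ S.subgroupOf A ≤ generalizedFittingSubgroup ↥A ∧
      generalizedFittingSubgroup ↥A ⊓
        Subgroup.centralizer ((S.subgroupOf A : Subgroup ↥A) : Set ↥A) ≤ S.subgroupOf A := by
  set F' := generalizedFittingSubgroup ↥A with hF'
  have hF'n : F'.Normal := Cfsg.Agent.Lib.Helper29.generalizedFittingSubgroup_normal ↥A
  have hSA : S ≤ A := hSF.trans (Subgroup.map_subtype_le _)
  have h2 : S.subgroupOf A ≤ F' := by
    intro x hx
    obtain ⟨y, hy, hyx⟩ := hSF (Subgroup.mem_subgroupOf.mp hx)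
    have : y = x := Subtype.ext hyx
    rwa [← this]
  refine ⟨?_, h2, ?_⟩
  · apply Subgroup.IsSubnormal.trans h2 _ hF'n.isSubnormal
    let e : ↥F' →* ↥(F'.map A.subtype) :=
      (F'.equivMapOfInjective A.subtype A.subtype_injective).toMonoidHom
    have h3 := hSsn.comap e
    have h4 : (S.subgroupOf (F'.map A.subtype)).comap e = (S.subgroupOf A).subgroupOf F' := by
      ext x
      rw [Subgroup.mem_comap, Subgroup.mem_subgroupOf, Subgroup.mem_subgroupOf,
        Subgroup.mem_subgroupOf]
      rfl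
    rw [h4] at h3
    exact h3
  · intro x hx
    obtain ⟨hxF, hxC⟩ := Subgroup.mem_inf.mp hx
    rw [Subgroup.mem_subgroupOf]
    apply hSC
    refine Subgroup.mem_inf.mpr ⟨⟨x, hxF, rfl⟩, ?_⟩
    rw [Subgroup.mem_centralizer_iff]
    intro s hs
    have := (Subgroup.mem_centralizer_iff.mp hxC) ⟨s, hSA hs⟩ (Subgroup.mem_subgroupOf.mpr hs)
    exact congrArg Subtype.val this

omit [Finite G] in
/-- `S.subgroupOf A` normalizes `X.subgroupOf A`. -/
theorem subgroupOf_le_normalizer_subgroupOf {A S X : Subgroup G}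
    (hSX : S ≤ Subgroup.normalizer (X : Set G)) :
    S.subgroupOf A ≤ Subgroup.normalizer ((X.subgroupOf A : Subgroup ↥A) : Set ↥A) := by
  intro t ht
  rw [Subgroup.mem_normalizer_iff]
  intro x
  have := Subgroup.mem_normalizer_iff.mp (hSX (Subgroup.mem_subgroupOf.mp ht)) x
  rw [Subgroup.mem_subgroupOf, Subgroup.mem_subgroupOf, this]
  rfl

/-- Step (D) in `G`. -/
theorem bender_commute_of_mem
    (hSF : S ≤ (generalizedFittingSubgroup ↥A).map A.subtype)
    (hSsn : (S.subgroupOf ((generalizedFittingSubgroup ↥A).map A.subtype)).IsSubnormal)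
    (hSC : (generalizedFittingSubgroup ↥A).map A.subtype ⊓ Subgroup.centralizer (S : Set G) ≤ S)
    (r : ℕ) [Fact r.Prime] {X : Subgroup G} (hXA : X ≤ A) (hX : IsPGroup r X)
    (hSX : S ≤ Subgroup.normalizer (X : Set G)) {s : G} (hs : s ∈ S)
    (hsr : (orderOf s).Coprime r) : ∀ x ∈ X, Commute s x := by
  obtain ⟨h1, h2, -⟩ := bender_hyps_subgroupOf hSF hSsn hSC
  have hSA : S ≤ A := hSF.trans (Subgroup.map_subtype_le _)
  have hX' : IsPGroup r (X.subgroupOf A) := hX.comap_subtype
  have hord : orderOf (⟨s, hSA hs⟩ : ↥A) = orderOf s := Subgroup.orderOf_mk s (hSA hs)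
  have key := commute_of_mem_of_isSubnormal_of_le_generalizedFittingSubgroup r h1 h2 hX'
    (subgroupOf_le_normalizer_subgroupOf hSX) (s := ⟨s, hSA hs⟩) (Subgroup.mem_subgroupOf.mpr hs)
    (by rw [hord]; exact hsr)
  intro x hx
  have := key ⟨x, hXA hx⟩ (Subgroup.mem_subgroupOf.mpr hx)
  exact congrArg Subtype.val this

/-- Step (E) in `G`. -/
theorem bender_commute_of_mem_layer_sup_pCoreCompl
    (hSF : S ≤ (generalizedFittingSubgroup ↥A).map A.subtype)
    (hSsn : (S.subgroupOf ((generalizedFittingSubgroup ↥A).map A.subtype)).IsSubnormal)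
    (hSC : (generalizedFittingSubgroup ↥A).map A.subtype ⊓ Subgroup.centralizer (S : Set G) ≤ S)
    (r : ℕ) [Fact r.Prime] {X : Subgroup G} (hXA : X ≤ A) (hX : IsPGroup r X)
    (hSX : S ≤ Subgroup.normalizer (X : Set G)) {y : ↥A}
    (hy : y ∈ layer ↥A ⊔ pCoreCompl r ↥A) : ∀ x ∈ X, Commute x (y : G) := by
  obtain ⟨h1, h2, h3⟩ := bender_hyps_subgroupOf hSF hSsn hSC
  have hX' : IsPGroup r (X.subgroupOf A) := hX.comap_subtype
  have key := layer_sup_pCoreCompl_le_centralizer_of_isPGroup r h1 h2 h3 hX'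
    (subgroupOf_le_normalizer_subgroupOf hSX) hy
  intro x hx
  have := (Subgroup.mem_centralizer_iff.mp key) ⟨x, hXA hx⟩ (Subgroup.mem_subgroupOf.mpr hx)
  exact congrArg Subtype.val this

omit [Finite G] in
/-- A normal subgroup of `↥B`, viewed in `G`, is normalized by `B`. -/
theorem le_normalizer_map_subtype_of_normal {B : Subgroup G} (N : Subgroup ↥B) [hN : N.Normal] :
    B ≤ Subgroup.normalizer ((N.map B.subtype : Subgroup G) : Set G) := by
  have := Subgroup.le_normalizer_map (H := N) B.subtype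
  rw [Subgroup.normalizer_eq_top, ← MonoidHom.range_eq_map, Subgroup.range_subtype] at this
  exact this

/-- **S1247 (a).** -/
theorem bender_pCore_inf_eq_bot
    (hSF : S ≤ (generalizedFittingSubgroup ↥A).map A.subtype)
    (hSsn : (S.subgroupOf ((generalizedFittingSubgroup ↥A).map A.subtype)).IsSubnormal)
    (hSC : (generalizedFittingSubgroup ↥A).map A.subtype ⊓ Subgroup.centralizer (S : Set G) ≤ S)
    {B : Subgroup G} (hSB : S ≤ B) (q : ℕ) (hq : q.Prime)
    (hqF : ¬ q ∣ Nat.card (fittingSubgroup ↥A)) :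
    (pCore q ↥B).map B.subtype ⊓ A = ⊥ := by
  have : Fact q.Prime := ⟨hq⟩
  set F' := generalizedFittingSubgroup ↥A with hF'
  have hF'n : F'.Normal := Cfsg.Agent.Lib.Helper29.generalizedFittingSubgroup_normal ↥A
  set X := (pCore q ↥B).map B.subtype ⊓ A with hXdef
  have hXA : X ≤ A := inf_le_right
  have hX : IsPGroup q X := ((isPGroup_pCore q ↥B).map B.subtype).to_le inf_le_left
  have hSA : S ≤ A := hSF.trans (Subgroup.map_subtype_le _)
  have : (pCore q ↥B).Normal := Cfsg.Agent.Lib.Helper1.pCore_normal q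
  have hSX : S ≤ Subgroup.normalizer (X : Set G) :=
    le_trans (le_inf (hSB.trans (le_normalizer_map_subtype_of_normal _))
      (hSA.trans Subgroup.le_normalizer)) Subgroup.inf_normalizer_le_normalizer_inf
  -- `O_q(A) = 1`
  have hdvd : ∀ K : Subgroup ↥A, IsPGroup q K → K ≤ fittingSubgroup ↥A → K = ⊥ := by
    intro K hK hKF
    obtain ⟨n, hn⟩ := IsPGroup.iff_card.mp hK
    rcases Nat.eq_zero_or_pos n with h0 | h0
    · rw [h0, pow_zero] at hn
      exact Subgroup.card_eq_one.mp hn
    · exfalso
      apply hqF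
      have h1 : q ∣ Nat.card K := by rw [hn]; exact dvd_pow_self q h0.ne'
      exact h1.trans (Subgroup.card_dvd_of_le hKF)
  have hQ : pCore q ↥A = ⊥ :=
    hdvd _ (isPGroup_pCore q ↥A) (Cfsg.Agent.Lib.Helper24.pCore_le_fittingSubgroup q)
  have hFM : F' ≤ layer ↥A ⊔ pCoreCompl q ↥A := by
    rw [hF']
    unfold generalizedFittingSubgroup
    refine sup_le le_sup_left ((Cfsg.Agent.Lib.Helper24.fittingSubgroup_le_sup q).trans ?_)
    rw [hQ, bot_sup_eq]
    exact le_sup_right
  have key : ∀ y : ↥A, y ∈ F' → ∀ x ∈ X, Commute x (y : G) := fun y hy =>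
    bender_commute_of_mem_layer_sup_pCoreCompl hSF hSsn hSC q hXA hX hSX (hFM hy)
  have hX'C : X.subgroupOf A ≤ Subgroup.centralizer (F' : Set ↥A) := by
    intro x hx
    rw [Subgroup.mem_centralizer_iff]
    intro y hy
    apply Subtype.ext
    exact ((key y hy) x (Subgroup.mem_subgroupOf.mp hx)).eq.symm
  have hX'F : X.subgroupOf A ≤ F' :=
    hX'C.trans centralizer_generalizedFittingSubgroup_le
  -- `Z(F*(A)) ≤ F(A)`
  set Z : Subgroup ↥A := F' ⊓ Subgroup.centralizer (F' : Set ↥A) with hZ
  have hZn : Z.Normal := inferInstance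
  have hZnil : Group.IsNilpotent Z := by
    apply isNilpotent_of_commutator_commutator_eq_bot
    have : ⁅Z, Z⁆ = ⊥ := by
      rw [Subgroup.commutator_eq_bot_iff_le_centralizer]
      exact inf_le_right.trans (Subgroup.centralizer_le (SetLike.coe_subset_coe.mpr inf_le_left))
    rw [this, Subgroup.commutator_bot_left]
  have hZF : Z ≤ fittingSubgroup ↥A := le_fittingSubgroup_of_normal_nilpotent hZn hZnil
  have hX'bot : X.subgroupOf A = ⊥ :=
    hdvd _ hX.comap_subtype ((le_inf hX'F hX'C).trans hZF)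
  rw [Subgroup.subgroupOf_eq_bot, disjoint_iff, inf_of_le_left hXA] at hX'bot
  exact hX'bot

/-- **S1247 (b).** -/
theorem bender_pCore_commute [IsSimpleGroup G] (hA : IsCoatom A)
    (hSF : S ≤ (generalizedFittingSubgroup ↥A).map A.subtype)
    (hSsn : (S.subgroupOf ((generalizedFittingSubgroup ↥A).map A.subtype)).IsSubnormal)
    (hSC : (generalizedFittingSubgroup ↥A).map A.subtype ⊓ Subgroup.centralizer (S : Set G) ≤ S)
    {B : Subgroup G} (hSB : S ≤ B) (p : ℕ) (hp : p.Prime)
    (hpF : p ∣ Nat.card (fittingSubgroup ↥A)) :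
    ∀ x ∈ (pCore p ↥B).map B.subtype,
      ∀ y ∈ (pResidual p ↥(generalizedFittingSubgroup ↥A)).map
        ((generalizedFittingSubgroup ↥A).subtype), x * (A.subtype y) = (A.subtype y) * x := by
  have : Fact p.Prime := ⟨hp⟩
  obtain ⟨h1, h2, h3⟩ := bender_hyps_subgroupOf hSF hSsn hSC
  set F' := generalizedFittingSubgroup ↥A with hF'
  have hF'n : F'.Normal := Cfsg.Agent.Lib.Helper29.generalizedFittingSubgroup_normal ↥A
  set X := (pCore p ↥B).map B.subtype with hXdef
  have hX : IsPGroup p X := (isPGroup_pCore p ↥B).map B.subtype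
  have hSA : S ≤ A := hSF.trans (Subgroup.map_subtype_le _)
  have : (pCore p ↥B).Normal := Cfsg.Agent.Lib.Helper1.pCore_normal p
  have hSX : S ≤ Subgroup.normalizer (X : Set G) :=
    hSB.trans (le_normalizer_map_subtype_of_normal _)
  -- nontrivial normal subgroups of `A` contain their centralizers in `G`
  have hW : ∀ W : Subgroup ↥A, W.Normal → W ≠ ⊥ →
      Subgroup.centralizer ((W.map A.subtype : Subgroup G) : Set G) ≤ A := by
    intro W hWn hWne
    apply centralizer_le_of_isCoatom hA (Subgroup.map_subtype_le _)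
    · rwa [Ne, Subgroup.map_eq_bot_iff_of_injective _ A.subtype_injective]
    · exact le_normalizer_map_subtype_of_normal W
  -- `Z(F*(A)) ≤ S`
  have hZS : F' ⊓ Subgroup.centralizer (F' : Set ↥A) ≤ S.subgroupOf A :=
    le_trans (inf_le_inf_left _ (Subgroup.centralizer_le (SetLike.coe_subset_coe.mpr h2))) h3
  -- `O_p(A) ≠ 1`
  have hP : pCore p ↥A ≠ ⊥ := by
    intro h
    have hle : fittingSubgroup ↥A ≤ pCoreCompl p ↥A := by
      refine (Cfsg.Agent.Lib.Helper24.fittingSubgroup_le_sup p).trans ?_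
      rw [h, bot_sup_eq]
    have h4 : p ∣ Nat.card (pCoreCompl p ↥A) := hpF.trans (Subgroup.card_dvd_of_le hle)
    have h5 := Cfsg.Agent.Lib.Helper24.card_pCoreCompl_coprime (G := ↥A) p
    exact (Nat.Prime.coprime_iff_not_dvd hp).mp h5.symm h4
  set Z₀ : Subgroup ↥A := pCore p ↥A ⊓ Subgroup.centralizer (F' : Set ↥A) with hZ₀
  have hZ₀ne : Z₀ ≠ ⊥ := pCore_inf_centralizer_generalizedFittingSubgroup_ne_bot p hP
  have : (pCore p ↥A).Normal := Cfsg.Agent.Lib.Helper1.pCore_normal p
  have hZ₀n : Z₀.Normal := inferInstance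
  have hpF' : pCore p ↥A ≤ F' :=
    (Cfsg.Agent.Lib.Helper24.pCore_le_fittingSubgroup p).trans le_sup_right
  have hZ₀S : Z₀.map A.subtype ≤ S := by
    rintro _ ⟨z, hz, rfl⟩
    have := hZS (Subgroup.mem_inf.mpr ⟨hpF' (Subgroup.mem_inf.mp hz).1, (Subgroup.mem_inf.mp hz).2⟩)
    exact Subgroup.mem_subgroupOf.mp this
  -- `p'`-elements of `S` centralize `X`
  have hSp : ∀ s ∈ S, (orderOf s).Coprime p → ∀ x ∈ X, Commute s x := by
    intro s hs hsp
    have hQp : IsPGroup p (Z₀.map A.subtype) :=
      ((isPGroup_pCore p ↥A).to_le inf_le_left).map _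
    have hQX : Z₀.map A.subtype ≤ Subgroup.normalizer (X : Set G) := hZ₀S.trans hSX
    have hT : IsPGroup p (Z₀.map A.subtype ⊔ X : Subgroup G) :=
      IsPGroup.to_sup_of_normal_right' hQp hX hQX
    apply Cfsg.Agent.Lib.Helper49.commute_of_AxB hT le_sup_right le_sup_left hQX (hSX hs) hsp
    · rintro _ ⟨z, hz, rfl⟩
      obtain ⟨s', hs', rfl⟩ := hSF hs
      have := (Subgroup.mem_centralizer_iff.mp (Subgroup.mem_inf.mp hz).2) s' hs'
      exact congrArg Subtype.val this
    · intro r hr hrQ
      have hrA : r ∈ A := by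
        apply hW Z₀ hZ₀n hZ₀ne
        rw [Subgroup.mem_centralizer_iff]
        intro q hq
        exact ((hrQ q hq).eq).symm
      have hSX₁ : S ≤ Subgroup.normalizer ((X ⊓ A : Subgroup G) : Set G) :=
        le_trans (le_inf hSX (hSA.trans Subgroup.le_normalizer))
          Subgroup.inf_normalizer_le_normalizer_inf
      exact bender_commute_of_mem hSF hSsn hSC p (X := X ⊓ A) inf_le_right
        (hX.to_le inf_le_left) hSX₁ hs hsp r (Subgroup.mem_inf.mpr ⟨hr, hrA⟩)
  -- reduce to `E(A) O_{p'}(F(A))`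
  suffices key : ∀ y' : ↥A, y' ∈ layer ↥A ⊔ pCoreCompl p ↥A → ∀ x ∈ X, Commute x (y' : G) by
    intro x hx y hy
    have hle : (pResidual p ↥F').map F'.subtype ≤ layer ↥A ⊔ pCoreCompl p ↥A := by
      unfold pResidual
      rw [MonoidHom.map_closure, Subgroup.closure_le]
      rintro _ ⟨g, hg, rfl⟩
      apply mem_layer_sup_pCoreCompl_of_coprime p g.2
      rw [Subgroup.orderOf_coe]
      exact hg
    exact (key y (hle hy) x hx).eq
  by_cases hXA : X ≤ A
  · intro y' hy'
    exact bender_commute_of_mem_layer_sup_pCoreCompl hSF hSsn hSC p hXA hX hSX hy'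
  · have hcontra : ∀ W : Subgroup ↥A, W.Normal → W ≤ S.subgroupOf A → IsPPrimeGenerated p W →
        W = ⊥ := by
      intro W hWn hWS hWgen
      by_contra hWne
      apply hXA
      refine le_trans ?_ (hW W hWn hWne)
      intro x hx
      rw [Subgroup.mem_centralizer_iff]
      rintro _ ⟨w, hw, rfl⟩
      have hle : Subgroup.closure {k : ↥A | k ∈ W ∧ (orderOf k).Coprime p} ≤
          (Subgroup.centralizer ({x} : Set G)).comap A.subtype := by
        rw [Subgroup.closure_le]
        rintro k ⟨hkW, hkc⟩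
        rw [SetLike.mem_coe, Subgroup.mem_comap, Subgroup.mem_centralizer_iff]
        intro x' hx'
        rw [Set.mem_singleton_iff] at hx'
        subst hx'
        have := hSp (k : G) (Subgroup.mem_subgroupOf.mp (hWS hkW))
          (by rw [Subgroup.orderOf_coe]; exact hkc) x' hx
        exact this.eq.symm
      have h5 := hle (hWgen hw)
      rw [Subgroup.mem_comap, Subgroup.mem_centralizer_iff] at h5
      exact (h5 x rfl).symm
    have hL : layer ↥A = ⊥ :=
      hcontra (layer ↥A) (Cfsg.Agent.Lib.Helper29.layer_normal ↥A)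
        (layer_le_of_isSubnormal_of_centralizer_le h1 h3)
        (isPPrimeGenerated_of_perfect layer_commutator_eq_self)
    have hq : ∀ q : Nat.Primes, (q : ℕ) ≠ p → pCore (q : ℕ) ↥A = ⊥ := by
      intro q hqp
      have : Fact (q : ℕ).Prime := ⟨q.2⟩
      by_contra hne
      apply pCore_inf_centralizer_generalizedFittingSubgroup_ne_bot (q : ℕ) hne
      have : (pCore (q : ℕ) ↥A).Normal := Cfsg.Agent.Lib.Helper1.pCore_normal (q : ℕ)
      apply hcontra _ inferInstance
      · refine le_trans (le_inf ?_ inf_le_right) hZS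
        exact inf_le_left.trans
          ((Cfsg.Agent.Lib.Helper24.pCore_le_fittingSubgroup (q : ℕ)).trans le_sup_right)
      · apply isPPrimeGenerated_of_coprime_card
        have hWq : IsPGroup (q : ℕ) ↥(pCore (q : ℕ) ↥A ⊓ Subgroup.centralizer (F' : Set ↥A)) :=
          (isPGroup_pCore (q : ℕ) ↥A).to_le inf_le_left
        obtain ⟨n, hn⟩ := IsPGroup.iff_card.mp hWq
        rw [hn]
        apply Nat.Coprime.pow_left
        exact (Nat.coprime_primes q.2 hp).mpr hqp
    have hHc : pCoreCompl p ↥A = ⊥ := by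
      unfold Cfsg.Agent.Lib.Helper24.pCoreCompl
      rw [eq_bot_iff]
      exact iSup₂_le fun q hqp => (hq q hqp).le
    intro y' hy'
    rw [hL, hHc, bot_sup_eq, Subgroup.mem_bot] at hy'
    subst hy'
    intro x _
    exact Commute.one_right x

end BenderTransfer

end Cfsg.Agent.Lib.Helper21
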