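import Mathlib
import Cfsg.Prelude.Def_OddOrderLocal
import Cfsg.Prelude.Def_OddOrder
import Cfsg.Agent.Lib.Helper54.BGFourteenDefs
import Cfsg.Agent.Lib.Helper54.UqBasic
import Cfsg.Agent.Lib.Helper62.PiHall
import Cfsg.Agent.Lib.Helper21.UqEndgame

/-!
# Bender–Glauberman Theorem 14.7: basic consequences of Theorem 14.2 for a Hall `κ(M)`-subgroup
(helper21)

* `kstar_ne_bot`: `K ≠ 1` Hall `κ(M)` ⇒ `K* = C_{M_σ}(K) ≠ 1`;
* `s1367_of`: the statement of S1367 from `KstarCentUniq` (B&G 13.6) and `Stmt1430`.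
-/

set_option autoImplicit false

namespace Cfsg.Agent.Lib.Helper21

open Cfsg Cfsg.Agent.Lib.Helper54
open scoped Pointwise

universe u

variable {G : Type u} [Group G]

/-- The centralizer of a nontrivial subgroup of a minimal simple group of odd order is proper. -/
theorem centralizer_ne_top_of_ne_bot [Finite G] (hG : IsMinSimpleOddOrder G) {X : Subgroup G}
    (hX : X ≠ ⊥) : Subgroup.centralizer (X : Set G) ≠ ⊤ := by
  obtain ⟨x, hx1⟩ := (Subgroup.ne_bot_iff_exists_ne_one).mp hX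
  have hx1' : (x : G) ≠ 1 := fun h => hx1 (Subtype.ext h)
  intro htop
  apply centralizer_singleton_ne_top_of_minSimple hG hx1'
  rw [eq_top_iff]
  intro g _
  have hg : g ∈ Subgroup.centralizer (X : Set G) := by rw [htop]; exact Subgroup.mem_top g
  rw [Subgroup.mem_centralizer_iff]
  intro y hy
  rw [Set.mem_singleton_iff] at hy
  subst hy
  exact Subgroup.mem_centralizer_iff.mp hg x x.2

/-- If `L` is the only maximal subgroup over `C_G(X)` then `C_G(X) ≤ L`. -/
theorem centralizer_le_of_unique [Finite G] (hG : IsMinSimpleOddOrder G) {X M : Subgroup G}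
    (hX : X ≠ ⊥)
    (h : ∀ L : Subgroup G, IsCoatom L → Subgroup.centralizer (X : Set G) ≤ L → L = M) :
    Subgroup.centralizer (X : Set G) ≤ M := by
  obtain ⟨L, hL, hle⟩ := exists_isCoatom_ge (centralizer_ne_top_of_ne_bot hG hX)
  rw [← h L hL hle]; exact hle

theorem ne_bot_of_card_prime {X : Subgroup G} (h : (Nat.card X).Prime) : X ≠ ⊥ := by
  rintro rfl
  rw [Subgroup.card_bot] at h
  exact Nat.not_prime_one h

/-- `K ≠ 1` a Hall `κ(M)`-subgroup of the maximal subgroup `M` ⇒ `K* = C_{M_σ}(K) ≠ 1`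
(from the definition of `κ(M)` and the prime action of `K`, B&G 14.2(a)). -/
theorem kstar_ne_bot [Finite G] (hG : IsMinSimpleOddOrder G) (h30 : Stmt1430 G)
    {M K : Subgroup G} (hM : IsCoatom M) (hK : IsPiHallOf (kappa M) K M) (hK1 : K ≠ ⊥) :
    sigmaCore M ⊓ Subgroup.centralizer (K : Set G) ≠ ⊥ := by
  classical
  have hsol : Group.IsSolvable M := hG.2.2.2 M hM.1
  -- a prime p dividing |K|
  have hcard : Nat.card K ≠ 1 := by
    intro h1
    exact hK1 (Subgroup.card_eq_one.mp h1)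
  obtain ⟨p, hp, hpK⟩ := Nat.exists_prime_and_dvd hcard
  have hpκ : p ∈ kappa M := hK.2.1 p hp hpK
  have : Fact p.Prime := ⟨hp⟩
  obtain ⟨-, -, -, hall⟩ := hpκ
  obtain P : Sylow p M := default
  obtain ⟨-, x, hxP, hx1, y, hy, hy1, hxy⟩ := hall P
  -- the subgroup generated by x is a κ(M)-subgroup of M
  have hxM : (x : G) ∈ M := x.2
  have hzle : Subgroup.zpowers (x : G) ≤ M := by
    rw [Subgroup.zpowers_le]; exact hxM
  have hPg : IsPGroup p (P : Subgroup M) := P.isPGroup'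
  obtain ⟨n, hn⟩ := (IsPGroup.iff_orderOf.mp hPg) ⟨x, hxP⟩
  have hordx : orderOf (x : G) = p ^ n := by
    have h1 : orderOf (x : G) = orderOf x := Subgroup.orderOf_coe x
    have h2 : orderOf (⟨x, hxP⟩ : (P : Subgroup M)) = orderOf x := by
      rw [← Subgroup.orderOf_coe]
    rw [h1, ← h2, hn]
  have hzπ : Cfsg.Agent.Lib.Helper62.IsPiNum (kappa M) (Nat.card (Subgroup.zpowers (x : G))) := by
    intro q hq hqd
    rw [Nat.card_zpowers, hordx] at hqd
    have : q = p := (Nat.prime_dvd_prime_iff_eq hq hp).mp (hq.dvd_of_dvd_pow hqd)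
    rw [this]
    exact hK.2.1 p hp hpK
  obtain ⟨H, hH, hzH⟩ := Cfsg.Agent.Lib.Helper62.isPiHallOf_dom hsol hzle hzπ
  obtain ⟨k, hkM, hkH⟩ := Cfsg.Agent.Lib.Helper62.isPiHallOf_conj hsol hH hK
  -- k x k⁻¹ ∈ K
  have hxK : k * (x : G) * k⁻¹ ∈ K := by
    rw [← hkH]
    exact (mem_conj_smul_iff).mpr (by
      have : k⁻¹ * (k * (x : G) * k⁻¹) * k = (x : G) := by group
      rw [this]; exact hzH (Subgroup.mem_zpowers _))
  have hx1' : k * (x : G) * k⁻¹ ≠ 1 := by
    intro h
    apply hx1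
    have : (x : G) = 1 := by
      have := congrArg (fun t => k⁻¹ * t * k) h
      simpa [mul_assoc] using this
    exact Subtype.ext this
  have hyσ : k * y * k⁻¹ ∈ sigmaCore M := by
    obtain ⟨y', hy', rfl⟩ := hy
    refine ⟨⟨k, hkM⟩ * y' * ⟨k, hkM⟩⁻¹, ?_, by simp⟩
    exact (inferInstance : (piCore (sigma M) M).Normal).conj_mem y' hy' ⟨k, hkM⟩
  have hy1' : k * y * k⁻¹ ≠ 1 := by
    intro h
    apply hy1
    have := congrArg (fun t => k⁻¹ * t * k) h
    simpa [mul_assoc] using this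
  have hcomm : k * y * k⁻¹ ∈ Subgroup.centralizer ({k * (x : G) * k⁻¹} : Set G) := by
    rw [Subgroup.mem_centralizer_iff]
    intro z hz
    rw [Set.mem_singleton_iff] at hz
    subst hz
    have : (x : G) * y = y * x := hxy
    calc k * (x : G) * k⁻¹ * (k * y * k⁻¹) = k * ((x : G) * y) * k⁻¹ := by group
      _ = k * (y * (x : G)) * k⁻¹ := by rw [this]
      _ = k * y * k⁻¹ * (k * (x : G) * k⁻¹) := by group
  have hmem : k * y * k⁻¹ ∈ sigmaCore M ⊓ Subgroup.centralizer (K : Set G) := by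
    rw [← (h30 M hM K hK hK1).1 _ hxK hx1']
    exact ⟨hyσ, hcomm⟩
  intro hbot
  rw [hbot, Subgroup.mem_bot] at hmem
  exact hy1' hmem

/-- **S1367** from B&G 13.6 (`KstarCentUniq`) and 14.2 (`Stmt1430`). -/
theorem s1367_of [Finite G] (hG : IsMinSimpleOddOrder G) (h30 : Stmt1430 G)
    (hU : KstarCentUniq G)
    (M : Subgroup G) (hM : IsCoatom M) (K : Subgroup G) (hK : IsPiHallOf (kappa M) K M)
    (hK1 : K ≠ ⊥) (Mstar : Subgroup G) (hMstar : IsCoatom Mstar)
    (hKst : K = sigmaCore Mstar ⊓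
      Subgroup.centralizer ((sigmaCore M ⊓ Subgroup.centralizer (K : Set G)) : Set G))
    (hKstH : IsPiHallOf (kappa Mstar) (sigmaCore M ⊓ Subgroup.centralizer (K : Set G)) Mstar) :
    (∀ X : Subgroup G, X ≤ (sigmaCore M ⊓ Subgroup.centralizer (K : Set G)) →
        (Nat.card X).Prime →
        Subgroup.centralizer (X : Set G) ≤ M ∧
          ∀ L : Subgroup G, IsCoatom L → Subgroup.centralizer (X : Set G) ≤ L → L = M) ∧
      (∀ Y : Subgroup G, Y ≤ K → (Nat.card Y).Prime →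
        Subgroup.centralizer (Y : Set G) ≤ Mstar ∧
          ∀ L : Subgroup G, IsCoatom L → Subgroup.centralizer (Y : Set G) ≤ L → L = Mstar) := by
  have hKs1 := kstar_ne_bot hG h30 hM hK hK1
  refine ⟨fun X hX hXp => ?_, fun Y hY hYp => ?_⟩
  · have h := hU M hM K hK hK1 X hX hXp
    exact ⟨centralizer_le_of_unique hG (ne_bot_of_card_prime hXp) h, h⟩
  · have hY' : Y ≤ sigmaCore Mstar ⊓
        Subgroup.centralizer ((sigmaCore M ⊓ Subgroup.centralizer (K : Set G)) : Set G) := by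
      rw [← hKst]; exact hY
    have h := hU Mstar hMstar _ hKstH hKs1 Y hY' hYp
    exact ⟨centralizer_le_of_unique hG (ne_bot_of_card_prime hYp) h, h⟩

end Cfsg.Agent.Lib.Helper21
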