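import Cfsg.Agent.Lib.Helper54.BGElevenC

/-!
# Bender–Glauberman Theorem 12.5 (statement S1417), conditional assembly

`Sec11 G` packages the conclusions of B&G Lemmas 11.3, 11.5, 11.6, 11.7 for an exceptional maximal
subgroup (Hypothesis 11.1 = `Helper54.IsExceptional`); `S1416Stmt G` is the literal statement of
S1416 (B&G 12.3/12.4).  From these (and the Uniqueness Theorem `hU`, `p`-length one `hPL`) we derive
B&G Lemma 11.4 and Theorem 12.5.
-/

set_option autoImplicit false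

namespace Cfsg.Agent.Lib.Helper21

open scoped Pointwise
open Cfsg
open Cfsg.Agent.Lib.Helper34 (UniquenessThm)
open Cfsg.Agent.Lib.Helper54 (IsExceptional)

variable {G : Type*} [Group G]

/-- The conclusions of B&G 11.3, 11.5, 11.6, 11.7 for every exceptional maximal subgroup. -/
def Sec11 (G : Type*) [Group G] : Prop :=
  ∀ (M : Subgroup G) (p : ℕ) [Fact p.Prime] (A₀ A : Subgroup G), IsExceptional M p A₀ A →
    Group.IsNilpotent (sigmaCore M) ∧
    (∀ P : Sylow p M, IsMulCommutative (P : Subgroup M) ∧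
        (A ≤ (P : Subgroup M).map M.subtype →
          (∀ x ∈ (P : Subgroup M).map M.subtype, x ^ p = 1 ↔ x ∈ A) ∧
          ¬ Subgroup.normalizer ((((P : Subgroup M).map M.subtype : Subgroup G)) : Set G) ≤ M)) ∧
    M ≤ Subgroup.normalizer ((sigmaCore M ⊔ A : Subgroup G) : Set G) ∧
    sigmaCore M ⊓ Subgroup.centralizer (A : Set G) = ⊥ ∧
    (∃ A₁ : Subgroup G, A₁ ≤ A ∧ Nat.card A₁ = p ∧
      sigmaCore M ⊓ Subgroup.centralizer (A₁ : Set G) = ⊥)

/-- The literal statement of S1416 (B&G Theorems 12.3/12.4 combined). -/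
def S1416Stmt (G : Type*) [Group G] : Prop :=
  ∀ (M : Subgroup G), IsCoatom M → ∀ (p : ℕ) [Fact p.Prime] (A : Subgroup G),
    (A ≤ M ∧ IsElementaryAbelian p A ∧ Nat.card A = p ^ 2) →
    Subgroup.centralizer (A : Set G) ≤ M ∧
      ((∀ A₀ : Subgroup G, A₀ ≤ A → Nat.card A₀ = p →
          ¬ (Subgroup.normalizer (A₀ : Set G) ≤ M ∧
            ∀ L : Subgroup G, IsCoatom L → Subgroup.normalizer (A₀ : Set G) ≤ L → L = M)) →
        p ∈ sigma M ∧ alphaCore M = ⊥ ∧ Group.IsNilpotent (sigmaCore M))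

/-- If `A` normalizes `N`, `A` has exponent `p`, and `c ∈ N ⊔ A` has order prime to `p`, then
`c ∈ N`. -/
theorem mem_of_mem_sup_of_coprime_order {N A : Subgroup G} {p : ℕ}
    (hAN : A ≤ Subgroup.normalizer (N : Set G)) (hA : ∀ a ∈ A, a ^ p = 1) {c : G}
    (hc : c ∈ N ⊔ A) (hcop : p.Coprime (orderOf c)) : c ∈ N := by
  have hc' : c ∈ ((N ⊔ A : Subgroup G) : Set G) := hc
  rw [Subgroup.coe_mul_of_right_le_normalizer_left N A hAN] at hc'
  obtain ⟨n, hn, a, ha, rfl⟩ := hc'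
  have key : ∀ j : ℕ, ∃ m ∈ N, (n * a) ^ j = m * a ^ j := by
    intro j
    induction j with
    | zero => exact ⟨1, one_mem _, by simp⟩
    | succ j ih =>
      obtain ⟨m, hm, hj⟩ := ih
      refine ⟨m * (a ^ j * n * (a ^ j)⁻¹), mul_mem hm ?_, ?_⟩
      · exact (Subgroup.mem_normalizer_iff.mp (hAN (pow_mem ha j)) n).mp hn
      · rw [pow_succ, hj, pow_succ]
        group
  obtain ⟨m, hm, hp⟩ := key p
  rw [hA a ha, mul_one] at hp
  obtain ⟨k, hk⟩ := exists_pow_eq_self_of_coprime hcop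
  rw [← hk, hp]
  exact pow_mem hm k

/-- From S1416: if `p ∉ σ(M)` then `M` is exceptional for some point `A₀` of `A`, and moreover `M` is
the unique maximal subgroup containing `N_G(A₀)`. -/
theorem exists_exceptional_of_not_mem_sigma (h16 : S1416Stmt G) (M : Subgroup G) (hM : IsCoatom M)
    (p : ℕ) [Fact p.Prime] (hpσ : p ∉ sigma M) (A : Subgroup G)
    (hA : A ≤ M ∧ IsElementaryAbelian p A ∧ Nat.card A = p ^ 2) :
    ∃ A₀ : Subgroup G, IsExceptional M p A₀ A ∧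
      ∀ L : Subgroup G, IsCoatom L → Subgroup.normalizer (A₀ : Set G) ≤ L → L = M := by
  by_contra hcon
  push Not at hcon
  apply hpσ
  refine ((h16 M hM p A hA).2 ?_).1
  intro A₀ h1 h2 h3
  obtain ⟨L, hL, hNL, hLM⟩ := hcon A₀ ⟨hM, hpσ, hA.1, hA.2.1, hA.2.2, h1, h2, h3.1⟩
  exact hLM (h3.2 L hL hNL)

/-- **Bender–Glauberman Lemma 11.4**: a maximal subgroup `H ⊇ A` with `H_σ ∩ M_σ ≠ 1` is `M`. -/
theorem exceptional_sigma_uniq [Finite G] (hG : IsMinSimpleOddOrder G) (hU : UniquenessThm G)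
    (p : ℕ) [Fact p.Prime] (hPL : ∀ H : Subgroup G, H ≠ ⊤ → PLengthLE p 1 H)
    (M A₀ A : Subgroup G) (hexc : IsExceptional M p A₀ A)
    (hnil : Group.IsNilpotent (sigmaCore M)) (H : Subgroup G) (hH : IsCoatom H) (hAH : A ≤ H)
    (hne : sigmaCore H ⊓ sigmaCore M ≠ ⊥) : H = M := by
  by_contra hHM
  apply hne
  by_cases hc : ∃ g : G, MulAut.conj g • M = H
  · obtain ⟨g, hg⟩ := hc
    have hgM : g ∉ M := by
      intro hgM
      apply hHM
      rw [← hg]
      exact Cfsg.Agent.Lib.Helper54.mem_normalizer_iff_conj_smul.mp (Subgroup.le_normalizer hgM)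
    have h1 := Cfsg.Agent.Lib.Helper54.exceptional_sigmaCore_inf_conj hG hU p hPL M A₀ A hexc g hgM
      (by rw [hg]; exact hAH)
    rw [eq_bot_iff, ← h1, hg]
    exact le_inf inf_le_right (inf_le_left.trans (Cfsg.Agent.Lib.Helper54.sigmaCore_le H))
  · push Not at hc
    have h1 := ((Cfsg.Agent.Lib.Helper54.sigma_disjoint hG hU M H hexc.coatom hH hc).2 hnil).2
    rw [inf_comm]
    exact h1

/-- **Bender–Glauberman Theorem 12.5(e)**, for an exceptional `M`. -/
theorem exceptional_sigmaCore_inf_eq_bot [Finite G] (hG : IsMinSimpleOddOrder G)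
    (hU : UniquenessThm G) (p : ℕ) [Fact p.Prime]
    (hPL : ∀ H : Subgroup G, H ≠ ⊤ → PLengthLE p 1 H) (h11 : Sec11 G) (h16 : S1416Stmt G)
    (M A₀ A : Subgroup G) (hexc : IsExceptional M p A₀ A) (Mstar : Subgroup G)
    (hMs : IsCoatom Mstar) (hne : Mstar ≠ M) (hAMs : A ≤ Mstar) :
    sigmaCore M ⊓ Mstar = ⊥ := by
  have hp : p.Prime := Fact.out
  obtain ⟨hnil, -, -, hd, -⟩ := h11 M p A₀ A hexc
  -- 11.4
  have h114 : sigmaCore Mstar ⊓ sigmaCore M = ⊥ := by
    by_contra h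
    exact hne (exceptional_sigma_uniq hG hU p hPL M A₀ A hexc hnil Mstar hMs hAMs h)
  have hpK : ¬ p ∣ Nat.card (sigmaCore M) := fun h =>
    hexc.not_sigma (Cfsg.Agent.Lib.Helper54.sigmaCore_isPi M p hp h)
  rw [eq_bot_iff]
  intro d hd'
  obtain ⟨hdK, hdMs⟩ := Subgroup.mem_inf.mp hd'
  have hdC : d ∈ Subgroup.centralizer (A : Set G) := by
    rw [Subgroup.mem_centralizer_iff]
    intro a ha
    have haM : a ∈ M := hexc.le ha
    have hcK : a * d * a⁻¹ * d⁻¹ ∈ sigmaCore M :=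
      mul_mem ((Subgroup.mem_normalizer_iff.mp
        (Cfsg.Agent.Lib.Helper54.le_normalizer_sigmaCore M haM) d).mp hdK) (inv_mem hdK)
    have hcKs : a * d * a⁻¹ * d⁻¹ ∈ sigmaCore Mstar := by
      by_cases hpσ : p ∈ sigma Mstar
      · have hAKs : A ≤ sigmaCore Mstar := by
          apply Cfsg.Agent.Lib.Helper54.le_sigmaCore_of_isPi hG hU Mstar hMs hAMs
          intro r hr hrA
          rw [hexc.card] at hrA
          rw [(Nat.prime_dvd_prime_iff_eq hr hp).mp (hr.dvd_of_dvd_pow hrA)]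
          exact hpσ
        have h1 : d * a⁻¹ * d⁻¹ ∈ sigmaCore Mstar :=
          (Subgroup.mem_normalizer_iff.mp
            (Cfsg.Agent.Lib.Helper54.le_normalizer_sigmaCore Mstar hdMs) a⁻¹).mp
            (inv_mem (hAKs ha))
        have : a * d * a⁻¹ * d⁻¹ = a * (d * a⁻¹ * d⁻¹) := by group
        rw [this]
        exact mul_mem (hAKs ha) h1
      · obtain ⟨A₀', hexc', -⟩ := exists_exceptional_of_not_mem_sigma h16 Mstar hMs p hpσ A
          ⟨hAMs, hexc.elemAb, hexc.card⟩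
        obtain ⟨-, -, hc', -, -⟩ := h11 Mstar p A₀' A hexc'
        have h1 : d * a⁻¹ * d⁻¹ ∈ sigmaCore Mstar ⊔ A :=
          (Subgroup.mem_normalizer_iff.mp (hc' hdMs) a⁻¹).mp
            (Subgroup.mem_sup_right (inv_mem ha))
        have h2 : a * d * a⁻¹ * d⁻¹ ∈ sigmaCore Mstar ⊔ A := by
          have : a * d * a⁻¹ * d⁻¹ = a * (d * a⁻¹ * d⁻¹) := by group
          rw [this]
          exact mul_mem (Subgroup.mem_sup_right ha) h1
        apply mem_of_mem_sup_of_coprime_order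
          (hAMs.trans (Cfsg.Agent.Lib.Helper54.le_normalizer_sigmaCore Mstar)) hexc.elemAb.2 h2
        rw [Nat.Prime.coprime_iff_not_dvd hp]
        intro hdvd
        apply hpK
        have h3 : orderOf (a * d * a⁻¹ * d⁻¹) ∣ Nat.card (sigmaCore M) := by
          have := orderOf_dvd_natCard (⟨_, hcK⟩ : sigmaCore M)
          rwa [Subgroup.orderOf_mk] at this
        exact hdvd.trans h3
    have hc1 : a * d * a⁻¹ * d⁻¹ = 1 := by
      have : a * d * a⁻¹ * d⁻¹ ∈ sigmaCore Mstar ⊓ sigmaCore M := ⟨hcKs, hcK⟩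
      rw [h114] at this
      exact Subgroup.mem_bot.mp this
    calc a * d = (a * d * a⁻¹ * d⁻¹) * (d * a) := by group
      _ = d * a := by rw [hc1, one_mul]
  have : d ∈ sigmaCore M ⊓ Subgroup.centralizer (A : Set G) := ⟨hdK, hdC⟩
  rw [hd] at this
  exact this

/-- **Bender–Glauberman Theorem 12.5** (statement S1417), from the section 11 package and S1416. -/
theorem s1417_of [Finite G] (hG : IsMinSimpleOddOrder G) (hU : UniquenessThm G)
    (hPL : ∀ (q : ℕ) [Fact q.Prime] (H : Subgroup G), H ≠ ⊤ → PLengthLE q 1 H)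
    (h11 : Sec11 G) (h16 : S1416Stmt G)
    (M : Subgroup G) (hM : IsCoatom M) (p : ℕ) [Fact p.Prime] (hp : p ∈ tau2 M) (A : Subgroup G)
    (hA : A ≤ M ∧ IsElementaryAbelian p A ∧ Nat.card A = p ^ 2) :
    Group.IsNilpotent (sigmaCore M) ∧
      (∀ P : Sylow p M, IsMulCommutative (P : Subgroup M) ∧
        (A ≤ (P : Subgroup M).map M.subtype →
          (∀ x ∈ (P : Subgroup M).map M.subtype, x ^ p = 1 ↔ x ∈ A) ∧
          ¬ Subgroup.normalizer ((((P : Subgroup M).map M.subtype : Subgroup G)) : Set G) ≤ M)) ∧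
      M ≤ Subgroup.normalizer ((sigmaCore M ⊔ A : Subgroup G) : Set G) ∧
      sigmaCore M ⊓ Subgroup.centralizer (A : Set G) = ⊥ ∧
      (∀ Mstar : Subgroup G, IsCoatom Mstar → Mstar ≠ M → A ≤ Mstar → sigmaCore M ⊓ Mstar = ⊥) ∧
      ∃ A₁ : Subgroup G, A₁ ≤ A ∧ Nat.card A₁ = p ∧
        sigmaCore M ⊓ Subgroup.centralizer (A₁ : Set G) = ⊥ := by
  obtain ⟨A₀, hexc, -⟩ := exists_exceptional_of_not_mem_sigma h16 M hM p hp.2.1 A hA
  obtain ⟨ha, hb, hc, hd, hf⟩ := h11 M p A₀ A hexc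
  refine ⟨ha, hb, hc, hd, ?_, hf⟩
  intro Mstar hMs hne hAMs
  exact exceptional_sigmaCore_inf_eq_bot hG hU p (hPL p) h11 h16 M A₀ A hexc Mstar hMs hne hAMs

end Cfsg.Agent.Lib.Helper21
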