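import Cfsg.Agent.Lib.Helper21.BGTwelveK
import Cfsg.Agent.Lib.Helper68.BGElevenFinal
import Cfsg.Agent.Lib.Helper51.BGTwelveMain
import Cfsg.Agent.Lib.Helper50.BGTwelveSeven
import Cfsg.Agent.Lib.Helper54.BGTenEleven
import Cfsg.Agent.Lib.Helper23.BGTen7
import Cfsg.Agent.S1406

/-!
# B&G 12.5 / 12.6 / 12.7: unconditional forms (statements S1417, S1418, S1419)
-/

set_option autoImplicit false

namespace Cfsg.Agent.Lib.Helper21

open scoped Pointwise
open Cfsg

variable {G : Type*} [Group G]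

theorem s1411_of [Finite G] (hG : IsMinSimpleOddOrder G) :
    ∀ (r : ℕ) [Fact r.Prime] (P : Sylow r G), (P : Subgroup G) ≤
      ⁅Subgroup.normalizer ((P : Subgroup G) : Set G),
        Subgroup.normalizer ((P : Subgroup G) : Set G)⁆ :=
  fun r _ P => Cfsg.Agent.Lib.Helper23.sylow_le_commutator_normalizer (pLengthLE_of hG) hG r P

/-- B&G 11.7 (helper68 / helper54 / helper55 / helper46 / helper91). -/
theorem exc117_of [Finite G] (hG : IsMinSimpleOddOrder G) : Exc117 G :=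
  fun M p _ A₀ A h => Cfsg.Agent.Lib.Helper68.exc_normal hG (uniquenessThm_of hG) (pLengthLE_of hG)
    (s1411_of hG) (s1412Stmt_of hG) M p A₀ A h

/-- The S1416 statement (helper51). -/
theorem s1416Stmt_of [Finite G] (hG : IsMinSimpleOddOrder G) : S1416Stmt G :=
  fun M hM p _ A hA => Cfsg.Agent.Lib.Helper51.BG12.s1416_of hG (uniquenessThm_of hG)
    (exc117_of hG) (pLengthLE_of hG)
    (fun M hM X hXM hXα hr => Cfsg.Agent.S1406.result hG M hM X hXM hXα hr) M hM p A hA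

/-- **S1417** (B&G Theorem 12.5). -/
theorem s1417_main [Finite G] (hG : IsMinSimpleOddOrder G)
    (M : Subgroup G) (hM : IsCoatom M) (p : ℕ) [Fact p.Prime] (hp : p ∈ tau2 M) (A : Subgroup G)
    (hA : A ≤ M ∧ IsElementaryAbelian p A ∧ Nat.card A = p ^ 2) :
    Group.IsNilpotent (sigmaCore M) ∧
      (∀ P : Sylow p M, IsMulCommutative (P : Subgroup M) ∧
        (A ≤ (P : Subgroup M).map M.subtype →
          (∀ x ∈ (P : Subgroup M).map M.subtype, x ^ p = 1 ↔ x ∈ A) ∧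
          ¬ Subgroup.normalizer ((((P : Subgroup M).map M.subtype : Subgroup G)) : Set G) ≤ M)) ∧
      M ≤ Subgroup.normalizer ((sigmaCore M ⊔ A : Subgroup G) : Set G) ∧
      sigmaCore M ⊓ Subgroup.centralizer (A : Set G) = ⊥ ∧
      (∀ Mstar : Subgroup G, IsCoatom Mstar → Mstar ≠ M → A ≤ Mstar → sigmaCore M ⊓ Mstar = ⊥) ∧
      ∃ A₁ : Subgroup G, A₁ ≤ A ∧ Nat.card A₁ = p ∧
        sigmaCore M ⊓ Subgroup.centralizer (A₁ : Set G) = ⊥ :=
  s1417_final hG (exc117_of hG) (s1416Stmt_of hG) M hM p hp A hA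

/-- **S1418** (B&G Corollary 12.6). -/
theorem s1418_main [Finite G] (hG : IsMinSimpleOddOrder G)
    (M : Subgroup G) (hM : IsCoatom M) (E : Subgroup G) (hE : IsComplIn E (sigmaCore M) M)
    (p : ℕ) [Fact p.Prime] (hp : p ∈ tau2 M) (A : Subgroup G)
    (hA : A ≤ E ∧ IsElementaryAbelian p A ∧ Nat.card A = p ^ 2) :
    (E ≤ Subgroup.normalizer (A : Set G) ∧ ∀ X : Subgroup G, X ≤ E → Nat.card X = p → X ≤ A) ∧
      (Subgroup.centralizer (A : Set G) ≤ M ⊓ Subgroup.normalizer (A : Set G) ∧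
        M ⊓ Subgroup.normalizer (A : Set G) = E ∧
        ¬ Subgroup.normalizer (A : Set G) ≤ M) ∧
      ∀ X : Subgroup G, X ≤ A → Nat.card X = p →
        sigmaCore M ⊓ Subgroup.centralizer (X : Set G) ≠ ⊥ →
        (Subgroup.centralizer (X : Set G) ≤ M ∧
          ∀ L : Subgroup G, IsCoatom L → Subgroup.centralizer (X : Set G) ≤ L → L = M) := by
  have hAM : A ≤ M ∧ IsElementaryAbelian p A ∧ Nat.card A = p ^ 2 :=
    ⟨hA.1.trans hE.1, hA.2.1, hA.2.2⟩
  exact s1418_of hG M E hE p A hA (s1416Stmt_of hG M hM p A hAM).1 (s1417_main hG M hM p hp A hAM)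

/-- **S1419** (B&G Theorem 12.7). -/
theorem s1419_main [Finite G] (hG : IsMinSimpleOddOrder G)
    (M : Subgroup G) (hM : IsCoatom M)
    (E : Subgroup G) (hE : IsComplIn E (sigmaCore M) M) (p : ℕ) [Fact p.Prime]
    (hp : p ∈ tau2 M)
    (hS : ∀ S : Sylow p G, ¬ IsMulCommutative (S : Subgroup G))
    (A : Subgroup G) (hA : A ≤ E ∧ IsElementaryAbelian p A ∧ Nat.card A = p ^ 2) :
    tau2 M = {p} ∧
      (Nat.card ↥(A ⊓ Subgroup.centralizer (sigmaCore M : Set G)) = p ∧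
        fittingOf M = sigmaCore M ⊔ (A ⊓ Subgroup.centralizer (sigmaCore M : Set G))) ∧
      ∀ X : Subgroup G, X ≤ E → Nat.card X = p →
        X ≠ A ⊓ Subgroup.centralizer (sigmaCore M : Set G) →
        sigmaCore M ⊓ Subgroup.centralizer (X : Set G) = ⊥ ∧
          ¬ Subgroup.centralizer (X : Set G) ≤ M := by
  have hAM : A ≤ M ∧ IsElementaryAbelian p A ∧ Nat.card A = p ^ 2 :=
    ⟨hA.1.trans hE.1, hA.2.1, hA.2.2⟩
  have hU := uniquenessThm_of hG
  have htau : tau2 M = {p} := by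
    apply Cfsg.Agent.Lib.Helper50.s1419_tau2 hG hU M hM E hE p hp hS A hA
    · exact fun P => ((s1417_main hG M hM p hp A hAM).2.1 P).1
    · intro q _ hq B hB
      have h18 := s1418_main hG M hM E hE q hq B hB
      exact ⟨h18.1.1, h18.2.1.1.trans inf_le_left⟩
    · exact Cfsg.Agent.Lib.Helper54.toolP_tau2 hG hU M hM p hp (pLengthLE_of hG p) (s1411_of hG p)
        A hAM.1 hAM.2.1 hAM.2.2
  exact s1419_final hG (exc117_of hG) (s1416Stmt_of hG) M hM E hE p hp hS A hA htau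

end Cfsg.Agent.Lib.Helper21
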