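import Mathlib
import Cfsg.Prelude.Def_OddOrderLocal
import Cfsg.Prelude.Def_OddOrder
import Cfsg.Agent.Lib.Helper54.BGFourteenDefs
import Cfsg.Agent.Lib.Helper54.BGFourteenEmbed
import Cfsg.Agent.Lib.Helper22.BGFourteenFourA
import Cfsg.Agent.Lib.Helper24.PrimeAction
import Cfsg.Agent.Lib.Helper62.PiHall
import Cfsg.Agent.Lib.Helper21.BGFourteenSevenA
import Cfsg.Agent.S1403

/-!
# Bender–Glauberman Theorem 14.7 (a): the partner `M*` when `K ≤ M*_σ`  (helper21)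

`M` a maximal subgroup of a minimal simple group of odd order, `K ≠ 1` a Hall `κ(M)`-subgroup,
`K* = C_{M_σ}(K)`.

* `partner_of_le_sigmaCore`: if `M*` is a maximal subgroup with `K ≤ M*_σ` and `K* ≤ M*`, then
  `K = C_{M*_σ}(K*)` and `K*` is a Hall `κ(M*)`-subgroup of `M*` (count-free; from
  B&G 14.2 = `Stmt1430`, 14.3 = `Stmt1432`, 13.6 = `KstarCentUniq`, 13.9 = `SigmaDisjoint`);
* `exists_partner_of_prime`: such an `M*` exists when `|K|` is prime.
-/

set_option autoImplicit false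

namespace Cfsg.Agent.Lib.Helper21

open Cfsg Cfsg.Agent.Lib.Helper54
open Cfsg.Agent.Lib.Helper22.BGFourteenFour (Stmt1432)
open scoped Pointwise

universe u

variable {G : Type u} [Group G]

/-- Cauchy inside a subgroup. -/
theorem exists_mem_orderOf_eq [Finite G] {A : Subgroup G} {q : ℕ} (hq : q.Prime)
    (hqA : q ∣ Nat.card A) : ∃ y ∈ A, orderOf y = q := by
  have : Fact q.Prime := ⟨hq⟩
  obtain ⟨y, hy⟩ := exists_prime_orderOf_dvd_card' q hqA
  exact ⟨(y : G), y.2, by rw [Subgroup.orderOf_coe]; exact hy⟩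

theorem exists_prime_orderOf_mem [Finite G] {A : Subgroup G} (hA : A ≠ ⊥) :
    ∃ q : ℕ, q.Prime ∧ ∃ y ∈ A, orderOf y = q := by
  obtain ⟨q, hq, hqA⟩ := Nat.exists_prime_and_dvd (fun h => hA (Subgroup.card_eq_one.mp h))
  exact ⟨q, hq, exists_mem_orderOf_eq hq hqA⟩

theorem ne_one_of_orderOf_prime {y : G} {q : ℕ} (hq : q.Prime) (hy : orderOf y = q) : y ≠ 1 := by
  rintro rfl
  rw [orderOf_one] at hy
  exact hq.ne_one hy.symm

theorem card_zpowers_prime {y : G} {q : ℕ} (hq : q.Prime) (hy : orderOf y = q) :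
    (Nat.card (Subgroup.zpowers y)).Prime := by
  rw [Nat.card_zpowers, hy]; exact hq

theorem centralizer_zpowers_le (y : G) :
    Subgroup.centralizer ((Subgroup.zpowers y : Subgroup G) : Set G) ≤
      Subgroup.centralizer ({y} : Set G) :=
  Subgroup.centralizer_le (by
    intro z hz
    rw [Set.mem_singleton_iff] at hz
    subst hz
    exact Subgroup.mem_zpowers z)

/-- The key step: an element `b` of prime order `q` of `L_σ ∩ C(K_L)` (`K_L ≠ 1` Hall `κ(L)`) lying in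
`M ≠ L` and commuting with a non-identity element of `M_σ` has `q ∈ κ(M)`. -/
theorem mem_kappa_of_commute [Finite G] (hG : IsMinSimpleOddOrder G)
    (h32 : Stmt1432 G) (h136 : KstarCentUniq G)
    {M L K : Subgroup G} (hM : IsCoatom M) (hL : IsCoatom L) (hne : L ≠ M)
    (hdisj : sigmaCore M ⊓ sigmaCore L = ⊥)
    (hK : IsPiHallOf (kappa L) K L) (hK1 : K ≠ ⊥)
    {a b : G} (ha : a ∈ sigmaCore M) (ha1 : a ≠ 1)
    (hb : b ∈ sigmaCore L ⊓ Subgroup.centralizer (K : Set G)) (hbM : b ∈ M)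
    (hab : a * b = b * a) {q : ℕ} (hq : q.Prime) (hbq : orderOf b = q) : q ∈ kappa M := by
  have hU : Cfsg.Agent.Lib.Helper34.UniquenessThm G :=
    fun K hK h1 h3 => Cfsg.Agent.S1403.result hG K hK h1 h3
  have hb1 : b ≠ 1 := ne_one_of_orderOf_prime hq hbq
  have hb' : b ∈ M ⊓ Subgroup.centralizer ({a} : Set G) := by
    refine Subgroup.mem_inf.mpr ⟨hbM, ?_⟩
    rw [Subgroup.mem_centralizer_iff]
    intro z hz
    rw [Set.mem_singleton_iff] at hz
    subst hz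
    exact hab
  have hσ' : ∀ p : ℕ, p.Prime → p ∣ orderOf b → p ∉ sigma M := by
    intro p hp hpd hpσ
    rw [hbq] at hpd
    have hpq : p = q := (Nat.prime_dvd_prime_iff_eq hp hq).mp hpd
    subst hpq
    have hzM : Subgroup.zpowers b ≤ M := by
      rw [Subgroup.zpowers_le]; exact hbM
    have hzσ : Subgroup.zpowers b ≤ sigmaCore M := by
      apply le_sigmaCore_of_isPi hG hU M hM hzM
      intro r hr hrd
      rw [Nat.card_zpowers, hbq] at hrd
      rw [(Nat.prime_dvd_prime_iff_eq hr hp).mp hrd]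
      exact hpσ
    have : b ∈ sigmaCore M ⊓ sigmaCore L :=
      Subgroup.mem_inf.mpr ⟨hzσ (Subgroup.mem_zpowers b), hb.1⟩
    rw [hdisj, Subgroup.mem_bot] at this
    exact hb1 this
  rcases h32 M hM a ha ha1 b hb' hb1 hσ' with ⟨hκ, -⟩ | ⟨-, -, hcent, -⟩
  · exact hκ q hq (by rw [hbq])
  · exfalso
    have hzle : Subgroup.zpowers b ≤ sigmaCore L ⊓ Subgroup.centralizer (K : Set G) := by
      rw [Subgroup.zpowers_le]; exact hb
    have := h136 L hL K hK hK1 (Subgroup.zpowers b) hzle (card_zpowers_prime hq hbq) M hM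
      ((centralizer_zpowers_le b).trans hcent)
    exact hne this.symm

/-- **B&G 14.7(a), count-free part.**  If `K ≤ M*_σ` and `K* ≤ M*` then `M*` is the partner of `M`:
`K = C_{M*_σ}(K*)` and `K*` is a Hall `κ(M*)`-subgroup of `M*`. -/
theorem partner_of_le_sigmaCore [Finite G] (hG : IsMinSimpleOddOrder G)
    (h30 : Stmt1430 G) (h32 : Stmt1432 G) (h136 : KstarCentUniq G) (hσ : SigmaDisjoint G)
    {M K : Subgroup G} (hM : IsCoatom M) (hK : IsPiHallOf (kappa M) K M) (hK1 : K ≠ ⊥)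
    {Ms : Subgroup G} (hMs : IsCoatom Ms) (hKs : K ≤ sigmaCore Ms)
    (hAs : sigmaCore M ⊓ Subgroup.centralizer (K : Set G) ≤ Ms) :
    K = sigmaCore Ms ⊓ Subgroup.centralizer
        ((sigmaCore M ⊓ Subgroup.centralizer (K : Set G) : Subgroup G) : Set G) ∧
      IsPiHallOf (kappa Ms) (sigmaCore M ⊓ Subgroup.centralizer (K : Set G)) Ms := by
  classical
  set A : Subgroup G := sigmaCore M ⊓ Subgroup.centralizer (K : Set G) with hA_def
  have hA1 : A ≠ ⊥ := kstar_ne_bot hG h30 hM hK hK1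
  have hdisj : sigmaCore M ⊓ sigmaCore Ms = ⊥ :=
    sigmaCore_inf_eq_bot_of_sigmaDisjoint hG hσ M Ms hM hMs K hK hK1 hKs
  -- `M* ≠ M`
  have hne : Ms ≠ M := by
    intro h
    obtain ⟨p, hp, hpK⟩ := Nat.exists_prime_and_dvd (fun h => hK1 (Subgroup.card_eq_one.mp h))
    have h1 : p ∈ sigma Ms :=
      sigmaCore_isPi Ms p hp (hpK.trans (Subgroup.card_dvd_of_le hKs))
    rw [h] at h1
    exact (hK.2.1 p hp hpK).2.2.1 h1
  -- elements
  obtain ⟨x, hxK, hx1⟩ : ∃ x ∈ K, x ≠ 1 := by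
    obtain ⟨x, hx⟩ := (Subgroup.ne_bot_iff_exists_ne_one).mp hK1
    exact ⟨x, x.2, fun h => hx (Subtype.ext h)⟩
  obtain ⟨q₀, hq₀, y₀, hy₀A, hy₀⟩ := exists_prime_orderOf_mem hA1
  have hy₀1 : y₀ ≠ 1 := ne_one_of_orderOf_prime hq₀ hy₀
  have hKA : ∀ k ∈ K, ∀ a ∈ A, k * a = a * k := fun k hk a ha =>
    (Subgroup.mem_centralizer_iff.mp ha.2) k hk
  -- `K*` is a `κ(M*)`-group
  have hAκ : Cfsg.Agent.Lib.Helper62.IsPiNum (kappa Ms) (Nat.card A) := by
    intro q hq hqA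
    obtain ⟨y, hyA, hy⟩ := exists_mem_orderOf_eq hq hqA
    exact mem_kappa_of_commute hG h32 h136 hMs hM hne.symm (by rw [inf_comm]; exact hdisj) hK hK1
      (hKs hxK) hx1 hyA (hAs hyA) (hKA x hxK y hyA) hq hy
  obtain ⟨Kss, hKss, hAKss⟩ :=
    Cfsg.Agent.Lib.Helper62.isPiHallOf_dom (π := kappa Ms) (hG.2.2.2 Ms hMs.1) hAs hAκ
  have hKss1 : Kss ≠ ⊥ := ne_bot_of_le_ne_bot hA1 hAKss
  obtain ⟨h30a, -, h30c⟩ := h30 Ms hMs Kss hKss hKss1
  -- `K ≤ B := C_{M*_σ}(K**)`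
  have hKB : K ≤ sigmaCore Ms ⊓ Subgroup.centralizer (Kss : Set G) := by
    intro k hk
    rw [← h30a y₀ (hAKss hy₀A) hy₀1]
    refine Subgroup.mem_inf.mpr ⟨hKs hk, ?_⟩
    rw [Subgroup.mem_centralizer_iff]
    intro z hz
    rw [Set.mem_singleton_iff] at hz
    subst hz
    exact (hKA k hk z hy₀A).symm
  -- `K** B ≤ M`
  have hYA : Subgroup.zpowers y₀ ≤ A := by
    rw [Subgroup.zpowers_le]; exact hy₀A
  have hYp : (Nat.card (Subgroup.zpowers y₀)).Prime := card_zpowers_prime hq₀ hy₀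
  have hNM : Subgroup.normalizer ((Subgroup.zpowers y₀ : Subgroup G) : Set G) ≤ M := by
    have : Fact q₀.Prime := ⟨hq₀⟩
    have hpg : IsPGroup q₀ (Subgroup.zpowers y₀) :=
      IsPGroup.of_card (n := 1) (by rw [pow_one, Nat.card_zpowers, hy₀])
    have hntop := Cfsg.Agent.Lib.Helper24.normalizer_ne_top_of_isPGroup hG hpg
      (ne_bot_of_card_prime hYp)
    obtain ⟨L, hL, hNL⟩ := exists_isCoatom_ge hntop
    have hLM : L = M := h136 M hM K hK hK1 _ hYA hYp L hL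
      ((Subgroup.centralizer_le_normalizer _).trans hNL)
    rw [← hLM]; exact hNL
  have hKssB : Kss ⊔ (sigmaCore Ms ⊓ Subgroup.centralizer (Kss : Set G)) ≤ M := by
    rw [← (h30c _ (hYA.trans hAKss) hYp).1]
    exact inf_le_right.trans hNM
  -- `K** ≤ K K*`
  obtain ⟨p₀, hp₀, x₀, hx₀K, hx₀⟩ := exists_prime_orderOf_mem hK1
  have hXK : Subgroup.zpowers x₀ ≤ K := by
    rw [Subgroup.zpowers_le]; exact hx₀K
  have hNK := ((h30 M hM K hK hK1).2.2 _ hXK (card_zpowers_prime hp₀ hx₀)).2.1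
  have hKssKA : Kss ≤ K ⊔ A := by
    rw [← hNK]
    intro z hz
    refine Subgroup.mem_inf.mpr ⟨hKssB (Subgroup.mem_sup_left hz), ?_⟩
    apply Subgroup.centralizer_le_normalizer
    rw [Subgroup.mem_centralizer_iff]
    intro k hk
    exact ((Subgroup.mem_centralizer_iff.mp (hKB hk).2) z hz).symm
  -- `K ∩ K** = 1`
  have hKKss : K ⊓ Kss = ⊥ := by
    apply (Subgroup.disjoint_of_coprime_natCard _).eq_bot
    apply Nat.coprime_of_dvd
    intro r hr hrK hrKss
    have h1 : r ∈ sigma Ms := sigmaCore_isPi Ms r hr (hrK.trans (Subgroup.card_dvd_of_le hKs))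
    exact (hKss.2.1 r hr hrKss).2.2.1 h1
  -- `K** = K*`
  have hKssA : Kss = A := by
    refine le_antisymm ?_ hAKss
    intro z hz
    obtain ⟨k, hk, a, ha, rfl⟩ := exists_mul_of_mem_sup_of_commute hKA (hKssKA hz)
    have hkKss : k ∈ Kss := by
      have : k = k * a * a⁻¹ := by group
      rw [this]
      exact Kss.mul_mem hz (Kss.inv_mem (hAKss ha))
    have hk1 : k = 1 := by
      have : k ∈ K ⊓ Kss := Subgroup.mem_inf.mpr ⟨hk, hkKss⟩
      rwa [hKKss, Subgroup.mem_bot] at this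
    rw [hk1, one_mul]; exact ha
  -- `B` is a `κ(M)`-group
  have hBM : sigmaCore Ms ⊓ Subgroup.centralizer (Kss : Set G) ≤ M := le_sup_right.trans hKssB
  have hBκ : Cfsg.Agent.Lib.Helper62.IsPiNum (kappa M)
      (Nat.card ↥(sigmaCore Ms ⊓ Subgroup.centralizer (Kss : Set G))) := by
    intro q hq hqB
    obtain ⟨b, hbB, hb⟩ := exists_mem_orderOf_eq hq hqB
    exact mem_kappa_of_commute hG h32 h136 hM hMs hne hdisj hKss hKss1
      hy₀A.1 hy₀1 hbB (hBM hbB)
      ((Subgroup.mem_centralizer_iff.mp hbB.2) y₀ (hAKss hy₀A)) hq hb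
  obtain ⟨K', hK', hBK'⟩ :=
    Cfsg.Agent.Lib.Helper62.isPiHallOf_dom (π := kappa M) (hG.2.2.2 M hM.1) hBM hBκ
  have hKK' : K = K' :=
    Subgroup.eq_of_le_of_card_ge (hKB.trans hBK')
      (Cfsg.Agent.Lib.Helper62.card_eq_of_isPiHallOf hK' hK).le
  have hBK : K = sigmaCore Ms ⊓ Subgroup.centralizer (Kss : Set G) :=
    le_antisymm hKB (by rw [hKK']; exact hBK')
  refine ⟨?_, ?_⟩
  · rw [← hKssA]; exact hBK
  · rw [← hKssA]; exact hKss

/-- **B&G 14.7(a)** when `|K|` is prime: a partner `M*` exists. -/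
theorem exists_partner_of_prime [Finite G] (hG : IsMinSimpleOddOrder G)
    (h30 : Stmt1430 G) (h32 : Stmt1432 G) (h136 : KstarCentUniq G) (hσ : SigmaDisjoint G)
    {M K : Subgroup G} (hM : IsCoatom M) (hK : IsPiHallOf (kappa M) K M)
    (hKp : (Nat.card K).Prime) :
    ∃ Ms : Subgroup G, IsCoatom Ms ∧
      K = sigmaCore Ms ⊓ Subgroup.centralizer
        ((sigmaCore M ⊓ Subgroup.centralizer (K : Set G) : Subgroup G) : Set G) ∧
      IsPiHallOf (kappa Ms) (sigmaCore M ⊓ Subgroup.centralizer (K : Set G)) Ms := by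
  have hK1 : K ≠ ⊥ := ne_bot_of_card_prime hKp
  have : Fact (Nat.card K).Prime := ⟨hKp⟩
  have hpg : IsPGroup (Nat.card K) K := IsPGroup.of_card (n := 1) (by rw [pow_one])
  have hntop := Cfsg.Agent.Lib.Helper24.normalizer_ne_top_of_isPGroup hG hpg hK1
  obtain ⟨Ms, hMs, hNMs⟩ := exists_isCoatom_ge hntop
  have hKs : K ≤ sigmaCore Ms :=
    ((h30 M hM K hK hK1).2.2 K le_rfl hKp).2.2 Ms hMs hNMs
  have hAs : sigmaCore M ⊓ Subgroup.centralizer (K : Set G) ≤ Ms :=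
    inf_le_right.trans ((Subgroup.centralizer_le_normalizer _).trans hNMs)
  exact ⟨Ms, hMs, partner_of_le_sigmaCore hG h30 h32 h136 hσ hM hK hK1 hMs hKs hAs⟩

end Cfsg.Agent.Lib.Helper21
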