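import Mathlib
import Cfsg.Prelude.Def_OddOrderLocal
import Cfsg.Prelude.Def_OddOrder
import Cfsg.Agent.Lib.Helper54.BGFourteenDefs
import Cfsg.Agent.Lib.Helper54.BGFourteenEmbed
import Cfsg.Agent.Lib.Helper22.BGFourteenFourA
import Cfsg.Agent.Lib.Helper24.PrimeAction
import Cfsg.Agent.Lib.Helper62.PiHall
import Cfsg.Agent.Lib.Helper21.BGFourteenSevenA
import Cfsg.Agent.Lib.Helper21.BGFourteenSevenD

/-!
# Bender–Glauberman Theorem 14.7: the step `M ⟶ M_X` and the clique of `Z = K × K*`  (helper21)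

`step_member`: for a maximal subgroup `L` with Hall `κ(L)`-subgroup `K_L ≠ 1`, `X ≤ K_L` of prime
order and `L'` a maximal subgroup over `N_G(X)`: `L' ≠ L`, and `L'` has a Hall `κ(L')`-subgroup
`K_L' ⊇ K_L* ` with `X ≤ K_L'*` and `K_L × K_L* = K_L' × K_L'*`.
-/

set_option autoImplicit false

namespace Cfsg.Agent.Lib.Helper21

open Cfsg Cfsg.Agent.Lib.Helper54
open Cfsg.Agent.Lib.Helper22.BGFourteenFour (Stmt1432)
open scoped Pointwise

universe u

variable {G : Type u} [Group G]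

theorem mul_comm_of_isCyclic_subgroup {C : Subgroup G} (hC : IsCyclic C) :
    ∀ a ∈ C, ∀ b ∈ C, a * b = b * a := by
  intro a ha b hb
  have := (IsCyclic.isMulCommutative (α := ↥C)).is_comm.comm ⟨a, ha⟩ ⟨b, hb⟩
  exact congrArg Subtype.val this

theorem exists_mem_ne_one_of_ne_bot {X : Subgroup G} (hX : X ≠ ⊥) : ∃ x ∈ X, x ≠ 1 := by
  obtain ⟨x, hx⟩ := (Subgroup.ne_bot_iff_exists_ne_one).mp hX
  exact ⟨x, x.2, fun h => hx (Subtype.ext h)⟩

/-- `M_σ ∩ L_σ = 1` when `L_σ` contains a nontrivial `κ(M)`-subgroup (B&G 13.9). -/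
theorem sigmaCore_inf_eq_bot_of_kappa_le [Finite G]
    (hσ : SigmaDisjoint G) {M L X : Subgroup G} (hM : IsCoatom M) (hL : IsCoatom L)
    (hX1 : X ≠ ⊥) (hXκ : ∀ p : ℕ, p.Prime → p ∣ Nat.card X → p ∈ kappa M)
    (hXL : X ≤ sigmaCore L) : sigmaCore M ⊓ sigmaCore L = ⊥ := by
  by_contra h
  have hc1 : Nat.card ↥(sigmaCore M ⊓ sigmaCore L) ≠ 1 := fun hc =>
    h (Subgroup.card_eq_one.mp hc)
  obtain ⟨p, hp, hpd⟩ := Nat.exists_prime_and_dvd hc1
  have hpM : p ∈ sigma M :=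
    sigmaCore_isPi M p hp (hpd.trans (Subgroup.card_dvd_of_le inf_le_left))
  have hpL : p ∈ sigma L :=
    sigmaCore_isPi L p hp (hpd.trans (Subgroup.card_dvd_of_le inf_le_right))
  by_cases hconj : ∀ g : G, L.map (MulAut.conj g).toMonoidHom ≠ M
  · exact hσ M L hM hL hconj p hpM hpL
  · push Not at hconj
    obtain ⟨g, hg⟩ := hconj
    have hσeq : sigma M = sigma L := by
      rw [← hg]
      exact Cfsg.Agent.Lib.Helper51.BG12.sigma_cj g L
    have hk1 : Nat.card X ≠ 1 := fun hc => hX1 (Subgroup.card_eq_one.mp hc)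
    obtain ⟨q, hq, hqX⟩ := Nat.exists_prime_and_dvd hk1
    have hqκ : q ∈ kappa M := hXκ q hq hqX
    have hqσ : q ∈ sigma L := sigmaCore_isPi L q hq (hqX.trans (Subgroup.card_dvd_of_le hXL))
    exact hqκ.2.2.1 (hσeq ▸ hqσ)

/-- **The step.** -/
theorem step_member [Finite G] (hG : IsMinSimpleOddOrder G)
    (h30 : Stmt1430 G) (h32 : Stmt1432 G) (h136 : KstarCentUniq G) (hσ : SigmaDisjoint G)
    (hcyc : KappaHallCyclic G)
    {L KL : Subgroup G} (hL : IsCoatom L) (hKL : IsPiHallOf (kappa L) KL L) (hKL1 : KL ≠ ⊥)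
    {X : Subgroup G} (hXK : X ≤ KL) (hXp : (Nat.card X).Prime)
    {L' : Subgroup G} (hL' : IsCoatom L') (hNX : Subgroup.normalizer (X : Set G) ≤ L') :
    L' ≠ L ∧ sigmaCore L ⊓ sigmaCore L' = ⊥ ∧
      ∃ KL' : Subgroup G, IsPiHallOf (kappa L') KL' L' ∧ KL' ≠ ⊥ ∧
      sigmaCore L ⊓ Subgroup.centralizer (KL : Set G) ≤ KL' ∧
      X ≤ sigmaCore L' ⊓ Subgroup.centralizer (KL' : Set G) ∧
      KL ⊔ (sigmaCore L ⊓ Subgroup.centralizer (KL : Set G)) =
        KL' ⊔ (sigmaCore L' ⊓ Subgroup.centralizer (KL' : Set G)) := by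
  classical
  set A : Subgroup G := sigmaCore L ⊓ Subgroup.centralizer (KL : Set G) with hA_def
  have hA1 : A ≠ ⊥ := kstar_ne_bot hG h30 hL hKL hKL1
  have hX1 : X ≠ ⊥ := ne_bot_of_card_prime hXp
  obtain ⟨-, -, h30c⟩ := h30 L hL KL hKL hKL1
  obtain ⟨hNXZ, -, hXσ⟩ := h30c X hXK hXp
  have hXs : X ≤ sigmaCore L' := hXσ L' hL' hNX
  have hKLcomm := mul_comm_of_isCyclic_subgroup (hcyc L hL KL hKL)
  have hXκ : ∀ p : ℕ, p.Prime → p ∣ Nat.card X → p ∈ kappa L := fun p hp hpd =>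
    hKL.2.1 p hp (hpd.trans (Subgroup.card_dvd_of_le hXK))
  have hdisj : sigmaCore L ⊓ sigmaCore L' = ⊥ :=
    sigmaCore_inf_eq_bot_of_kappa_le hσ hL hL' hX1 hXκ hXs
  have hne : L' ≠ L := by
    intro h
    have h1 : (Nat.card X) ∈ sigma L' :=
      sigmaCore_isPi L' _ hXp (Subgroup.card_dvd_of_le hXs)
    rw [h] at h1
    exact (hXκ _ hXp dvd_rfl).2.2.1 h1
  obtain ⟨x, hxX, hx1⟩ := exists_mem_ne_one_of_ne_bot hX1
  obtain ⟨q₀, hq₀, y₀, hy₀A, hy₀⟩ := exists_prime_orderOf_mem hA1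
  have hy₀1 : y₀ ≠ 1 := ne_one_of_orderOf_prime hq₀ hy₀
  have hKA : ∀ k ∈ KL, ∀ a ∈ A, k * a = a * k := fun k hk a ha =>
    (Subgroup.mem_centralizer_iff.mp ha.2) k hk
  -- `Z ≤ L'`
  have hZL' : KL ⊔ A ≤ L' := by
    have hCX : Subgroup.centralizer (X : Set G) ≤ L' :=
      (Subgroup.centralizer_le_normalizer _).trans hNX
    apply sup_le
    · intro k hk
      apply hCX
      rw [Subgroup.mem_centralizer_iff]
      intro z hz
      exact hKLcomm z (hXK hz) k hk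
    · intro a ha
      apply hCX
      rw [Subgroup.mem_centralizer_iff]
      intro z hz
      exact hKA z (hXK hz) a ha
  -- `A` is a `κ(L')`-group
  have hAκ : Cfsg.Agent.Lib.Helper62.IsPiNum (kappa L') (Nat.card A) := by
    intro q hq hqA
    obtain ⟨y, hyA, hy⟩ := exists_mem_orderOf_eq hq hqA
    exact mem_kappa_of_commute hG h32 h136 hL' hL hne.symm (by rw [inf_comm]; exact hdisj) hKL hKL1
      (hXs hxX) hx1 hyA (hZL' (Subgroup.mem_sup_right hyA)) (hKA x (hXK hxX) y hyA) hq hy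
  obtain ⟨KL', hKL'H, hAKL'⟩ :=
    Cfsg.Agent.Lib.Helper62.isPiHallOf_dom (π := kappa L') (hG.2.2.2 L' hL'.1)
      (le_sup_right.trans hZL') hAκ
  have hKL'1 : KL' ≠ ⊥ := ne_bot_of_le_ne_bot hA1 hAKL'
  have hKL'comm := mul_comm_of_isCyclic_subgroup (hcyc L' hL' KL' hKL'H)
  obtain ⟨h30a', -, h30c'⟩ := h30 L' hL' KL' hKL'H hKL'1
  -- `X ≤ B`
  have hXB : X ≤ sigmaCore L' ⊓ Subgroup.centralizer (KL' : Set G) := by
    intro k hk
    rw [← h30a' y₀ (hAKL' hy₀A) hy₀1]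
    refine Subgroup.mem_inf.mpr ⟨hXs hk, ?_⟩
    rw [Subgroup.mem_centralizer_iff]
    intro z hz
    rw [Set.mem_singleton_iff] at hz
    subst hz
    exact (hKA k (hXK hk) z hy₀A).symm
  -- `K' B ≤ L`
  have hYA : Subgroup.zpowers y₀ ≤ A := by
    rw [Subgroup.zpowers_le]; exact hy₀A
  have hYp : (Nat.card (Subgroup.zpowers y₀)).Prime := card_zpowers_prime hq₀ hy₀
  have hNL : Subgroup.normalizer ((Subgroup.zpowers y₀ : Subgroup G) : Set G) ≤ L := by
    have : Fact q₀.Prime := ⟨hq₀⟩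
    have hpg : IsPGroup q₀ (Subgroup.zpowers y₀) :=
      IsPGroup.of_card (n := 1) (by rw [pow_one, Nat.card_zpowers, hy₀])
    have hntop := Cfsg.Agent.Lib.Helper24.normalizer_ne_top_of_isPGroup hG hpg
      (ne_bot_of_card_prime hYp)
    obtain ⟨N, hN, hNN⟩ := exists_isCoatom_ge hntop
    have hNLeq : N = L := h136 L hL KL hKL hKL1 _ hYA hYp N hN
      ((Subgroup.centralizer_le_normalizer _).trans hNN)
    rw [← hNLeq]; exact hNN
  have hZ'eq := (h30c' _ (hYA.trans hAKL') hYp).1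
  have hZ'L : KL' ⊔ (sigmaCore L' ⊓ Subgroup.centralizer (KL' : Set G)) ≤ L := by
    rw [← hZ'eq]
    exact inf_le_right.trans hNL
  -- `B` is a `κ(L)`-group, hence abelian
  have hBL : sigmaCore L' ⊓ Subgroup.centralizer (KL' : Set G) ≤ L := le_sup_right.trans hZ'L
  have hBκ : Cfsg.Agent.Lib.Helper62.IsPiNum (kappa L)
      (Nat.card ↥(sigmaCore L' ⊓ Subgroup.centralizer (KL' : Set G))) := by
    intro q hq hqB
    obtain ⟨b, hbB, hb⟩ := exists_mem_orderOf_eq hq hqB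
    exact mem_kappa_of_commute hG h32 h136 hL hL' hne hdisj hKL'H hKL'1
      hy₀A.1 hy₀1 hbB (hBL hbB)
      ((Subgroup.mem_centralizer_iff.mp hbB.2) y₀ (hAKL' hy₀A)) hq hb
  obtain ⟨K₁, hK₁, hBK₁⟩ :=
    Cfsg.Agent.Lib.Helper62.isPiHallOf_dom (π := kappa L) (hG.2.2.2 L hL.1) hBL hBκ
  have hK₁comm := mul_comm_of_isCyclic_subgroup (hcyc L hL K₁ hK₁)
  -- `Z' ≤ Z`
  have hZ'Z : KL' ⊔ (sigmaCore L' ⊓ Subgroup.centralizer (KL' : Set G)) ≤ KL ⊔ A := by
    rw [← hNXZ]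
    refine le_inf hZ'L ?_
    refine le_trans ?_ (Subgroup.centralizer_le_normalizer _)
    apply sup_le
    · intro k hk
      rw [Subgroup.mem_centralizer_iff]
      intro z hz
      exact ((Subgroup.mem_centralizer_iff.mp (hXB hz).2) k hk).symm
    · intro b hb
      rw [Subgroup.mem_centralizer_iff]
      intro z hz
      exact hK₁comm z (hBK₁ (hXB hz)) b (hBK₁ hb)
  -- `Z ≤ Z'`
  have hZZ' : KL ⊔ A ≤ KL' ⊔ (sigmaCore L' ⊓ Subgroup.centralizer (KL' : Set G)) := by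
    rw [← hZ'eq]
    refine le_inf hZL' ?_
    refine le_trans ?_ (Subgroup.centralizer_le_normalizer _)
    apply sup_le
    · intro k hk
      rw [Subgroup.mem_centralizer_iff]
      intro z hz
      exact (hKA k hk z (hYA hz)).symm
    · intro a ha
      rw [Subgroup.mem_centralizer_iff]
      intro z hz
      exact hKL'comm z (hAKL' (hYA hz)) a (hAKL' ha)
  exact ⟨hne, hdisj, KL', hKL'H, hKL'1, hAKL', hXB, le_antisymm hZZ' hZ'Z⟩

/-- For `X ≠ 1` a `p`-group-like subgroup of prime order there is a maximal subgroup over `N_G(X)`. -/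
theorem exists_isCoatom_normalizer_le [Finite G] (hG : IsMinSimpleOddOrder G) {X : Subgroup G}
    (hXp : (Nat.card X).Prime) :
    ∃ L : Subgroup G, IsCoatom L ∧ Subgroup.normalizer (X : Set G) ≤ L := by
  have : Fact (Nat.card X).Prime := ⟨hXp⟩
  have hpg : IsPGroup (Nat.card X) X := IsPGroup.of_card (n := 1) (by rw [pow_one])
  have hntop := Cfsg.Agent.Lib.Helper24.normalizer_ne_top_of_isPGroup hG hpg
    (ne_bot_of_card_prime hXp)
  exact exists_isCoatom_ge hntop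

/-- `K* = C_{M_σ}(K)` is cyclic. -/
theorem kstar_isCyclic [Finite G] (hG : IsMinSimpleOddOrder G)
    (h30 : Stmt1430 G) (h32 : Stmt1432 G) (h136 : KstarCentUniq G) (hσ : SigmaDisjoint G)
    (hcyc : KappaHallCyclic G)
    {L KL : Subgroup G} (hL : IsCoatom L) (hKL : IsPiHallOf (kappa L) KL L) (hKL1 : KL ≠ ⊥) :
    IsCyclic ↥(sigmaCore L ⊓ Subgroup.centralizer (KL : Set G)) := by
  obtain ⟨p, hp, x, hxK, hx⟩ := exists_prime_orderOf_mem hKL1
  have hXK : Subgroup.zpowers x ≤ KL := by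
    rw [Subgroup.zpowers_le]; exact hxK
  have hXp := card_zpowers_prime hp hx
  obtain ⟨L', hL', hNX⟩ := exists_isCoatom_normalizer_le hG hXp
  obtain ⟨-, -, KL', hKL'H, -, hAKL', -, -⟩ :=
    step_member hG h30 h32 h136 hσ hcyc hL hKL hKL1 hXK hXp hL' hNX
  have := hcyc L' hL' KL' hKL'H
  exact Subgroup.isCyclic_of_le hAKL'

end Cfsg.Agent.Lib.Helper21
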