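import Mathlib
import Cfsg.Prelude.Def_OddOrderLocal
import Cfsg.Prelude.Def_OddOrder
import Cfsg.Agent.Lib.Helper54.BGFourteenDefs
import Cfsg.Agent.Lib.Helper54.BGFourteenEmbed
import Cfsg.Agent.Lib.Helper54.UqNine4
import Cfsg.Agent.Lib.Helper22.BGFourteenFourA
import Cfsg.Agent.Lib.Helper22.BGFourteenFourB
import Cfsg.Agent.S1403
import Cfsg.Agent.Lib.Helper24.PrimeAction
import Cfsg.Agent.Lib.Helper62.PiHall
import Cfsg.Agent.Lib.Helper21.BGFourteenSevenA
import Cfsg.Agent.Lib.Helper21.BGFourteenSevenD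
import Cfsg.Agent.Lib.Helper21.BGFourteenSevenE

/-!
# Bender–Glauberman Theorem 14.7: the clique of `Z = K × K*`  (helper21)

`IsMemberWith Z L KL`: `L` is a maximal subgroup, `KL ≠ 1` a Hall `κ(L)`-subgroup of `L` and
`Z = KL × C_{L_σ}(KL)`.  Basic properties of members, and of two members of the same `Z`.
-/

set_option autoImplicit false

namespace Cfsg.Agent.Lib.Helper21

open Cfsg Cfsg.Agent.Lib.Helper54
open Cfsg.Agent.Lib.Helper22.BGFourteenFour (Stmt1432)
open scoped Pointwise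

universe u

variable {G : Type u} [Group G]

/-! ### Generalities -/

theorem exists_pow_orderOf_eq_prime [Finite G] {x : G} (hx1 : x ≠ 1) :
    ∃ (p k : ℕ), p.Prime ∧ orderOf (x ^ k) = p := by
  have hxo : orderOf x ≠ 1 := fun h => hx1 (orderOf_eq_one_iff.mp h)
  obtain ⟨p, hp, hpd⟩ := Nat.exists_prime_and_dvd hxo
  exact ⟨p, orderOf x / p, hp, orderOf_pow_orderOf_div (orderOf_pos x).ne' hpd⟩

/-- `C(a) ≤ C(⟨a ^ k⟩)`. -/
theorem centralizer_singleton_le_centralizer_zpowers_pow (a : G) (k : ℕ) :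
    Subgroup.centralizer ({a} : Set G) ≤
      Subgroup.centralizer ((Subgroup.zpowers (a ^ k) : Subgroup G) : Set G) := by
  intro c hc
  rw [Subgroup.mem_centralizer_iff]
  intro w hw
  have hle : Subgroup.zpowers (a ^ k) ≤ Subgroup.centralizer ({c} : Set G) := by
    rw [Subgroup.zpowers_le]
    apply Subgroup.pow_mem
    rw [Subgroup.mem_centralizer_iff]
    intro h hh
    rw [Set.mem_singleton_iff] at hh
    subst hh
    exact ((Subgroup.mem_centralizer_iff.mp hc) a (Set.mem_singleton a)).symm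
  exact ((Subgroup.mem_centralizer_iff.mp (hle hw)) c (Set.mem_singleton c)).symm

/-- `C(a) ≤ C(a ^ k)`. -/
theorem centralizer_singleton_le_centralizer_pow (a : G) (k : ℕ) :
    Subgroup.centralizer ({a} : Set G) ≤ Subgroup.centralizer ({a ^ k} : Set G) :=
  (centralizer_singleton_le_centralizer_zpowers_pow a k).trans (centralizer_zpowers_le (a ^ k))

theorem mem_right_of_coprime_orderOf [Finite G] {A B : Subgroup G}
    (hAB : ∀ a ∈ A, ∀ b ∈ B, a * b = b * a) (hcop : (Nat.card A).Coprime (Nat.card B))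
    {z : G} (hz : z ∈ A ⊔ B) (hzo : (orderOf z).Coprime (Nat.card A)) : z ∈ B := by
  obtain ⟨a, ha, b, hb, rfl⟩ := exists_mul_of_mem_sup_of_commute hAB hz
  have ha1 : a ^ Nat.card A = 1 :=
    congrArg Subtype.val (pow_card_eq_one' (G := A) (x := ⟨a, ha⟩))
  have hb1 : b ^ Nat.card B = 1 :=
    congrArg Subtype.val (pow_card_eq_one' (G := B) (x := ⟨b, hb⟩))
  obtain ⟨⟨i, hi⟩, -⟩ := exists_pow_eq_of_coprime (hAB a ha b hb) ha1 hb1 hcop
  have h1 : orderOf a ∣ orderOf (a * b) := by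
    have := orderOf_pow_dvd (x := a * b) i
    rwa [hi] at this
  have h2 : orderOf a ∣ Nat.card A := orderOf_dvd_of_pow_eq_one ha1
  have h3 : orderOf a ∣ Nat.gcd (orderOf (a * b)) (Nat.card A) := Nat.dvd_gcd h1 h2
  rw [Nat.Coprime.gcd_eq_one hzo, Nat.dvd_one, orderOf_eq_one_iff] at h3
  rw [h3, one_mul]; exact hb

theorem mem_left_of_coprime_orderOf [Finite G] {A B : Subgroup G}
    (hAB : ∀ a ∈ A, ∀ b ∈ B, a * b = b * a) (hcop : (Nat.card A).Coprime (Nat.card B))
    {z : G} (hz : z ∈ A ⊔ B) (hzo : (orderOf z).Coprime (Nat.card B)) : z ∈ A := by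
  rw [sup_comm] at hz
  exact mem_right_of_coprime_orderOf (fun b hb a ha => (hAB a ha b hb).symm) hcop.symm hz hzo

/-! ### Members -/

/-- `L` is a member of the clique of `Z`, with Hall `κ(L)`-subgroup `KL`. -/
def IsMemberWith (Z L KL : Subgroup G) : Prop :=
  IsCoatom L ∧ IsPiHallOf (kappa L) KL L ∧ KL ≠ ⊥ ∧
    Z = KL ⊔ (sigmaCore L ⊓ Subgroup.centralizer (KL : Set G))

section Member

variable {Z L KL : Subgroup G}

theorem IsMemberWith.k_le (hm : IsMemberWith Z L KL) : KL ≤ Z := by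
  rw [hm.2.2.2]; exact le_sup_left

theorem IsMemberWith.kstar_le (hm : IsMemberWith Z L KL) :
    sigmaCore L ⊓ Subgroup.centralizer (KL : Set G) ≤ Z := by
  rw [hm.2.2.2]; exact le_sup_right

theorem IsMemberWith.le (hm : IsMemberWith Z L KL) : Z ≤ L := by
  rw [hm.2.2.2]
  exact sup_le hm.2.1.1 (inf_le_left.trans (sigmaCore_le L))

theorem IsMemberWith.commute (_hm : IsMemberWith Z L KL) :
    ∀ k ∈ KL, ∀ a ∈ sigmaCore L ⊓ Subgroup.centralizer (KL : Set G), k * a = a * k :=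
  fun k hk _ ha => (Subgroup.mem_centralizer_iff.mp ha.2) k hk

theorem IsMemberWith.coprime [Finite G] (hG : IsMinSimpleOddOrder G)
    (hm : IsMemberWith Z L KL) :
    (Nat.card KL).Coprime (Nat.card ↥(sigmaCore L ⊓ Subgroup.centralizer (KL : Set G))) :=
  coprime_card_kstar hG hm.1 hm.2.1

theorem IsMemberWith.mem_kstar_of_coprime [Finite G] (hG : IsMinSimpleOddOrder G)
    (hm : IsMemberWith Z L KL) {z : G} (hz : z ∈ Z) (hzo : (orderOf z).Coprime (Nat.card KL)) :
    z ∈ sigmaCore L ⊓ Subgroup.centralizer (KL : Set G) := by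
  rw [hm.2.2.2] at hz
  exact mem_right_of_coprime_orderOf hm.commute (hm.coprime hG) hz hzo

theorem IsMemberWith.mem_k_of_coprime [Finite G] (hG : IsMinSimpleOddOrder G)
    (hm : IsMemberWith Z L KL) {z : G} (hz : z ∈ Z)
    (hzo : (orderOf z).Coprime
      (Nat.card ↥(sigmaCore L ⊓ Subgroup.centralizer (KL : Set G)))) : z ∈ KL := by
  rw [hm.2.2.2] at hz
  exact mem_left_of_coprime_orderOf hm.commute (hm.coprime hG) hz hzo

theorem IsMemberWith.coprime_sigmaCore [Finite G] (hm : IsMemberWith Z L KL) :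
    (Nat.card (sigmaCore L)).Coprime (Nat.card KL) := by
  apply Nat.coprime_of_dvd
  intro r hr hrσ hrK
  exact (hm.2.1.2.1 r hr hrK).2.2.1 (sigmaCore_isPi L r hr hrσ)

/-- `Z ∩ L_σ = C_{L_σ}(K_L)`. -/
theorem IsMemberWith.inf_sigmaCore_eq [Finite G] (hG : IsMinSimpleOddOrder G)
    (hm : IsMemberWith Z L KL) :
    Z ⊓ sigmaCore L = sigmaCore L ⊓ Subgroup.centralizer (KL : Set G) := by
  apply le_antisymm
  · intro z hz
    apply hm.mem_kstar_of_coprime hG hz.1
    exact Nat.Coprime.coprime_dvd_left ((sigmaCore L).orderOf_dvd_natCard hz.2)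
      hm.coprime_sigmaCore
  · exact le_inf hm.kstar_le inf_le_left

/-- An element of `Z` all of whose prime divisors lie in `σ(L)` lies in `K_L*`. -/
theorem IsMemberWith.mem_kstar_of_sigma [Finite G] (hG : IsMinSimpleOddOrder G)
    (hm : IsMemberWith Z L KL) {z : G} (hz : z ∈ Z)
    (hzσ : ∀ p : ℕ, p.Prime → p ∣ orderOf z → p ∈ sigma L) :
    z ∈ sigmaCore L ⊓ Subgroup.centralizer (KL : Set G) := by
  apply hm.mem_kstar_of_coprime hG hz
  apply Nat.coprime_of_dvd
  intro r hr hrz hrK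
  exact (hm.2.1.2.1 r hr hrK).2.2.1 (hzσ r hr hrz)

/-- `C_G(a) ≤ L` for `1 ≠ a ∈ K_L*`. -/
theorem IsMemberWith.centralizer_le [Finite G] (hG : IsMinSimpleOddOrder G)
    (h136 : KstarCentUniq G) (hm : IsMemberWith Z L KL) {a : G}
    (ha : a ∈ sigmaCore L ⊓ Subgroup.centralizer (KL : Set G)) (ha1 : a ≠ 1) :
    Subgroup.centralizer ({a} : Set G) ≤ L := by
  obtain ⟨p, k, hp, hk⟩ := exists_pow_orderOf_eq_prime ha1
  have hYA : Subgroup.zpowers (a ^ k) ≤ sigmaCore L ⊓ Subgroup.centralizer (KL : Set G) := by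
    rw [Subgroup.zpowers_le]; exact Subgroup.pow_mem _ ha k
  have hYp := card_zpowers_prime hp hk
  have huniq := h136 L hm.1 KL hm.2.1 hm.2.2.1 _ hYA hYp
  exact (centralizer_singleton_le_centralizer_zpowers_pow a k).trans
    (centralizer_le_of_unique hG (ne_bot_of_card_prime hYp) huniq)

/-- `L` is the only maximal subgroup over `C_G(a)`, for `a ∈ K_L*` of prime order. -/
theorem IsMemberWith.eq_of_centralizer_le [Finite G]
    (h136 : KstarCentUniq G) (hm : IsMemberWith Z L KL) {a : G}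
    (ha : a ∈ sigmaCore L ⊓ Subgroup.centralizer (KL : Set G)) {p : ℕ} (hp : p.Prime)
    (hap : orderOf a = p) {N : Subgroup G} (hN : IsCoatom N)
    (hle : Subgroup.centralizer ({a} : Set G) ≤ N) : N = L := by
  have hYA : Subgroup.zpowers a ≤ sigmaCore L ⊓ Subgroup.centralizer (KL : Set G) := by
    rw [Subgroup.zpowers_le]; exact ha
  exact h136 L hm.1 KL hm.2.1 hm.2.2.1 _ hYA (card_zpowers_prime hp hap) N hN
    ((centralizer_zpowers_le a).trans hle)

/-- `L ∩ N_G(X) = Z` for `X ≤ K_L` of prime order. -/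
theorem IsMemberWith.inf_normalizer_eq (h30 : Stmt1430 G) (hm : IsMemberWith Z L KL)
    {X : Subgroup G} (hXK : X ≤ KL) (hXp : (Nat.card X).Prime) :
    L ⊓ Subgroup.normalizer (X : Set G) = Z := by
  rw [hm.2.2.2]
  exact ((h30 L hm.1 KL hm.2.1 hm.2.2.1).2.2 X hXK hXp).1

/-- `L ∩ N_G(K_L) = Z`. -/
theorem IsMemberWith.inf_normalizer_k_eq [Finite G] (h30 : Stmt1430 G)
    (hm : IsMemberWith Z L KL) :
    L ⊓ Subgroup.normalizer (KL : Set G) = Z := by
  obtain ⟨p, hp, x, hxK, hx⟩ := exists_prime_orderOf_mem hm.2.2.1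
  have hXK : Subgroup.zpowers x ≤ KL := by
    rw [Subgroup.zpowers_le]; exact hxK
  rw [hm.2.2.2]
  exact ((h30 L hm.1 KL hm.2.1 hm.2.2.1).2.2 _ hXK (card_zpowers_prime hp hx)).2.1

/-- `C_G(z) ≤ Z` for `z ∈ Z` outside `K_L ∪ K_L*`. -/
theorem IsMemberWith.centralizer_le_of_not_mem [Finite G] (hG : IsMinSimpleOddOrder G)
    (h30 : Stmt1430 G) (h136 : KstarCentUniq G) (hm : IsMemberWith Z L KL) {z : G}
    (hz : z ∈ Z) (hzK : z ∉ KL)
    (hzA : z ∉ sigmaCore L ⊓ Subgroup.centralizer (KL : Set G)) :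
    Subgroup.centralizer ({z} : Set G) ≤ Z := by
  have hz' := hz
  rw [hm.2.2.2] at hz'
  obtain ⟨k, hk, a, ha, rfl⟩ := exists_mul_of_mem_sup_of_commute hm.commute hz'
  have hk1 : k ≠ 1 := by
    rintro rfl
    rw [one_mul] at hzA
    exact hzA ha
  have ha1 : a ≠ 1 := by
    rintro rfl
    rw [mul_one] at hzK
    exact hzK hk
  have hkc : k ^ Nat.card KL = 1 :=
    congrArg Subtype.val (pow_card_eq_one' (G := KL) (x := ⟨k, hk⟩))
  have hac : a ^ Nat.card ↥(sigmaCore L ⊓ Subgroup.centralizer (KL : Set G)) = 1 :=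
    congrArg Subtype.val (pow_card_eq_one'
      (G := ↥(sigmaCore L ⊓ Subgroup.centralizer (KL : Set G))) (x := ⟨a, ha⟩))
  obtain ⟨⟨i, hi⟩, ⟨j, hj⟩⟩ :=
    exists_pow_eq_of_coprime (hm.commute k hk a ha) hkc hac (hm.coprime hG)
  -- `C(z) ≤ C(a) ≤ L`
  have h1 : Subgroup.centralizer ({k * a} : Set G) ≤ L := by
    have := centralizer_singleton_le_centralizer_pow (k * a) j
    rw [hj] at this
    exact this.trans (hm.centralizer_le hG h136 ha ha1)
  -- `C(z) ≤ C(k) ≤ N(X)`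
  obtain ⟨p, n, hp, hn⟩ := exists_pow_orderOf_eq_prime hk1
  have hXK : Subgroup.zpowers (k ^ n) ≤ KL := by
    rw [Subgroup.zpowers_le]; exact Subgroup.pow_mem _ hk n
  have hXp := card_zpowers_prime hp hn
  have h2 : Subgroup.centralizer ({k * a} : Set G) ≤
      Subgroup.normalizer ((Subgroup.zpowers (k ^ n) : Subgroup G) : Set G) := by
    have h3 := centralizer_singleton_le_centralizer_pow (k * a) i
    rw [hi] at h3
    exact h3.trans ((centralizer_singleton_le_centralizer_zpowers_pow k n).trans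
      (Subgroup.centralizer_le_normalizer _))
  rw [← hm.inf_normalizer_eq h30 hXK hXp]
  exact le_inf h1 h2

theorem orderOf_conj_eq (k y : G) : orderOf (k * y * k⁻¹) = orderOf y := by
  have h : SemiconjBy k y (k * y * k⁻¹) := by
    unfold SemiconjBy; group
  exact (h.orderOf_eq k).symm

/-- `N_G(Z) ≤ Z`. -/
theorem IsMemberWith.normalizer_le [Finite G] (hG : IsMinSimpleOddOrder G)
    (h30 : Stmt1430 G) (h136 : KstarCentUniq G) (hm : IsMemberWith Z L KL) :
    Subgroup.normalizer (Z : Set G) ≤ Z := by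
  intro k hk
  have hconj : ∀ w ∈ Z, k * w * k⁻¹ ∈ Z := fun w hw =>
    (Subgroup.mem_normalizer_iff.mp hk w).mp hw
  have hA1 := kstar_ne_bot hG h30 hm.1 hm.2.1 hm.2.2.1
  obtain ⟨q, hq, y, hyA, hy⟩ := exists_prime_orderOf_mem hA1
  have hy1 := ne_one_of_orderOf_prime hq hy
  have hy'o : orderOf (k * y * k⁻¹) = q := by rw [orderOf_conj_eq, hy]
  have hy'Z : k * y * k⁻¹ ∈ Z := hconj y (hm.kstar_le hyA)
  have hqA : q ∣ Nat.card ↥(sigmaCore L ⊓ Subgroup.centralizer (KL : Set G)) := by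
    rw [← hy]; exact Subgroup.orderOf_dvd_natCard _ hyA
  have hy'A : k * y * k⁻¹ ∈ sigmaCore L ⊓ Subgroup.centralizer (KL : Set G) := by
    apply hm.mem_kstar_of_coprime hG hy'Z
    rw [hy'o]
    exact Nat.Coprime.coprime_dvd_left hqA (hm.coprime hG).symm
  -- `k ∈ L`
  have hkL : k ∈ L := by
    have hN : IsCoatom (MulAut.conj k • L) := isCoatom_conj_smul hm.1 k
    have hle : Subgroup.centralizer ({k * y * k⁻¹} : Set G) ≤ MulAut.conj k • L := by
      intro c hc
      rw [mem_conj_smul_iff]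
      apply hm.centralizer_le hG h136 hyA hy1
      have hc' : k * y * k⁻¹ * c = c * (k * y * k⁻¹) :=
        (Subgroup.mem_centralizer_iff.mp hc) _ (Set.mem_singleton _)
      rw [Subgroup.mem_centralizer_iff]
      intro h hh
      rw [Set.mem_singleton_iff] at hh
      subst hh
      calc h * (k⁻¹ * c * k) = k⁻¹ * (k * h * k⁻¹ * c) * k := by group
        _ = k⁻¹ * (c * (k * h * k⁻¹)) * k := by rw [hc']
        _ = k⁻¹ * c * k * h := by group
    have hNL := hm.eq_of_centralizer_le h136 hy'A hq hy'o hN hle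
    have hkN : k ∈ Subgroup.normalizer (L : Set G) := mem_normalizer_iff_conj_smul.mpr hNL
    have hL1 : L ≠ ⊥ := by
      intro h
      have : y ∈ L := hm.le (hm.kstar_le hyA)
      rw [h, Subgroup.mem_bot] at this
      exact hy1 this
    rwa [Cfsg.Agent.Lib.Helper22.BGFourteenFour.normalizer_eq_of_isCoatom hG.2.1 hm.1 hL1] at hkN
  -- `k ∈ N(K_L)`
  have hkN : k ∈ Subgroup.normalizer (KL : Set G) := by
    apply mem_normalizer_iff_conj_smul.mpr
    apply Subgroup.eq_of_le_of_card_ge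
    · intro x hx
      rw [mem_conj_smul_iff] at hx
      have hxe : k * (k⁻¹ * x * k) * k⁻¹ = x := by group
      have hxZ : x ∈ Z := by
        rw [← hxe]; exact hconj _ (hm.k_le hx)
      apply hm.mem_k_of_coprime hG hxZ
      have hxo : orderOf x = orderOf (k⁻¹ * x * k) := by
        rw [← hxe, orderOf_conj_eq, hxe]
      rw [hxo]
      exact Nat.Coprime.coprime_dvd_left (Subgroup.orderOf_dvd_natCard _ hx) (hm.coprime hG)
    · rw [card_conj_smul]
  rw [← hm.inf_normalizer_k_eq h30]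
  exact Subgroup.mem_inf.mpr ⟨hkL, hkN⟩

/-- Two members whose `K*`'s share a non-identity element coincide. -/
theorem IsMemberWith.eq_of_mem_kstar [Finite G] (hG : IsMinSimpleOddOrder G)
    (h136 : KstarCentUniq G) {Z' L' KL' : Subgroup G}
    (hm : IsMemberWith Z L KL) (hm' : IsMemberWith Z' L' KL') {y : G}
    (hy : y ∈ sigmaCore L ⊓ Subgroup.centralizer (KL : Set G))
    (hy' : y ∈ sigmaCore L' ⊓ Subgroup.centralizer (KL' : Set G)) (hy1 : y ≠ 1) : L' = L := by
  obtain ⟨p, k, hp, hk⟩ := exists_pow_orderOf_eq_prime hy1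
  have hu1 : y ^ k ≠ 1 := ne_one_of_orderOf_prime hp hk
  obtain ⟨N, hN, hle⟩ := exists_isCoatom_ge (centralizer_singleton_ne_top_of_minSimple hG hu1)
  have h1 := hm.eq_of_centralizer_le h136 (Subgroup.pow_mem _ hy k) hp hk hN hle
  have h2 := hm'.eq_of_centralizer_le h136 (Subgroup.pow_mem _ hy' k) hp hk hN hle
  rw [← h1, ← h2]

/-- For two distinct members of `Z`, `K_L'* ≤ K_L`. -/
theorem IsMemberWith.kstar_le_k_of_ne [Finite G] (hG : IsMinSimpleOddOrder G)
    (h136 : KstarCentUniq G) {L' KL' : Subgroup G}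
    (hm : IsMemberWith Z L KL) (hm' : IsMemberWith Z L' KL') (hne : L' ≠ L) :
    sigmaCore L' ⊓ Subgroup.centralizer (KL' : Set G) ≤ KL := by
  intro w hw
  apply hm.mem_k_of_coprime hG (hm'.kstar_le hw)
  apply Nat.coprime_of_dvd
  intro p hp hpw hpA
  have huo : orderOf (w ^ (orderOf w / p)) = p :=
    orderOf_pow_orderOf_div (orderOf_pos w).ne' hpw
  have hu1 : w ^ (orderOf w / p) ≠ 1 := ne_one_of_orderOf_prime hp huo
  have huA' : w ^ (orderOf w / p) ∈ sigmaCore L' ⊓ Subgroup.centralizer (KL' : Set G) :=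
    Subgroup.pow_mem _ hw _
  have huA : w ^ (orderOf w / p) ∈ sigmaCore L ⊓ Subgroup.centralizer (KL : Set G) := by
    apply hm.mem_kstar_of_coprime hG (hm'.kstar_le huA')
    rw [huo]
    exact Nat.Coprime.coprime_dvd_left hpA (hm.coprime hG).symm
  exact hne (hm.eq_of_mem_kstar hG h136 hm' huA huA' hu1)

/-- Distinct members of `Z` are not conjugate. -/
theorem IsMemberWith.not_conj_of_ne [Finite G] (hG : IsMinSimpleOddOrder G)
    (h30 : Stmt1430 G) (h136 : KstarCentUniq G) {L' KL' : Subgroup G}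
    (hm : IsMemberWith Z L KL) (hm' : IsMemberWith Z L' KL') (hne : L' ≠ L) :
    ∀ g : G, L'.map (MulAut.conj g).toMonoidHom ≠ L := by
  intro g hg
  have hU : Cfsg.Agent.Lib.Helper34.UniquenessThm G :=
    fun K hK h1 h3 => Cfsg.Agent.S1403.result hG K hK h1 h3
  have hσeq : sigma L = sigma L' := by
    rw [← hg]
    exact Cfsg.Agent.Lib.Helper51.BG12.sigma_cj g L'
  have hA1 := kstar_ne_bot hG h30 hm.1 hm.2.1 hm.2.2.1
  obtain ⟨q, hq, y, hyA, hy⟩ := exists_prime_orderOf_mem hA1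
  have hy1 := ne_one_of_orderOf_prime hq hy
  have hqσ : q ∈ sigma L' := by
    rw [← hσeq]
    apply sigmaCore_isPi L q hq
    rw [← hy]
    exact Subgroup.orderOf_dvd_natCard _ hyA.1
  have hzL' : Subgroup.zpowers y ≤ L' := by
    rw [Subgroup.zpowers_le]; exact hm'.le (hm.kstar_le hyA)
  have hzσ : Subgroup.zpowers y ≤ sigmaCore L' := by
    apply le_sigmaCore_of_isPi hG hU L' hm'.1 hzL'
    intro r hr hrd
    rw [Nat.card_zpowers, hy] at hrd
    rw [(Nat.prime_dvd_prime_iff_eq hr hq).mp hrd]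
    exact hqσ
  have hyA' : y ∈ sigmaCore L' ⊓ Subgroup.centralizer (KL' : Set G) := by
    rw [← hm'.inf_sigmaCore_eq hG]
    exact Subgroup.mem_inf.mpr ⟨hm.kstar_le hyA, hzσ (Subgroup.mem_zpowers y)⟩
  exact hne (hm.eq_of_mem_kstar hG h136 hm' hyA hyA' hy1)

/-- Every non-identity element of `Z` lies outside `K_L'` for some member `L'`. -/
theorem IsMemberWith.exists_member_not_mem_k [Finite G] (hG : IsMinSimpleOddOrder G)
    (h30 : Stmt1430 G) (h32 : Stmt1432 G) (h136 : KstarCentUniq G) (hσ : SigmaDisjoint G)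
    (hcyc : KappaHallCyclic G) (hm : IsMemberWith Z L KL) {z : G} (hz : z ∈ Z) (hz1 : z ≠ 1) :
    ∃ L' KL' : Subgroup G, IsMemberWith Z L' KL' ∧ z ∉ KL' := by
  obtain ⟨p, k, hp, hk⟩ := exists_pow_orderOf_eq_prime hz1
  have hu1 : z ^ k ≠ 1 := ne_one_of_orderOf_prime hp hk
  have huZ : z ^ k ∈ Z := Subgroup.pow_mem _ hz k
  by_cases hpK : p ∣ Nat.card KL
  · have huK : z ^ k ∈ KL := by
      apply hm.mem_k_of_coprime hG huZ
      rw [hk]
      exact Nat.Coprime.coprime_dvd_left hpK (hm.coprime hG)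
    have hUK : Subgroup.zpowers (z ^ k) ≤ KL := by
      rw [Subgroup.zpowers_le]; exact huK
    have hUp := card_zpowers_prime hp hk
    obtain ⟨L', hL', hNU⟩ := exists_isCoatom_normalizer_le hG hUp
    obtain ⟨-, -, KL', hKL'H, hKL'1, -, hUB, hZeq⟩ :=
      step_member hG h30 h32 h136 hσ hcyc hm.1 hm.2.1 hm.2.2.1 hUK hUp hL' hNU
    refine ⟨L', KL', ⟨hL', hKL'H, hKL'1, hm.2.2.2.trans hZeq⟩, ?_⟩
    intro hzK'
    have : z ^ k ∈ KL' ⊓ (sigmaCore L' ⊓ Subgroup.centralizer (KL' : Set G)) :=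
      Subgroup.mem_inf.mpr ⟨Subgroup.pow_mem _ hzK' k, hUB (Subgroup.mem_zpowers _)⟩
    rw [inf_kstar_eq_bot hG hL' hKL'H, Subgroup.mem_bot] at this
    exact hu1 this
  · refine ⟨L, KL, hm, ?_⟩
    intro hzK
    have huA : z ^ k ∈ sigmaCore L ⊓ Subgroup.centralizer (KL : Set G) := by
      apply hm.mem_kstar_of_coprime hG huZ
      rw [hk]
      exact (Nat.Prime.coprime_iff_not_dvd hp).mpr hpK
    have : z ^ k ∈ KL ⊓ (sigmaCore L ⊓ Subgroup.centralizer (KL : Set G)) :=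
      Subgroup.mem_inf.mpr ⟨Subgroup.pow_mem _ hzK k, huA⟩
    rw [inf_kstar_eq_bot hG hm.1 hm.2.1, Subgroup.mem_bot] at this
    exact hu1 this

end Member

end Cfsg.Agent.Lib.Helper21
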