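import Mathlib

/-!
# The counting argument for the clique of `Z = K × K*` (B&G 14.7), abstract form  (helper21)

`clique_count_false`: a finite family `J` of at least two subgroups `L` of `G`, sets `T L ⊆ G` with
`|T L| = (s_L - 1) |G : L|`, a subgroup `Z` with `|L| a_L = s_L |Z|`, `3 a_L ≤ s_L`, a further set `TZ`
with `|TZ| = |G : Z| |Zh|`, all these sets pairwise disjoint, and `|Z| ≤ |Zh| + ∑ (a_L - 1) + 1`:
impossible.
-/

set_option autoImplicit false

namespace Cfsg.Agent.Lib.Helper21

theorem clique_count_false {G : Type*} [Group G] [Finite G] (Z : Subgroup G)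
    (J : Finset (Subgroup G)) (T : Subgroup G → Set G) (TZ Zh : Set G) (a s : Subgroup G → ℕ)
    (hJ : 2 ≤ J.card)
    (h1 : ∀ L ∈ J, (T L).ncard = (s L - 1) * L.index)
    (h2 : ∀ L ∈ J, Nat.card L * a L = s L * Nat.card Z)
    (h3 : ∀ L ∈ J, 3 * a L ≤ s L)
    (ha : ∀ L ∈ J, 0 < a L)
    (h4 : ∀ L ∈ J, ∀ L' ∈ J, L ≠ L' → Disjoint (T L) (T L'))
    (h4' : ∀ L ∈ J, Disjoint (T L) TZ)
    (h5 : TZ.ncard = Z.index * Zh.ncard)
    (h6 : Nat.card Z ≤ Zh.ncard + ∑ L ∈ J, (a L - 1) + 1) : False := by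
  classical
  have : Fintype G := Fintype.ofFinite G
  -- the union bound
  have hunion : ∑ L ∈ J, (T L).ncard + TZ.ncard ≤ Nat.card G := by
    have e1 : ∀ L, (T L).ncard = (T L).toFinset.card := fun L =>
      Set.ncard_eq_toFinset_card' (T L)
    have e2 : TZ.ncard = TZ.toFinset.card := Set.ncard_eq_toFinset_card' TZ
    have hpd : (J : Set (Subgroup G)).PairwiseDisjoint (fun L => (T L).toFinset) := by
      intro L hL L' hL' hne
      exact Set.disjoint_toFinset.mpr (h4 L hL L' hL' hne)
    have hd2 : Disjoint (J.biUnion (fun L => (T L).toFinset)) TZ.toFinset := by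
      rw [Finset.disjoint_biUnion_left]
      intro L hL
      exact Set.disjoint_toFinset.mpr (h4' L hL)
    calc ∑ L ∈ J, (T L).ncard + TZ.ncard
        = (J.biUnion (fun L => (T L).toFinset)).card + TZ.toFinset.card := by
          rw [Finset.card_biUnion hpd, e2]
          congr 1
          exact Finset.sum_congr rfl (fun L _ => e1 L)
      _ = (J.biUnion (fun L => (T L).toFinset) ∪ TZ.toFinset).card :=
          (Finset.card_union_of_disjoint hd2).symm
      _ ≤ Fintype.card G := Finset.card_le_univ _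
      _ = Nat.card G := (Nat.card_eq_fintype_card).symm
  -- notation
  set D : ℕ := Z.index with hD
  have hDz : D * Nat.card Z = Nat.card G := by
    rw [hD, mul_comm]; exact Subgroup.card_mul_index Z
  have hzpos : 0 < Nat.card Z := Nat.card_pos
  have hDpos : 0 < D := by
    rcases Nat.eq_zero_or_pos D with h | h
    · rw [h, zero_mul] at hDz
      exact absurd hDz.symm (Nat.card_pos (α := G)).ne'
    · exact h
  -- per-member facts
  have hkey : ∀ L ∈ J, D * a L = L.index * s L := by
    intro L hL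
    have hL1 : Nat.card L * L.index = Nat.card G := Subgroup.card_mul_index L
    have : Nat.card Z * (D * a L) = Nat.card Z * (L.index * s L) := by
      calc Nat.card Z * (D * a L) = (D * Nat.card Z) * a L := by ring
        _ = (Nat.card L * L.index) * a L := by rw [hDz, hL1]
        _ = L.index * (Nat.card L * a L) := by ring
        _ = L.index * (s L * Nat.card Z) := by rw [h2 L hL]
        _ = Nat.card Z * (L.index * s L) := by ring
    exact Nat.eq_of_mul_eq_mul_left hzpos this
  have hd3 : ∀ L ∈ J, 3 * L.index ≤ D := by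
    intro L hL
    have h := hkey L hL
    have h3' := h3 L hL
    have hapos := ha L hL
    have : a L * (3 * L.index) ≤ a L * D := by
      calc a L * (3 * L.index) = L.index * (3 * a L) := by ring
        _ ≤ L.index * s L := Nat.mul_le_mul_left _ h3'
        _ = D * a L := h.symm
        _ = a L * D := by ring
    exact Nat.le_of_mul_le_mul_left this hapos
  have hT : ∀ L ∈ J, ((T L).ncard : ℤ) = (D : ℤ) * a L - L.index := by
    intro L hL
    have hs1 : 1 ≤ s L := by
      have := h3 L hL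
      have := ha L hL
      omega
    rw [h1 L hL]
    have h := hkey L hL
    push_cast [Nat.cast_sub hs1]
    have h' : (D : ℤ) * a L = (L.index : ℤ) * s L := by exact_mod_cast h
    rw [h']; ring
  -- the main inequality, in `ℤ`
  have hmain : (∑ L ∈ J, ((T L).ncard : ℤ)) + (D : ℤ) * Zh.ncard ≤ (D : ℤ) * Nat.card Z := by
    have := hunion
    rw [h5, ← hDz] at this
    exact_mod_cast this
  have h6' : (Nat.card Z : ℤ) ≤ Zh.ncard + ∑ L ∈ J, ((a L : ℤ) - 1) + 1 := by
    have e : ∀ L ∈ J, ((a L - 1 : ℕ) : ℤ) = (a L : ℤ) - 1 := fun L hL => by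
      have := ha L hL
      push_cast [Nat.cast_sub this]; ring
    have : (Nat.card Z : ℤ) ≤ Zh.ncard + ∑ L ∈ J, ((a L - 1 : ℕ) : ℤ) + 1 := by
      exact_mod_cast h6
    rwa [Finset.sum_congr rfl e] at this
  have hsumT : ∑ L ∈ J, ((T L).ncard : ℤ) = ∑ L ∈ J, ((D : ℤ) * a L - L.index) :=
    Finset.sum_congr rfl hT
  -- `∑ (D - d_L) ≤ D`
  have hfin : ∑ L ∈ J, ((D : ℤ) - L.index) ≤ D := by
    have hsplit : ∑ L ∈ J, ((D : ℤ) * a L - L.index) =
        (D : ℤ) * ∑ L ∈ J, ((a L : ℤ) - 1) + ∑ L ∈ J, ((D : ℤ) - L.index) := by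
      rw [Finset.mul_sum, ← Finset.sum_add_distrib]
      exact Finset.sum_congr rfl (fun L _ => by ring)
    have hDZ : (D : ℤ) * Nat.card Z ≤
        (D : ℤ) * (Zh.ncard + ∑ L ∈ J, ((a L : ℤ) - 1) + 1) :=
      mul_le_mul_of_nonneg_left h6' (by positivity)
    rw [hsumT, hsplit] at hmain
    nlinarith [hmain, hDZ]
  have hlow : ∑ L ∈ J, (2 * (D : ℤ)) ≤ 3 * ∑ L ∈ J, ((D : ℤ) - L.index) := by
    rw [Finset.mul_sum]
    apply Finset.sum_le_sum
    intro L hL
    have : (3 * L.index : ℤ) ≤ D := by exact_mod_cast hd3 L hL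
    linarith
  rw [Finset.sum_const, nsmul_eq_mul] at hlow
  have hJ' : (2 : ℤ) ≤ J.card := by exact_mod_cast hJ
  have hDpos' : (0 : ℤ) < D := by exact_mod_cast hDpos
  nlinarith [hlow, hfin, hJ', hDpos']

end Cfsg.Agent.Lib.Helper21
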