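import Mathlib
import Cfsg.Prelude.Def_OddOrderLocal
import Cfsg.Prelude.Def_OddOrder
import Cfsg.Agent.Lib.Helper54.BGFourteenDefs
import Cfsg.Agent.Lib.Helper54.BGFourteenEmbed
import Cfsg.Agent.Lib.Helper54.UqNine4
import Cfsg.Agent.Lib.Helper22.BGFourteenFourA
import Cfsg.Agent.Lib.Helper22.BGFourteenFourB
import Cfsg.Agent.Lib.Helper22.BGFourteenFourC
import Cfsg.Agent.Lib.Helper62.PiHall
import Cfsg.Agent.Lib.Helper21.BGFourteenSevenA
import Cfsg.Agent.Lib.Helper21.BGFourteenSevenC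
import Cfsg.Agent.Lib.Helper21.BGFourteenSevenD
import Cfsg.Agent.Lib.Helper21.BGFourteenSevenE
import Cfsg.Agent.Lib.Helper21.BGFourteenSevenF
import Cfsg.Agent.Lib.Helper21.BGFourteenSevenG
import Cfsg.Agent.S1350
import Cfsg.Agent.S1403

/-!
# Bender–Glauberman Theorem 14.7: the clique of `Z = K × K*` cannot consist of groups of type `𝒫₁`
(helper21)

* `clique_false`: two distinct members of `Z`, all members of type `𝒫₁` (`|L| = |L_σ| |K_L|`) ⇒ `False`
  (the count of B&G 14.5–14.7);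
* `exists_partner`: B&G 14.7(a), existence of `M*`;
* `not_both_P1`: B&G 14.7(f), `M` and `M*` are not both of type `𝒫₁`.
-/

set_option autoImplicit false

namespace Cfsg.Agent.Lib.Helper21

open Cfsg Cfsg.Agent.Lib.Helper54
open Cfsg.Agent.Lib.Helper22.BGFourteenFour
  (Stmt1432 Stmt1409 Stmt1416 Stmt1417 Stmt1424)
open Cfsg.Agent.Lib.Helper34 (UniquenessThm)
open scoped Pointwise

universe u

variable {G : Type u} [Group G]

/-- `C(u) ≤ L ⇒ C(v u v⁻¹) ≤ L^v`. -/
theorem centralizer_singleton_conj_le {u v : G} {L : Subgroup G}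
    (h : Subgroup.centralizer ({u} : Set G) ≤ L) :
    Subgroup.centralizer ({v * u * v⁻¹} : Set G) ≤ MulAut.conj v • L := by
  intro c hc
  rw [mem_conj_smul_iff]
  apply h
  have hc' : v * u * v⁻¹ * c = c * (v * u * v⁻¹) :=
    (Subgroup.mem_centralizer_iff.mp hc) _ (Set.mem_singleton _)
  rw [Subgroup.mem_centralizer_iff]
  intro w hw
  rw [Set.mem_singleton_iff] at hw
  subst hw
  calc w * (v⁻¹ * c * v) = v⁻¹ * (v * w * v⁻¹ * c) * v := by group
    _ = v⁻¹ * (c * (v * w * v⁻¹)) * v := by rw [hc']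
    _ = v⁻¹ * c * v * w := by group

/-- A maximal subgroup `L` all of whose prime divisors lie in `σ(L) ∪ κ(L)` has order
`|L_σ| |K_L|`. -/
theorem card_eq_of_P1 [Finite G] (hG : IsMinSimpleOddOrder G) {L KL : Subgroup G}
    (hL : IsCoatom L) (hKL : IsPiHallOf (kappa L) KL L)
    (hP1 : ∀ s : ℕ, s.Prime → s ∣ Nat.card L → s ∈ sigma L ∨ s ∈ kappa L) :
    Nat.card L = Nat.card (sigmaCore L) * Nat.card KL := by
  have hS : IsPiHallOf (sigma L) (sigmaCore L) L := (Cfsg.Agent.S1350.result hG L hL).1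
  have h1 := Cfsg.Agent.Lib.Helper62.isPiHallOf_card_mul hKL
  have h2 := Cfsg.Agent.Lib.Helper62.isPiHallOf_card_mul hS
  have hrS : Cfsg.Agent.Lib.Helper62.IsPiNum (kappa L) ((sigmaCore L).relIndex L) := by
    intro p hp hpd
    have hpL : p ∣ Nat.card L := by
      rw [← h2]; exact hpd.mul_left _
    rcases hP1 p hp hpL with h | h
    · exact absurd hpd (hS.2.2 p hp h)
    · exact h
  have hcS : Cfsg.Agent.Lib.Helper62.IsPiPrimeNum (kappa L) (Nat.card (sigmaCore L)) := by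
    intro p hp hpκ hpd
    exact hpκ.2.2.1 (hS.2.1 p hp hpd)
  have hkey : Nat.card KL = (sigmaCore L).relIndex L := by
    apply Cfsg.Agent.Lib.Helper62.pi_part_unique (π := kappa L) (n := KL.relIndex L)
      (n' := Nat.card (sigmaCore L)) _ hKL.2.1 hKL.2.2 hrS hcS
    rw [h1, mul_comm, h2]
  rw [hkey, h2]

theorem eq_of_le_of_isCoatom {L L' : Subgroup G} (hL : IsCoatom L) (hL' : IsCoatom L')
    (h : L ≤ L') : L = L' := by
  by_contra hne
  exact hL'.1 (hL.2 L' (lt_of_le_of_ne h hne))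

/-- The elements of `Z` lying in no `K_L*`. -/
def zhat (Z : Subgroup G) : Set G :=
  {z | z ∈ Z ∧ ∀ L KL : Subgroup G, IsMemberWith Z L KL →
    z ∉ sigmaCore L ⊓ Subgroup.centralizer (KL : Set G)}

section Clique

variable [Finite G] (hG : IsMinSimpleOddOrder G) (h30 : Stmt1430 G) (h32 : Stmt1432 G)
  (h136 : KstarCentUniq G) (hσ : SigmaDisjoint G) (hcyc : KappaHallCyclic G)

include hG h30 h32 h136 hσ hcyc

/-- `Z` is abelian. -/
theorem IsMemberWith.comm {Z L KL : Subgroup G} (hm : IsMemberWith Z L KL) :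
    ∀ a ∈ Z, ∀ b ∈ Z, a * b = b * a := by
  intro a ha b hb
  rw [hm.2.2.2] at ha hb
  exact commute_of_mem_sup (mul_comm_of_isCyclic_subgroup (hcyc L hm.1 KL hm.2.1))
    (mul_comm_of_isCyclic_subgroup
      (kstar_isCyclic hG h30 h32 h136 hσ hcyc hm.1 hm.2.1 hm.2.2.1)) hm.commute ha hb

theorem centralizer_le_of_mem_zhat {Z L KL : Subgroup G} (hm : IsMemberWith Z L KL) {z : G}
    (hz : z ∈ zhat Z) : Subgroup.centralizer ({z} : Set G) ≤ Z := by
  have hz1 : z ≠ 1 := by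
    rintro rfl
    exact hz.2 L KL hm (Subgroup.one_mem _)
  obtain ⟨L', KL', hm', hzK'⟩ :=
    hm.exists_member_not_mem_k hG h30 h32 h136 hσ hcyc hz.1 hz1
  exact hm'.centralizer_le_of_not_mem hG h30 h136 hz.1 hzK' (hz.2 L' KL' hm')

theorem mem_of_conj_mem_zhat {Z L KL : Subgroup G} (hm : IsMemberWith Z L KL) {z k : G}
    (hz : z ∈ zhat Z) (hz' : k * z * k⁻¹ ∈ zhat Z) : k ∈ Z := by
  have hcomm := hm.comm hG h30 h32 h136 hσ hcyc
  have hC' := centralizer_le_of_mem_zhat hG h30 h32 h136 hσ hcyc hm hz'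
  apply hm.normalizer_le hG h30 h136
  apply mem_normalizer_iff_conj_smul.mpr
  apply Subgroup.eq_of_le_of_card_ge
  · intro c hc
    rw [mem_conj_smul_iff] at hc
    apply hC'
    rw [Subgroup.mem_centralizer_iff]
    intro w hw
    rw [Set.mem_singleton_iff] at hw
    subst hw
    have h1 : z * (k⁻¹ * c * k) = (k⁻¹ * c * k) * z := hcomm z hz.1 _ hc
    calc k * z * k⁻¹ * c = k * (z * (k⁻¹ * c * k)) * k⁻¹ := by group
      _ = k * ((k⁻¹ * c * k) * z) * k⁻¹ := by rw [h1]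
      _ = c * (k * z * k⁻¹) := by group
  · rw [card_conj_smul]

end Clique

section Count

variable [Finite G] (hG : IsMinSimpleOddOrder G) (h30 : Stmt1430 G) (h32 : Stmt1432 G)
  (h136 : KstarCentUniq G) (hσ : SigmaDisjoint G) (hcyc : KappaHallCyclic G)
  (h1409 : Stmt1409 G) (h1416 : Stmt1416 G) (h1417 : Stmt1417 G) (h1424 : Stmt1424 G)

include hG h32 h136 hσ h1409 h1416 h1417 h1424 in
/-- No conjugate of an element of `Z` outside `K_L*` lies in a coset `x R(x)`, `x ∈ L_σ^#`. -/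
theorem mul_supportR_ne_conj {Z L KL : Subgroup G} (hm : IsMemberWith Z L KL) {z : G}
    (hzZ : z ∈ Z) (hzA : z ∉ sigmaCore L ⊓ Subgroup.centralizer (KL : Set G))
    {x : G} (hx : x ∈ sigmaCore L) (hx1 : x ≠ 1) {r : G} (hr : r ∈ supportR L x) (v : G) :
    x * r ≠ v * z * v⁻¹ := by
  intro heq
  have hU : UniquenessThm G := fun K hK h1 h3 => Cfsg.Agent.S1403.result hG K hK h1 h3
  have hL := hm.1
  obtain ⟨hcomm, hrσ, -⟩ := Cfsg.Agent.Lib.Helper22.BGFourteenFour.supportR_facts hG hU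
    h1409 h1416 h1417 h1424 h32 hσ L hL x hx hx1 r hr
  have hxσ := Cfsg.Agent.Lib.Helper22.BGFourteenFour.prime_mem_sigma_of_mem_sigmaCore hx
  have hcop : (orderOf x).Coprime (orderOf r) := by
    apply Nat.coprime_of_dvd
    intro q hq hqx hqr
    exact hrσ q hq hqr (hxσ q hq hqx)
  obtain ⟨⟨i, hi⟩, -⟩ := exists_pow_eq_of_coprime hcomm.eq (pow_orderOf_eq_one x)
    (pow_orderOf_eq_one r) hcop
  -- `x = v z^i v⁻¹`
  have hxv : x = v * z ^ i * v⁻¹ := by
    rw [← hi, heq, conj_pow]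
  have huZ : z ^ i ∈ Z := Subgroup.pow_mem _ hzZ i
  have huo : orderOf (z ^ i) = orderOf x := by
    rw [hxv, orderOf_conj_eq]
  have huA : z ^ i ∈ sigmaCore L ⊓ Subgroup.centralizer (KL : Set G) := by
    apply hm.mem_kstar_of_sigma hG huZ
    intro p hp hpd
    rw [huo] at hpd
    exact hxσ p hp hpd
  have hu1 : z ^ i ≠ 1 := by
    intro h
    rw [h, mul_one, mul_inv_cancel] at hxv
    exact hx1 hxv
  have hle : Subgroup.centralizer ({x} : Set G) ≤ MulAut.conj v • L := by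
    rw [hxv]
    exact centralizer_singleton_conj_le (hm.centralizer_le hG h136 huA hu1)
  by_cases hxL : Subgroup.centralizer ({x} : Set G) ≤ L
  · rw [Cfsg.Agent.Lib.Helper22.BGFourteenFour.supportR_eq_bot_of_le hxL, Subgroup.mem_bot] at hr
    rw [hr, mul_one] at heq
    apply hzA
    apply hm.mem_kstar_of_sigma hG hzZ
    intro p hp hpd
    have : orderOf z = orderOf x := by rw [heq, orderOf_conj_eq]
    rw [this] at hpd
    exact hxσ p hp hpd
  · obtain ⟨N, -, -, hnc, -, -, -, -, -, -, huniq⟩ :=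
      Cfsg.Agent.Lib.Helper22.BGFourteenFour.core hG hU h1409 h1416 h1417 h1424 h32 hσ L hL x hx
        hx1 hxL
    have := huniq _ (isCoatom_conj_smul hL v) hle
    exact hnc v this.symm

end Count

section Main

variable [Finite G] (hG : IsMinSimpleOddOrder G) (h30 : Stmt1430 G) (h32 : Stmt1432 G)
  (h136 : KstarCentUniq G) (hσ : SigmaDisjoint G) (hcyc : KappaHallCyclic G)
  (h1409 : Stmt1409 G) (h1416 : Stmt1416 G) (h1417 : Stmt1417 G) (h1424 : Stmt1424 G)
  (hC : ∀ L : Subgroup G, IsCoatom L →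
    Set.ncard (tildeOf L ((sigmaCore L : Set G) \ {1})) =
      (Nat.card (sigmaCore L) - 1) * L.index)
  (hB : ∀ M N : Subgroup G, IsCoatom M → IsCoatom N →
    (∀ g : G, N.map (MulAut.conj g).toMonoidHom ≠ M) →
    Disjoint (tildeOf M ((sigmaCore M : Set G) \ {1}))
      (tildeOf N ((sigmaCore N : Set G) \ {1})))

include hG h30 h32 h136 hσ hcyc h1409 h1416 h1417 h1424 hC hB

/-- **The count.** Two distinct members of `Z`, and all members of type `𝒫₁`: impossible. -/
theorem clique_false {Z M KM M' KM' : Subgroup G} (hm : IsMemberWith Z M KM)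
    (hm' : IsMemberWith Z M' KM') (hne : M' ≠ M)
    (hP1 : ∀ L KL : Subgroup G, IsMemberWith Z L KL → ∀ s : ℕ, s.Prime → s ∣ Nat.card L →
      s ∈ sigma L ∨ s ∈ kappa L) : False := by
  classical
  have hfin : {L : Subgroup G | ∃ KL, IsMemberWith Z L KL}.Finite := Set.toFinite _
  have hJmem : ∀ L, L ∈ hfin.toFinset ↔ ∃ KL, IsMemberWith Z L KL := fun L => by
    rw [Set.Finite.mem_toFinset]; rfl
  have hcomm := hm.comm hG h30 h32 h136 hσ hcyc
  apply clique_count_false Z hfin.toFinset (fun L => tildeOf L ((sigmaCore L : Set G) \ {1}))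
    (conjSupport (zhat Z)) (zhat Z) (fun L => Nat.card ↥(Z ⊓ sigmaCore L))
    (fun L => Nat.card (sigmaCore L))
  · exact Finset.one_lt_card.mpr
      ⟨M, (hJmem M).mpr ⟨KM, hm⟩, M', (hJmem M').mpr ⟨KM', hm'⟩, hne.symm⟩
  · intro L hL
    obtain ⟨KL, hmL⟩ := (hJmem L).mp hL
    exact hC L hmL.1
  · intro L hL
    obtain ⟨KL, hmL⟩ := (hJmem L).mp hL
    show Nat.card L * Nat.card ↥(Z ⊓ sigmaCore L) = Nat.card (sigmaCore L) * Nat.card Z
    have hZc : Nat.card Z =
        Nat.card KL * Nat.card ↥(sigmaCore L ⊓ Subgroup.centralizer (KL : Set G)) := by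
      have := card_sup_kstar hG hmL.1 hmL.2.1
      rw [← hmL.2.2.2] at this
      exact this
    rw [hmL.inf_sigmaCore_eq hG, card_eq_of_P1 hG hmL.1 hmL.2.1 (hP1 L KL hmL), hZc]
    ring
  · intro L hL
    obtain ⟨KL, hmL⟩ := (hJmem L).mp hL
    show 3 * Nat.card ↥(Z ⊓ sigmaCore L) ≤ Nat.card (sigmaCore L)
    have hle : Z ⊓ sigmaCore L ≤ sigmaCore L := inf_le_right
    obtain ⟨m, hm_eq⟩ := Subgroup.card_dvd_of_le hle
    have hodd : Odd (Nat.card (sigmaCore L)) :=
      Odd.of_dvd_nat hG.1 (Subgroup.card_subgroup_dvd_card _)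
    have hm_odd : Odd m := by
      rw [hm_eq] at hodd; exact (Nat.odd_mul.mp hodd).2
    have hm1 : m ≠ 1 := by
      intro h1
      rw [h1, mul_one] at hm_eq
      have hAS : Z ⊓ sigmaCore L = sigmaCore L := Subgroup.eq_of_le_of_card_ge hle hm_eq.le
      have hZc : Nat.card Z =
          Nat.card KL * Nat.card ↥(sigmaCore L ⊓ Subgroup.centralizer (KL : Set G)) := by
        have := card_sup_kstar hG hmL.1 hmL.2.1
        rw [← hmL.2.2.2] at this
        exact this
      have hcardL : Nat.card L = Nat.card Z := by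
        rw [card_eq_of_P1 hG hmL.1 hmL.2.1 (hP1 L KL hmL), hZc, ← hmL.inf_sigmaCore_eq hG, hAS]
        ring
      have hZL : Z = L := Subgroup.eq_of_le_of_card_ge hmL.le hcardL.le
      by_cases hLM : L = M
      · apply hne
        rw [← hLM]
        exact (eq_of_le_of_isCoatom hmL.1 hm'.1 (hZL ▸ hm'.le)).symm
      · apply hLM
        exact eq_of_le_of_isCoatom hmL.1 hm.1 (hZL ▸ hm.le)
    have h3 : 3 ≤ m := by
      obtain ⟨t, ht⟩ := hm_odd
      omega
    rw [hm_eq]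
    have hpos : 0 < Nat.card ↥(Z ⊓ sigmaCore L) := Nat.card_pos
    nlinarith
  · intro L _
    exact Nat.card_pos
  · intro L hL L' hL' hne'
    obtain ⟨KL, hmL⟩ := (hJmem L).mp hL
    obtain ⟨KL', hmL'⟩ := (hJmem L').mp hL'
    exact hB L L' hmL.1 hmL'.1 (hmL.not_conj_of_ne hG h30 h136 hmL' (Ne.symm hne'))
  · intro L hL
    obtain ⟨KL, hmL⟩ := (hJmem L).mp hL
    rw [Set.disjoint_left]
    rintro g ⟨x, ⟨hx, hx1⟩, r, hr, y, rfl⟩ ⟨w, z, ⟨hzZ, hzh⟩, hg⟩
    have hx1' : x ≠ 1 := fun h => hx1 (Set.mem_singleton_iff.mpr h)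
    apply mul_supportR_ne_conj hG h32 h136 hσ h1409 h1416 h1417 h1424 hmL hzZ (hzh L KL hmL)
      hx hx1' hr (y⁻¹ * w)
    have e : x * r = y⁻¹ * (y * (x * r) * y⁻¹) * y := by group
    rw [e, hg]; group
  · apply card_conjSupport (zhat Z) Z
    · intro n hn z hz
      have : n * z * n⁻¹ = z := by rw [hcomm n hn z hz.1]; group
      rw [this]; exact hz
    · intro k z hz hz'
      exact mem_of_conj_mem_zhat hG h30 h32 h136 hσ hcyc hm hz hz'
  · -- `Z ⊆ zhat ∪ ⋃ (K_L* - 1) ∪ {1}`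
    have hsub : (Z : Set G) ⊆ zhat Z ∪
        (⋃ L ∈ hfin.toFinset, (((Z ⊓ sigmaCore L : Subgroup G) : Set G) \ {1})) ∪ {1} := by
      intro z hz
      by_cases hz1 : z = 1
      · right; exact Set.mem_singleton_iff.mpr hz1
      · left
        by_cases hzh : z ∈ zhat Z
        · left; exact hzh
        · right
          have : ∃ L KL : Subgroup G, IsMemberWith Z L KL ∧
              z ∈ sigmaCore L ⊓ Subgroup.centralizer (KL : Set G) := by
            by_contra hcon
            push Not at hcon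
            exact hzh ⟨hz, hcon⟩
          obtain ⟨L, KL, hmL, hzA⟩ := this
          rw [Set.mem_iUnion₂]
          refine ⟨L, (hJmem L).mpr ⟨KL, hmL⟩, ?_, fun h => hz1 (Set.mem_singleton_iff.mp h)⟩
          rw [hmL.inf_sigmaCore_eq hG]
          exact hzA
    have hcard : Nat.card Z = (Z : Set G).ncard := (Nat.card_coe_set_eq (Z : Set G)).symm
    rw [hcard]
    calc (Z : Set G).ncard
        ≤ (zhat Z ∪ (⋃ L ∈ hfin.toFinset,
            (((Z ⊓ sigmaCore L : Subgroup G) : Set G) \ {1})) ∪ {1}).ncard :=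
          Set.ncard_le_ncard hsub (Set.toFinite _)
      _ ≤ (zhat Z ∪ (⋃ L ∈ hfin.toFinset,
            (((Z ⊓ sigmaCore L : Subgroup G) : Set G) \ {1}))).ncard + ({1} : Set G).ncard :=
          Set.ncard_union_le _ _
      _ ≤ ((zhat Z).ncard + (⋃ L ∈ hfin.toFinset,
            (((Z ⊓ sigmaCore L : Subgroup G) : Set G) \ {1})).ncard) + 1 := by
          rw [Set.ncard_singleton]
          exact Nat.add_le_add_right (Set.ncard_union_le _ _) 1
      _ ≤ (zhat Z).ncard + ∑ L ∈ hfin.toFinset, (Nat.card ↥(Z ⊓ sigmaCore L) - 1) + 1 := by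
          apply Nat.add_le_add_right
          apply Nat.add_le_add_left
          refine (Finset.set_ncard_biUnion_le _ _).trans (Finset.sum_le_sum ?_)
          intro L _
          rw [Set.ncard_sdiff_singleton_of_mem (Subgroup.one_mem _)]
          exact le_of_eq (congrArg (· - 1)
            (Nat.card_coe_set_eq ((Z ⊓ sigmaCore L : Subgroup G) : Set G)).symm)

omit h32 hσ hcyc h1409 h1416 h1417 h1424 hC hB in
/-- With three pairwise distinct members, no `|K_L|` is prime. -/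
theorem not_prime_card_k {Z L KL L₁ K₁ L₂ K₂ : Subgroup G} (hm : IsMemberWith Z L KL)
    (hm₁ : IsMemberWith Z L₁ K₁) (hm₂ : IsMemberWith Z L₂ K₂) (h1 : L₁ ≠ L) (h2 : L₂ ≠ L)
    (h12 : L₂ ≠ L₁) : ¬ (Nat.card KL).Prime := by
  intro hp
  have hA₁ := hm.kstar_le_k_of_ne hG h136 hm₁ h1
  have hA₂ := hm.kstar_le_k_of_ne hG h136 hm₂ h2
  have hA₁1 := kstar_ne_bot hG h30 hm₁.1 hm₁.2.1 hm₁.2.2.1
  have hA₂1 := kstar_ne_bot hG h30 hm₂.1 hm₂.2.1 hm₂.2.2.1
  have key : ∀ B : Subgroup G, B ≤ KL → B ≠ ⊥ → B = KL := by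
    intro B hB hB1
    rcases (Nat.dvd_prime hp).mp (Subgroup.card_dvd_of_le hB) with h | h
    · exact absurd (Subgroup.card_eq_one.mp h) hB1
    · exact Subgroup.eq_of_le_of_card_ge hB (le_of_eq h.symm)
  have e₁ := key _ hA₁ hA₁1
  have e₂ := key _ hA₂ hA₂1
  obtain ⟨y, hy, hy1⟩ := exists_mem_ne_one_of_ne_bot hA₁1
  have hy₂ : y ∈ sigmaCore L₂ ⊓ Subgroup.centralizer (K₂ : Set G) := by
    rw [e₂, ← e₁]; exact hy
  exact h12 (hm₁.eq_of_mem_kstar hG h136 hm₂ hy hy₂ hy1)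

/-- **B&G Theorem 14.7(a)**, existence of the partner `M*`. -/
theorem exists_partner (h29 : Stmt1429 G) {M K : Subgroup G} (hM : IsCoatom M)
    (hK : IsPiHallOf (kappa M) K M) (hK1 : K ≠ ⊥) :
    ∃ Ms : Subgroup G, IsCoatom Ms ∧
      K = sigmaCore Ms ⊓ Subgroup.centralizer
        ((sigmaCore M ⊓ Subgroup.centralizer (K : Set G) : Subgroup G) : Set G) ∧
      IsPiHallOf (kappa Ms) (sigmaCore M ⊓ Subgroup.centralizer (K : Set G)) Ms := by
  classical
  have hm : IsMemberWith (K ⊔ (sigmaCore M ⊓ Subgroup.centralizer (K : Set G))) M K :=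
    ⟨hM, hK, hK1, rfl⟩
  obtain ⟨p, hp, x, hxK, hx⟩ := exists_prime_orderOf_mem hK1
  have hXK : Subgroup.zpowers x ≤ K := by
    rw [Subgroup.zpowers_le]; exact hxK
  have hXp := card_zpowers_prime hp hx
  obtain ⟨M', hM', hNX⟩ := exists_isCoatom_normalizer_le hG hXp
  obtain ⟨hne, -, K', hK'H, hK'1, hAK', -, hZeq⟩ :=
    step_member hG h30 h32 h136 hσ hcyc hM hK hK1 hXK hXp hM' hNX
  have hm' : IsMemberWith (K ⊔ (sigmaCore M ⊓ Subgroup.centralizer (K : Set G))) M' K' :=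
    ⟨hM', hK'H, hK'1, hZeq⟩
  by_cases hK'A : K' ≤ sigmaCore M ⊓ Subgroup.centralizer (K : Set G)
  · have hK'eq : K' = sigmaCore M ⊓ Subgroup.centralizer (K : Set G) := le_antisymm hK'A hAK'
    have hB'K : sigmaCore M' ⊓ Subgroup.centralizer (K' : Set G) ≤ K :=
      hm.kstar_le_k_of_ne hG h136 hm' hne
    have hc1 := card_sup_kstar hG hM hK
    have hc2 := card_sup_kstar hG hM' hK'H
    have hcard : Nat.card K = Nat.card ↥(sigmaCore M' ⊓ Subgroup.centralizer (K' : Set G)) := by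
      rw [hZeq, hc2] at hc1
      have hcK' : Nat.card K' =
          Nat.card ↥(sigmaCore M ⊓ Subgroup.centralizer (K : Set G)) := by rw [← hK'eq]
      rw [hcK'] at hc1
      have hApos : 0 < Nat.card ↥(sigmaCore M ⊓ Subgroup.centralizer (K : Set G)) :=
        Nat.card_pos
      have : Nat.card ↥(sigmaCore M ⊓ Subgroup.centralizer (K : Set G)) *
          Nat.card ↥(sigmaCore M' ⊓ Subgroup.centralizer (K' : Set G)) =
          Nat.card ↥(sigmaCore M ⊓ Subgroup.centralizer (K : Set G)) * Nat.card K := by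
        rw [hc1]; ring
      exact (Nat.eq_of_mul_eq_mul_left hApos this).symm
    have hBK : sigmaCore M' ⊓ Subgroup.centralizer (K' : Set G) = K :=
      Subgroup.eq_of_le_of_card_ge hB'K hcard.le
    refine ⟨M', hM', ?_, ?_⟩
    · rw [← hK'eq]; exact hBK.symm
    · rw [← hK'eq]; exact hK'H
  · exfalso
    have : ∃ w ∈ K', w ∉ sigmaCore M ⊓ Subgroup.centralizer (K : Set G) := by
      by_contra h
      push Not at h
      exact hK'A h
    obtain ⟨w, hwK', hwA⟩ := this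
    have hwZ : w ∈ K ⊔ (sigmaCore M ⊓ Subgroup.centralizer (K : Set G)) := hm'.k_le hwK'
    obtain ⟨k, hk, a, ha, rfl⟩ := exists_mul_of_mem_sup_of_commute hm.commute hwZ
    have hkK' : k ∈ K' := by
      have : k = k * a * a⁻¹ := by group
      rw [this]
      exact K'.mul_mem hwK' (K'.inv_mem (hAK' ha))
    have hk1 : k ≠ 1 := by
      rintro rfl
      rw [one_mul] at hwA
      exact hwA ha
    obtain ⟨q, n, hq, hn⟩ := exists_pow_orderOf_eq_prime hk1
    have huK : k ^ n ∈ K := Subgroup.pow_mem _ hk n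
    have huK' : k ^ n ∈ K' := Subgroup.pow_mem _ hkK' n
    have hUK : Subgroup.zpowers (k ^ n) ≤ K := by
      rw [Subgroup.zpowers_le]; exact huK
    have hUp := card_zpowers_prime hq hn
    obtain ⟨M₂, hM₂, hNU⟩ := exists_isCoatom_normalizer_le hG hUp
    obtain ⟨hne₂, -, K₂, hK₂H, hK₂1, -, hUB₂, hZeq₂⟩ :=
      step_member hG h30 h32 h136 hσ hcyc hM hK hK1 hUK hUp hM₂ hNU
    have hm₂ : IsMemberWith (K ⊔ (sigmaCore M ⊓ Subgroup.centralizer (K : Set G))) M₂ K₂ :=
      ⟨hM₂, hK₂H, hK₂1, hZeq₂⟩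
    have hne₃ : M₂ ≠ M' := by
      intro h
      have h1 : q ∈ sigma M₂ := by
        apply sigmaCore_isPi M₂ q hq
        rw [← hn]
        exact Subgroup.orderOf_dvd_natCard _ (hUB₂ (Subgroup.mem_zpowers _)).1
      rw [h] at h1
      have h2 : q ∈ kappa M' := by
        apply hK'H.2.1 q hq
        rw [← hn]
        exact Subgroup.orderOf_dvd_natCard _ huK'
      exact h2.2.2.1 h1
    apply clique_false hG h30 h32 h136 hσ hcyc h1409 h1416 h1417 h1424 hC hB hm hm' hne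
    intro L KL hmL s hs hsL
    by_contra hcon
    push Not at hcon
    have hprime := prime_card_of_not_P1 hG h30 h29 L hmL.1 KL hmL.2.1 hmL.2.2.1 s hs hsL
      hcon.1 hcon.2
    by_cases h1 : L = M
    · exact not_prime_card_k hG h30 h136 hmL hm' hm₂ (h1 ▸ hne) (h1 ▸ hne₂) hne₃ hprime
    · by_cases h2 : L = M'
      · exact not_prime_card_k hG h30 h136 hmL hm hm₂ (h2 ▸ hne.symm) (h2 ▸ hne₃) hne₂ hprime
      · exact not_prime_card_k hG h30 h136 hmL hm hm' (Ne.symm h1) (Ne.symm h2) hne hprime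

/-- **B&G Theorem 14.7(f)**, first half: `M` and its partner `M*` are not both of type `𝒫₁`. -/
theorem not_both_P1 {M K Ms : Subgroup G} (hM : IsCoatom M)
    (hK : IsPiHallOf (kappa M) K M) (hK1 : K ≠ ⊥) (hMs : IsCoatom Ms)
    (hKst : K = sigmaCore Ms ⊓ Subgroup.centralizer
      ((sigmaCore M ⊓ Subgroup.centralizer (K : Set G) : Subgroup G) : Set G))
    (hKstH : IsPiHallOf (kappa Ms) (sigmaCore M ⊓ Subgroup.centralizer (K : Set G)) Ms)
    (hP : ∀ s : ℕ, s.Prime → s ∣ Nat.card M → s ∈ sigma M ∨ s ∈ kappa M)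
    (hPs : ∀ s : ℕ, s.Prime → s ∣ Nat.card Ms → s ∈ sigma Ms ∨ s ∈ kappa Ms) : False := by
  classical
  have hA1 := kstar_ne_bot hG h30 hM hK hK1
  have hm : IsMemberWith (K ⊔ (sigmaCore M ⊓ Subgroup.centralizer (K : Set G))) M K :=
    ⟨hM, hK, hK1, rfl⟩
  have hms : IsMemberWith (K ⊔ (sigmaCore M ⊓ Subgroup.centralizer (K : Set G))) Ms
      (sigmaCore M ⊓ Subgroup.centralizer (K : Set G)) := by
    refine ⟨hMs, hKstH, hA1, ?_⟩
    rw [← hKst]
    exact sup_comm _ _
  have hne : Ms ≠ M := by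
    intro h
    obtain ⟨r, hr, hrA⟩ := Nat.exists_prime_and_dvd (fun h => hA1 (Subgroup.card_eq_one.mp h))
    have h1 : r ∈ sigma M :=
      sigmaCore_isPi M r hr (hrA.trans (Subgroup.card_dvd_of_le inf_le_left))
    have h2 : r ∈ kappa Ms := hKstH.2.1 r hr hrA
    rw [h] at h2
    exact h2.2.2.1 h1
  apply clique_false hG h30 h32 h136 hσ hcyc h1409 h1416 h1417 h1424 hC hB hm hms hne
  intro L KL hmL
  have hAL1 := kstar_ne_bot hG h30 hmL.1 hmL.2.1 hmL.2.2.1
  obtain ⟨q, hq, y, hyA, hy⟩ := exists_prime_orderOf_mem hAL1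
  have hy1 := ne_one_of_orderOf_prime hq hy
  have hyZ := hmL.kstar_le hyA
  by_cases hqK : q ∣ Nat.card K
  · have hyK : y ∈ K := by
      apply hm.mem_k_of_coprime hG hyZ
      rw [hy]
      exact Nat.Coprime.coprime_dvd_left hqK (hm.coprime hG)
    have hyK' : y ∈ sigmaCore Ms ⊓ Subgroup.centralizer
        ((sigmaCore M ⊓ Subgroup.centralizer (K : Set G) : Subgroup G) : Set G) := by
      rw [← hKst]; exact hyK
    have hL : L = Ms := hms.eq_of_mem_kstar hG h136 hmL hyK' hyA hy1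
    rw [hL]; exact hPs
  · have hyA' : y ∈ sigmaCore M ⊓ Subgroup.centralizer (K : Set G) := by
      apply hm.mem_kstar_of_coprime hG hyZ
      rw [hy]
      exact (Nat.Prime.coprime_iff_not_dvd hq).mpr hqK
    have hL : L = M := hm.eq_of_mem_kstar hG h136 hmL hyA' hyA hy1
    rw [hL]; exact hP

end Main

end Cfsg.Agent.Lib.Helper21
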