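import Mathlib
import Cfsg.Prelude.Def_OddOrderLocal
import Cfsg.Prelude.Def_OddOrder
import Cfsg.Agent.Lib.Helper54.BGFourteenDefs
import Cfsg.Agent.Lib.Helper54.BGFourteenEmbed
import Cfsg.Agent.Lib.Helper54.UqNine4
import Cfsg.Agent.Lib.Helper22.BGFourteenFourA
import Cfsg.Agent.Lib.Helper22.BGFourteenFourB
import Cfsg.Agent.Lib.Helper22.BGFourteenFourC
import Cfsg.Agent.Lib.Helper62.PiHall
import Cfsg.Agent.Lib.Helper21.BGFourteenSevenA
import Cfsg.Agent.Lib.Helper21.BGFourteenSevenC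
import Cfsg.Agent.Lib.Helper21.BGFourteenSevenD
import Cfsg.Agent.Lib.Helper21.BGFourteenSevenE
import Cfsg.Agent.Lib.Helper21.BGFourteenSevenF
import Cfsg.Agent.Lib.Helper21.BGFourteenSevenG
import Cfsg.Agent.Lib.Helper21.BGFourteenSevenH
import Cfsg.Agent.Lib.Helper21.BGFourteenSevenI

/-!
# Bender–Glauberman Theorem 14.7 (a), (f) without the cyclicity hypothesis  (helper21)

The theorems of `BGFourteenSevenH` with the hypothesis `KappaHallCyclic G` removed (it is only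
available after Theorem 14.7) and `Stmt1431 G` (B&G 14.2(e)) added:

* `clique_false'`, `exists_partner'` (14.7(a), existence of `M*`), `not_both_P1'` (14.7(f));
* `exists_partner_not_P1`: a maximal subgroup of type `𝒫₁` has a partner not of type `𝒫₁`.
-/

set_option autoImplicit false

namespace Cfsg.Agent.Lib.Helper21

open Cfsg Cfsg.Agent.Lib.Helper54
open Cfsg.Agent.Lib.Helper22.BGFourteenFour
  (Stmt1432 Stmt1409 Stmt1416 Stmt1417 Stmt1424)
open Cfsg.Agent.Lib.Helper34 (UniquenessThm)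
open scoped Pointwise

universe u

variable {G : Type u} [Group G]

/-- If `a` and `k a k⁻¹` are non-identity elements of `K_L*` then `k ∈ L`. -/
theorem IsMemberWith.mem_of_conj_mem_kstar [Finite G] (hG : IsMinSimpleOddOrder G)
    (h136 : KstarCentUniq G) {Z L KL : Subgroup G} (hm : IsMemberWith Z L KL) {a k : G}
    (ha : a ∈ sigmaCore L ⊓ Subgroup.centralizer (KL : Set G)) (ha1 : a ≠ 1)
    (ha' : k * a * k⁻¹ ∈ sigmaCore L ⊓ Subgroup.centralizer (KL : Set G)) : k ∈ L := by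
  obtain ⟨q, n, hq, hn⟩ := exists_pow_orderOf_eq_prime ha1
  have hy1 : a ^ n ≠ 1 := ne_one_of_orderOf_prime hq hn
  have hyA : a ^ n ∈ sigmaCore L ⊓ Subgroup.centralizer (KL : Set G) := Subgroup.pow_mem _ ha n
  have hy'A : k * a ^ n * k⁻¹ ∈ sigmaCore L ⊓ Subgroup.centralizer (KL : Set G) := by
    rw [← conj_pow]; exact Subgroup.pow_mem _ ha' n
  have hy'o : orderOf (k * a ^ n * k⁻¹) = q := by rw [orderOf_conj_eq, hn]
  have hle : Subgroup.centralizer ({k * a ^ n * k⁻¹} : Set G) ≤ MulAut.conj k • L :=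
    centralizer_singleton_conj_le (hm.centralizer_le hG h136 hyA hy1)
  have hNL := hm.eq_of_centralizer_le h136 hy'A hq hy'o (isCoatom_conj_smul hm.1 k) hle
  have hkN : k ∈ Subgroup.normalizer (L : Set G) := mem_normalizer_iff_conj_smul.mpr hNL
  have hL1 : L ≠ ⊥ := by
    intro h
    have : a ∈ L := hm.le (hm.kstar_le ha)
    rw [h, Subgroup.mem_bot] at this
    exact ha1 this
  rwa [Cfsg.Agent.Lib.Helper22.BGFourteenFour.normalizer_eq_of_isCoatom hG.2.1 hm.1 hL1] at hkN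

section Clique

variable [Finite G] (hG : IsMinSimpleOddOrder G) (h30 : Stmt1430 G) (h31 : Stmt1431 G)
  (h32 : Stmt1432 G) (h136 : KstarCentUniq G) (hσ : SigmaDisjoint G)

include hG h30 h31 h32 h136 hσ

theorem mem_of_conj_mem_zhat' {Z M KM : Subgroup G} (hm : IsMemberWith Z M KM) {z k : G}
    (hz : z ∈ zhat Z) (hz' : k * z * k⁻¹ ∈ zhat Z) : k ∈ Z := by
  have hz1 : z ≠ 1 := by
    rintro rfl
    exact hz.2 M KM hm (Subgroup.one_mem _)
  obtain ⟨L, KL, hmL, hzK⟩ := hm.exists_member_not_mem_k' hG h30 h32 h136 hσ hz.1 hz1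
  have hzA := hz.2 L KL hmL
  have hzZ := hz.1
  rw [hmL.2.2.2] at hzZ
  obtain ⟨k₀, hk₀, a₀, ha₀, hzeq⟩ := exists_mul_of_mem_sup_of_commute hmL.commute hzZ
  have hk₀1 : k₀ ≠ 1 := by
    rintro rfl
    rw [one_mul] at hzeq
    exact hzA (hzeq ▸ ha₀)
  have ha₀1 : a₀ ≠ 1 := by
    rintro rfl
    rw [mul_one] at hzeq
    exact hzK (hzeq ▸ hk₀)
  have hkc : k₀ ^ Nat.card KL = 1 :=
    congrArg Subtype.val (pow_card_eq_one' (G := KL) (x := ⟨k₀, hk₀⟩))
  have hac : a₀ ^ Nat.card ↥(sigmaCore L ⊓ Subgroup.centralizer (KL : Set G)) = 1 :=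
    congrArg Subtype.val (pow_card_eq_one'
      (G := ↥(sigmaCore L ⊓ Subgroup.centralizer (KL : Set G))) (x := ⟨a₀, ha₀⟩))
  obtain ⟨⟨i, hi⟩, ⟨j, hj⟩⟩ :=
    exists_pow_eq_of_coprime (hmL.commute k₀ hk₀ a₀ ha₀) hkc hac (hmL.coprime hG)
  rw [← hzeq] at hi hj
  -- `k a₀ k⁻¹ ∈ K_L*`
  have ha₀' : k * a₀ * k⁻¹ ∈ sigmaCore L ⊓ Subgroup.centralizer (KL : Set G) := by
    apply hmL.mem_kstar_of_coprime hG
    · rw [← hj, ← conj_pow]; exact Subgroup.pow_mem _ hz'.1 j
    · rw [orderOf_conj_eq]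
      exact Nat.Coprime.coprime_dvd_left (Subgroup.orderOf_dvd_natCard _ ha₀)
        (hmL.coprime hG).symm
  have hkL : k ∈ L := hmL.mem_of_conj_mem_kstar hG h136 ha₀ ha₀1 ha₀'
  -- `k k₀ k⁻¹ ∈ K_L`
  have hk₀' : k * k₀ * k⁻¹ ∈ KL := by
    apply hmL.mem_k_of_coprime hG
    · rw [← hi, ← conj_pow]; exact Subgroup.pow_mem _ hz'.1 i
    · rw [orderOf_conj_eq]
      exact Nat.Coprime.coprime_dvd_left (Subgroup.orderOf_dvd_natCard _ hk₀) (hmL.coprime hG)
  by_contra hkZ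
  rw [hmL.2.2.2] at hkZ
  have hbot := (h31 L hmL.1 KL hmL.2.1 hmL.2.2.1).2.1 k hkL hkZ
  have : k * k₀ * k⁻¹ ∈ KL ⊓ KL.map (MulAut.conj k).toMonoidHom := by
    refine Subgroup.mem_inf.mpr ⟨hk₀', k₀, hk₀, ?_⟩
    simp [MulAut.conj_apply]
  rw [hbot, Subgroup.mem_bot] at this
  apply hk₀1
  have h2 := congrArg (fun t => k⁻¹ * t * k) this
  simpa [mul_assoc] using h2

end Clique

section Main'

variable [Finite G] (hG : IsMinSimpleOddOrder G) (h30 : Stmt1430 G) (h31 : Stmt1431 G)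
  (h32 : Stmt1432 G) (h136 : KstarCentUniq G) (hσ : SigmaDisjoint G)
  (h1409 : Stmt1409 G) (h1416 : Stmt1416 G) (h1417 : Stmt1417 G) (h1424 : Stmt1424 G)
  (hC : ∀ L : Subgroup G, IsCoatom L →
    Set.ncard (tildeOf L ((sigmaCore L : Set G) \ {1})) =
      (Nat.card (sigmaCore L) - 1) * L.index)
  (hB : ∀ M N : Subgroup G, IsCoatom M → IsCoatom N →
    (∀ g : G, N.map (MulAut.conj g).toMonoidHom ≠ M) →
    Disjoint (tildeOf M ((sigmaCore M : Set G) \ {1}))
      (tildeOf N ((sigmaCore N : Set G) \ {1})))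

include hG h30 h31 h32 h136 hσ h1409 h1416 h1417 h1424 hC hB

/-- **The count.** Two distinct members of `Z`, and all members of type `𝒫₁`: impossible. -/
theorem clique_false' {Z M KM M' KM' : Subgroup G} (hm : IsMemberWith Z M KM)
    (hm' : IsMemberWith Z M' KM') (hne : M' ≠ M)
    (hP1 : ∀ L KL : Subgroup G, IsMemberWith Z L KL → ∀ s : ℕ, s.Prime → s ∣ Nat.card L →
      s ∈ sigma L ∨ s ∈ kappa L) : False := by
  classical
  have hfin : {L : Subgroup G | ∃ KL, IsMemberWith Z L KL}.Finite := Set.toFinite _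
  have hJmem : ∀ L, L ∈ hfin.toFinset ↔ ∃ KL, IsMemberWith Z L KL := fun L => by
    rw [Set.Finite.mem_toFinset]; rfl
  apply clique_count_false Z hfin.toFinset (fun L => tildeOf L ((sigmaCore L : Set G) \ {1}))
    (conjSupport (zhat Z)) (zhat Z) (fun L => Nat.card ↥(Z ⊓ sigmaCore L))
    (fun L => Nat.card (sigmaCore L))
  · exact Finset.one_lt_card.mpr
      ⟨M, (hJmem M).mpr ⟨KM, hm⟩, M', (hJmem M').mpr ⟨KM', hm'⟩, hne.symm⟩
  · intro L hL
    obtain ⟨KL, hmL⟩ := (hJmem L).mp hL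
    exact hC L hmL.1
  · intro L hL
    obtain ⟨KL, hmL⟩ := (hJmem L).mp hL
    show Nat.card L * Nat.card ↥(Z ⊓ sigmaCore L) = Nat.card (sigmaCore L) * Nat.card Z
    have hZc : Nat.card Z =
        Nat.card KL * Nat.card ↥(sigmaCore L ⊓ Subgroup.centralizer (KL : Set G)) := by
      have := card_sup_kstar hG hmL.1 hmL.2.1
      rw [← hmL.2.2.2] at this
      exact this
    rw [hmL.inf_sigmaCore_eq hG, card_eq_of_P1 hG hmL.1 hmL.2.1 (hP1 L KL hmL), hZc]
    ring
  · intro L hL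
    obtain ⟨KL, hmL⟩ := (hJmem L).mp hL
    show 3 * Nat.card ↥(Z ⊓ sigmaCore L) ≤ Nat.card (sigmaCore L)
    have hle : Z ⊓ sigmaCore L ≤ sigmaCore L := inf_le_right
    obtain ⟨m, hm_eq⟩ := Subgroup.card_dvd_of_le hle
    have hodd : Odd (Nat.card (sigmaCore L)) :=
      Odd.of_dvd_nat hG.1 (Subgroup.card_subgroup_dvd_card _)
    have hm_odd : Odd m := by
      rw [hm_eq] at hodd; exact (Nat.odd_mul.mp hodd).2
    have hm1 : m ≠ 1 := by
      intro h1
      rw [h1, mul_one] at hm_eq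
      have hAS : Z ⊓ sigmaCore L = sigmaCore L := Subgroup.eq_of_le_of_card_ge hle hm_eq.le
      have hZc : Nat.card Z =
          Nat.card KL * Nat.card ↥(sigmaCore L ⊓ Subgroup.centralizer (KL : Set G)) := by
        have := card_sup_kstar hG hmL.1 hmL.2.1
        rw [← hmL.2.2.2] at this
        exact this
      have hcardL : Nat.card L = Nat.card Z := by
        rw [card_eq_of_P1 hG hmL.1 hmL.2.1 (hP1 L KL hmL), hZc, ← hmL.inf_sigmaCore_eq hG, hAS]
        ring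
      have hZL : Z = L := Subgroup.eq_of_le_of_card_ge hmL.le hcardL.le
      by_cases hLM : L = M
      · apply hne
        rw [← hLM]
        exact (eq_of_le_of_isCoatom hmL.1 hm'.1 (hZL ▸ hm'.le)).symm
      · apply hLM
        exact eq_of_le_of_isCoatom hmL.1 hm.1 (hZL ▸ hm.le)
    have h3 : 3 ≤ m := by
      obtain ⟨t, ht⟩ := hm_odd
      omega
    rw [hm_eq]
    have hpos : 0 < Nat.card ↥(Z ⊓ sigmaCore L) := Nat.card_pos
    nlinarith
  · intro L _
    exact Nat.card_pos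
  · intro L hL L' hL' hne'
    obtain ⟨KL, hmL⟩ := (hJmem L).mp hL
    obtain ⟨KL', hmL'⟩ := (hJmem L').mp hL'
    exact hB L L' hmL.1 hmL'.1 (hmL.not_conj_of_ne hG h30 h136 hmL' (Ne.symm hne'))
  · intro L hL
    obtain ⟨KL, hmL⟩ := (hJmem L).mp hL
    rw [Set.disjoint_left]
    rintro g ⟨x, ⟨hx, hx1⟩, r, hr, y, rfl⟩ ⟨w, z, ⟨hzZ, hzh⟩, hg⟩
    have hx1' : x ≠ 1 := fun h => hx1 (Set.mem_singleton_iff.mpr h)
    apply mul_supportR_ne_conj hG h32 h136 hσ h1409 h1416 h1417 h1424 hmL hzZ (hzh L KL hmL)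
      hx hx1' hr (y⁻¹ * w)
    have e : x * r = y⁻¹ * (y * (x * r) * y⁻¹) * y := by group
    rw [e, hg]; group
  · apply card_conjSupport (zhat Z) Z
    · intro n hn z hz
      refine ⟨Z.mul_mem (Z.mul_mem hn hz.1) (Z.inv_mem hn), ?_⟩
      intro L KL hmL hcon
      apply hz.2 L KL hmL
      rw [← hmL.inf_sigmaCore_eq hG] at hcon ⊢
      refine Subgroup.mem_inf.mpr ⟨hz.1, ?_⟩
      have hnN : n ∈ Subgroup.normalizer ((sigmaCore L : Subgroup G) : Set G) :=
        le_normalizer_sigmaCore L (hmL.le hn)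
      exact (Subgroup.mem_normalizer_iff.mp hnN z).mpr hcon.2
    · intro k z hz hz'
      exact mem_of_conj_mem_zhat' hG h30 h31 h32 h136 hσ hm hz hz'
  · -- `Z ⊆ zhat ∪ ⋃ (K_L* - 1) ∪ {1}`
    have hsub : (Z : Set G) ⊆ zhat Z ∪
        (⋃ L ∈ hfin.toFinset, (((Z ⊓ sigmaCore L : Subgroup G) : Set G) \ {1})) ∪ {1} := by
      intro z hz
      by_cases hz1 : z = 1
      · right; exact Set.mem_singleton_iff.mpr hz1
      · left
        by_cases hzh : z ∈ zhat Z
        · left; exact hzh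
        · right
          have : ∃ L KL : Subgroup G, IsMemberWith Z L KL ∧
              z ∈ sigmaCore L ⊓ Subgroup.centralizer (KL : Set G) := by
            by_contra hcon
            push Not at hcon
            exact hzh ⟨hz, hcon⟩
          obtain ⟨L, KL, hmL, hzA⟩ := this
          rw [Set.mem_iUnion₂]
          refine ⟨L, (hJmem L).mpr ⟨KL, hmL⟩, ?_, fun h => hz1 (Set.mem_singleton_iff.mp h)⟩
          rw [hmL.inf_sigmaCore_eq hG]
          exact hzA
    have hcard : Nat.card Z = (Z : Set G).ncard := (Nat.card_coe_set_eq (Z : Set G)).symm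
    rw [hcard]
    calc (Z : Set G).ncard
        ≤ (zhat Z ∪ (⋃ L ∈ hfin.toFinset,
            (((Z ⊓ sigmaCore L : Subgroup G) : Set G) \ {1})) ∪ {1}).ncard :=
          Set.ncard_le_ncard hsub (Set.toFinite _)
      _ ≤ (zhat Z ∪ (⋃ L ∈ hfin.toFinset,
            (((Z ⊓ sigmaCore L : Subgroup G) : Set G) \ {1}))).ncard + ({1} : Set G).ncard :=
          Set.ncard_union_le _ _
      _ ≤ ((zhat Z).ncard + (⋃ L ∈ hfin.toFinset,
            (((Z ⊓ sigmaCore L : Subgroup G) : Set G) \ {1})).ncard) + 1 := by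
          rw [Set.ncard_singleton]
          exact Nat.add_le_add_right (Set.ncard_union_le _ _) 1
      _ ≤ (zhat Z).ncard + ∑ L ∈ hfin.toFinset, (Nat.card ↥(Z ⊓ sigmaCore L) - 1) + 1 := by
          apply Nat.add_le_add_right
          apply Nat.add_le_add_left
          refine (Finset.set_ncard_biUnion_le _ _).trans (Finset.sum_le_sum ?_)
          intro L _
          rw [Set.ncard_sdiff_singleton_of_mem (Subgroup.one_mem _)]
          exact le_of_eq (congrArg (· - 1)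
            (Nat.card_coe_set_eq ((Z ⊓ sigmaCore L : Subgroup G) : Set G)).symm)

omit h31 h32 hσ h1409 h1416 h1417 h1424 hC hB in
/-- With three pairwise distinct members, no `|K_L|` is prime. -/
theorem not_prime_card_k' {Z L KL L₁ K₁ L₂ K₂ : Subgroup G} (hm : IsMemberWith Z L KL)
    (hm₁ : IsMemberWith Z L₁ K₁) (hm₂ : IsMemberWith Z L₂ K₂) (h1 : L₁ ≠ L) (h2 : L₂ ≠ L)
    (h12 : L₂ ≠ L₁) : ¬ (Nat.card KL).Prime := by
  intro hp
  have hA₁ := hm.kstar_le_k_of_ne hG h136 hm₁ h1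
  have hA₂ := hm.kstar_le_k_of_ne hG h136 hm₂ h2
  have hA₁1 := kstar_ne_bot hG h30 hm₁.1 hm₁.2.1 hm₁.2.2.1
  have hA₂1 := kstar_ne_bot hG h30 hm₂.1 hm₂.2.1 hm₂.2.2.1
  have key : ∀ B : Subgroup G, B ≤ KL → B ≠ ⊥ → B = KL := by
    intro B hB hB1
    rcases (Nat.dvd_prime hp).mp (Subgroup.card_dvd_of_le hB) with h | h
    · exact absurd (Subgroup.card_eq_one.mp h) hB1
    · exact Subgroup.eq_of_le_of_card_ge hB (le_of_eq h.symm)
  have e₁ := key _ hA₁ hA₁1
  have e₂ := key _ hA₂ hA₂1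
  obtain ⟨y, hy, hy1⟩ := exists_mem_ne_one_of_ne_bot hA₁1
  have hy₂ : y ∈ sigmaCore L₂ ⊓ Subgroup.centralizer (K₂ : Set G) := by
    rw [e₂, ← e₁]; exact hy
  exact h12 (hm₁.eq_of_mem_kstar hG h136 hm₂ hy hy₂ hy1)

/-- **B&G Theorem 14.7(a)**, existence of the partner `M*`. -/
theorem exists_partner' (h29 : Stmt1429 G) {M K : Subgroup G} (hM : IsCoatom M)
    (hK : IsPiHallOf (kappa M) K M) (hK1 : K ≠ ⊥) :
    ∃ Ms : Subgroup G, IsCoatom Ms ∧
      K = sigmaCore Ms ⊓ Subgroup.centralizer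
        ((sigmaCore M ⊓ Subgroup.centralizer (K : Set G) : Subgroup G) : Set G) ∧
      IsPiHallOf (kappa Ms) (sigmaCore M ⊓ Subgroup.centralizer (K : Set G)) Ms := by
  classical
  have hm : IsMemberWith (K ⊔ (sigmaCore M ⊓ Subgroup.centralizer (K : Set G))) M K :=
    ⟨hM, hK, hK1, rfl⟩
  obtain ⟨p, hp, x, hxK, hx⟩ := exists_prime_orderOf_mem hK1
  have hXK : Subgroup.zpowers x ≤ K := by
    rw [Subgroup.zpowers_le]; exact hxK
  have hXp := card_zpowers_prime hp hx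
  obtain ⟨M', hM', hNX⟩ := exists_isCoatom_normalizer_le hG hXp
  obtain ⟨hne, -, K', hK'H, hK'1, hAK', -, hZeq⟩ :=
    step_member' hG h30 h32 h136 hσ hM hK hK1 hXK hXp hM' hNX
  have hm' : IsMemberWith (K ⊔ (sigmaCore M ⊓ Subgroup.centralizer (K : Set G))) M' K' :=
    ⟨hM', hK'H, hK'1, hZeq⟩
  by_cases hK'A : K' ≤ sigmaCore M ⊓ Subgroup.centralizer (K : Set G)
  · have hK'eq : K' = sigmaCore M ⊓ Subgroup.centralizer (K : Set G) := le_antisymm hK'A hAK'
    have hB'K : sigmaCore M' ⊓ Subgroup.centralizer (K' : Set G) ≤ K :=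
      hm.kstar_le_k_of_ne hG h136 hm' hne
    have hc1 := card_sup_kstar hG hM hK
    have hc2 := card_sup_kstar hG hM' hK'H
    have hcard : Nat.card K = Nat.card ↥(sigmaCore M' ⊓ Subgroup.centralizer (K' : Set G)) := by
      rw [hZeq, hc2] at hc1
      have hcK' : Nat.card K' =
          Nat.card ↥(sigmaCore M ⊓ Subgroup.centralizer (K : Set G)) := by rw [← hK'eq]
      rw [hcK'] at hc1
      have hApos : 0 < Nat.card ↥(sigmaCore M ⊓ Subgroup.centralizer (K : Set G)) :=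
        Nat.card_pos
      have : Nat.card ↥(sigmaCore M ⊓ Subgroup.centralizer (K : Set G)) *
          Nat.card ↥(sigmaCore M' ⊓ Subgroup.centralizer (K' : Set G)) =
          Nat.card ↥(sigmaCore M ⊓ Subgroup.centralizer (K : Set G)) * Nat.card K := by
        rw [hc1]; ring
      exact (Nat.eq_of_mul_eq_mul_left hApos this).symm
    have hBK : sigmaCore M' ⊓ Subgroup.centralizer (K' : Set G) = K :=
      Subgroup.eq_of_le_of_card_ge hB'K hcard.le
    refine ⟨M', hM', ?_, ?_⟩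
    · rw [← hK'eq]; exact hBK.symm
    · rw [← hK'eq]; exact hK'H
  · exfalso
    have : ∃ w ∈ K', w ∉ sigmaCore M ⊓ Subgroup.centralizer (K : Set G) := by
      by_contra h
      push Not at h
      exact hK'A h
    obtain ⟨w, hwK', hwA⟩ := this
    have hwZ : w ∈ K ⊔ (sigmaCore M ⊓ Subgroup.centralizer (K : Set G)) := hm'.k_le hwK'
    obtain ⟨k, hk, a, ha, rfl⟩ := exists_mul_of_mem_sup_of_commute hm.commute hwZ
    have hkK' : k ∈ K' := by
      have : k = k * a * a⁻¹ := by group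
      rw [this]
      exact K'.mul_mem hwK' (K'.inv_mem (hAK' ha))
    have hk1 : k ≠ 1 := by
      rintro rfl
      rw [one_mul] at hwA
      exact hwA ha
    obtain ⟨q, n, hq, hn⟩ := exists_pow_orderOf_eq_prime hk1
    have huK : k ^ n ∈ K := Subgroup.pow_mem _ hk n
    have huK' : k ^ n ∈ K' := Subgroup.pow_mem _ hkK' n
    have hUK : Subgroup.zpowers (k ^ n) ≤ K := by
      rw [Subgroup.zpowers_le]; exact huK
    have hUp := card_zpowers_prime hq hn
    obtain ⟨M₂, hM₂, hNU⟩ := exists_isCoatom_normalizer_le hG hUp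
    obtain ⟨hne₂, -, K₂, hK₂H, hK₂1, -, hUB₂, hZeq₂⟩ :=
      step_member' hG h30 h32 h136 hσ hM hK hK1 hUK hUp hM₂ hNU
    have hm₂ : IsMemberWith (K ⊔ (sigmaCore M ⊓ Subgroup.centralizer (K : Set G))) M₂ K₂ :=
      ⟨hM₂, hK₂H, hK₂1, hZeq₂⟩
    have hne₃ : M₂ ≠ M' := by
      intro h
      have h1 : q ∈ sigma M₂ := by
        apply sigmaCore_isPi M₂ q hq
        rw [← hn]
        exact Subgroup.orderOf_dvd_natCard _ (hUB₂ (Subgroup.mem_zpowers _)).1
      rw [h] at h1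
      have h2 : q ∈ kappa M' := by
        apply hK'H.2.1 q hq
        rw [← hn]
        exact Subgroup.orderOf_dvd_natCard _ huK'
      exact h2.2.2.1 h1
    apply clique_false' hG h30 h31 h32 h136 hσ h1409 h1416 h1417 h1424 hC hB hm hm' hne
    intro L KL hmL s hs hsL
    by_contra hcon
    push Not at hcon
    have hprime := prime_card_of_not_P1 hG h30 h29 L hmL.1 KL hmL.2.1 hmL.2.2.1 s hs hsL
      hcon.1 hcon.2
    by_cases h1 : L = M
    · exact not_prime_card_k' hG h30 h136 hmL hm' hm₂ (h1 ▸ hne) (h1 ▸ hne₂) hne₃ hprime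
    · by_cases h2 : L = M'
      · exact not_prime_card_k' hG h30 h136 hmL hm hm₂ (h2 ▸ hne.symm) (h2 ▸ hne₃) hne₂ hprime
      · exact not_prime_card_k' hG h30 h136 hmL hm hm' (Ne.symm h1) (Ne.symm h2) hne hprime

/-- **B&G Theorem 14.7(f)**, first half: `M` and its partner `M*` are not both of type `𝒫₁`. -/
theorem not_both_P1' {M K Ms : Subgroup G} (hM : IsCoatom M)
    (hK : IsPiHallOf (kappa M) K M) (hK1 : K ≠ ⊥) (hMs : IsCoatom Ms)
    (hKst : K = sigmaCore Ms ⊓ Subgroup.centralizer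
      ((sigmaCore M ⊓ Subgroup.centralizer (K : Set G) : Subgroup G) : Set G))
    (hKstH : IsPiHallOf (kappa Ms) (sigmaCore M ⊓ Subgroup.centralizer (K : Set G)) Ms)
    (hP : ∀ s : ℕ, s.Prime → s ∣ Nat.card M → s ∈ sigma M ∨ s ∈ kappa M)
    (hPs : ∀ s : ℕ, s.Prime → s ∣ Nat.card Ms → s ∈ sigma Ms ∨ s ∈ kappa Ms) : False := by
  classical
  have hA1 := kstar_ne_bot hG h30 hM hK hK1
  have hm : IsMemberWith (K ⊔ (sigmaCore M ⊓ Subgroup.centralizer (K : Set G))) M K :=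
    ⟨hM, hK, hK1, rfl⟩
  have hms : IsMemberWith (K ⊔ (sigmaCore M ⊓ Subgroup.centralizer (K : Set G))) Ms
      (sigmaCore M ⊓ Subgroup.centralizer (K : Set G)) := by
    refine ⟨hMs, hKstH, hA1, ?_⟩
    rw [← hKst]
    exact sup_comm _ _
  have hne : Ms ≠ M := by
    intro h
    obtain ⟨r, hr, hrA⟩ := Nat.exists_prime_and_dvd (fun h => hA1 (Subgroup.card_eq_one.mp h))
    have h1 : r ∈ sigma M :=
      sigmaCore_isPi M r hr (hrA.trans (Subgroup.card_dvd_of_le inf_le_left))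
    have h2 : r ∈ kappa Ms := hKstH.2.1 r hr hrA
    rw [h] at h2
    exact h2.2.2.1 h1
  apply clique_false' hG h30 h31 h32 h136 hσ h1409 h1416 h1417 h1424 hC hB hm hms hne
  intro L KL hmL
  have hAL1 := kstar_ne_bot hG h30 hmL.1 hmL.2.1 hmL.2.2.1
  obtain ⟨q, hq, y, hyA, hy⟩ := exists_prime_orderOf_mem hAL1
  have hy1 := ne_one_of_orderOf_prime hq hy
  have hyZ := hmL.kstar_le hyA
  by_cases hqK : q ∣ Nat.card K
  · have hyK : y ∈ K := by
      apply hm.mem_k_of_coprime hG hyZ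
      rw [hy]
      exact Nat.Coprime.coprime_dvd_left hqK (hm.coprime hG)
    have hyK' : y ∈ sigmaCore Ms ⊓ Subgroup.centralizer
        ((sigmaCore M ⊓ Subgroup.centralizer (K : Set G) : Subgroup G) : Set G) := by
      rw [← hKst]; exact hyK
    have hL : L = Ms := hms.eq_of_mem_kstar hG h136 hmL hyK' hyA hy1
    rw [hL]; exact hPs
  · have hyA' : y ∈ sigmaCore M ⊓ Subgroup.centralizer (K : Set G) := by
      apply hm.mem_kstar_of_coprime hG hyZ
      rw [hy]
      exact (Nat.Prime.coprime_iff_not_dvd hq).mpr hqK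
    have hL : L = M := hm.eq_of_mem_kstar hG h136 hmL hyA' hyA hy1
    rw [hL]; exact hP


/-- A maximal subgroup of type `𝒫₁` (with `K ≠ 1`) has a partner which is not of type `𝒫₁`
(no cyclicity assumption on `K`). -/
theorem exists_partner_not_P1 (h29 : Stmt1429 G) {M K : Subgroup G} (hM : IsCoatom M)
    (hK : IsPiHallOf (kappa M) K M) (hK1 : K ≠ ⊥)
    (hP1 : ∀ q : ℕ, q.Prime → q ∣ Nat.card M → q ∉ sigma M → q ∈ kappa M) :
    ∃ Ms : Subgroup G, IsCoatom Ms ∧ K ≤ sigmaCore Ms ∧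
      sigmaCore M ⊓ Subgroup.centralizer (K : Set G) ≤ Ms ∧
      K = sigmaCore Ms ⊓ Subgroup.centralizer
        ((sigmaCore M ⊓ Subgroup.centralizer (K : Set G) : Subgroup G) : Set G) ∧
      IsPiHallOf (kappa Ms) (sigmaCore M ⊓ Subgroup.centralizer (K : Set G)) Ms ∧
      ¬ (∀ q : ℕ, q.Prime → q ∣ Nat.card Ms → q ∉ sigma Ms → q ∈ kappa Ms) := by
  classical
  obtain ⟨Ms, hMs, hKst, hKstH⟩ :=
    exists_partner' hG h30 h31 h32 h136 hσ h1409 h1416 h1417 h1424 hC hB h29 hM hK hK1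
  refine ⟨Ms, hMs, ?_, hKstH.1, hKst, hKstH, ?_⟩
  · intro k hk
    have hk' := hk
    rw [hKst] at hk'
    exact hk'.1
  · intro hPs
    apply not_both_P1' hG h30 h31 h32 h136 hσ h1409 h1416 h1417 h1424 hC hB hM hK hK1 hMs hKst
      hKstH
    · intro s hs hsM
      by_cases h : s ∈ sigma M
      · exact Or.inl h
      · exact Or.inr (hP1 s hs hsM h)
    · intro s hs hsM
      by_cases h : s ∈ sigma Ms
      · exact Or.inl h
      · exact Or.inr (hPs s hs hsM h)

end Main'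

end Cfsg.Agent.Lib.Helper21
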