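import Mathlib
import Cfsg.Prelude.Def_Transfer
import Cfsg.Agent.Lib.Helper2.ShultSub
import Cfsg.Agent.Lib.Helper70.FrattiniFaithful
import Cfsg.Agent.S0022
import Cfsg.Agent.S0012

/-!
# The Shult step for a normal `p`-subgroup

`X` of prime order `r` normalizes the `q`-subgroup `Q` (`q` odd), `P` is a normal `p`-subgroup of the
ambient group with `C_P(X) = 1`, and `p, q, r` are distinct.  Then `[Q, X]` centralizes `P`.
This is the Hall–Higman–Shult theorem (`Helper2.ShultSub.main_sub`) applied to `P / Φ(P)` inside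
`G / Φ(P)`, followed by Burnside's theorem on `p'`-automorphisms trivial on the Frattini quotient.
-/

set_option autoImplicit false

namespace Cfsg.Agent.Lib.Helper21

open Cfsg
open scoped commutatorElement
open Cfsg.Agent.Lib.Helper70 (frattiniIn mem_frattiniIn)

section ShultStep

variable {G : Type*} [Group G] [Finite G]

/-- The image of a normal `p`-subgroup modulo its Frattini subgroup is elementary abelian. -/
theorem isElementaryAbelian_map_mk_frattiniIn {p : ℕ} [Fact p.Prime] (P : Subgroup G) [P.Normal]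
    (hP : IsPGroup p P) :
    Cfsg.IsElementaryAbelian p (P.map (QuotientGroup.mk' (frattiniIn P))) := by
  obtain ⟨h1, h2⟩ := Cfsg.Agent.S0012.result p hP
  refine ⟨⟨⟨?_⟩⟩, ?_⟩
  · rintro ⟨_, a, ha, rfl⟩ ⟨_, b, hb, rfl⟩
    apply Subtype.ext
    show QuotientGroup.mk' (frattiniIn P) a * QuotientGroup.mk' (frattiniIn P) b =
      QuotientGroup.mk' (frattiniIn P) b * QuotientGroup.mk' (frattiniIn P) a
    rw [← map_mul, ← map_mul]
    show ((a * b : G) : G ⧸ frattiniIn P) = ((b * a : G) : G ⧸ frattiniIn P)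
    rw [QuotientGroup.eq]
    have hmem : (a * b)⁻¹ * (b * a) ∈ P :=
      P.mul_mem (P.inv_mem (P.mul_mem ha hb)) (P.mul_mem hb ha)
    rw [mem_frattiniIn hmem]
    apply h1
    have e : (⟨(a * b)⁻¹ * (b * a), hmem⟩ : P) = ⁅(⟨b, hb⟩ : P)⁻¹, (⟨a, ha⟩ : P)⁻¹⁆ := by
      apply Subtype.ext
      simp only [commutatorElement_def, Subgroup.coe_mul, Subgroup.coe_inv, inv_inv]
      group
    rw [e, commutator_def]
    exact Subgroup.commutator_mem_commutator (Subgroup.mem_top _) (Subgroup.mem_top _)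
  · rintro _ ⟨a, ha, rfl⟩
    rw [← map_pow]
    show ((a ^ p : G) : G ⧸ frattiniIn P) = 1
    rw [QuotientGroup.eq_one_iff]
    have hmem : a ^ p ∈ P := P.pow_mem ha p
    rw [mem_frattiniIn hmem]
    exact h2 ⟨a, ha⟩

/-- **Shult step.**  `[Q, X]` centralizes the normal `p`-subgroup `P` when `C_P(X) = 1`. -/
theorem comm_mem_centralizer_of_shult {p q r : ℕ} [hp : Fact p.Prime] [hq : Fact q.Prime]
    [hr : Fact r.Prime] (hpq : p ≠ q) (hpr : p ≠ r) (hqr : q ≠ r) (hq2 : q ≠ 2)
    (P Q X : Subgroup G) [hPn : P.Normal] (hP : IsPGroup p P) (hQ : IsPGroup q Q)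
    (hX : Nat.card X = r) (hXQ : X ≤ Subgroup.normalizer (Q : Set G))
    (hfix : P ⊓ Subgroup.centralizer (X : Set G) = ⊥) :
    ∀ x ∈ X, ∀ g ∈ Q, g⁻¹ * (x * g * x⁻¹) ∈ Subgroup.centralizer (P : Set G) := by
  have hΦn : (frattiniIn P).Normal := inferInstance
  have hΦP : frattiniIn P ≤ P := Cfsg.Agent.Lib.Helper70.frattiniIn_le P
  set ρ := QuotientGroup.mk' (frattiniIn P) with hρ
  have hρs : Function.Surjective ρ := QuotientGroup.mk'_surjective _
  have hker : ρ.ker = frattiniIn P := QuotientGroup.ker_mk' _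
  have hρ1 : ∀ g : G, ρ g = 1 ↔ g ∈ frattiniIn P := by
    intro g
    rw [← MonoidHom.mem_ker, hker]
  have hVn : (P.map ρ).Normal := Subgroup.Normal.map hPn ρ hρs
  have hV : IsElementaryAbelian p (P.map ρ) := isElementaryAbelian_map_mk_frattiniIn P hP
  -- the image of `X` still has order `r`
  have hXr : Nat.card (X.map ρ) = r := by
    have hdvd : Nat.card (X.map ρ) ∣ r := by
      have := Subgroup.card_map_dvd (H := X) ρ
      rwa [hX] at this
    rcases (Nat.dvd_prime hr.out).mp hdvd with h1 | h1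
    · exfalso
      have hbot : X.map ρ = ⊥ := Subgroup.card_eq_one.mp h1
      have hXΦ : X ≤ P := by
        intro x hx
        apply hΦP
        rw [← hρ1]
        have : ρ x ∈ X.map ρ := Subgroup.mem_map_of_mem ρ hx
        rw [hbot, Subgroup.mem_bot] at this
        exact this
      have hXp : IsPGroup p X := hP.to_le hXΦ
      obtain ⟨k, hk⟩ := IsPGroup.iff_card.mp hXp
      rw [hX] at hk
      have : r ∣ p ^ k := by rw [← hk]
      have := (Nat.prime_dvd_prime_iff_eq hr.out hp.out).mp (hr.out.dvd_of_dvd_pow this)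
      exact hpr this.symm
    · exact h1
  have hXQ' : X.map ρ ≤ Subgroup.normalizer (SetLike.coe (Q.map ρ)) :=
    (Subgroup.map_mono hXQ).trans (Subgroup.le_normalizer_map ρ)
  have hVtop : Subgroup.normalizer (SetLike.coe (P.map ρ)) = ⊤ :=
    Subgroup.normalizer_eq_top _
  -- no fixed points on `P / Φ(P)`
  have hCV : P.map ρ ⊓ Subgroup.centralizer (SetLike.coe (X.map ρ)) = ⊥ := by
    rw [eq_bot_iff]
    rintro _ ⟨⟨v, hv, rfl⟩, hcent⟩
    rw [Subgroup.mem_bot, hρ1]
    have hXp : IsPGroup r X := IsPGroup.of_card (n := 1) (by rw [hX, pow_one])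
    have hcop : (Nat.card X).Coprime (Nat.card P) := by
      obtain ⟨k, hk⟩ := IsPGroup.iff_card.mp hP
      rw [hX, hk]
      exact Nat.Coprime.pow_right k ((Nat.coprime_primes hr.out hp.out).mpr (Ne.symm hpr))
    have hXsolv : Group.IsSolvable X := by
      have : Group.IsNilpotent X := hXp.isNilpotent
      infer_instance
    have hPtop : Subgroup.normalizer (P : Set G) = ⊤ := Subgroup.normalizer_eq_top _
    have hΦtop : Subgroup.normalizer ((frattiniIn P : Subgroup G) : Set G) = ⊤ :=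
      Subgroup.normalizer_eq_top _
    obtain ⟨c, hc, hvc⟩ := Cfsg.Agent.S0022.result X P (by rw [hPtop]; exact le_top) hcop
      (Or.inl hXsolv) (frattiniIn P) hΦP (by rw [hΦtop]; exact le_top)
      (by rw [hΦtop]; exact le_top) v hv (by
        intro a ha
        rw [← hρ1]
        have h1 := Subgroup.mem_centralizer_iff.mp hcent (ρ a) (Subgroup.mem_map_of_mem ρ ha)
        -- h1 : ρ a * ρ v = ρ v * ρ a
        rw [map_mul, map_mul, map_mul, map_inv, map_inv, h1]
        group)
    rw [hfix, Subgroup.mem_bot] at hc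
    rw [hc, mul_one] at hvc
    have := (frattiniIn P).inv_mem hvc
    rwa [inv_inv] at this
  rcases Cfsg.Agent.Lib.Helper2.ShultSub.main_sub hp.out hq.out hr.out hpq hpr hqr (X.map ρ)
      (Q.map ρ) (P.map ρ) hXr (hQ.map ρ) hXQ' hV (by rw [hVtop]; exact le_top)
      (by rw [hVtop]; exact le_top) hCV with h | ⟨h2, _⟩
  · intro x hx g hg
    have hc := h (ρ x) (Subgroup.mem_map_of_mem ρ hx) (ρ g) (Subgroup.mem_map_of_mem ρ hg)
    have hcQ : g⁻¹ * (x * g * x⁻¹) ∈ Q :=
      Q.mul_mem (Q.inv_mem hg) ((Subgroup.mem_normalizer_iff.mp (hXQ hx) g).mp hg)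
    have hcop : (orderOf (g⁻¹ * (x * g * x⁻¹))).Coprime p := by
      obtain ⟨k, hk⟩ := (IsPGroup.iff_orderOf.mp hQ) ⟨_, hcQ⟩
      rw [Subgroup.orderOf_mk] at hk
      rw [hk]
      exact Nat.Coprime.pow_left k ((Nat.coprime_primes hq.out hp.out).mpr (Ne.symm hpq))
    apply Cfsg.Agent.Lib.Helper70.mem_centralizer_of_coprime P hP _ _ hcop
    intro v hv
    rw [← hρ1]
    have h1 := Subgroup.mem_centralizer_iff.mp hc (ρ v) (Subgroup.mem_map_of_mem ρ hv)
    have e : ρ (g⁻¹ * (x * g * x⁻¹)) = (ρ g)⁻¹ * (ρ x * ρ g * (ρ x)⁻¹) := by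
      simp only [map_mul, map_inv]
    rw [map_mul, map_mul, map_mul, map_inv, map_inv, e, ← h1]
    group
  · exact absurd h2 hq2

end ShultStep

end Cfsg.Agent.Lib.Helper21
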