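import Mathlib
import Cfsg.Agent.Lib.Helper2.ShultGroup

/-!
# The Frobenius free-module count for subgroups of one group (helper21)

`card_pow_of_fpf_subgroup`: `W` an elementary abelian `r`-subgroup of `G`, `N` a nilpotent subgroup
normalizing `W` with `C_W(N) = 1`, `K` a subgroup normalizing `W` and `N` and acting
fixed-point-freely on `N`.  Then `|W| = |C_W(K)| ^ |K|`.
(Wrapper of `Helper2.FrobCount.card_eq_card_fixed_pow_of_fpf` for conjugation actions.)
-/

set_option autoImplicit false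

namespace Cfsg.Agent.Lib.Helper21

open Cfsg.Agent.Lib.Helper2.ShultGroup Cfsg.Agent.Lib.Helper2

universe u

variable {G : Type u} [Group G]

theorem card_pow_of_fpf_subgroup [Finite G] (r : ℕ) [Fact r.Prime] (W N K : Subgroup G)
    (hWc : ∀ a ∈ W, ∀ b ∈ W, a * b = b * a) (hWr : ∀ w ∈ W, w ^ r = 1)
    (hNW : N ≤ Subgroup.normalizer (W : Set G)) (hKW : K ≤ Subgroup.normalizer (W : Set G))
    (hKN : K ≤ Subgroup.normalizer (N : Set G)) (hnil : Group.IsNilpotent N)
    (hfpf : ∀ k ∈ K, k ≠ 1 → ∀ n ∈ N, k * n * k⁻¹ = n → n = 1)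
    (hfix : ∀ w ∈ W, (∀ n ∈ N, n * w * n⁻¹ = w) → w = 1) :
    Nat.card W = Nat.card ↥(W ⊓ Subgroup.centralizer (K : Set G)) ^ Nat.card K := by
  let _ : CommGroup W :=
    { (inferInstance : Group W) with
      mul_comm := fun a b => Subtype.ext (hWc a a.2 b b.2) }
  have key := FrobCount.card_eq_card_fixed_pow_of_fpf (F := N) (H := K) (V := W) r
    (fun v => Subtype.ext (hWr v v.2)) (conjOn K N hKN)
    (fun k hk n hn => by
      apply Subtype.ext
      apply hfpf k k.2 (fun h => hk (Subtype.ext h)) n n.2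
      exact congrArg Subtype.val hn)
    (conjOn N W hNW) (conjOn K W hKW)
    (fun k n v => by
      apply Subtype.ext
      show (k : G) * ((n : G) * v * (n : G)⁻¹) * (k : G)⁻¹ =
        ((k : G) * n * (k : G)⁻¹) * ((k : G) * v * (k : G)⁻¹) * ((k : G) * n * (k : G)⁻¹)⁻¹
      group)
    (fun v hv => by
      apply Subtype.ext
      apply hfix v v.2
      intro n hn
      exact congrArg Subtype.val (hv ⟨n, hn⟩))
  rw [key]
  congr 1
  refine Nat.card_congr
    { toFun := fun v => ⟨v.1.1, ⟨v.1.2, ?_⟩⟩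
      invFun := fun v => ⟨⟨v.1, v.2.1⟩, ?_⟩
      left_inv := fun v => rfl
      right_inv := fun v => rfl }
  · show (v.1 : G) ∈ Subgroup.centralizer (K : Set G)
    rw [Subgroup.mem_centralizer_iff]
    intro k hk
    have h := congrArg Subtype.val (v.2 ⟨k, hk⟩)
    have h' : k * (v.1 : G) * k⁻¹ = v.1 := h
    calc k * (v.1 : G) = k * (v.1 : G) * k⁻¹ * k := by group
      _ = (v.1 : G) * k := by rw [h']
  · intro k
    apply Subtype.ext
    show (k : G) * v.1 * (k : G)⁻¹ = v.1
    have h := Subgroup.mem_centralizer_iff.mp v.2.2 k k.2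
    rw [h]; group

end Cfsg.Agent.Lib.Helper21
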