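import Mathlib
import Cfsg.Prelude.Def_OddOrderLocal
import Cfsg.Prelude.Def_OddOrder
import Cfsg.Agent.Lib.Helper54.BGFourteenDefs
import Cfsg.Agent.Lib.Helper54.BGElevenA
import Cfsg.Agent.Lib.Helper62.PiHall
import Cfsg.Agent.Lib.Helper21.BGFourteenSevenA
import Cfsg.Agent.Lib.Helper21.BGFourteenSevenB

/-!
# Bender–Glauberman 14.7(f): a maximal subgroup of type `P₂` has `|K|` prime  (helper21)

`prime_card_of_not_P1`: `M` maximal, `K ≠ 1` a Hall `κ(M)`-subgroup, and some prime `s` of `M` outside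
`σ(M) ∪ κ(M)` (i.e. the complement `U` of B&G 14.2 is nontrivial).  Then `|K|` is a prime.
Inputs: `Stmt1430 G` (B&G 14.2 (a)–(c)) and the statement of S1429 (B&G 14.1); the proof is the
Frobenius free-module count (`card_pow_of_fpf_subgroup`) for the Frobenius group `Ω₁(O_s(U)) K` acting
on `Ω₁(Z(M_σ))_t`.
-/

set_option autoImplicit false

namespace Cfsg.Agent.Lib.Helper21

open Cfsg Cfsg.Agent.Lib.Helper54

universe u

variable {G : Type u} [Group G]

/-- The statement of S1429 (B&G Lemma 14.1) for the group `G`. -/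
def Stmt1429 (G : Type u) [Group G] : Prop :=
  ∀ (M : Subgroup G), IsCoatom M →
    ¬ (∀ q : ℕ, q.Prime → q ∣ Nat.card M → q ∉ sigma M → q ∈ kappa M) →
    ∀ (p : ℕ) [Fact p.Prime], p ∣ Nat.card M → p ∉ sigma M ∪ kappa M → ∀ S : Sylow p M,
      Nat.card ↥(Subgroup.closure {x : G | x ∈ (S : Subgroup M).map M.subtype ∧ x ^ p = 1}) ≤ p ^ 2 ∧
        sigmaCore M ⊓ Subgroup.centralizer ((Subgroup.closure
          {x : G | x ∈ (S : Subgroup M).map M.subtype ∧ x ^ p = 1} : Subgroup G) : Set G) = ⊥ ∧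
        Group.IsNilpotent (sigmaCore M)

/-- `Ω₁`-type subgroup `{x ∈ U | x ^ s = 1}` of a commutative subgroup `U`. -/
def omegaSub (U : Subgroup G) (s : ℕ) (hU : ∀ a ∈ U, ∀ b ∈ U, a * b = b * a) : Subgroup G where
  carrier := {x | x ∈ U ∧ x ^ s = 1}
  one_mem' := ⟨U.one_mem, one_pow s⟩
  mul_mem' := by
    intro a b ha hb
    refine ⟨U.mul_mem ha.1 hb.1, ?_⟩
    have hc : Commute a b := hU a ha.1 b hb.1
    rw [hc.mul_pow, ha.2, hb.2, one_mul]
  inv_mem' := by
    intro a ha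
    exact ⟨U.inv_mem ha.1, by rw [inv_pow, ha.2, inv_one]⟩

theorem mem_omegaSub {U : Subgroup G} {s : ℕ} {hU : ∀ a ∈ U, ∀ b ∈ U, a * b = b * a} {x : G} :
    x ∈ omegaSub U s hU ↔ x ∈ U ∧ x ^ s = 1 := Iff.rfl

theorem omegaSub_le (U : Subgroup G) (s : ℕ) (hU : ∀ a ∈ U, ∀ b ∈ U, a * b = b * a) :
    omegaSub U s hU ≤ U := fun _ hx => hx.1

theorem omegaSub_ne_bot [Finite G] (U : Subgroup G) (s : ℕ) [Fact s.Prime]
    (hU : ∀ a ∈ U, ∀ b ∈ U, a * b = b * a) (hs : s ∣ Nat.card U) : omegaSub U s hU ≠ ⊥ := by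
  obtain ⟨x, hx⟩ := exists_prime_orderOf_dvd_card' (G := U) s hs
  intro hbot
  have hmem : (x : G) ∈ omegaSub U s hU := by
    refine ⟨x.2, ?_⟩
    have : x ^ s = 1 := by rw [← hx]; exact pow_orderOf_eq_one x
    exact_mod_cast congrArg Subtype.val this
  rw [hbot, Subgroup.mem_bot] at hmem
  have hx1 : x = 1 := Subtype.ext hmem
  rw [hx1, orderOf_one] at hx
  exact (Fact.out : s.Prime).one_lt.ne hx

/-- A subgroup normalizing `U` normalizes `omegaSub U s`. -/
theorem le_normalizer_omegaSub (U : Subgroup G) (s : ℕ) (hU : ∀ a ∈ U, ∀ b ∈ U, a * b = b * a)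
    {A : Subgroup G} (hA : A ≤ Subgroup.normalizer (U : Set G)) :
    A ≤ Subgroup.normalizer (omegaSub U s hU : Set G) := by
  intro a ha
  rw [Subgroup.mem_normalizer_iff]
  intro x
  constructor
  · intro hx
    exact ⟨(Subgroup.mem_normalizer_iff.mp (hA ha) x).mp hx.1, by rw [conj_pow, hx.2]; group⟩
  · intro hx
    have h1 : x ∈ U := (Subgroup.mem_normalizer_iff.mp (hA ha) x).mpr hx.1
    refine ⟨h1, ?_⟩
    have h2 := hx.2
    rw [conj_pow] at h2
    calc x ^ s = a⁻¹ * (a * x ^ s * a⁻¹) * a := by group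
      _ = 1 := by rw [h2]; group

/-- Conjugation by an element normalizing `A` preserves `A ⊓ C_G(A)`. -/
theorem le_normalizer_inf_centralizer (A : Subgroup G) :
    Subgroup.normalizer (A : Set G) ≤
      Subgroup.normalizer ((A ⊓ Subgroup.centralizer (A : Set G) : Subgroup G) : Set G) := by
  have key : ∀ g ∈ Subgroup.normalizer (A : Set G), ∀ x ∈ A ⊓ Subgroup.centralizer (A : Set G),
      g * x * g⁻¹ ∈ A ⊓ Subgroup.centralizer (A : Set G) := by
    intro g hg x hx
    refine Subgroup.mem_inf.mpr ⟨(Subgroup.mem_normalizer_iff.mp hg x).mp hx.1, ?_⟩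
    rw [Subgroup.mem_centralizer_iff]
    intro y hy
    have hy' : g⁻¹ * y * g ∈ A := by
      have := (Subgroup.mem_normalizer_iff.mp hg (g⁻¹ * y * g)).mpr
      apply this
      have e : g * (g⁻¹ * y * g) * g⁻¹ = y := by group
      rw [e]; exact hy
    have hc := Subgroup.mem_centralizer_iff.mp hx.2 (g⁻¹ * y * g) hy'
    calc y * (g * x * g⁻¹) = g * ((g⁻¹ * y * g) * x) * g⁻¹ := by group
      _ = g * (x * (g⁻¹ * y * g)) * g⁻¹ := by rw [hc]
      _ = g * x * g⁻¹ * y := by group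
  intro g hg
  rw [Subgroup.mem_normalizer_iff]
  intro x
  constructor
  · exact key g hg x
  · intro hx
    have := key g⁻¹ (Subgroup.inv_mem _ hg) _ hx
    have e : g⁻¹ * (g * x * g⁻¹) * g⁻¹⁻¹ = x := by group
    rwa [e] at this

theorem prime_card_of_not_P1 [Finite G] (hG : IsMinSimpleOddOrder G) (h30 : Stmt1430 G)
    (h29 : Stmt1429 G) (M : Subgroup G) (hM : IsCoatom M) (K : Subgroup G)
    (hK : IsPiHallOf (kappa M) K M) (hK1 : K ≠ ⊥)
    (s : ℕ) (hs : s.Prime) (hsM : s ∣ Nat.card M) (hsσ : s ∉ sigma M) (hsκ : s ∉ kappa M) :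
    (Nat.card K).Prime := by
  obtain ⟨h1, ⟨U, hUc, hUH, hKU, hUfpf⟩, -⟩ := h30 M hM K hK hK1
  have : Fact s.Prime := ⟨hs⟩
  -- `s` divides `|U|`
  have hsU : s ∣ Nat.card U := by
    have hmul := Cfsg.Agent.Lib.Helper62.isPiHallOf_card_mul hUH
    have hnd : ¬ s ∣ U.relIndex M := hUH.2.2 s hs ⟨hs, hsκ, hsσ⟩
    rw [← hmul] at hsM
    exact ((Nat.Prime.dvd_mul hs).mp hsM).resolve_right hnd
  have hUcomm : ∀ a ∈ U, ∀ b ∈ U, a * b = b * a := fun a ha b hb =>
    congrArg Subtype.val (hUc.is_comm.comm ⟨a, ha⟩ ⟨b, hb⟩)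
  -- the Frobenius kernel `N = Ω₁(O_s(U))`
  set N : Subgroup G := omegaSub U s hUcomm with hN
  have hNU : N ≤ U := omegaSub_le U s hUcomm
  have hUM : U ≤ M := hUH.1
  have hKM : K ≤ M := hK.1
  have hKN : K ≤ Subgroup.normalizer (N : Set G) := le_normalizer_omegaSub U s hUcomm hKU
  have hNnil : Group.IsNilpotent N := by
    let _ : CommGroup N :=
      { (inferInstance : Group N) with
        mul_comm := fun a b => Subtype.ext (hUcomm a (hNU a.2) b (hNU b.2)) }
    exact CommGroup.isNilpotent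
  have hfpf : ∀ k ∈ K, k ≠ 1 → ∀ n ∈ N, k * n * k⁻¹ = n → n = 1 := by
    intro k hk hk1 n hn hkn
    have hmem : n ∈ U ⊓ Subgroup.centralizer ({k} : Set G) := by
      refine Subgroup.mem_inf.mpr ⟨hNU hn, ?_⟩
      rw [Subgroup.mem_centralizer_iff]
      intro h hh
      rw [Set.mem_singleton_iff] at hh
      subst hh
      calc h * n = h * n * h⁻¹ * h := by group
        _ = n * h := by rw [hkn]
    rw [hUfpf k hk hk1, Subgroup.mem_bot] at hmem
    exact hmem
  -- S1429: `C_{M_σ}(N) = 1` and `M_σ` nilpotent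
  have h29' : sigmaCore M ⊓ Subgroup.centralizer (N : Set G) = ⊥ ∧
      Group.IsNilpotent (sigmaCore M) := by
    let P : Sylow s U := default
    set P' : Subgroup G := (P : Subgroup U).map U.subtype with hP'
    have hP'U : P' ≤ U := Subgroup.map_subtype_le _
    have hcardP' : Nat.card P' = s ^ (Nat.card U).factorization s := by
      rw [hP', Subgroup.card_map_of_injective U.subtype_injective]
      exact P.card_eq_multiplicity
    have hfac : (Nat.card M).factorization s = (Nat.card U).factorization s := by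
      have hmul := Cfsg.Agent.Lib.Helper62.isPiHallOf_card_mul hUH
      have hnd : ¬ s ∣ U.relIndex M := hUH.2.2 s hs ⟨hs, hsκ, hsσ⟩
      have hU0 : Nat.card U ≠ 0 := Nat.card_pos.ne'
      have hr0 : U.relIndex M ≠ 0 := by
        intro h0
        rw [h0, mul_zero] at hmul
        exact (Nat.card_pos (α := M)).ne' hmul.symm
      rw [← hmul, Nat.factorization_mul hU0 hr0, Finsupp.add_apply,
        Nat.factorization_eq_zero_of_not_dvd hnd, add_zero]
    have hP'M : P' ≤ M := hP'U.trans hUM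
    have hcardS : Nat.card (P'.subgroupOf M) = s ^ (Nat.card M).factorization s := by
      rw [hfac, ← hcardP']
      exact Nat.card_congr (Subgroup.subgroupOfEquivOfLe hP'M).toEquiv
    let S : Sylow s M := Sylow.ofCard (P'.subgroupOf M) hcardS
    have hSmap : (S : Subgroup M).map M.subtype = P' := by
      rw [Sylow.coe_ofCard]
      exact Subgroup.map_subgroupOf_eq_of_le hP'M
    have hP1 : ¬ (∀ q : ℕ, q.Prime → q ∣ Nat.card M → q ∉ sigma M → q ∈ kappa M) :=
      fun h => hsκ (h s hs hsM hsσ)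
    have hnot : s ∉ sigma M ∪ kappa M := fun h => h.elim hsσ hsκ
    obtain ⟨-, hC, hnil⟩ := h29 M hM hP1 s hsM hnot S
    refine ⟨?_, hnil⟩
    rw [eq_bot_iff, ← hC]
    apply inf_le_inf_left
    apply Subgroup.centralizer_le
    rw [SetLike.coe_subset_coe, Subgroup.closure_le]
    intro x hx
    rw [hSmap] at hx
    exact ⟨hP'U hx.1, hx.2⟩
  obtain ⟨hCN, hMsnil⟩ := h29'
  -- `M_σ ≠ 1`
  have hMs1 : sigmaCore M ≠ ⊥ := by
    intro h
    apply kstar_ne_bot hG h30 hM hK hK1
    rw [h, bot_inf_eq]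
  -- the centre of `M_σ`
  set Z : Subgroup G := sigmaCore M ⊓ Subgroup.centralizer (sigmaCore M : Set G) with hZ
  have hZcomm : ∀ a ∈ Z, ∀ b ∈ Z, a * b = b * a := fun a ha b hb =>
    (Subgroup.mem_centralizer_iff.mp ha.2 b hb.1).symm
  have hZ1 : Z ≠ ⊥ := by
    have : Group.IsNilpotent (sigmaCore M) := hMsnil
    have : Nontrivial (sigmaCore M) := (Subgroup.nontrivial_iff_ne_bot _).mpr hMs1
    have hc := Group.IsNilpotent.center_ne_bot (G := sigmaCore M)
    obtain ⟨z, hz1⟩ := (Subgroup.ne_bot_iff_exists_ne_one).mp hc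
    have hzc : (z : sigmaCore M) ∈ Subgroup.center (sigmaCore M) := z.2
    intro hbot
    have hmem : ((z : sigmaCore M) : G) ∈ Z := by
      refine Subgroup.mem_inf.mpr ⟨(z : sigmaCore M).2, ?_⟩
      rw [Subgroup.mem_centralizer_iff]
      intro y hy
      have := Subgroup.mem_center_iff.mp hzc ⟨y, hy⟩
      exact congrArg Subtype.val this
    rw [hbot, Subgroup.mem_bot] at hmem
    apply hz1
    apply Subtype.ext
    apply Subtype.ext
    exact hmem
  have hZcard : Nat.card Z ≠ 1 := fun h => hZ1 (Subgroup.card_eq_one.mp h)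
  obtain ⟨t, ht, htZ⟩ := Nat.exists_prime_and_dvd hZcard
  have : Fact t.Prime := ⟨ht⟩
  set W : Subgroup G := omegaSub Z t hZcomm with hW
  have hWZ : W ≤ Z := omegaSub_le Z t hZcomm
  have hW1 : W ≠ ⊥ := omegaSub_ne_bot Z t hZcomm htZ
  have hWMs : W ≤ sigmaCore M := hWZ.trans inf_le_left
  have hMW : M ≤ Subgroup.normalizer (W : Set G) :=
    le_normalizer_omegaSub Z t hZcomm
      ((le_normalizer_sigmaCore M).trans (le_normalizer_inf_centralizer (sigmaCore M)))
  have hWc : ∀ a ∈ W, ∀ b ∈ W, a * b = b * a := fun a ha b hb => hZcomm a (hWZ ha) b (hWZ hb)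
  have hWr : ∀ w ∈ W, w ^ t = 1 := fun w hw => hw.2
  have hfix : ∀ w ∈ W, (∀ n ∈ N, n * w * n⁻¹ = w) → w = 1 := by
    intro w hw hfixw
    have hmem : w ∈ sigmaCore M ⊓ Subgroup.centralizer (N : Set G) := by
      refine Subgroup.mem_inf.mpr ⟨hWMs hw, ?_⟩
      rw [Subgroup.mem_centralizer_iff]
      intro n hn
      have := hfixw n hn
      calc n * w = n * w * n⁻¹ * n := by group
        _ = w * n := by rw [this]
    rw [hCN, Subgroup.mem_bot] at hmem
    exact hmem
  have hNW : N ≤ Subgroup.normalizer (W : Set G) := (hNU.trans hUM).trans hMW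
  have hKW : K ≤ Subgroup.normalizer (W : Set G) := hKM.trans hMW
  have cK := card_pow_of_fpf_subgroup t W N K hWc hWr hNW hKW hKN hNnil hfpf hfix
  -- a subgroup `X` of prime order of `K`
  have hKcard : Nat.card K ≠ 1 := fun h => hK1 (Subgroup.card_eq_one.mp h)
  obtain ⟨p, hp, hpK⟩ := Nat.exists_prime_and_dvd hKcard
  have : Fact p.Prime := ⟨hp⟩
  obtain ⟨x, hx⟩ := exists_prime_orderOf_dvd_card' (G := K) p hpK
  set X : Subgroup G := Subgroup.zpowers (x : G) with hX
  have hxK : (x : G) ∈ K := x.2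
  have hXK : X ≤ K := by rw [hX, Subgroup.zpowers_le]; exact hxK
  have hordx : orderOf (x : G) = p := by rw [← hx]; exact Subgroup.orderOf_coe x
  have hXcard : Nat.card X = p := by rw [hX, Nat.card_zpowers, hordx]
  have hx1 : (x : G) ≠ 1 := by
    intro h
    rw [h, orderOf_one] at hordx
    exact hp.one_lt.ne hordx
  have cX := card_pow_of_fpf_subgroup t W N X hWc hWr hNW (hXK.trans hKW) (hXK.trans hKN) hNnil
    (fun k hk hk1 n hn h => hfpf k (hXK hk) hk1 n hn h) hfix
  have hCeq : W ⊓ Subgroup.centralizer (X : Set G) = W ⊓ Subgroup.centralizer (K : Set G) := by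
    apply le_antisymm
    · intro w hw
      refine ⟨hw.1, ?_⟩
      have hwx : w ∈ sigmaCore M ⊓ Subgroup.centralizer ({(x : G)} : Set G) := by
        refine Subgroup.mem_inf.mpr ⟨hWMs hw.1, ?_⟩
        rw [Subgroup.mem_centralizer_iff]
        intro h hh
        rw [Set.mem_singleton_iff] at hh
        subst hh
        exact Subgroup.mem_centralizer_iff.mp hw.2 _ (Subgroup.mem_zpowers _)
      rw [h1 (x : G) hxK hx1] at hwx
      exact hwx.2
    · exact inf_le_inf_left _ (Subgroup.centralizer_le (SetLike.coe_subset_coe.mpr hXK))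
  rw [hCeq, hXcard] at cX
  rw [cK] at cX
  -- `c ^ |K| = c ^ p` with `c ≥ 2`
  set c := Nat.card ↥(W ⊓ Subgroup.centralizer (K : Set G)) with hc
  have hW2 : 1 < Nat.card W := (Subgroup.one_lt_card_iff_ne_bot W).mpr hW1
  have hc2 : 2 ≤ c := by
    by_contra hlt
    have hc1 : c = 1 := by
      have hpos : 0 < c := Nat.card_pos
      omega
    rw [cK, hc1, one_pow] at hW2
    exact lt_irrefl _ hW2
  have := Nat.pow_right_injective hc2 cX
  rw [this]
  exact hp

end Cfsg.Agent.Lib.Helper21
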