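/-
helper21 shared library: a 1-cocycle with values in an abelian normal `p`-subgroup which vanishes
on a subgroup of index prime to `p` is a coboundary.
-/
import Mathlib

set_option autoImplicit false

namespace Cfsg.Agent.Lib.Helper21

open scoped BigOperators

variable {H : Type*} [Group H]

/-- Let `Z` be an abelian normal `p`-subgroup of the finite group `H`, `S` a subgroup of index prime
to `p`, and `f : H → Z` a crossed homomorphism (`f (h k) = k⁻¹ f(h) k · f(k)`) which is trivial on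
`S`.  Then `f` is principal: `f h = h⁻¹ z h z⁻¹` for some `z ∈ Z`. -/
theorem cocycle_eq_coboundary [Finite H] {p : ℕ} [Fact p.Prime] (Z : Subgroup H) [hZn : Z.Normal]
    (hZc : ∀ a ∈ Z, ∀ b ∈ Z, a * b = b * a) (hZp : IsPGroup p Z) (S : Subgroup H)
    (hS : ¬ p ∣ S.index) (f : H → H) (hfZ : ∀ h, f h ∈ Z)
    (hcoc : ∀ h k, f (h * k) = k⁻¹ * f h * k * f k) (hfS : ∀ s ∈ S, f s = 1) :
    ∃ z ∈ Z, ∀ h, f h = h⁻¹ * z * h * z⁻¹ := by
  classical
  have : Fintype (H ⧸ S) := Fintype.ofFinite _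
  -- commutative group structure on Z
  let _ : CommGroup Z := { (inferInstance : Group Z) with
    mul_comm := fun a b => Subtype.ext (hZc a a.2 b b.2) }
  -- F h = h f(h) h⁻¹
  let F : H → Z := fun h => ⟨h * f h * h⁻¹, hZn.conj_mem _ (hfZ h) h⟩
  have hF_mul : ∀ h k : H, (F (h * k) : H) = (F h : H) * (h * (F k : H) * h⁻¹) := by
    intro h k
    simp only [F, hcoc h k]
    group
  have hF_S : ∀ (h : H) (s : H), s ∈ S → F (h * s) = F h := by
    intro h s hs
    apply Subtype.ext
    rw [hF_mul h s]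
    have : (F s : H) = 1 := by simp [F, hfS s hs]
    rw [this]; group
  -- F is constant on left cosets
  have hF_coset : ∀ h k : H, (QuotientGroup.mk h : H ⧸ S) = QuotientGroup.mk k → F h = F k := by
    intro h k hhk
    have hmem : h⁻¹ * k ∈ S := QuotientGroup.eq.mp hhk
    have := hF_S h (h⁻¹ * k) hmem
    rw [← this]; congr 1; group
  let y : Z := ∏ q : H ⧸ S, F q.out
  set n := S.index with hn
  have hcardq : Fintype.card (H ⧸ S) = n := by
    rw [hn, Subgroup.index, Nat.card_eq_fintype_card]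
  -- conjugation action on Z
  let cz : H → Z → Z := fun g z => ⟨g * z * g⁻¹, hZn.conj_mem _ z.2 g⟩
  have hcz_mul : ∀ g (a b : Z), cz g (a * b) = cz g a * cz g b := by
    intro g a b; apply Subtype.ext; simp [cz]
  have hcz_prod : ∀ g (s : Finset (H ⧸ S)) (φ : H ⧸ S → Z),
      cz g (∏ q ∈ s, φ q) = ∏ q ∈ s, cz g (φ q) := by
    intro g s φ
    induction s using Finset.induction_on with
    | empty => apply Subtype.ext; simp [cz]
    | insert a s ha ih => rw [Finset.prod_insert ha, Finset.prod_insert ha, hcz_mul, ih]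
  have hkey : ∀ g : H, cz g y = (F g)⁻¹ ^ n * y := by
    intro g
    have h1 : cz g y = ∏ q : H ⧸ S, cz g (F q.out) := hcz_prod g _ _
    have h2 : ∀ q : H ⧸ S, cz g (F q.out) = (F g)⁻¹ * F (g * q.out) := by
      intro q
      apply Subtype.ext
      have := hF_mul g q.out
      simp only [cz, Subgroup.coe_mul, Subgroup.coe_inv]
      rw [this]; group
    rw [h1]
    simp only [h2]
    rw [Finset.prod_mul_distrib, Finset.prod_const, Finset.card_univ, hcardq]
    congr 1
    -- reindex by q ↦ g • q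
    have h3 : ∀ q : H ⧸ S, F (g * q.out) = F ((g • q).out) := by
      intro q
      apply hF_coset
      rw [QuotientGroup.out_eq']
      have : (g • q) = (QuotientGroup.mk (g * q.out) : H ⧸ S) := by
        conv_lhs => rw [← QuotientGroup.out_eq' q]
        rfl
      exact this.symm
    simp only [h3]
    exact Fintype.prod_equiv (MulAction.toPerm g) _ _ (fun q => rfl)
  -- invert n modulo |Z|
  obtain ⟨k, hk⟩ := hZp.exists_card_eq
  have hcop : Nat.Coprime n (Nat.card Z) := by
    rw [hk]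
    apply Nat.Coprime.pow_right
    exact (Nat.Coprime.symm ((Nat.Prime.coprime_iff_not_dvd Fact.out).mpr hS))
  have hpos : 0 < Nat.card Z := Nat.card_pos
  obtain ⟨m, -, hm⟩ : ∃ m < Nat.card Z, (n * m) % Nat.card Z = 1 % Nat.card Z :=
    Nat.exists_mul_mod_eq_of_coprime 1 hcop hpos.ne'
  have hpow : ∀ z : Z, z ^ (n * m) = z := by
    intro z
    rw [← pow_mod_natCard, hm, pow_mod_natCard, pow_one]
  refine ⟨(y ^ m : Z), (y ^ m : Z).2, ?_⟩
  intro g
  -- F g ^ n = y * (cz g y)⁻¹
  have h4 : (F g) ^ n = y * (cz g y)⁻¹ := by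
    rw [hkey g]
    rw [inv_pow, mul_inv, inv_inv, mul_comm y, mul_assoc, inv_mul_cancel, mul_one]
  have hczpow : ∀ (z : Z) (j : ℕ), cz g (z ^ j) = (cz g z) ^ j := by
    intro z j
    apply Subtype.ext
    simp [cz, conj_pow]
  have h5 : F g = y ^ m * (cz g (y ^ m))⁻¹ := by
    calc F g = (F g) ^ (n * m) := (hpow _).symm
      _ = ((F g) ^ n) ^ m := by rw [pow_mul]
      _ = (y * (cz g y)⁻¹) ^ m := by rw [h4]
      _ = y ^ m * ((cz g y) ^ m)⁻¹ := by rw [mul_pow, inv_pow]
      _ = y ^ m * (cz g (y ^ m))⁻¹ := by rw [hczpow]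
  have h6 := congrArg (fun z : Z => (z : H)) h5
  simp only [F, cz, Subgroup.coe_mul, Subgroup.coe_inv] at h6
  -- h6 : g * f g * g⁻¹ = ↑(y^m) * (g * ↑(y^m) * g⁻¹)⁻¹
  have : f g = g⁻¹ * (g * f g * g⁻¹) * g := by group
  rw [this, h6]
  group

end Cfsg.Agent.Lib.Helper21
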