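/-
helper21 shared library: the local lemma for Glauberman's theorem on `C_{Aut G}(S)`.
-/
import Cfsg.Agent.S1854
import Cfsg.Agent.Lib.Helper21.GlaubermanAut1

set_option autoImplicit false

namespace Cfsg.Agent.Lib.Helper21

open Cfsg.Agent.Lib.Helper33
open scoped commutatorElement

variable {Γ : Type*} [Group Γ]

theorem ga_conj_mem {N : Subgroup Γ} {g n : Γ} (hg : g ∈ Subgroup.normalizer (N : Set Γ))
    (hn : n ∈ N) : g * n * g⁻¹ ∈ N := (Subgroup.mem_normalizer_iff.mp hg n).mp hn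

theorem ga_conj_inv_mem {N : Subgroup Γ} {g n : Γ} (hg : g ∈ Subgroup.normalizer (N : Set Γ))
    (hn : n ∈ N) : g⁻¹ * n * g ∈ N := by
  have := ga_conj_mem (Subgroup.inv_mem _ hg) hn
  simpa using this

theorem ga_mem_normalizer {N : Subgroup Γ} {g : Γ} (h1 : ∀ n ∈ N, g * n * g⁻¹ ∈ N)
    (h2 : ∀ n ∈ N, g⁻¹ * n * g ∈ N) : g ∈ Subgroup.normalizer (N : Set Γ) := by
  rw [Subgroup.mem_normalizer_iff]
  intro n
  refine ⟨h1 n, fun h => ?_⟩
  have := h2 _ h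
  simpa [mul_assoc] using this

theorem ga_normalizer_le_normalizer_centralizer (P : Subgroup Γ) :
    Subgroup.normalizer (P : Set Γ) ≤
      Subgroup.normalizer ((Subgroup.centralizer (P : Set Γ) : Subgroup Γ) : Set Γ) := by
  have key : ∀ g ∈ Subgroup.normalizer (P : Set Γ), ∀ c ∈ Subgroup.centralizer (P : Set Γ),
      g * c * g⁻¹ ∈ Subgroup.centralizer (P : Set Γ) := by
    intro g hg c hc
    rw [Subgroup.mem_centralizer_iff]
    intro p hp
    have h1 : g⁻¹ * p * g ∈ P := ga_conj_inv_mem hg hp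
    have h2 := Subgroup.mem_centralizer_iff.mp hc _ h1
    calc p * (g * c * g⁻¹) = g * ((g⁻¹ * p * g) * c) * g⁻¹ := by group
      _ = g * (c * (g⁻¹ * p * g)) * g⁻¹ := by rw [h2]
      _ = g * c * g⁻¹ * p := by group
  intro g hg
  apply ga_mem_normalizer
  · exact key g hg
  · intro c hc
    have := key g⁻¹ (Subgroup.inv_mem _ hg) c hc
    simpa using this

theorem ga_normalizer_inf_le (A B : Subgroup Γ) :
    Subgroup.normalizer (A : Set Γ) ⊓ Subgroup.normalizer (B : Set Γ) ≤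
      Subgroup.normalizer ((A ⊓ B : Subgroup Γ) : Set Γ) := by
  intro g hg
  apply ga_mem_normalizer
  · intro n hn
    exact ⟨ga_conj_mem hg.1 hn.1, ga_conj_mem hg.2 hn.2⟩
  · intro n hn
    exact ⟨ga_conj_inv_mem hg.1 hn.1, ga_conj_inv_mem hg.2 hn.2⟩

/-- A central Sylow `p`-subgroup `Z` of `C` is a direct factor; the projection onto `Z` is a power
map. -/
theorem central_sylow_projection [Finite Γ] {p : ℕ} [Fact p.Prime] {C Z : Subgroup Γ}
    (hZ : SylIn p Z C) (hcentral : ∀ z ∈ Z, ∀ c ∈ C, z * c = c * z) :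
    ∃ (K : Subgroup Γ) (e : ℕ), K ≤ C ∧ (∀ k ∈ K, (orderOf k).Coprime p) ∧
      (∀ c ∈ C, (orderOf c).Coprime p → c ∈ K) ∧
      (∀ z ∈ Z, z ^ e = z) ∧ (∀ c ∈ C, c ^ e ∈ Z) ∧
      (∀ c ∈ C, ∀ c' ∈ C, (c * c') ^ e = c ^ e * c' ^ e) ∧
      (∀ c ∈ C, c ^ e = 1 → c ∈ K) := by
  obtain ⟨M, hMC, hMcop, hMdec, hMp'⟩ := Cfsg.Agent.S1854.burnside_step hZ hcentral
  obtain ⟨k, hk⟩ := hZ.isPGroup.exists_card_eq
  have hcop : Nat.Coprime (Nat.card M) (Nat.card Z) := by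
    rw [hk]; exact Nat.Coprime.pow_right _ hMcop
  have hpos : 0 < Nat.card Z := Nat.card_pos
  obtain ⟨m, -, hm⟩ : ∃ m < Nat.card Z, (Nat.card M * m) % Nat.card Z = 1 % Nat.card Z :=
    Nat.exists_mul_mod_eq_of_coprime 1 hcop hpos.ne'
  set e := Nat.card M * m with he
  have hez : ∀ z ∈ Z, z ^ e = z := by
    intro z hz
    have h1 : (⟨z, hz⟩ : Z) ^ e = ⟨z, hz⟩ := by
      rw [← pow_mod_natCard, hm, pow_mod_natCard, pow_one]
    have := congrArg (fun t : Z => (t : Γ)) h1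
    simpa using this
  have heM : ∀ x ∈ M, x ^ e = 1 := by
    intro x hx
    have h1 : (⟨x, hx⟩ : M) ^ e = 1 := by
      rw [he, pow_mul, pow_card_eq_one', one_pow]
    have := congrArg (fun t : M => (t : Γ)) h1
    simpa using this
  have hmz : ∀ x ∈ M, ∀ z ∈ Z, (x * z) ^ e = z := by
    intro x hx z hz
    have hc : Commute x z := (hcentral z hz x (hMC hx)).symm
    rw [hc.mul_pow, heM x hx, hez z hz, one_mul]
  refine ⟨M, e, hMC, ?_, hMp', hez, ?_, ?_, ?_⟩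
  · intro x hx
    have h1 : orderOf (⟨x, hx⟩ : M) ∣ Nat.card M := orderOf_dvd_natCard _
    rw [Subgroup.orderOf_mk] at h1
    exact Nat.Coprime.coprime_dvd_left h1 hMcop
  · intro c hc
    obtain ⟨x, hx, z, hz, rfl⟩ := hMdec c hc
    rw [hmz x hx z hz]; exact hz
  · intro c hc c' hc'
    obtain ⟨x, hx, z, hz, rfl⟩ := hMdec c hc
    obtain ⟨x', hx', z', hz', rfl⟩ := hMdec c' hc'
    have h1 : x * z * (x' * z') = (x * x') * (z * z') := by
      have := hcentral z hz x' (hMC hx')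
      calc x * z * (x' * z') = x * (z * x') * z' := by group
        _ = x * (x' * z) * z' := by rw [this]
        _ = (x * x') * (z * z') := by group
    rw [h1, hmz _ (M.mul_mem hx hx') _ (Z.mul_mem hz hz'), hmz x hx z hz, hmz x' hx' z' hz']
  · intro c hc h1
    obtain ⟨x, hx, z, hz, rfl⟩ := hMdec c hc
    rw [hmz x hx z hz] at h1
    rw [h1, mul_one]; exact hx

/-- Ambient form of `cocycle_eq_coboundary`. -/
theorem cocycle_eq_coboundary_sub [Finite Γ] {p : ℕ} [Fact p.Prime] {H Z T : Subgroup Γ}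
    (hZH : Z ≤ H) (hHZ : H ≤ Subgroup.normalizer (Z : Set Γ))
    (hZc : ∀ a ∈ Z, ∀ b ∈ Z, a * b = b * a) (hZp : IsPGroup p Z)
    (hT : ¬ p ∣ T.relIndex H) (f : Γ → Γ) (hfZ : ∀ h ∈ H, f h ∈ Z)
    (hcoc : ∀ h ∈ H, ∀ k ∈ H, f (h * k) = k⁻¹ * f h * k * f k) (hfT : ∀ t ∈ T, t ∈ H → f t = 1) :
    ∃ z ∈ Z, ∀ h ∈ H, f h = h⁻¹ * z * h * z⁻¹ := by
  have : (Z.subgroupOf H).Normal := by
    constructor
    intro n hn g
    rw [Subgroup.mem_subgroupOf] at hn ⊢
    simpa using ga_conj_mem (hHZ g.2) hn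
  have hfH : ∀ h : H, f (h : Γ) ∈ H := fun h => hZH (hfZ h h.2)
  obtain ⟨z, hz, hzf⟩ := cocycle_eq_coboundary (p := p) (Z.subgroupOf H)
    (by
      intro a ha b hb
      rw [Subgroup.mem_subgroupOf] at ha hb
      apply Subtype.ext
      simpa using hZc a ha b hb)
    (hZp.comap_subtype) (T.subgroupOf H) hT (fun h => ⟨f (h : Γ), hfH h⟩)
    (by
      intro h
      rw [Subgroup.mem_subgroupOf]
      exact hfZ h h.2)
    (by
      intro h k
      apply Subtype.ext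
      simpa using hcoc h h.2 k k.2)
    (by
      intro s hs
      rw [Subgroup.mem_subgroupOf] at hs
      apply Subtype.ext
      simpa using hfT s hs s.2)
  refine ⟨(z : Γ), Subgroup.mem_subgroupOf.mp hz, ?_⟩
  intro h hh
  have := congrArg (fun t : H => (t : Γ)) (hzf ⟨h, hh⟩)
  simpa using this

/-- **Local lemma.**  Let `P ≤ T ≤ H` with `P ⊴ H`, `T` a Sylow `2`-subgroup of `H` and
`C_T(P) ≤ P`.  Let `Y` normalize `H` and centralize `T`, and let `V ⊴ Y`.  Then every element `w` of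
`[V, Y]` acts trivially on `H` modulo the odd part of `C_H(P)`: the elements `h⁻¹ w h w⁻¹` have odd
order. -/
theorem glauberman_local [Finite Γ] {H P T Y V : Subgroup Γ}
    (hPT : P ≤ T) (hT : SylIn 2 T H) (hHP : H ≤ Subgroup.normalizer (P : Set Γ))
    (hcent : T ⊓ Subgroup.centralizer (P : Set Γ) ≤ P)
    (hYH : Y ≤ Subgroup.normalizer (H : Set Γ)) (hYT : Y ≤ Subgroup.centralizer (T : Set Γ))
    (hVY : V ≤ Y) :
    ∀ w ∈ ⁅V, Y⁆, ∀ h ∈ H, (orderOf (h⁻¹ * w * h * w⁻¹)).Coprime 2 := by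
  have : Fact (Nat.Prime 2) := ⟨Nat.prime_two⟩
  have hTH : T ≤ H := hT.le
  set C : Subgroup Γ := H ⊓ Subgroup.centralizer (P : Set Γ) with hC
  set Z : Subgroup Γ := P ⊓ Subgroup.centralizer (P : Set Γ) with hZ
  have hCH : C ≤ H := inf_le_left
  have hNC : Subgroup.normalizer (H : Set Γ) ⊓ Subgroup.normalizer (P : Set Γ) ≤
      Subgroup.normalizer (C : Set Γ) := by
    intro g hg
    apply ga_normalizer_inf_le
    exact ⟨hg.1, ga_normalizer_le_normalizer_centralizer P hg.2⟩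
  have hHC : H ≤ Subgroup.normalizer (C : Set Γ) :=
    fun h hh => hNC ⟨Subgroup.le_normalizer hh, hHP hh⟩
  have hYcP : Y ≤ Subgroup.centralizer (P : Set Γ) :=
    fun y hy => Subgroup.centralizer_le hPT (hYT hy)
  have hYP : Y ≤ Subgroup.normalizer (P : Set Γ) :=
    fun y hy => Subgroup.centralizer_le_normalizer _ (hYcP hy)
  have hYC : Y ≤ Subgroup.normalizer (C : Set Γ) := fun y hy => hNC ⟨hYH hy, hYP hy⟩
  have hTC : SylIn 2 (T ⊓ C) C := Cfsg.Agent.S1854.sylIn_inf_of_normal hT hCH hHC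
  have hZeq : T ⊓ C = Z := by
    apply le_antisymm
    · intro t ht
      exact ⟨hcent ⟨ht.1, ht.2.2⟩, ht.2.2⟩
    · intro z hz
      exact ⟨hPT hz.1, hTH (hPT hz.1), hz.2⟩
  rw [hZeq] at hTC
  have hcentral : ∀ z ∈ Z, ∀ c ∈ C, z * c = c * z := by
    intro z hz c hc
    exact Subgroup.mem_centralizer_iff.mp hc.2 z hz.1
  obtain ⟨K, e, hKC, hKodd, hKchar, hez, heZ, hemul, heker⟩ :=
    central_sylow_projection hTC hcentral
  have hNK : Subgroup.normalizer (C : Set Γ) ≤ Subgroup.normalizer (K : Set Γ) := by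
    have key : ∀ g ∈ Subgroup.normalizer (C : Set Γ), ∀ k ∈ K, g * k * g⁻¹ ∈ K := by
      intro g hg k hk
      apply hKchar _ (ga_conj_mem hg (hKC hk))
      have h1 := (MulAut.conj g).orderOf_eq k
      rw [MulAut.conj_apply] at h1
      rw [h1]; exact hKodd k hk
    intro g hg
    apply ga_mem_normalizer (key g hg)
    intro k hk
    have := key g⁻¹ (Subgroup.inv_mem _ hg) k hk
    simpa using this
  have hZH : Z ≤ H := fun z hz => hTH (hPT hz.1)
  have hZC : Z ≤ C := fun z hz => ⟨hZH hz, hz.2⟩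
  have hHZ : H ≤ Subgroup.normalizer (Z : Set Γ) := by
    intro h hh
    apply ga_normalizer_inf_le
    exact ⟨hHP hh, ga_normalizer_le_normalizer_centralizer P (hHP hh)⟩
  have hZc : ∀ a ∈ Z, ∀ b ∈ Z, a * b = b * a := by
    intro a ha b hb
    exact Subgroup.mem_centralizer_iff.mp hb.2 a ha.1
  have hZp : IsPGroup 2 Z := hTC.isPGroup
  have hcY : ∀ y ∈ Y, ∀ h ∈ H, h⁻¹ * y * h * y⁻¹ ∈ C := by
    intro y hy h hh
    have hyc : y ∈ Subgroup.centralizer (P : Set Γ) := hYcP hy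
    refine Subgroup.mem_inf.mpr ⟨?_, ?_⟩
    · have h1 : y * h * y⁻¹ ∈ H := ga_conj_mem (hYH hy) hh
      have h2 := H.mul_mem (H.inv_mem hh) h1
      convert h2 using 1; group
    · rw [Subgroup.mem_centralizer_iff]
      intro q hq
      have h1 : h * q * h⁻¹ ∈ P := ga_conj_mem (hHP hh) hq
      have h2 : (h * q * h⁻¹) * y = y * (h * q * h⁻¹) :=
        Subgroup.mem_centralizer_iff.mp hyc _ h1
      have h3 : q * y = y * q := Subgroup.mem_centralizer_iff.mp hyc _ hq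
      have h3' : q * y⁻¹ = y⁻¹ * q := (Commute.inv_right (show Commute q y from h3)).eq
      calc q * (h⁻¹ * y * h * y⁻¹) = h⁻¹ * ((h * q * h⁻¹) * y) * h * y⁻¹ := by group
        _ = h⁻¹ * (y * (h * q * h⁻¹)) * h * y⁻¹ := by rw [h2]
        _ = h⁻¹ * y * h * (q * y⁻¹) := by group
        _ = h⁻¹ * y * h * (y⁻¹ * q) := by rw [h3']
        _ = h⁻¹ * y * h * y⁻¹ * q := by group
  -- the subgroup of elements acting trivially on `H` modulo `K`
  let A : Subgroup Γ :=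
    { carrier := {d | d ∈ Subgroup.normalizer (K : Set Γ) ∧ ∀ h ∈ H, h⁻¹ * d * h * d⁻¹ ∈ K}
      one_mem' := ⟨Subgroup.one_mem _, fun h _ => by simp⟩
      mul_mem' := by
        rintro d d' ⟨hd, hd2⟩ ⟨hd', hd2'⟩
        refine ⟨Subgroup.mul_mem _ hd hd', fun h hh => ?_⟩
        have h1 := hd2 h hh
        have h2 := ga_conj_mem hd (hd2' h hh)
        have h3 := K.mul_mem h1 h2
        convert h3 using 1; group
      inv_mem' := by
        rintro d ⟨hd, hd2⟩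
        refine ⟨Subgroup.inv_mem _ hd, fun h hh => ?_⟩
        have h1 := K.inv_mem (hd2 h hh)
        have h2 := ga_conj_inv_mem hd h1
        convert h2 using 1; group }
  have hAmem : ∀ d, d ∈ A ↔ (d ∈ Subgroup.normalizer (K : Set Γ) ∧
      ∀ h ∈ H, h⁻¹ * d * h * d⁻¹ ∈ K) := fun d => Iff.rfl
  have hAconj : ∀ g ∈ Subgroup.normalizer (H : Set Γ), g ∈ Subgroup.normalizer (K : Set Γ) →
      ∀ d ∈ A, g * d * g⁻¹ ∈ A := by
    intro g hgH hgK d hd
    rw [hAmem] at hd ⊢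
    refine ⟨?_, fun h hh => ?_⟩
    · exact Subgroup.mul_mem _ (Subgroup.mul_mem _ hgK hd.1) (Subgroup.inv_mem _ hgK)
    · have h1 : g⁻¹ * h * g ∈ H := ga_conj_inv_mem hgH hh
      have h2 := hd.2 _ h1
      have h3 := ga_conj_mem hgK h2
      convert h3 using 1; group
  have hmain : ∀ v ∈ V, ∀ y ∈ Y, ⁅v, y⁆ ∈ A := by
    intro v hv y hy
    have hvY := hVY hv
    obtain ⟨z, hzZ, hz⟩ := cocycle_eq_coboundary_sub (p := 2) (H := H) (Z := Z) (T := T)
      hZH hHZ hZc hZp hT.not_dvd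
      (fun h => (h⁻¹ * v * h * v⁻¹) ^ e)
      (fun h hh => heZ _ (hcY v hvY h hh))
      (by
        intro h hh k hk
        show ((h * k)⁻¹ * v * (h * k) * v⁻¹) ^ e =
          k⁻¹ * (h⁻¹ * v * h * v⁻¹) ^ e * k * (k⁻¹ * v * k * v⁻¹) ^ e
        have h1 : (h * k)⁻¹ * v * (h * k) * v⁻¹ =
            (k⁻¹ * (h⁻¹ * v * h * v⁻¹) * k) * (k⁻¹ * v * k * v⁻¹) := by group
        have h2 : k⁻¹ * (h⁻¹ * v * h * v⁻¹) * k ∈ C :=
          ga_conj_inv_mem (hHC hk) (hcY v hvY h hh)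
        rw [h1, hemul _ h2 _ (hcY v hvY k hk)]
        congr 1
        have h3 := conj_pow (a := k⁻¹) (b := h⁻¹ * v * h * v⁻¹) (i := e)
        rw [inv_inv] at h3
        exact h3)
      (by
        intro t ht _
        have h1 : t⁻¹ * v * t * v⁻¹ = 1 := by
          have h2 := Subgroup.mem_centralizer_iff.mp (hYT hvY) t ht
          calc t⁻¹ * v * t * v⁻¹ = t⁻¹ * (v * t) * v⁻¹ := by group
            _ = t⁻¹ * (t * v) * v⁻¹ := by rw [h2]
            _ = 1 := by group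
        show (t⁻¹ * v * t * v⁻¹) ^ e = 1
        rw [h1, one_pow])
    have hz' : ∀ h ∈ H, (h⁻¹ * v * h * v⁻¹) ^ e = h⁻¹ * z * h * z⁻¹ := hz
    have hzH : z ∈ H := hZH hzZ
    have hzNK : z ∈ Subgroup.normalizer (K : Set Γ) := hNK (hHC hzH)
    have hvNK : v ∈ Subgroup.normalizer (K : Set Γ) := hNK (hYC hvY)
    have hyNK : y ∈ Subgroup.normalizer (K : Set Γ) := hNK (hYC hy)
    have hd : z⁻¹ * v ∈ A := by
      rw [hAmem]
      refine ⟨Subgroup.mul_mem _ (Subgroup.inv_mem _ hzNK) hvNK, fun h hh => ?_⟩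
      have hc1 : h⁻¹ * z⁻¹ * h ∈ Z := ga_conj_inv_mem (hHZ hh) (Z.inv_mem hzZ)
      have hc2 : h⁻¹ * v * h * v⁻¹ ∈ C := hcY v hvY h hh
      have hc3 : z ∈ C := hZC hzZ
      have heq : h⁻¹ * (z⁻¹ * v) * h * (z⁻¹ * v)⁻¹ =
          (h⁻¹ * z⁻¹ * h) * (h⁻¹ * v * h * v⁻¹) * z := by group
      rw [heq]
      apply heker _ (C.mul_mem (C.mul_mem (hZC hc1) hc2) hc3)
      rw [hemul _ (C.mul_mem (hZC hc1) hc2) _ hc3, hemul _ (hZC hc1) _ hc2, hez _ hc1,
        hez _ hzZ, hz' h hh]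
      group
    have hzy : z * y = y * z := Subgroup.mem_centralizer_iff.mp (hYT hy) z (hPT hzZ.1)
    have hzy' : z * y⁻¹ = y⁻¹ * z := (Commute.inv_right (show Commute z y from hzy)).eq
    have h1 : y * (z⁻¹ * v)⁻¹ * y⁻¹ ∈ A := hAconj y (hYH hy) hyNK _ (A.inv_mem hd)
    have h2 : (z⁻¹ * v) * (y * (z⁻¹ * v)⁻¹ * y⁻¹) ∈ A := A.mul_mem hd h1
    have h3 : z * ((z⁻¹ * v) * (y * (z⁻¹ * v)⁻¹ * y⁻¹)) * z⁻¹ ∈ A :=
      hAconj z (Subgroup.le_normalizer hzH) hzNK _ h2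
    have h4 : z * ((z⁻¹ * v) * (y * (z⁻¹ * v)⁻¹ * y⁻¹)) * z⁻¹ = ⁅v, y⁆ := by
      rw [commutatorElement_def]
      calc z * ((z⁻¹ * v) * (y * (z⁻¹ * v)⁻¹ * y⁻¹)) * z⁻¹
          = v * y * v⁻¹ * (z * y⁻¹) * z⁻¹ := by group
        _ = v * y * v⁻¹ * (y⁻¹ * z) * z⁻¹ := by rw [hzy']
        _ = v * y * v⁻¹ * y⁻¹ := by group
    rw [← h4]; exact h3
  have hle : ⁅V, Y⁆ ≤ A := Subgroup.commutator_le.mpr hmain
  intro w hw h hh
  exact hKodd _ (((hAmem w).mp (hle hw)).2 h hh)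

end Cfsg.Agent.Lib.Helper21
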