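import Mathlib
import Cfsg.Agent.Lib.Helper21.PrimeAction1
import Cfsg.Agent.Lib.Helper21.GlaubermanAut2
import Cfsg.Agent.Lib.Helper54.BGUnique
import Cfsg.Agent.Lib.Helper54.UqEight
import Cfsg.Agent.Lib.Helper24.FittingStructure
import Cfsg.Agent.Lib.Helper24.Coprime
import Cfsg.Agent.Lib.Helper47.Subnormal
import Cfsg.Agent.Lib.Helper29.Iso

/-!
# A group of prime order acting without fixed points on `F(K)`

`K` a normal solvable subgroup of odd order of `G`, `X ≤ G` of prime order `r ∤ #K` with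
`C_{F(K)}(X) = 1`.  Then `[K, X] ≤ F(K)` (Bender–Glauberman, Proposition 3.?: the "prime action"
lemma), proved from the Hall–Higman–Shult theorem.
-/

set_option autoImplicit false

namespace Cfsg.Agent.Lib.Helper21

open Cfsg
open Cfsg.Agent.Lib.Helper54 (pcOf pcOf_le pcOf_le_fittingOf pcOf_isPGroup fittingOf_le
  le_normalizer_fittingOf fittingOf_le_of_forall_pcOf_le inf_centralizer_fittingOf_le
  le_normalizer_map_subtype)
open Cfsg.Agent.Lib.Helper24 (pCoreCompl)

section PrimeAction

variable {G : Type*} [Group G] [Finite G]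

theorem fittingOf_normal_of_normal (K : Subgroup G) [K.Normal] : (fittingOf K).Normal := by
  have : (fittingSubgroup ↥K).Characteristic :=
    Cfsg.Agent.Lib.Helper29.fittingSubgroup_characteristic ↥K
  unfold fittingOf
  exact ConjAct.normal_of_characteristic_of_normal

theorem pcOf_normal_of_normal (p : ℕ) (K : Subgroup G) [K.Normal] : (pcOf p K).Normal := by
  have : (pCore p ↥K).Characteristic := Cfsg.Agent.Lib.Helper47.pCore_characteristic p ↥K
  unfold pcOf
  exact ConjAct.normal_of_characteristic_of_normal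

/-- A nilpotent subgroup of `K` normalized by `K` lies in `F(K)`. -/
theorem le_fittingOf_of_isNilpotent {K D : Subgroup G} (hDK : D ≤ K)
    (hn : K ≤ Subgroup.normalizer (D : Set G)) (hnil : Group.IsNilpotent D) :
    D ≤ fittingOf K := by
  have hN : (D.subgroupOf K).Normal := by
    refine ⟨fun a ha g => ?_⟩
    rw [Subgroup.mem_subgroupOf] at ha ⊢
    exact (Subgroup.mem_normalizer_iff.mp (hn g.2) _).mp ha
  have hnil' : Group.IsNilpotent (D.subgroupOf K) :=
    (Group.isNilpotent_congr (Subgroup.subgroupOfEquivOfLe hDK)).mpr hnil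
  have h1 : D.subgroupOf K ≤ fittingSubgroup ↥K := le_sSup ⟨hN, hnil'⟩
  intro y hy
  exact ⟨⟨y, hDK hy⟩, h1 (Subgroup.mem_subgroupOf.mpr hy), rfl⟩

/-- The `q'`-part of `F(K)`, in the ambient group. -/
def fitCompl (q : ℕ) (K : Subgroup G) : Subgroup G := (pCoreCompl q ↥K).map K.subtype

theorem fitCompl_le_centralizer_singleton (q : ℕ) (K : Subgroup G) (c : G)
    (h : ∀ p : ℕ, p.Prime → p ≠ q → pcOf p K ≤ Subgroup.centralizer ({c} : Set G)) :
    fitCompl q K ≤ Subgroup.centralizer ({c} : Set G) := by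
  unfold fitCompl pCoreCompl
  rw [Subgroup.map_iSup]
  apply iSup_le
  intro p
  rw [Subgroup.map_iSup]
  apply iSup_le
  intro hp
  exact h p p.2 hp

theorem mem_fitCompl_of_coprime (q : ℕ) [Fact q.Prime] (K : Subgroup G) {y : G}
    (hy : y ∈ fittingOf K) (hcop : (orderOf y).Coprime q) : y ∈ fitCompl q K := by
  obtain ⟨y', hy', rfl⟩ := hy
  refine ⟨y', ?_, rfl⟩
  apply Cfsg.Agent.Lib.Helper24.mem_pCoreCompl_of_coprime q y' hy'
  have : orderOf ((K.subtype y' : G)) = orderOf y' := by
    simp only [Subgroup.coe_subtype, Subgroup.orderOf_coe]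
  rwa [this] at hcop

theorem le_normalizer_fitCompl (q : ℕ) (K : Subgroup G) :
    K ≤ Subgroup.normalizer ((fitCompl q K : Subgroup G) : Set G) := by
  unfold fitCompl
  exact le_normalizer_map_subtype K _

/-- If `T / F(K)` is a `q`-group, then `C_T(O_{q'}(F(K))) ≤ F(K)`. -/
theorem inf_centralizer_fitCompl_le (K T : Subgroup G) [hKn : K.Normal] {q : ℕ} [hq : Fact q.Prime]
    (hTK : T ≤ K) (hKT : K ≤ Subgroup.normalizer (T : Set G)) {n : ℕ}
    (hidx : (fittingOf K).relIndex T = q ^ n) :
    T ⊓ Subgroup.centralizer ((fitCompl q K : Subgroup G) : Set G) ≤ fittingOf K := by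
  have hFn : (fittingOf K).Normal := fittingOf_normal_of_normal K
  set D := T ⊓ Subgroup.centralizer ((fitCompl q K : Subgroup G) : Set G) with hD
  have hDK : D ≤ K := inf_le_left.trans hTK
  have hn : K ≤ Subgroup.normalizer (D : Set G) := by
    intro k hk
    have h1 := hKT hk
    have h2 := ga_normalizer_le_normalizer_centralizer _ (le_normalizer_fitCompl q K hk)
    rw [Subgroup.mem_normalizer_iff] at h1 h2 ⊢
    intro h
    rw [hD, Subgroup.mem_inf, Subgroup.mem_inf, ← h1 h, ← h2 h]
  -- every element of `T` has a `q`-power in `F(K)`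
  have hpow : ∀ y ∈ T, y ^ q ^ n ∈ fittingOf K := by
    intro y hy
    set π := QuotientGroup.mk' (fittingOf K) with hπ
    have hker : π.ker = fittingOf K := QuotientGroup.ker_mk' _
    have hcard : Nat.card (T.map π) = q ^ n := by
      rw [← Subgroup.relIndex_ker, hker, hidx]
    have h1 : (⟨π y, Subgroup.mem_map_of_mem π hy⟩ : T.map π) ^ (q ^ n) = 1 := by
      rw [← hcard]
      exact pow_card_eq_one'
    have h2 : π y ^ (q ^ n) = 1 := by
      have := congrArg Subtype.val h1
      simpa using this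
    rw [← hker, MonoidHom.mem_ker, map_pow]
    exact h2
  have hnil : Group.IsNilpotent D := by
    apply Cfsg.Agent.Lib.Helper24.isNilpotent_of_coprime_central q
    intro y hcop
    rw [← Subgroup.orderOf_coe] at hcop
    have hyT : (y : G) ∈ T := (Subgroup.mem_inf.mp y.2).1
    have hyF : (y : G) ∈ fittingOf K := by
      have hc : (q ^ n).Coprime (orderOf (y : G)) := Nat.Coprime.pow_left n hcop.symm
      obtain ⟨m, hm⟩ := exists_pow_eq_self_of_coprime hc
      rw [← hm]
      exact Subgroup.pow_mem _ (hpow _ hyT) m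
    have hyO : (y : G) ∈ fitCompl q K := mem_fitCompl_of_coprime q K hyF hcop
    rw [Subgroup.mem_center_iff]
    intro z
    apply Subtype.ext
    have hzC : (z : G) ∈ Subgroup.centralizer ((fitCompl q K : Subgroup G) : Set G) :=
      (Subgroup.mem_inf.mp z.2).2
    rw [Subgroup.coe_mul, Subgroup.coe_mul]
    exact ((Subgroup.mem_centralizer_iff.mp hzC) _ hyO).symm
  exact le_fittingOf_of_isNilpotent hDK hn hnil

/-- **The `q`-step.**  If `F(K) ≤ T ≤ K` with `T/F(K)` a `q`-group, `T` normalized by `K` and `X`,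
then `[T, X] ≤ F(K)`. -/
theorem comm_mem_fittingOf_of_relIndex_prime_pow
    (K X : Subgroup G) [hKn : K.Normal] (hKodd : Odd (Nat.card K))
    {r : ℕ} [hr : Fact r.Prime] (hX : Nat.card X = r) (hcop : ¬ r ∣ Nat.card K)
    (hfix : fittingOf K ⊓ Subgroup.centralizer (X : Set G) = ⊥)
    {q : ℕ} [hq : Fact q.Prime] (T : Subgroup G) (hTK : T ≤ K) (_hFT : fittingOf K ≤ T)
    (hXT : X ≤ Subgroup.normalizer (T : Set G)) (hKT : K ≤ Subgroup.normalizer (T : Set G))
    {n : ℕ} (hidx : (fittingOf K).relIndex T = q ^ n) :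
    ∀ t ∈ T, ∀ x ∈ X, t⁻¹ * (x * t * x⁻¹) ∈ fittingOf K := by
  have hFn : (fittingOf K).Normal := fittingOf_normal_of_normal K
  have hTdvd : Nat.card T ∣ Nat.card K := Subgroup.card_dvd_of_le hTK
  have hcopT : ¬ r ∣ Nat.card T := fun h => hcop (h.trans hTdvd)
  obtain ⟨Q, hQT, hXQ, hQq, hQcard⟩ :=
    Cfsg.Agent.Lib.Helper2.ShultSub.exists_invariant_sylow T X hXT q hX hcopT
  -- (1) `T = F Q`
  have hTFQ : T ≤ fittingOf K ⊔ Q := by
    rw [← Subgroup.relIndex_eq_one]
    have h1 : (fittingOf K ⊔ Q).relIndex T ∣ q ^ n := by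
      rw [← hidx]
      exact Subgroup.relIndex_dvd_of_le_left T le_sup_left
    have h2 : (fittingOf K ⊔ Q).relIndex T ∣ Q.relIndex T :=
      Subgroup.relIndex_dvd_of_le_left T le_sup_right
    have h3 : Nat.card Q * Q.relIndex T = Nat.card T := by
      have := Subgroup.relIndex_mul_relIndex ⊥ Q T bot_le hQT
      rwa [Subgroup.relIndex_bot_left, Subgroup.relIndex_bot_left] at this
    have hT0 : Nat.card T ≠ 0 := Nat.card_pos.ne'
    have h4 : (q ^ n).Coprime (Q.relIndex T) := by
      apply Nat.Coprime.pow_left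
      have h5 : Q.relIndex T = Nat.card T / q ^ (Nat.card T).factorization q := by
        have hpos : 0 < q ^ (Nat.card T).factorization q := pow_pos hq.out.pos _
        apply (Nat.div_eq_of_eq_mul_right hpos _).symm
        rw [← hQcard]
        exact h3.symm
      rw [h5]
      exact Nat.coprime_ordCompl hq.out hT0
    exact Nat.eq_one_of_dvd_coprimes h4 h1 h2
  -- (2) `[Q, X] ≤ F`
  have hQF : ∀ g ∈ Q, ∀ x ∈ X, g⁻¹ * (x * g * x⁻¹) ∈ fittingOf K := by
    intro g hg x hx
    by_cases hqK : q ∣ Nat.card K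
    · have hqr : q ≠ r := by
        rintro rfl
        exact hcop hqK
      have hq2 : q ≠ 2 := by
        rintro rfl
        exact (Nat.not_even_iff_odd.mpr hKodd) (even_iff_two_dvd.mpr hqK)
      have hcQ : g⁻¹ * (x * g * x⁻¹) ∈ Q :=
        Q.mul_mem (Q.inv_mem hg) ((Subgroup.mem_normalizer_iff.mp (hXQ hx) g).mp hg)
      apply inf_centralizer_fitCompl_le K T hTK hKT hidx
      refine Subgroup.mem_inf.mpr ⟨hQT hcQ, ?_⟩
      have hle : fitCompl q K ≤ Subgroup.centralizer ({g⁻¹ * (x * g * x⁻¹)} : Set G) := by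
        apply fitCompl_le_centralizer_singleton
        intro p hp hpq
        have : Fact p.Prime := ⟨hp⟩
        have : (pcOf p K).Normal := pcOf_normal_of_normal p K
        intro v hv
        rw [Subgroup.mem_centralizer_iff]
        intro z hz
        rw [Set.mem_singleton_iff] at hz
        subst hz
        by_cases hpr : p = r
        · -- `O_r(K) = 1`
          subst hpr
          have h1 : IsPGroup p (pcOf p K) := pcOf_isPGroup p K
          obtain ⟨k, hk⟩ := IsPGroup.iff_card.mp h1
          have h2 : Nat.card (pcOf p K) ∣ Nat.card K := Subgroup.card_dvd_of_le (pcOf_le p K)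
          have hk0 : k = 0 := by
            by_contra hk0
            apply hcop
            refine dvd_trans ?_ h2
            rw [hk]
            exact dvd_pow_self p hk0
          rw [hk0, pow_zero] at hk
          have h3 : pcOf p K = ⊥ := Subgroup.card_eq_one.mp hk
          rw [h3, Subgroup.mem_bot] at hv
          rw [hv, one_mul, mul_one]
        · have h1 := comm_mem_centralizer_of_shult hpq hpr hqr hq2 (pcOf p K) Q X
            (pcOf_isPGroup p K) hQq hX hXQ (by
              rw [eq_bot_iff, ← hfix]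
              exact inf_le_inf_right _ (pcOf_le_fittingOf p K)) x hx g hg
          exact (Subgroup.mem_centralizer_iff.mp h1 v hv).symm
      rw [Subgroup.mem_centralizer_iff]
      intro v hv
      have := Subgroup.mem_centralizer_iff.mp (hle hv) _ rfl
      exact this.symm
    · -- `Q = 1`
      have h1 : Nat.card Q ∣ Nat.card K := (Subgroup.card_dvd_of_le hQT).trans hTdvd
      obtain ⟨k, hk⟩ := IsPGroup.iff_card.mp hQq
      have hk0 : k = 0 := by
        by_contra hk0
        apply hqK
        refine dvd_trans ?_ h1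
        rw [hk]
        exact dvd_pow_self q hk0
      rw [hk0, pow_zero] at hk
      have h3 : Q = ⊥ := Subgroup.card_eq_one.mp hk
      rw [h3, Subgroup.mem_bot] at hg
      subst hg
      simp
  -- (3) conclude
  intro t ht x hx
  have h1 : t ∈ ((fittingOf K ⊔ Q : Subgroup G) : Set G) := hTFQ ht
  rw [Subgroup.normal_mul] at h1
  obtain ⟨f, hf, g, hg, rfl⟩ := Set.mem_mul.mp h1
  have e : (f * g)⁻¹ * (x * (f * g) * x⁻¹) =
      (g⁻¹ * (f⁻¹ * (x * f * x⁻¹)) * g) * (g⁻¹ * (x * g * x⁻¹)) := by group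
  rw [e]
  apply Subgroup.mul_mem _ _ (hQF g hg x hx)
  have h2 : f⁻¹ * (x * f * x⁻¹) ∈ fittingOf K :=
    Subgroup.mul_mem _ (Subgroup.inv_mem _ hf) (hFn.conj_mem f hf x)
  have := hFn.conj_mem _ h2 g⁻¹
  simpa using this

/-- **Prime action lemma, prime order case.**  `X` of prime order `r ∤ #K` with `C_{F(K)}(X) = 1`
acting on the normal solvable subgroup `K` of odd order: `[K, X] ≤ F(K)`. -/
theorem comm_mem_fittingOf_of_prime_order
    (K X : Subgroup G) [hKn : K.Normal] (hKs : Group.IsSolvable K) (hKodd : Odd (Nat.card K))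
    {r : ℕ} [hr : Fact r.Prime] (hX : Nat.card X = r) (hcop : ¬ r ∣ Nat.card K)
    (hfix : fittingOf K ⊓ Subgroup.centralizer (X : Set G) = ⊥) :
    ∀ k ∈ K, ∀ x ∈ X, k⁻¹ * (x * k * x⁻¹) ∈ fittingOf K := by
  have hFn : (fittingOf K).Normal := fittingOf_normal_of_normal K
  set π := QuotientGroup.mk' (fittingOf K) with hπ
  have hπs : Function.Surjective π := QuotientGroup.mk'_surjective _
  have hker : π.ker = fittingOf K := QuotientGroup.ker_mk' _
  have hπ1 : ∀ g : G, π g = 1 ↔ g ∈ fittingOf K := by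
    intro g
    rw [← MonoidHom.mem_ker, hker]
  have hKbn : (K.map π).Normal := Subgroup.Normal.map hKn π hπs
  have hKbs : Group.IsSolvable (K.map π) :=
    Group.isSolvable_of_surjective (π.subgroupMap_surjective K)
  -- Step A: `X̄` centralizes every `O_q(K̄)`
  have hA : ∀ q : ℕ, q.Prime → pcOf q (K.map π) ≤
      Subgroup.centralizer ((X.map π : Subgroup (G ⧸ fittingOf K)) : Set (G ⧸ fittingOf K)) := by
    intro q hq
    have : Fact q.Prime := ⟨hq⟩
    have : (pcOf q (K.map π)).Normal := pcOf_normal_of_normal q (K.map π)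
    set T := K ⊓ (pcOf q (K.map π)).comap π with hT
    have hTK : T ≤ K := inf_le_left
    have hFT : fittingOf K ≤ T := by
      refine le_inf (fittingOf_le K) ?_
      intro f hf
      rw [Subgroup.mem_comap, (hπ1 f).mpr hf]
      exact Subgroup.one_mem _
    have hTn : T.Normal := by
      rw [hT]
      infer_instance
    have hTtop : Subgroup.normalizer (T : Set G) = ⊤ := Subgroup.normalizer_eq_top _
    have hidx : ∃ n : ℕ, (fittingOf K).relIndex T = q ^ n := by
      rw [← hker, Subgroup.relIndex_ker]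
      have hTq : IsPGroup q (T.map π) := by
        apply (pcOf_isPGroup q (K.map π)).to_le
        rintro _ ⟨t, ht, rfl⟩
        exact ht.2
      exact IsPGroup.iff_card.mp hTq
    obtain ⟨n, hn⟩ := hidx
    have key := comm_mem_fittingOf_of_relIndex_prime_pow K X hKodd hX hcop hfix T hTK hFT
      (by rw [hTtop]; exact le_top) (by rw [hTtop]; exact le_top) hn
    intro tb htb
    rw [Subgroup.mem_centralizer_iff]
    rintro _ ⟨x, hx, rfl⟩
    obtain ⟨t, htK, rfl⟩ := (pcOf_le q (K.map π)) htb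
    have htT : t ∈ T := ⟨htK, htb⟩
    have h1 := key t htT x hx
    have h2 : π (t⁻¹ * (x * t * x⁻¹)) = 1 := (hπ1 _).mpr h1
    rw [map_mul, map_mul, map_mul, map_inv, map_inv] at h2
    have h3 : π x * π t * (π x)⁻¹ = π t := by
      have := congrArg (fun z => π t * z) h2
      simpa using this
    calc π x * π t = (π x * π t * (π x)⁻¹) * π x := by group
      _ = π t * π x := by rw [h3]
  -- Step B
  have hB : fittingOf (K.map π) ≤
      Subgroup.centralizer ((X.map π : Subgroup (G ⧸ fittingOf K)) : Set (G ⧸ fittingOf K)) :=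
    fittingOf_le_of_forall_pcOf_le hA
  have hxf : ∀ xb ∈ X.map π, ∀ f ∈ fittingOf (K.map π), xb * f = f * xb := by
    intro xb hxb f hf
    exact Subgroup.mem_centralizer_iff.mp (hB hf) xb hxb
  -- Steps C, D
  intro k hk x hx
  rw [← hπ1]
  have hkb : π k ∈ K.map π := Subgroup.mem_map_of_mem π hk
  have hxb : π x ∈ X.map π := Subgroup.mem_map_of_mem π hx
  have hcbK : (π k)⁻¹ * (π x * π k * (π x)⁻¹) ∈ K.map π :=
    Subgroup.mul_mem _ (Subgroup.inv_mem _ hkb) (hKbn.conj_mem _ hkb _)
  have hcbC : (π k)⁻¹ * (π x * π k * (π x)⁻¹) ∈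
      Subgroup.centralizer ((fittingOf (K.map π) : Subgroup (G ⧸ fittingOf K)) : Set _) := by
    rw [Subgroup.mem_centralizer_iff]
    intro f hf
    have hf1 : π k * f * (π k)⁻¹ ∈ fittingOf (K.map π) :=
      (Subgroup.mem_normalizer_iff.mp (le_normalizer_fittingOf (K.map π) hkb) f).mp hf
    have e1 : (π x)⁻¹ * f * π x = f := by
      have := hxf _ hxb f hf
      calc (π x)⁻¹ * f * π x = (π x)⁻¹ * (f * π x) := by group
        _ = (π x)⁻¹ * (π x * f) := by rw [this]
        _ = f := by group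
    have e2 : π x * (π k * f * (π k)⁻¹) * (π x)⁻¹ = π k * f * (π k)⁻¹ := by
      have := hxf _ hxb _ hf1
      rw [this]
      group
    have key : ((π k)⁻¹ * (π x * π k * (π x)⁻¹)) * f * ((π k)⁻¹ * (π x * π k * (π x)⁻¹))⁻¹ = f := by
      calc ((π k)⁻¹ * (π x * π k * (π x)⁻¹)) * f * ((π k)⁻¹ * (π x * π k * (π x)⁻¹))⁻¹
          = (π k)⁻¹ * (π x * (π k * ((π x)⁻¹ * f * π x) * (π k)⁻¹) * (π x)⁻¹) * π k := by group
        _ = (π k)⁻¹ * (π x * (π k * f * (π k)⁻¹) * (π x)⁻¹) * π k := by rw [e1]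
        _ = (π k)⁻¹ * (π k * f * (π k)⁻¹) * π k := by rw [e2]
        _ = f := by group
    calc f * ((π k)⁻¹ * (π x * π k * (π x)⁻¹))
        = (((π k)⁻¹ * (π x * π k * (π x)⁻¹)) * f * ((π k)⁻¹ * (π x * π k * (π x)⁻¹))⁻¹) *
            ((π k)⁻¹ * (π x * π k * (π x)⁻¹)) := by rw [key]
      _ = ((π k)⁻¹ * (π x * π k * (π x)⁻¹)) * f := by group
  have hcbF : (π k)⁻¹ * (π x * π k * (π x)⁻¹) ∈ fittingOf (K.map π) :=
    inf_centralizer_fittingOf_le hKbs ⟨hcbK, hcbC⟩
  have hcomm := hxf _ hxb _ hcbF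
  have hcop' : (orderOf (π x)).Coprime (orderOf ((π k)⁻¹ * (π x * π k * (π x)⁻¹))) := by
    have h1 : orderOf (π x) ∣ r := by
      have := Subgroup.orderOf_dvd_natCard (X.map π) hxb
      exact this.trans (by rw [← hX]; exact Subgroup.card_map_dvd X π)
    have h2 : orderOf ((π k)⁻¹ * (π x * π k * (π x)⁻¹)) ∣ Nat.card K :=
      (Subgroup.orderOf_dvd_natCard (K.map π) hcbK).trans (Subgroup.card_map_dvd K π)
    have h3 : r.Coprime (Nat.card K) := (Nat.Prime.coprime_iff_not_dvd hr.out).mpr hcop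
    exact Nat.Coprime.coprime_dvd_left h1 (Nat.Coprime.coprime_dvd_right h2 h3)
  have hfin := Cfsg.Agent.Lib.Helper24.commute_of_comm_commute_of_coprime (π x) (π k) hcomm hcop'
  rw [map_mul, map_mul, map_mul, map_inv, map_inv, hfin]
  group

end PrimeAction

end Cfsg.Agent.Lib.Helper21
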