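import Mathlib
import Cfsg.Prelude.Def_OddOrderLocal
import Cfsg.Prelude.Def_OddOrder
import Cfsg.Agent.S1377
import Cfsg.Agent.S1378
import Cfsg.Agent.S1403
import Cfsg.Agent.S1409
import Cfsg.Agent.S1416
import Cfsg.Agent.S1417
import Cfsg.Agent.S1424
import Cfsg.Agent.S1429
import Cfsg.Agent.S1430
import Cfsg.Agent.S1431
import Cfsg.Agent.S1432
import Cfsg.Agent.S1433
import Cfsg.Agent.Lib.Helper24.BGKstarCentUniq
import Cfsg.Agent.Lib.Helper34.TildeEquiv
import Cfsg.Agent.Lib.Helper21.BGFourteenSevenJ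

/-!
# Bender–Glauberman Theorem 14.7 (a), (f): unconditional forms  (helper21)

All hypotheses of `BGFourteenSevenJ` are discharged from the landed statements
S1377, S1378, S1403, S1409, S1416, S1417, S1424, S1429–S1433 and helper24's `kstarCentUniq`.
-/

set_option autoImplicit false

namespace Cfsg.Agent.Lib.Helper21

open Cfsg Cfsg.Agent.Lib.Helper54
open Cfsg.Agent.Lib.Helper22.BGFourteenFour
  (Stmt1432 Stmt1409 Stmt1416 Stmt1417 Stmt1424)
open scoped Pointwise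

universe u

variable {G : Type u} [Group G] [Finite G]

theorem stmt1430_of (hG : IsMinSimpleOddOrder G) : Stmt1430 G :=
  fun M hM K hK hK1 => Cfsg.Agent.S1430.result hG M hM K hK hK1

theorem stmt1431_of (hG : IsMinSimpleOddOrder G) : Stmt1431 G :=
  fun M hM K hK hK1 => Cfsg.Agent.S1431.result hG M hM K hK hK1

theorem stmt1432_of (hG : IsMinSimpleOddOrder G) : Stmt1432 G :=
  fun M hM x hx hx1 x' hx' hx'1 h => Cfsg.Agent.S1432.result hG M hM x hx hx1 x' hx' hx'1 h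

theorem stmt1409_of (hG : IsMinSimpleOddOrder G) : Stmt1409 G :=
  fun M hM p _ hp X hX hN => Cfsg.Agent.S1409.result hG M hM p hp X hX hN

theorem stmt1416_of (hG : IsMinSimpleOddOrder G) : Stmt1416 G :=
  fun M hM p _ A hA => (Cfsg.Agent.S1416.result hG M hM p A hA).1

theorem stmt1417_of (hG : IsMinSimpleOddOrder G) : Stmt1417 G :=
  fun M hM p _ hp A hA => Cfsg.Agent.S1417.result hG M hM p hp A hA

theorem stmt1424_of (hG : IsMinSimpleOddOrder G) : Stmt1424 G :=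
  fun M hM q _ hq X hX hX1 hXM Ms hMs hne hN S hS =>
    Cfsg.Agent.S1424.result hG M hM q hq X hX hX1 hXM Ms hMs hne hN S hS

theorem stmt1429_of (hG : IsMinSimpleOddOrder G) : Stmt1429 G :=
  fun M hM hP1 p _ hpM hp S => Cfsg.Agent.S1429.result hG M hM hP1 p hpM hp S

theorem sigmaDisjoint_of (hG : IsMinSimpleOddOrder G) : SigmaDisjoint G := by
  intro M L hM hL hconj p hpM hpL
  obtain ⟨g, hg⟩ := (Cfsg.Agent.S1378.result hG).2 M L hM hL ⟨p, hpM, hpL⟩
  apply hconj g⁻¹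
  rw [hg]
  exact Cfsg.Agent.Lib.Helper34.map_conj_inv_map_conj M g

theorem tildeCount_of (hG : IsMinSimpleOddOrder G) :
    ∀ L : Subgroup G, IsCoatom L →
      Set.ncard (tildeOf L ((sigmaCore L : Set G) \ {1})) =
        (Nat.card (sigmaCore L) - 1) * L.index :=
  fun L hL => Cfsg.Agent.S1377.result hG L hL

theorem tildeDisjoint_of (hG : IsMinSimpleOddOrder G) :
    ∀ M N : Subgroup G, IsCoatom M → IsCoatom N →
      (∀ g : G, N.map (MulAut.conj g).toMonoidHom ≠ M) →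
      Disjoint (tildeOf M ((sigmaCore M : Set G) \ {1}))
        (tildeOf N ((sigmaCore N : Set G) \ {1})) := by
  intro M N hM hN hconj
  rw [Set.disjoint_iff_inter_eq_empty]
  refine Cfsg.Agent.Lib.Helper34.TildeEquiv.tildeSigma_disjoint_of
    (fun M N hM hN x y hx hy hx1 hy1 hxy =>
      Cfsg.Agent.S1433.result hG M N hM hN x y hx hy hx1 hy1 hxy)
    (Cfsg.Agent.S1378.result hG).2 M N hM hN ?_
  intro g hg
  apply hconj g⁻¹
  rw [hg]
  exact Cfsg.Agent.Lib.Helper34.map_conj_inv_map_conj M g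

/-- **B&G Theorem 14.7(a)**, existence of the partner `M*` (unconditional). -/
theorem exists_partner_uncond (hG : IsMinSimpleOddOrder G) {M K : Subgroup G} (hM : IsCoatom M)
    (hK : IsPiHallOf (kappa M) K M) (hK1 : K ≠ ⊥) :
    ∃ Ms : Subgroup G, IsCoatom Ms ∧
      K = sigmaCore Ms ⊓ Subgroup.centralizer
        ((sigmaCore M ⊓ Subgroup.centralizer (K : Set G) : Subgroup G) : Set G) ∧
      IsPiHallOf (kappa Ms) (sigmaCore M ⊓ Subgroup.centralizer (K : Set G)) Ms :=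
  exists_partner' hG (stmt1430_of hG) (stmt1431_of hG) (stmt1432_of hG)
    (Cfsg.Agent.Lib.Helper24.kstarCentUniq hG) (sigmaDisjoint_of hG) (stmt1409_of hG)
    (stmt1416_of hG) (stmt1417_of hG) (stmt1424_of hG) (tildeCount_of hG) (tildeDisjoint_of hG)
    (stmt1429_of hG) hM hK hK1

/-- **B&G Theorem 14.7(f)**, first half (unconditional): `M` and `M*` are not both of type `𝒫₁`. -/
theorem not_both_P1_uncond (hG : IsMinSimpleOddOrder G) {M K Ms : Subgroup G} (hM : IsCoatom M)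
    (hK : IsPiHallOf (kappa M) K M) (hK1 : K ≠ ⊥) (hMs : IsCoatom Ms)
    (hKst : K = sigmaCore Ms ⊓ Subgroup.centralizer
      ((sigmaCore M ⊓ Subgroup.centralizer (K : Set G) : Subgroup G) : Set G))
    (hKstH : IsPiHallOf (kappa Ms) (sigmaCore M ⊓ Subgroup.centralizer (K : Set G)) Ms)
    (hP : ∀ s : ℕ, s.Prime → s ∣ Nat.card M → s ∈ sigma M ∨ s ∈ kappa M)
    (hPs : ∀ s : ℕ, s.Prime → s ∣ Nat.card Ms → s ∈ sigma Ms ∨ s ∈ kappa Ms) : False :=
  not_both_P1' hG (stmt1430_of hG) (stmt1431_of hG) (stmt1432_of hG)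
    (Cfsg.Agent.Lib.Helper24.kstarCentUniq hG) (sigmaDisjoint_of hG) (stmt1409_of hG)
    (stmt1416_of hG) (stmt1417_of hG) (stmt1424_of hG) (tildeCount_of hG) (tildeDisjoint_of hG)
    hM hK hK1 hMs hKst hKstH hP hPs

/-- A maximal subgroup of type `𝒫₁` has a partner not of type `𝒫₁` (unconditional). -/
theorem exists_partner_not_P1_uncond (hG : IsMinSimpleOddOrder G) {M K : Subgroup G}
    (hM : IsCoatom M) (hK : IsPiHallOf (kappa M) K M) (hK1 : K ≠ ⊥)
    (hP1 : ∀ q : ℕ, q.Prime → q ∣ Nat.card M → q ∉ sigma M → q ∈ kappa M) :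
    ∃ Ms : Subgroup G, IsCoatom Ms ∧ K ≤ sigmaCore Ms ∧
      sigmaCore M ⊓ Subgroup.centralizer (K : Set G) ≤ Ms ∧
      K = sigmaCore Ms ⊓ Subgroup.centralizer
        ((sigmaCore M ⊓ Subgroup.centralizer (K : Set G) : Subgroup G) : Set G) ∧
      IsPiHallOf (kappa Ms) (sigmaCore M ⊓ Subgroup.centralizer (K : Set G)) Ms ∧
      ¬ (∀ q : ℕ, q.Prime → q ∣ Nat.card Ms → q ∉ sigma Ms → q ∈ kappa Ms) :=
  exists_partner_not_P1 hG (stmt1430_of hG) (stmt1431_of hG) (stmt1432_of hG)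
    (Cfsg.Agent.Lib.Helper24.kstarCentUniq hG) (sigmaDisjoint_of hG) (stmt1409_of hG)
    (stmt1416_of hG) (stmt1417_of hG) (stmt1424_of hG) (tildeCount_of hG) (tildeDisjoint_of hG)
    (stmt1429_of hG) hM hK hK1 hP1

/-- Uniqueness of the partner. -/
theorem partner_unique (hG : IsMinSimpleOddOrder G) {M K Ms Ms' : Subgroup G} (hM : IsCoatom M)
    (hK : IsPiHallOf (kappa M) K M) (hK1 : K ≠ ⊥) (hMs : IsCoatom Ms)
    (hKst : K = sigmaCore Ms ⊓ Subgroup.centralizer
      ((sigmaCore M ⊓ Subgroup.centralizer (K : Set G) : Subgroup G) : Set G))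
    (hKstH : IsPiHallOf (kappa Ms) (sigmaCore M ⊓ Subgroup.centralizer (K : Set G)) Ms)
    (hMs' : IsCoatom Ms')
    (hKst' : K = sigmaCore Ms' ⊓ Subgroup.centralizer
      ((sigmaCore M ⊓ Subgroup.centralizer (K : Set G) : Subgroup G) : Set G))
    (hKstH' : IsPiHallOf (kappa Ms') (sigmaCore M ⊓ Subgroup.centralizer (K : Set G)) Ms') :
    Ms' = Ms := by
  obtain ⟨p, hp, x, hxK, hx⟩ := exists_prime_orderOf_mem hK1
  have hXK : Subgroup.zpowers x ≤ K := by
    rw [Subgroup.zpowers_le]; exact hxK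
  have hXp := card_zpowers_prime hp hx
  have h1 := (s1367_of hG (stmt1430_of hG) (Cfsg.Agent.Lib.Helper24.kstarCentUniq hG) M hM K hK
    hK1 Ms hMs hKst hKstH).2 _ hXK hXp
  have h2 := (s1367_of hG (stmt1430_of hG) (Cfsg.Agent.Lib.Helper24.kstarCentUniq hG) M hM K hK
    hK1 Ms' hMs' hKst' hKstH').2 _ hXK hXp
  exact h1.2 Ms' hMs' h2.1

end Cfsg.Agent.Lib.Helper21
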