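import Mathlib
import Cfsg.Prelude.Def_OddOrderLocal
import Cfsg.Prelude.Def_OddOrder
import Cfsg.Agent.Lib.Helper54.BGFourteenDefs
import Cfsg.Agent.Lib.Helper54.BGFourteenEmbed
import Cfsg.Agent.Lib.Helper22.BGFourteenFourB
import Cfsg.Agent.Lib.Helper62.PiHall
import Cfsg.Agent.Lib.Helper21.BGFourteenSevenA
import Cfsg.Agent.Lib.Helper21.BGFourteenSevenF

/-!
# Bender–Glauberman Theorem 14.7 (d), (f): `M ∩ M* = K × K*` is cyclic; `U = 1` means type `𝒫₁`
(helper21)
-/

set_option autoImplicit false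

namespace Cfsg.Agent.Lib.Helper21

open Cfsg Cfsg.Agent.Lib.Helper54
open scoped Pointwise

universe u

variable {G : Type u} [Group G]

/-- `U = ⊥` in a standard factorisation `M = K U M_σ`: every prime divisor of `|M|` lies in
`σ(M) ∪ κ(M)`. -/
theorem P1_of_sigmaDecomposition_bot [Finite G] {M K : Subgroup G}
    (hKU : IsSigmaDecomposition M K ⊥) :
    ∀ s : ℕ, s.Prime → s ∣ Nat.card M → s ∈ sigma M ∨ s ∈ kappa M := by
  intro s hs hsM
  have hK := hKU.hall
  have hle : M ≤ sigmaCore M ⊔ K := by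
    intro m hm
    obtain ⟨a, ha, b, hb, rfl⟩ := hKU.compl.2.2.2 m hm
    rw [Subgroup.mem_bot] at ha
    subst ha
    rw [one_mul, sup_comm]
    exact hb
  have heq : M = sigmaCore M ⊔ K := le_antisymm hle (sup_le (sigmaCore_le M) hK.1)
  have hcop : (Nat.card (sigmaCore M)).Coprime (Nat.card K) := by
    apply Nat.coprime_of_dvd
    intro r hr hrσ hrK
    exact (hK.2.1 r hr hrK).2.2.1 (sigmaCore_isPi M r hr hrσ)
  have hdisj : sigmaCore M ⊓ K = ⊥ := (Subgroup.disjoint_of_coprime_natCard hcop).eq_bot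
  have hcard : Nat.card (sigmaCore M ⊔ K : Subgroup G) = Nat.card (sigmaCore M) * Nat.card K :=
    card_sup_of_le_normalizer (hK.1.trans (le_normalizer_sigmaCore M)) hdisj
  rw [heq, hcard] at hsM
  rcases (Nat.Prime.dvd_mul hs).mp hsM with h | h
  · exact Or.inl (sigmaCore_isPi M s hs h)
  · exact Or.inr (hK.2.1 s hs h)

/-- The product of two elementwise commuting cyclic subgroups of coprime orders is cyclic. -/
theorem isCyclic_sup_of_coprime [Finite G] {A B : Subgroup G} (hA : IsCyclic A) (hB : IsCyclic B)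
    (hAB : ∀ a ∈ A, ∀ b ∈ B, a * b = b * a) (hcop : (Nat.card A).Coprime (Nat.card B)) :
    IsCyclic ↥(A ⊔ B) := by
  obtain ⟨a, ha⟩ := IsCyclic.exists_ofOrder_eq_natCard (α := A)
  obtain ⟨b, hb⟩ := IsCyclic.exists_ofOrder_eq_natCard (α := B)
  have hab : Commute (a : G) (b : G) := hAB a a.2 b b.2
  have hoa : orderOf (a : G) = Nat.card A := by rw [Subgroup.orderOf_coe, ha]
  have hob : orderOf (b : G) = Nat.card B := by rw [Subgroup.orderOf_coe, hb]
  have ho : orderOf ((a : G) * b) = Nat.card A * Nat.card B := by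
    rw [hab.orderOf_mul_eq_mul_orderOf_of_coprime (by rw [hoa, hob]; exact hcop), hoa, hob]
  have hBN : B ≤ Subgroup.normalizer (A : Set G) := by
    refine le_trans ?_ (Subgroup.centralizer_le_normalizer _)
    intro y hy
    rw [Subgroup.mem_centralizer_iff]
    intro x hx
    exact hAB x hx y hy
  have hdisj : A ⊓ B = ⊥ := (Subgroup.disjoint_of_coprime_natCard hcop).eq_bot
  have hcard : Nat.card ↥(A ⊔ B) = Nat.card A * Nat.card B :=
    card_sup_of_le_normalizer hBN hdisj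
  have hmem : (a : G) * b ∈ A ⊔ B :=
    Subgroup.mul_mem _ (Subgroup.mem_sup_left a.2) (Subgroup.mem_sup_right b.2)
  apply isCyclic_of_orderOf_eq_card (⟨(a : G) * b, hmem⟩ : ↥(A ⊔ B))
  rw [Subgroup.orderOf_mk, ho, hcard]

/-- **B&G 14.7(d)**: `M ∩ M* = K K*`, given that `K*` is a Hall `σ(M)`-subgroup of `M*`. -/
theorem inf_partner_eq [Finite G] (hG : IsMinSimpleOddOrder G) (h30 : Stmt1430 G)
    {M K Ms : Subgroup G} (hM : IsCoatom M)
    (hK : IsPiHallOf (kappa M) K M) (hK1 : K ≠ ⊥) (hMs : IsCoatom Ms)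
    (hKst : K = sigmaCore Ms ⊓ Subgroup.centralizer
      ((sigmaCore M ⊓ Subgroup.centralizer (K : Set G) : Subgroup G) : Set G))
    (hKstH : IsPiHallOf (kappa Ms) (sigmaCore M ⊓ Subgroup.centralizer (K : Set G)) Ms)
    (hHσ : IsPiHallOf (sigma M) (sigmaCore M ⊓ Subgroup.centralizer (K : Set G)) Ms) :
    M ⊓ Ms = K ⊔ (sigmaCore M ⊓ Subgroup.centralizer (K : Set G)) := by
  have hA1 := kstar_ne_bot hG h30 hM hK hK1
  have hms : IsMemberWith (K ⊔ (sigmaCore M ⊓ Subgroup.centralizer (K : Set G))) Ms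
      (sigmaCore M ⊓ Subgroup.centralizer (K : Set G)) := by
    refine ⟨hMs, hKstH, hA1, ?_⟩
    rw [← hKst]
    exact sup_comm _ _
  have hKMs : K ≤ Ms := by
    intro k hk
    rw [hKst] at hk
    exact sigmaCore_le Ms hk.1
  apply le_antisymm
  · -- `T := M_σ ∩ M* = K*`
    have hTle : sigmaCore M ⊓ Ms ≤ Ms := inf_le_right
    have hTπ : Cfsg.Agent.Lib.Helper62.IsPiNum (sigma M) (Nat.card ↥(sigmaCore M ⊓ Ms)) := by
      intro r hr hrd
      exact sigmaCore_isPi M r hr (hrd.trans (Subgroup.card_dvd_of_le inf_le_left))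
    obtain ⟨H', hH', hTH'⟩ :=
      Cfsg.Agent.Lib.Helper62.isPiHallOf_dom (π := sigma M) (hG.2.2.2 Ms hMs.1) hTle hTπ
    have hcard : Nat.card ↥(sigmaCore M ⊓ Ms) ≤
        Nat.card ↥(sigmaCore M ⊓ Subgroup.centralizer (K : Set G)) := by
      rw [← Cfsg.Agent.Lib.Helper62.card_eq_of_isPiHallOf hH' hHσ]
      exact Nat.le_of_dvd Nat.card_pos (Subgroup.card_dvd_of_le hTH')
    have hAT : sigmaCore M ⊓ Subgroup.centralizer (K : Set G) ≤ sigmaCore M ⊓ Ms :=
      le_inf inf_le_left hKstH.1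
    have hTeq : sigmaCore M ⊓ Subgroup.centralizer (K : Set G) = sigmaCore M ⊓ Ms :=
      Subgroup.eq_of_le_of_card_ge hAT hcard
    -- `M ∩ M*` normalizes `T`
    have hDN : M ⊓ Ms ≤ Subgroup.normalizer
        ((sigmaCore M ⊓ Subgroup.centralizer (K : Set G) : Subgroup G) : Set G) := by
      rw [hTeq]
      exact Cfsg.Agent.Lib.Helper22.BGFourteenFour.le_normalizer_inf
        (inf_le_left.trans (le_normalizer_sigmaCore M)) (inf_le_right.trans Subgroup.le_normalizer)
    rw [← hms.inf_normalizer_k_eq h30]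
    exact le_inf inf_le_right hDN
  · exact sup_le (le_inf hK.1 hKMs)
      (le_inf (inf_le_left.trans (sigmaCore_le M)) hKstH.1)

end Cfsg.Agent.Lib.Helper21
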