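import Cfsg.Agent.Lib.Helper21.BGTwelveJ
import Cfsg.Agent.Lib.Helper55.BGElevenF
import Cfsg.Agent.S1403
import Cfsg.Agent.S1410
import Cfsg.Agent.S1412

/-!
# B&G 12.5 / 12.6 / 12.7: final glue

Everything is reduced to: B&G 11.7 in the shape `Exc117 G` (`M_σ A ⊴ M` for exceptional `M`), the
literal S1416 statement, and (for 12.7) `τ₂(M) = {p}`.
-/

set_option autoImplicit false

namespace Cfsg.Agent.Lib.Helper21

open scoped Pointwise
open Cfsg
open Cfsg.Agent.Lib.Helper34 (UniquenessThm)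
open Cfsg.Agent.Lib.Helper54 (IsExceptional)

variable {G : Type*} [Group G]

/-- B&G 11.7: for an exceptional maximal subgroup, `M_σ A ⊴ M`. -/
def Exc117 (G : Type*) [Group G] : Prop :=
  ∀ (M : Subgroup G) (p : ℕ) [Fact p.Prime] (A₀ A : Subgroup G), IsExceptional M p A₀ A →
    M ≤ Subgroup.normalizer ((sigmaCore M ⊔ A : Subgroup G) : Set G)

theorem uniquenessThm_of [Finite G] (hG : IsMinSimpleOddOrder G) : UniquenessThm G :=
  fun K hK h1 h3 => Cfsg.Agent.S1403.result hG K hK h1 h3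

theorem pLengthLE_of [Finite G] (hG : IsMinSimpleOddOrder G) :
    ∀ (q : ℕ) [Fact q.Prime] (H : Subgroup G), H ≠ ⊤ → PLengthLE q 1 H :=
  fun q _ H hH => Cfsg.Agent.S1410.result hG q H hH

theorem s1412Stmt_of [Finite G] (hG : IsMinSimpleOddOrder G) :
    ∀ (q : ℕ) [Fact q.Prime], Cfsg.Agent.Lib.Helper55.BGEleven.S1412Stmt G q :=
  fun q _ S hr => Cfsg.Agent.S1412.result hG q S hr

theorem sec11_final [Finite G] (hG : IsMinSimpleOddOrder G) (h117 : Exc117 G) : Sec11 G :=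
  Cfsg.Agent.Lib.Helper55.BGEleven.sec11_of hG (uniquenessThm_of hG) (pLengthLE_of hG)
    (s1412Stmt_of hG) h117

/-- S1417 from 11.7 and S1416. -/
theorem s1417_final [Finite G] (hG : IsMinSimpleOddOrder G) (h117 : Exc117 G)
    (h16 : S1416Stmt G)
    (M : Subgroup G) (hM : IsCoatom M) (p : ℕ) [Fact p.Prime] (hp : p ∈ tau2 M) (A : Subgroup G)
    (hA : A ≤ M ∧ IsElementaryAbelian p A ∧ Nat.card A = p ^ 2) :
    Group.IsNilpotent (sigmaCore M) ∧
      (∀ P : Sylow p M, IsMulCommutative (P : Subgroup M) ∧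
        (A ≤ (P : Subgroup M).map M.subtype →
          (∀ x ∈ (P : Subgroup M).map M.subtype, x ^ p = 1 ↔ x ∈ A) ∧
          ¬ Subgroup.normalizer ((((P : Subgroup M).map M.subtype : Subgroup G)) : Set G) ≤ M)) ∧
      M ≤ Subgroup.normalizer ((sigmaCore M ⊔ A : Subgroup G) : Set G) ∧
      sigmaCore M ⊓ Subgroup.centralizer (A : Set G) = ⊥ ∧
      (∀ Mstar : Subgroup G, IsCoatom Mstar → Mstar ≠ M → A ≤ Mstar → sigmaCore M ⊓ Mstar = ⊥) ∧
      ∃ A₁ : Subgroup G, A₁ ≤ A ∧ Nat.card A₁ = p ∧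
        sigmaCore M ⊓ Subgroup.centralizer (A₁ : Set G) = ⊥ :=
  s1417_of hG (uniquenessThm_of hG) (pLengthLE_of hG) (sec11_final hG h117) h16 M hM p hp A hA

/-- S1419 from 11.7, S1416 and `τ₂(M) = {p}`. -/
theorem s1419_final [Finite G] (hG : IsMinSimpleOddOrder G) (h117 : Exc117 G)
    (h16 : S1416Stmt G)
    (M : Subgroup G) (hM : IsCoatom M)
    (E : Subgroup G) (hE : IsComplIn E (sigmaCore M) M) (p : ℕ) [Fact p.Prime]
    (hp : p ∈ tau2 M)
    (hS : ∀ S : Sylow p G, ¬ IsMulCommutative (S : Subgroup G))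
    (A : Subgroup G) (hA : A ≤ E ∧ IsElementaryAbelian p A ∧ Nat.card A = p ^ 2)
    (htau : tau2 M = {p}) :
    tau2 M = {p} ∧
      (Nat.card ↥(A ⊓ Subgroup.centralizer (sigmaCore M : Set G)) = p ∧
        fittingOf M = sigmaCore M ⊔ (A ⊓ Subgroup.centralizer (sigmaCore M : Set G))) ∧
      ∀ X : Subgroup G, X ≤ E → Nat.card X = p →
        X ≠ A ⊓ Subgroup.centralizer (sigmaCore M : Set G) →
        sigmaCore M ⊓ Subgroup.centralizer (X : Set G) = ⊥ ∧
          ¬ Subgroup.centralizer (X : Set G) ≤ M :=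
  s1419_of hG (uniquenessThm_of hG) (pLengthLE_of hG) (sec11_final hG h117) h16 M hM
    (Cfsg.Agent.Lib.Helper55.BGEleven.sigmaCore_ne_bot hG (uniquenessThm_of hG) M hM) E hE p hp
    (s1412Stmt_of hG p) hS A hA htau

end Cfsg.Agent.Lib.Helper21
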