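import Mathlib
import Cfsg.Prelude.Def_GeometricClasses
import Cfsg.Agent.Lib.Helper99.AschDefs
import Cfsg.Agent.Lib.Helper20.AschU.Basic
import Cfsg.Agent.Lib.Helper25.AschC4Aux

/-!
# Project ASCHU (S5663), modules [U4] and [U7T2] in `_of` form

The three [STDFORM] statements are taken as hypotheses (`StdUFP`, `StdTFS`, `StdTPFS`); the sheet-named
theorems are one-liners once [STDFORM] is on main.
-/

set_option autoImplicit false

namespace Cfsg.Agent.Lib.Helper21.AschUU4

open Cfsg Cfsg.Geo Cfsg.Agent.Lib.Helper99.Asch Cfsg.Agent.Lib.Helper20.AschU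
  Cfsg.Agent.Lib.Helper25.AschC4
open scoped MatrixGroups Matrix Kronecker

variable {n : ℕ} {F : Type*} [Field F] [Fintype F] {q : ℕ}

/-- [STDFORM] (1): the standard hermitian forms are unitary forms. -/
def StdUFP (F : Type*) [Field F] [Fintype F] (q : ℕ) : Prop :=
  ∀ d : ℕ, IsUnitaryFormPow q (hermForm d F q)

/-- [STDFORM] (2): tensor form structure with standard factors. -/
def StdTFS (n : ℕ) (F : Type*) [Field F] [Fintype F] (q : ℕ) : Prop :=
  ∀ (d e : ℕ) (idx : Fin n ≃ Fin d × Fin e) (P : GL (Fin n) F),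
    P ∈ similarityGroup (hermForm n F q) →
    IsTensorFormStructure (fun x : F => x ^ q) (hermForm n F q) (hermForm d F q) (hermForm e F q) idx P

/-- [STDFORM] (3): tensor power form structure with standard factor. -/
def StdTPFS (n : ℕ) (F : Type*) [Field F] [Fintype F] (q : ℕ) : Prop :=
  ∀ (k t : ℕ) (e : Fin n ≃ (Fin t → Fin k)) (P : GL (Fin n) F),
    P ∈ similarityGroup (hermForm n F q) →
    IsTensorPowerFormStructure (fun x : F => x ^ q) (hermForm n F q) (hermForm k F q) e P

/-- membership in a conjugated reindexed subgroup, with `P` (not `P⁻¹`) as conjugating element -/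
theorem mem_conj_reindex' {κ : Type} [Fintype κ] [DecidableEq κ] (e' : Fin n ≃ κ)
    (P h : GL (Fin n) F) (S : Subgroup (GL κ F)) (hg : glReindex e' (P⁻¹ * h * P) ∈ S) :
    h ∈ (S.map (glReindex e'.symm).toMonoidHom).map (MulAut.conj P).toMonoidHom := by
  have h1 : glReindex e' (P⁻¹ * h * P⁻¹⁻¹) ∈ S := by rw [inv_inv]; exact hg
  have h2 := mem_conj_reindex e' P⁻¹ h S h1
  rwa [inv_inv] at h2

/-- ASCHU-[U4] with the [STDFORM] statements as hypotheses. -/
theorem ugeo_of_utensorStd_ne_of (h1 : StdUFP F q) (h2 : StdTFS n F q) (H : Subgroup (GL (Fin n) F))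
    (hH : H ≤ GU n F q) (d e : ℕ) (hd : 2 ≤ d) (he : 2 ≤ e) (hde : d ≠ e) (h : UTensorStd q H d e) :
    UGeo q H := by
  obtain ⟨idx, P, hP, hH'⟩ := h
  rcases lt_or_gt_of_ne hde with hlt | hgt
  · refine ⟨tensorProductSubgroup d e idx P ⊓ GU n F q, ?_, ?_⟩
    · unfold InUnitaryClass
      right; right; left
      exact ⟨d, e, idx, P, hermForm d F q, hermForm e F q, hd, hlt, h1 d, h1 e, h2 d e idx P hP, rfl⟩
    · intro g hg
      refine ⟨?_, hH hg⟩
      obtain ⟨a, b, hab⟩ := hH' g hg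
      apply mem_conj_reindex' idx P g
      refine ⟨a, b, ?_⟩
      rw [glReindex_val, hab]
      ext i j
      simp
  · refine ⟨tensorProductSubgroup e d (idx.trans (Equiv.prodComm _ _)) P ⊓ GU n F q, ?_, ?_⟩
    · unfold InUnitaryClass
      right; right; left
      exact ⟨e, d, idx.trans (Equiv.prodComm _ _), P, hermForm e F q, hermForm d F q, he, hgt,
        h1 e, h1 d, h2 e d _ P hP, rfl⟩
    · intro g hg
      refine ⟨?_, hH hg⟩
      obtain ⟨a, b, hab⟩ := hH' g hg
      apply mem_conj_reindex' (idx.trans (Equiv.prodComm _ _)) P g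
      refine ⟨b, a, ?_⟩
      rw [glReindex_val, hab]
      ext i j
      simp [Matrix.kroneckerMap_apply, mul_comm]

/-- ASCHU-[U7T2] with the [STDFORM] statements as hypotheses. -/
theorem ugeo_of_utensorStd_eq_of (h1 : StdUFP F q) (h3 : StdTPFS n F q) (H : Subgroup (GL (Fin n) F))
    (hH : H ≤ GU n F q) (d : ℕ) (hd : 3 ≤ d) (hqd : ¬ (q = 2 ∧ d = 3)) (h : UTensorStd q H d d) :
    UGeo q H := by
  obtain ⟨idx, P, hP, hH'⟩ := h
  refine ⟨tensorWreathSubgroup d 2 (idx.trans (piFinTwoEquiv (fun _ => Fin d)).symm) P ⊓ GU n F q,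
    ?_, ?_⟩
  · unfold InUnitaryClass
    right; right; right
    exact ⟨d, 2, idx.trans (piFinTwoEquiv (fun _ => Fin d)).symm, P, hermForm d F q, hd, le_refl 2,
      hqd, h1 d, h3 d 2 _ P hP, rfl⟩
  · intro g hg
    refine ⟨?_, hH hg⟩
    obtain ⟨a, b, hab⟩ := hH' g hg
    apply mem_conj_reindex' (idx.trans (piFinTwoEquiv (fun _ => Fin d)).symm) P g
    apply Subgroup.subset_closure
    left
    refine ⟨![a, b], ?_⟩
    intro x y
    rw [glReindex_val, hab, Fin.prod_univ_two]
    simp [Matrix.kroneckerMap_apply]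

end Cfsg.Agent.Lib.Helper21.AschUU4
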