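import Mathlib
import Cfsg.Prelude.Def_GeometricClasses
import Cfsg.Agent.Lib.Helper99.AschDefs
import Cfsg.Agent.Lib.Helper20.AschU.Basic
import Cfsg.Agent.Lib.Helper6.AschUStdForm
import Cfsg.Agent.Lib.Helper21.AschUU4

/-!
# Project ASCHU (S5663), modules [U4] and [U7T2]: the sheet-named theorems
(`Lib/Helper21/AschUU4.lean` with helper6's [STDFORM] plugged in).
-/

set_option autoImplicit false

namespace Cfsg.Agent.Lib.Helper20.AschU

open Cfsg Cfsg.Geo Cfsg.Agent.Lib.Helper99.Asch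
open scoped MatrixGroups Matrix Kronecker

variable {n : ℕ} {F : Type*} [Field F] [Fintype F] {q : ℕ}

/-- ASCHU-[U4] -/
theorem ugeo_of_utensorStd_ne (hF : Fintype.card F = q ^ 2) (H : Subgroup (GL (Fin n) F))
    (hH : H ≤ GU n F q) (d e : ℕ) (hd : 2 ≤ d) (he : 2 ≤ e) (hde : d ≠ e) (h : UTensorStd q H d e) :
    UGeo q H :=
  Cfsg.Agent.Lib.Helper21.AschUU4.ugeo_of_utensorStd_ne_of
    (fun d => isUnitaryFormPow_hermForm hF d)
    (fun d e idx P hP => isTensorFormStructure_std hF d e idx P hP) H hH d e hd he hde h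

/-- ASCHU-[U7T2] -/
theorem ugeo_of_utensorStd_eq (hF : Fintype.card F = q ^ 2) (H : Subgroup (GL (Fin n) F))
    (hH : H ≤ GU n F q) (d : ℕ) (hd : 3 ≤ d) (hqd : ¬ (q = 2 ∧ d = 3)) (h : UTensorStd q H d d) :
    UGeo q H :=
  Cfsg.Agent.Lib.Helper21.AschUU4.ugeo_of_utensorStd_eq_of
    (fun d => isUnitaryFormPow_hermForm hF d)
    (fun k t e P hP => isTensorPowerFormStructure_std hF k t e P hP) H hH d hd hqd h

end Cfsg.Agent.Lib.Helper20.AschU
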