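import Mathlib
import Cfsg.Prelude.Def_GeometricClasses
import Cfsg.Agent.Lib.Helper99.AschDefs
import Cfsg.Agent.Lib.Helper99.U92.Defs
import Cfsg.Agent.Lib.Helper25.U92PT2
import Cfsg.Agent.Lib.Helper95.U92R3Group
import Cfsg.Agent.Lib.Helper95.U92R3U

/-!
# U92-[R9-GROUP] (helper21, for helper99's sub-sheet U92 of project ASCHU)

The set `R9set ω` of the 243 matrices `A ⊗ B`, `A B ∈ 3^{1+2}`, is closed under products, contains the scalars `ω^a`,
consists of unitary matrices of cube `1`, and is the underlying set of a subgroup of `GL`.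
-/

set_option autoImplicit false
set_option linter.unusedSectionVars false

namespace Cfsg.Agent.Lib.Helper99.U92

open Cfsg Cfsg.Geo Cfsg.Agent.Lib.Helper99.Asch Cfsg.Agent.Lib.Helper70.AschU
open Cfsg.Agent.Lib.Helper15.AschSlotNorm Cfsg.Agent.Lib.Helper15.AschUPure
open scoped MatrixGroups Matrix

variable {F : Type*} [Field F] [Fintype F] {σ : F ≃+* F} {ω : F}

/-- U92-[R9-GROUP] -/
theorem one_mem_R9set : (1 : Matrix I9 I9 F) ∈ R9set ω :=
  ⟨1, one_mem_R3set, 1, one_mem_R3set, PT_two_one.symm⟩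

theorem smul_one_mem_R9set (a : ℕ) : ω ^ a • (1 : Matrix I9 I9 F) ∈ R9set ω := by
  refine ⟨ω ^ a • 1, smul_mem_R3set one_mem_R3set a, 1, one_mem_R3set, ?_⟩
  rw [PT_two_smul_left, PT_two_one]

theorem mul_mem_R9set (hω : ω ^ 2 + ω + 1 = 0) {M M' : Matrix I9 I9 F} (hM : M ∈ R9set ω)
    (hM' : M' ∈ R9set ω) : M * M' ∈ R9set ω := by
  obtain ⟨A, hA, B, hB, rfl⟩ := hM
  obtain ⟨A', hA', B', hB', rfl⟩ := hM'
  exact ⟨A * A', mul_mem_R3set hω hA hA', B * B', mul_mem_R3set hω hB hB', PT_two_mul A B A' B'⟩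

theorem pow_three_of_mem_R9set (hω : ω ^ 2 + ω + 1 = 0) {M : Matrix I9 I9 F} (hM : M ∈ R9set ω) :
    M ^ 3 = 1 := by
  obtain ⟨A, hA, B, hB, rfl⟩ := hM
  have h3 : ∀ N : Matrix I9 I9 F, N ^ 3 = N * N * N := fun N => by
    rw [pow_succ, pow_two]
  have hA3 : A * A * A = 1 := by
    have := pow_three_of_mem_R3set hω hA
    rwa [pow_succ, pow_two] at this
  have hB3 : B * B * B = 1 := by
    have := pow_three_of_mem_R3set hω hB
    rwa [pow_succ, pow_two] at this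
  rw [h3, PT_two_mul, PT_two_mul, hA3, hB3, PT_two_one]

theorem isU_of_mem_R9set (hσ : UCtx σ 2) (hω : ω ^ 2 + ω + 1 = 0) {M : Matrix I9 I9 F}
    (hM : M ∈ R9set ω) : IsU σ M := by
  obtain ⟨A, hA, B, hB, rfl⟩ := hM
  have hAU : Aᵀ * A.map σ = 1 := isU_of_mem_R3set hσ hω hA
  have hBU : Bᵀ * B.map σ = 1 := isU_of_mem_R3set hσ hω hB
  show (PT ![A, B])ᵀ * (PT ![A, B]).map σ = 1
  rw [PT_two_transpose, PT_two_map, PT_two_mul, hAU, hBU, PT_two_one]

/-- the subgroup of `GL` with underlying set `R9set` -/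
theorem exists_R9 (hω : ω ^ 2 + ω + 1 = 0) :
    ∃ R : Subgroup (GL I9 F), ∀ g : GL I9 F, g ∈ R ↔ (g : Matrix I9 I9 F) ∈ R9set ω := by
  refine ⟨{ carrier := {g | (g : Matrix I9 I9 F) ∈ R9set ω}
            mul_mem' := fun {a b} ha hb => ?_
            one_mem' := ?_
            inv_mem' := fun {a} ha => ?_ }, fun g => Iff.rfl⟩
  · show ((a * b : GL I9 F) : Matrix I9 I9 F) ∈ R9set ω
    rw [Units.val_mul]
    exact mul_mem_R9set hω ha hb
  · show ((1 : GL I9 F) : Matrix I9 I9 F) ∈ R9set ω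
    rw [Units.val_one]
    exact one_mem_R9set
  · show ((a⁻¹ : GL I9 F) : Matrix I9 I9 F) ∈ R9set ω
    have ha' : (a : Matrix I9 I9 F) ∈ R9set ω := ha
    have h3 : a ^ 3 = 1 := by
      apply Units.ext
      rw [Units.val_pow_eq_pow_val, Units.val_one]
      exact pow_three_of_mem_R9set hω ha'
    have hinv : a⁻¹ = a * a := by
      rw [inv_eq_iff_mul_eq_one, ← h3, pow_succ, pow_two, mul_assoc]
    rw [hinv, Units.val_mul]
    exact mul_mem_R9set hω ha' ha'

end Cfsg.Agent.Lib.Helper99.U92
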