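import Mathlib
import Cfsg.Prelude.Def_Amalgam
import Cfsg.Agent.Lib.Helper68.AmalBDefs
import Cfsg.Agent.Lib.Helper68.AmalBTools

/-!
# S2751, case (B), module GSB-[P2a] (helper21 for helper68): β-type vertices

`Zb_le : Z_y ≤ Z_x` and `Zb_eq_ZT : Z_y = Ω₁Z(T_xy)` for `x ~ y`, `y` of β-type.
-/

set_option autoImplicit false

namespace Cfsg.Agent.Lib.Helper68.AmalB.H21

open Cfsg Cfsg.Agent.Lib.Helper12.Amal Cfsg.Agent.Lib.Helper68.AmalD Cfsg.Agent.Lib.Helper68.AmalW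

variable {G : Type*} [Group G] {P₁ P₂ : Subgroup G}

/-- every vertex has a neighbour different from a given vertex -/
theorem exists_adj_ne (hW : BaseW P₁ P₂) (y x : CosetVertex P₁ P₂) :
    ∃ m, (cosetGraph P₁ P₂).Adj y m ∧ m ≠ x := by
  have h1 : 1 < ((cosetGraph P₁ P₂).neighborSet y).ncard := by
    rw [hW.card_nbr y]; norm_num
  obtain ⟨m, hm, hmx⟩ := Set.exists_ne_of_one_lt_ncard h1 x
  exact ⟨m, hm, hmx⟩

/-! ## the module statements (hedge copies: the primary copies, same statements, are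
`Cfsg.Agent.Lib.Helper68.AmalB.*` in `Lib/Helper19/AmalBP2*.lean`; these live in the namespace
`Cfsg.Agent.Lib.Helper68.AmalB.H21` so that both can be imported together) -/

/-- β-type: `Z_y ≤ Z_x` for `x ~ y` -/
theorem Zb_le (hB : BaseB P₁ P₂) {x y : CosetVertex P₁ P₂}
    (hxy : (cosetGraph P₁ P₂).Adj x y) (hy : IsB y) : Zv y ≤ Zv x := by
  have hW := hB.W
  obtain ⟨m, hm, hmx⟩ := exists_adj_ne hW y x
  obtain ⟨g, hg, hgx, -⟩ := hW.two_trans y x m m x hxy.symm hm (Ne.symm hmx) hm hxy.symm hmx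
  have key : Zv y ⊓ Zv m ≤ Zv x := by
    intro u hu
    have hum : u ∈ Zv (g • x) := by rw [hgx]; exact hu.2
    rw [hW.smul_Z, mem_map_conj] at hum
    have hc := hy hu.1
    rw [Subgroup.mem_centralizer_iff] at hc
    have h1 : g * u = u * g := hc g hg
    have e : g⁻¹ * u * g = u := by
      rw [mul_assoc, ← h1]; group
    rwa [e] at hum
  calc Zv y = (Zv y ⊓ Zv x) ⊔ (Zv y ⊓ Zv m) := hW.Z_gen y x m hxy.symm hm (Ne.symm hmx)
    _ ≤ Zv x := sup_le inf_le_right key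

/-- β-type: `Z_y = Ω₁Z(T_xy)` -/
theorem Zb_eq_ZT (hB : BaseB P₁ P₂) {x y : CosetVertex P₁ P₂}
    (hxy : (cosetGraph P₁ P₂).Adj x y) (hy : IsB y) : Zv y = ZT (Gv x ⊓ Gv y) := by
  rw [← hB.W.Z_inf x y hxy]
  exact (inf_eq_right.2 (Zb_le hB hxy hy)).symm

end Cfsg.Agent.Lib.Helper68.AmalB.H21
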