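import Mathlib
import Cfsg.Prelude.Def_Amalgam
import Cfsg.Agent.Lib.Helper68.AmalBDefs
import Cfsg.Agent.Lib.Helper68.AmalBTools
import Cfsg.Agent.Lib.Helper21.AmalBP2a

/-!
# S2751, case (B), module GSB-[P2b] (helper21 for helper68): α-type vertices, `Z_x = Z_l × Z_m`
-/

set_option autoImplicit false

namespace Cfsg.Agent.Lib.Helper68.AmalB.H21

open Cfsg Cfsg.Agent.Lib.Helper12.Amal Cfsg.Agent.Lib.Helper68.AmalD Cfsg.Agent.Lib.Helper68.AmalW

variable {G : Type*} [Group G] {P₁ P₂ : Subgroup G}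

/-- a subgroup centralizing `N` normalizes `N` -/
theorem le_normalizer_of_le_centralizer {N K : Subgroup G}
    (h : N ≤ Subgroup.centralizer ((K : Subgroup G) : Set G)) :
    K ≤ Subgroup.normalizer (N : Set G) := by
  apply le_normalizer_of_forall
  intro g hg d hd
  have h1 : g * d = d * g := (Subgroup.mem_centralizer_iff.1 (h hd)) g hg
  have e : g * d * g⁻¹ = d := by rw [h1]; group
  rw [e]; exact hd

/-- elements of a join of two elementwise commuting subgroups are products -/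
theorem exists_mul_of_mem_sup {A B : Subgroup G} (hc : ∀ a ∈ A, ∀ b ∈ B, a * b = b * a)
    {g : G} (hg : g ∈ A ⊔ B) : ∃ a ∈ A, ∃ b ∈ B, g = a * b := by
  rw [Subgroup.sup_eq_closure] at hg
  induction hg using Subgroup.closure_induction with
  | mem x hx =>
    rcases hx with hx | hx
    · exact ⟨x, hx, 1, Subgroup.one_mem _, by simp⟩
    · exact ⟨1, Subgroup.one_mem _, x, hx, by simp⟩
  | one => exact ⟨1, Subgroup.one_mem _, 1, Subgroup.one_mem _, by simp⟩
  | mul x y _ _ ihx ihy =>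
    obtain ⟨a, ha, b, hb, rfl⟩ := ihx
    obtain ⟨a', ha', b', hb', rfl⟩ := ihy
    refine ⟨a * a', Subgroup.mul_mem _ ha ha', b * b', Subgroup.mul_mem _ hb hb', ?_⟩
    have h1 := hc a' ha' b hb
    calc a * b * (a' * b') = a * (b * a') * b' := by group
      _ = a * (a' * b) * b' := by rw [h1]
      _ = a * a' * (b * b') := by group
  | inv x _ ih =>
    obtain ⟨a, ha, b, hb, rfl⟩ := ih
    refine ⟨a⁻¹, Subgroup.inv_mem _ ha, b⁻¹, Subgroup.inv_mem _ hb, ?_⟩
    have h1 := hc a ha b hb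
    rw [h1, mul_inv_rev]

/-- the order of the join of two elementwise commuting subgroups with trivial intersection -/
theorem card_sup_of_comm_of_inf_eq_bot {A B : Subgroup G}
    (hc : ∀ a ∈ A, ∀ b ∈ B, a * b = b * a) (hd : A ⊓ B = ⊥) :
    Nat.card ↥(A ⊔ B) = Nat.card ↥A * Nat.card ↥B := by
  rw [← Nat.card_prod]
  symm
  let f : ↥A × ↥B → ↥(A ⊔ B) := fun p =>
    ⟨(p.1 : G) * (p.2 : G), Subgroup.mul_mem _ (Subgroup.mem_sup_left p.1.2)
      (Subgroup.mem_sup_right p.2.2)⟩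
  apply Nat.card_congr (Equiv.ofBijective f ⟨?_, ?_⟩)
  · rintro ⟨⟨a, ha⟩, ⟨b, hb⟩⟩ ⟨⟨a', ha'⟩, ⟨b', hb'⟩⟩ hab
    have h1 : a * b = a' * b' := congrArg Subtype.val hab
    have h2 : a'⁻¹ * a = b' * b⁻¹ := by
      calc a'⁻¹ * a = a'⁻¹ * (a * b) * b⁻¹ := by group
        _ = a'⁻¹ * (a' * b') * b⁻¹ := by rw [h1]
        _ = b' * b⁻¹ := by group
    have h3 : a'⁻¹ * a ∈ A ⊓ B := by
      refine Subgroup.mem_inf.2 ⟨Subgroup.mul_mem _ (Subgroup.inv_mem _ ha') ha, ?_⟩
      rw [h2]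
      exact Subgroup.mul_mem _ hb' (Subgroup.inv_mem _ hb)
    rw [hd, Subgroup.mem_bot] at h3
    have h4 : a = a' := by
      have := inv_mul_eq_one.1 h3
      exact this.symm
    subst h4
    have h5 : b = b' := mul_left_cancel h1
    subst h5
    rfl
  · rintro ⟨g, hg⟩
    obtain ⟨a, ha, b, hb, rfl⟩ := exists_mul_of_mem_sup hc hg
    exact ⟨(⟨a, ha⟩, ⟨b, hb⟩), rfl⟩

/-! ## the module statements (hedge copies: the primary copies, same statements, are
`Cfsg.Agent.Lib.Helper68.AmalB.*` in `Lib/Helper19/AmalBP2*.lean`; these live in the namespace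
`Cfsg.Agent.Lib.Helper68.AmalB.H21` so that both can be imported together) -/

/-- `C_{Z_x}(G_x) = 1` -/
theorem Za_fix_bot (hB : BaseB P₁ P₂) {x : CosetVertex P₁ P₂} (hx : ¬ IsB x) :
    Zv x ⊓ Subgroup.centralizer ((Gv x : Subgroup G) : Set G) = ⊥ := by
  have hW := hB.W
  obtain ⟨y, hxy, -⟩ := exists_adj_ne hW x x
  have hy : IsB y := by
    have := hB.adj_type x y hxy
    by_contra hny
    exact hx (this.2 hny)
  set N : Subgroup G := Zv x ⊓ Subgroup.centralizer ((Gv x : Subgroup G) : Set G) with hN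
  have hNZy : N ≤ Zv y := by
    rw [Zb_eq_ZT hB hxy hy]
    refine le_trans ?_ (hW.Z_cent_T x y hxy)
    refine le_inf inf_le_left (le_trans inf_le_right ?_)
    exact Subgroup.centralizer_le (by
      intro g hg
      exact (Subgroup.mem_inf.1 hg).1)
  apply hW.core x y hxy N
  · exact le_trans inf_le_left (le_trans (hW.Z_le_Q x) (Q_le_T hW hxy))
  · exact le_normalizer_of_le_centralizer inf_le_right
  · exact le_normalizer_of_le_centralizer (le_trans hNZy hy)

/-- `Z_l ∩ Z_m = 1` for two neighbours of an α-type vertex -/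
theorem Za_inf (hB : BaseB P₁ P₂) {x l m : CosetVertex P₁ P₂} (hx : ¬ IsB x)
    (hl : (cosetGraph P₁ P₂).Adj x l) (hm : (cosetGraph P₁ P₂).Adj x m) (hlm : l ≠ m) :
    Zv l ⊓ Zv m = ⊥ := by
  have hW := hB.W
  have hBl : IsB l := by
    have := hB.adj_type x l hl
    by_contra hny
    exact hx (this.2 hny)
  have hBm : IsB m := by
    have := hB.adj_type x m hm
    by_contra hny
    exact hx (this.2 hny)
  rw [eq_bot_iff, ← Za_fix_bot hB hx]
  refine le_inf (le_trans inf_le_left (Zb_le hB hl hBl)) ?_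
  rw [Subgroup.le_centralizer_iff]
  have hgen := hW.gen_two x l m hl hm hlm
  have h1 : Gv x ⊓ Gv l ≤ Subgroup.centralizer ((Zv l ⊓ Zv m : Subgroup G) : Set G) := by
    rw [Subgroup.le_centralizer_iff]
    refine le_trans inf_le_left (le_trans hBl ?_)
    exact Subgroup.centralizer_le (by
      intro g hg
      exact (Subgroup.mem_inf.1 hg).2)
  have h2 : Gv x ⊓ Gv m ≤ Subgroup.centralizer ((Zv l ⊓ Zv m : Subgroup G) : Set G) := by
    rw [Subgroup.le_centralizer_iff]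
    refine le_trans inf_le_right (le_trans hBm ?_)
    exact Subgroup.centralizer_le (by
      intro g hg
      exact (Subgroup.mem_inf.1 hg).2)
  calc Gv x = (Gv x ⊓ Gv l) ⊔ (Gv x ⊓ Gv m) := hgen
    _ ≤ _ := sup_le h1 h2

/-- `Z_x = Z_l Z_m` -/
theorem Za_sup (hB : BaseB P₁ P₂) {x l m : CosetVertex P₁ P₂} (hx : ¬ IsB x)
    (hl : (cosetGraph P₁ P₂).Adj x l) (hm : (cosetGraph P₁ P₂).Adj x m) (hlm : l ≠ m) :
    Zv x = Zv l ⊔ Zv m := by
  have hW := hB.W
  have hBl : IsB l := by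
    have := hB.adj_type x l hl
    by_contra hny
    exact hx (this.2 hny)
  have hBm : IsB m := by
    have := hB.adj_type x m hm
    by_contra hny
    exact hx (this.2 hny)
  have h1 : Zv x ⊓ Zv l = Zv l := inf_eq_right.2 (Zb_le hB hl hBl)
  have h2 : Zv x ⊓ Zv m = Zv m := inf_eq_right.2 (Zb_le hB hm hBm)
  calc Zv x = (Zv x ⊓ Zv l) ⊔ (Zv x ⊓ Zv m) := hW.Z_gen x l m hl hm hlm
    _ = Zv l ⊔ Zv m := by rw [h1, h2]

/-- `|Z_x| = |Z_l|²` -/
theorem Za_card (hB : BaseB P₁ P₂) {x l : CosetVertex P₁ P₂} (hx : ¬ IsB x)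
    (hl : (cosetGraph P₁ P₂).Adj x l) :
    Nat.card ↥(Zv x) = Nat.card ↥(Zv l) * Nat.card ↥(Zv l) := by
  have hW := hB.W
  obtain ⟨m, hm, hml⟩ := exists_adj_ne hW x l
  have hlm : l ≠ m := Ne.symm hml
  have hBl : IsB l := by
    have := hB.adj_type x l hl
    by_contra hny
    exact hx (this.2 hny)
  have hBm : IsB m := by
    have := hB.adj_type x m hm
    by_contra hny
    exact hx (this.2 hny)
  obtain ⟨g, -, hgl, -⟩ := hW.two_trans x l m m l hl hm hlm hm hl hml
  have hcm : Nat.card ↥(Zv m) = Nat.card ↥(Zv l) := by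
    rw [← hgl, hW.smul_Z]
    exact Subgroup.card_map_of_injective (MulAut.conj g).injective
  have hc : ∀ a ∈ Zv l, ∀ b ∈ Zv m, a * b = b * a := fun a ha b hb =>
    Z_comm hW (Zb_le hB hl hBl ha) (Zb_le hB hm hBm hb)
  rw [Za_sup hB hx hl hm hlm, card_sup_of_comm_of_inf_eq_bot hc (Za_inf hB hx hl hm hlm), hcm]

end Cfsg.Agent.Lib.Helper68.AmalB.H21
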