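import Mathlib
import Cfsg.Prelude.Def_Amalgam
import Cfsg.Agent.Lib.Helper68.AmalBDefs
import Cfsg.Agent.Lib.Helper68.AmalBTools
import Cfsg.Agent.Lib.Helper21.AmalBP2a
import Cfsg.Agent.Lib.Helper21.AmalBP2b

/-!
# S2751, case (B), module GSB-[P2c] (helper21 for helper68): the action of `T_xy ∖ Q_x` on `Z_x`
-/

set_option autoImplicit false

namespace Cfsg.Agent.Lib.Helper68.AmalB.H21

open Cfsg Cfsg.Agent.Lib.Helper12.Amal Cfsg.Agent.Lib.Helper68.AmalD Cfsg.Agent.Lib.Helper68.AmalW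

variable {G : Type*} [Group G] {P₁ P₂ : Subgroup G}

/-- `[Z_x, T_xy] ≤ Z_y` -/
theorem Za_comm_le (hB : BaseB P₁ P₂) {x y : CosetVertex P₁ P₂}
    (hxy : (cosetGraph P₁ P₂).Adj x y) (_hy : IsB y) {t z : G} (ht : t ∈ Gv x ⊓ Gv y)
    (hz : z ∈ Zv x) : t * z * t⁻¹ * z⁻¹ ∈ Zv y :=
  (Subgroup.mem_inf.1 (hB.W.comm_inf x y hxy t z ht hz)).2

/-- `C_{Z_x}(t) ≤ Z_y` for `t ∈ T_xy ∖ Q_x` -/
theorem Za_fix_le (hB : BaseB P₁ P₂) {x y : CosetVertex P₁ P₂}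
    (hxy : (cosetGraph P₁ P₂).Adj x y) (_hy : IsB y) {t z : G} (ht : t ∈ Gv x ⊓ Gv y)
    (htQ : t ∉ Qv x) (hz : z ∈ Zv x) (hc : t * z = z * t) : z ∈ Zv y := by
  have hW := hB.W
  have h1 : z ∈ Zv x ⊓ Subgroup.centralizer ((Gv x ⊓ Gv y : Subgroup G) : Set G) := by
    refine Subgroup.mem_inf.2 ⟨hz, ?_⟩
    rw [Subgroup.mem_centralizer_iff]
    intro s hs
    by_cases hsQ : s ∈ Qv x
    · exact Q_comm_Z hW hsQ hz
    · have hq : t⁻¹ * s ∈ Qv x := hW.mul_mem_Q x y hxy t s ht htQ hs hsQ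
      have h2 : t⁻¹ * s * z = z * (t⁻¹ * s) := Q_comm_Z hW hq hz
      calc s * z = t * (t⁻¹ * s * z) := by group
        _ = t * (z * (t⁻¹ * s)) := by rw [h2]
        _ = (t * z) * (t⁻¹ * s) := by group
        _ = (z * t) * (t⁻¹ * s) := by rw [hc]
        _ = z * s := by group
  have h2 := hW.Z_cent_T x y hxy h1
  rw [← hW.Z_inf x y hxy] at h2
  exact (Subgroup.mem_inf.1 h2).2

/-- `[Z_x, t] = Z_y` for `t ∈ T_xy ∖ Q_x`, `x` of α-type -/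
theorem Za_comm_onto (hB : BaseB P₁ P₂) {x y : CosetVertex P₁ P₂} (hx : ¬ IsB x)
    (hxy : (cosetGraph P₁ P₂).Adj x y) {t : G} (ht : t ∈ Gv x ⊓ Gv y) (htQ : t ∉ Qv x)
    {w : G} (hw : w ∈ Zv y) : ∃ z ∈ Zv x, t * z * t⁻¹ * z⁻¹ = w := by
  have hW := hB.W
  have hy : IsB y := by
    have := hB.adj_type x y hxy
    by_contra hny
    exact hx (this.2 hny)
  have htx : t ∈ Gv x := (Subgroup.mem_inf.1 ht).1
  have : Finite ↥(Gv y) := hW.fin y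
  have : Finite ↥(Zv y) :=
    Finite.of_injective (Subgroup.inclusion (le_trans (hW.Z_le_Q y) (Q_le_G hW y)))
      (Subgroup.inclusion_injective _)
  -- the commutator map
  let φ : ↥(Zv x) →* ↥(Zv y) := MonoidHom.mk'
    (fun z => ⟨t * (z : G) * t⁻¹ * (z : G)⁻¹, Za_comm_le hB hxy hy ht z.2⟩) (by
      intro a b
      apply Subtype.ext
      show t * ((a : G) * (b : G)) * t⁻¹ * ((a : G) * (b : G))⁻¹
        = (t * (a : G) * t⁻¹ * (a : G)⁻¹) * (t * (b : G) * t⁻¹ * (b : G)⁻¹)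
      have h1 : t * (b : G) * t⁻¹ * (b : G)⁻¹ ∈ Zv x :=
        Subgroup.mul_mem _ (Z_conj hW htx b.2) (Subgroup.inv_mem _ b.2)
      have h2 : (a : G)⁻¹ * (t * (b : G) * t⁻¹ * (b : G)⁻¹)
          = (t * (b : G) * t⁻¹ * (b : G)⁻¹) * (a : G)⁻¹ :=
        Z_comm hW (Subgroup.inv_mem _ a.2) h1
      calc t * ((a : G) * (b : G)) * t⁻¹ * ((a : G) * (b : G))⁻¹
          = (t * (a : G) * t⁻¹) * ((t * (b : G) * t⁻¹ * (b : G)⁻¹) * (a : G)⁻¹) := by group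
        _ = (t * (a : G) * t⁻¹) * ((a : G)⁻¹ * (t * (b : G) * t⁻¹ * (b : G)⁻¹)) := by rw [h2]
        _ = _ := by group)
  have hφ : ∀ z : ↥(Zv x), ((φ z : ↥(Zv y)) : G) = t * (z : G) * t⁻¹ * (z : G)⁻¹ := fun _ => rfl
  -- the kernel embeds into `Z_y`
  have hker : Nat.card ↥φ.ker ≤ Nat.card ↥(Zv y) := by
    let ι : ↥φ.ker → ↥(Zv y) := fun k => ⟨((k : ↥(Zv x)) : G), by
      have hk : φ (k : ↥(Zv x)) = 1 := k.2
      have hk' : t * ((k : ↥(Zv x)) : G) * t⁻¹ * ((k : ↥(Zv x)) : G)⁻¹ = 1 := by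
        rw [← hφ, hk]; rfl
      have hc : t * ((k : ↥(Zv x)) : G) = ((k : ↥(Zv x)) : G) * t := by
        have := mul_inv_eq_one.1 hk'
        calc t * ((k : ↥(Zv x)) : G) = (t * ((k : ↥(Zv x)) : G) * t⁻¹) * t := by group
          _ = ((k : ↥(Zv x)) : G) * t := by rw [this]
      exact Za_fix_le hB hxy hy ht htQ (k : ↥(Zv x)).2 hc⟩
    apply Nat.card_le_card_of_injective ι
    intro a b hab
    have h : ((a : ↥(Zv x)) : G) = ((b : ↥(Zv x)) : G) :=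
      congrArg (fun u : ↥(Zv y) => (u : G)) hab
    exact Subtype.ext (Subtype.ext h)
  have hcard : Nat.card ↥(Zv x) = Nat.card ↥φ.range * Nat.card ↥φ.ker := by
    rw [Subgroup.card_eq_card_quotient_mul_card_subgroup φ.ker,
      Nat.card_congr (QuotientGroup.quotientKerEquivRange φ).toEquiv]
  have hsq := Za_card hB hx hxy
  have hpos : 0 < Nat.card ↥(Zv y) := Nat.card_pos
  have hle : Nat.card ↥(Zv y) ≤ Nat.card ↥φ.range := by
    have h1 : Nat.card ↥(Zv y) * Nat.card ↥(Zv y) ≤ Nat.card ↥φ.range * Nat.card ↥(Zv y) := by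
      rw [← hsq, hcard]
      exact Nat.mul_le_mul_left _ hker
    exact Nat.le_of_mul_le_mul_right h1 hpos
  have htop : φ.range = ⊤ := Subgroup.eq_top_of_le_card _ hle
  have hsurj : Function.Surjective φ := MonoidHom.range_eq_top.1 htop
  obtain ⟨z, hz⟩ := hsurj ⟨w, hw⟩
  refine ⟨(z : G), z.2, ?_⟩
  rw [← hφ, hz]

end Cfsg.Agent.Lib.Helper68.AmalB.H21
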