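import Cfsg.Agent.Lib.Helper21.BGTwelveE

/-!
# Bender–Glauberman Corollary 12.6 (statement S1418), from Theorem 12.5 (S1417) and `C_G(A) ≤ M`
-/

set_option autoImplicit false

namespace Cfsg.Agent.Lib.Helper21

open scoped Pointwise
open Cfsg

variable {G : Type*} [Group G]

/-- **Bender–Glauberman Corollary 12.6** (statement S1418), from the conclusion of S1417 for
`(M, p, A)` and `C_G(A) ≤ M` (S1416, first clause). -/
theorem s1418_of [Finite G] (hG : IsMinSimpleOddOrder G)
    (M : Subgroup G) (E : Subgroup G) (hE : IsComplIn E (sigmaCore M) M)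
    (p : ℕ) [Fact p.Prime] (A : Subgroup G)
    (hA : A ≤ E ∧ IsElementaryAbelian p A ∧ Nat.card A = p ^ 2)
    (hCA : Subgroup.centralizer (A : Set G) ≤ M)
    (h17 : Group.IsNilpotent (sigmaCore M) ∧
      (∀ P : Sylow p M, IsMulCommutative (P : Subgroup M) ∧
        (A ≤ (P : Subgroup M).map M.subtype →
          (∀ x ∈ (P : Subgroup M).map M.subtype, x ^ p = 1 ↔ x ∈ A) ∧
          ¬ Subgroup.normalizer ((((P : Subgroup M).map M.subtype : Subgroup G)) : Set G) ≤ M)) ∧
      M ≤ Subgroup.normalizer ((sigmaCore M ⊔ A : Subgroup G) : Set G) ∧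
      sigmaCore M ⊓ Subgroup.centralizer (A : Set G) = ⊥ ∧
      (∀ Mstar : Subgroup G, IsCoatom Mstar → Mstar ≠ M → A ≤ Mstar → sigmaCore M ⊓ Mstar = ⊥) ∧
      ∃ A₁ : Subgroup G, A₁ ≤ A ∧ Nat.card A₁ = p ∧
        sigmaCore M ⊓ Subgroup.centralizer (A₁ : Set G) = ⊥) :
    (E ≤ Subgroup.normalizer (A : Set G) ∧ ∀ X : Subgroup G, X ≤ E → Nat.card X = p → X ≤ A) ∧
      (Subgroup.centralizer (A : Set G) ≤ M ⊓ Subgroup.normalizer (A : Set G) ∧
        M ⊓ Subgroup.normalizer (A : Set G) = E ∧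
        ¬ Subgroup.normalizer (A : Set G) ≤ M) ∧
      ∀ X : Subgroup G, X ≤ A → Nat.card X = p →
        sigmaCore M ⊓ Subgroup.centralizer (X : Set G) ≠ ⊥ →
        (Subgroup.centralizer (X : Set G) ≤ M ∧
          ∀ L : Subgroup G, IsCoatom L → Subgroup.centralizer (X : Set G) ≤ L → L = M) := by
  have hp : p.Prime := Fact.out
  obtain ⟨hEM, hKM, hEK, hprod⟩ := hE
  obtain ⟨hAE, hAel, hAcard⟩ := hA
  obtain ⟨-, hb, hc, hd, he, -⟩ := h17
  have hAM : A ≤ M := hAE.trans hEM
  have hMK := Cfsg.Agent.Lib.Helper54.le_normalizer_sigmaCore M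
  have hApg : IsPGroup p A := Cfsg.Agent.Lib.Helper54.isPGroup_of_exponent hAel.2
  -- (1a)
  have h1a : ∀ e ∈ E, ∀ a ∈ A, e * a * e⁻¹ ∈ A := by
    intro e he' a ha
    have h1 : e * a * e⁻¹ ∈ sigmaCore M ⊔ A :=
      (Subgroup.mem_normalizer_iff.mp (hc (hEM he')) a).mp (Subgroup.mem_sup_right ha)
    have h1' : e * a * e⁻¹ ∈ ((sigmaCore M ⊔ A : Subgroup G) : Set G) := h1
    rw [Subgroup.coe_mul_of_right_le_normalizer_left (sigmaCore M) A (hAM.trans hMK)] at h1'
    obtain ⟨k, hk, a', ha', hka⟩ := h1'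
    have hka' : k * a' = e * a * e⁻¹ := hka
    have hkE : k ∈ E := by
      have : k = e * a * e⁻¹ * a'⁻¹ := by rw [← hka']; group
      rw [this]
      exact mul_mem (mul_mem (mul_mem he' (hAE ha)) (inv_mem he')) (inv_mem (hAE ha'))
    have hk1 : k = 1 := by
      have : k ∈ E ⊓ sigmaCore M := ⟨hkE, hk⟩
      rw [hEK] at this
      exact Subgroup.mem_bot.mp this
    rw [← hka', hk1, one_mul]
    exact ha'
  have hEN : E ≤ Subgroup.normalizer (A : Set G) := by
    intro e he'
    rw [Subgroup.mem_normalizer_iff]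
    intro h
    constructor
    · exact h1a e he' h
    · intro hh
      have h1 := h1a e⁻¹ (inv_mem he') _ hh
      have h2 : e⁻¹ * (e * h * e⁻¹) * e⁻¹⁻¹ = h := by group
      rwa [h2] at h1
  -- (1b)
  have h1b : ∀ X : Subgroup G, X ≤ E → Nat.card X = p → X ≤ A := by
    intro X hXE hXc
    have hXpg : IsPGroup p X := IsPGroup.of_card (n := 1) (by rw [hXc, pow_one])
    have hXA : IsPGroup p (X ⊔ A : Subgroup G) :=
      hXpg.to_sup_of_normal_right' hApg (hXE.trans hEN)
    obtain ⟨P, hP⟩ := Cfsg.Agent.Lib.Helper54.exists_sylow_map_ge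
      (sup_le (hXE.trans hEM) hAM) hXA
    have hAP : A ≤ (P : Subgroup M).map M.subtype := le_sup_right.trans hP
    obtain ⟨hΩ, -⟩ := (hb P).2 hAP
    intro x hx
    refine (hΩ x (hP (Subgroup.mem_sup_left hx))).mp ?_
    have h := pow_card_eq_one' (x := (⟨x, hx⟩ : X))
    rw [hXc] at h
    simpa using congrArg Subtype.val h
  -- (2b)
  have h2b : M ⊓ Subgroup.normalizer (A : Set G) = E := by
    apply le_antisymm
    · intro m hm
      obtain ⟨hmM, hmN⟩ := Subgroup.mem_inf.mp hm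
      obtain ⟨e, he', k, hk, rfl⟩ := hprod m hmM
      have hkN : k ∈ Subgroup.normalizer (A : Set G) := by
        have : k = e⁻¹ * (e * k) := by group
        rw [this]
        exact mul_mem (inv_mem (hEN he')) hmN
      have hkC : k ∈ Subgroup.centralizer (A : Set G) := by
        rw [Subgroup.mem_centralizer_iff]
        intro a ha
        have h1 : k * a * k⁻¹ ∈ A := (Subgroup.mem_normalizer_iff.mp hkN a).mp ha
        have h2 : k * a * k⁻¹ * a⁻¹ ∈ A := mul_mem h1 (inv_mem ha)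
        have h3 : k * a * k⁻¹ * a⁻¹ ∈ sigmaCore M := by
          have : k * a * k⁻¹ * a⁻¹ = k * (a * k⁻¹ * a⁻¹) := by group
          rw [this]
          exact mul_mem hk
            ((Subgroup.mem_normalizer_iff.mp (hMK (hAM ha)) k⁻¹).mp (inv_mem hk))
        have h4 : k * a * k⁻¹ * a⁻¹ = 1 := by
          have : k * a * k⁻¹ * a⁻¹ ∈ E ⊓ sigmaCore M := ⟨hAE h2, h3⟩
          rw [hEK] at this
          exact Subgroup.mem_bot.mp this
        calc a * k = (k * a * k⁻¹ * a⁻¹)⁻¹ * (k * a) := by group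
          _ = k * a := by rw [h4, inv_one, one_mul]
      have hk1 : k = 1 := by
        have : k ∈ sigmaCore M ⊓ Subgroup.centralizer (A : Set G) := ⟨hk, hkC⟩
        rw [hd] at this
        exact Subgroup.mem_bot.mp this
      rw [hk1, mul_one]
      exact he'
    · exact le_inf hEM hEN
  -- (2c)
  have h2c : ¬ Subgroup.normalizer (A : Set G) ≤ M := by
    obtain ⟨P, hAP⟩ := Cfsg.Agent.Lib.Helper54.exists_sylow_map_ge hAM hApg
    obtain ⟨hΩ, hN⟩ := (hb P).2 hAP
    intro hNA
    apply hN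
    refine le_trans ?_ hNA
    intro g hg
    rw [Subgroup.mem_normalizer_iff] at hg ⊢
    intro h
    constructor
    · intro hh
      have h1 : g * h * g⁻¹ ∈ (P : Subgroup M).map M.subtype := (hg h).mp (hAP hh)
      refine (hΩ _ h1).mp ?_
      rw [conj_pow, hAel.2 h hh]
      group
    · intro hh
      have h1 : h ∈ (P : Subgroup M).map M.subtype := (hg h).mpr (hAP hh)
      refine (hΩ _ h1).mp ?_
      have h2 := hAel.2 _ hh
      rw [conj_pow] at h2
      have : h ^ p = g⁻¹ * (g * h ^ p * g⁻¹) * g := by group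
      rw [this, h2]
      group
  -- (3)
  have h3 : ∀ X : Subgroup G, X ≤ A → Nat.card X = p →
      sigmaCore M ⊓ Subgroup.centralizer (X : Set G) ≠ ⊥ →
      (Subgroup.centralizer (X : Set G) ≤ M ∧
        ∀ L : Subgroup G, IsCoatom L → Subgroup.centralizer (X : Set G) ≤ L → L = M) := by
    intro X hXA hXc hne
    have hAC : A ≤ Subgroup.centralizer (X : Set G) := by
      intro a ha
      rw [Subgroup.mem_centralizer_iff]
      intro x hx
      exact Cfsg.Agent.Lib.Helper45.IsElementaryAbelian_comm hAel (hXA hx) ha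
    have huniq : ∀ L : Subgroup G, IsCoatom L → Subgroup.centralizer (X : Set G) ≤ L → L = M := by
      intro L hL hCL
      by_contra hLM
      apply hne
      rw [eq_bot_iff, ← he L hL hLM (hAC.trans hCL)]
      exact inf_le_inf_left _ hCL
    have hne_top : Subgroup.centralizer (X : Set G) ≠ ⊤ := by
      obtain ⟨x, hx, hx1⟩ : ∃ x ∈ X, x ≠ 1 := by
        by_contra h
        push Not at h
        have : X = ⊥ := (Subgroup.eq_bot_iff_forall X).mpr h
        rw [this, Subgroup.card_bot] at hXc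
        exact hp.one_lt.ne hXc
      intro htop
      apply Cfsg.Agent.Lib.Helper54.centralizer_singleton_ne_top hG.2.1 hG.2.2.1 hx1
      rw [eq_top_iff, ← htop]
      exact Subgroup.centralizer_le (Set.singleton_subset_iff.mpr hx)
    obtain ⟨L, hL, hCL⟩ := Cfsg.Agent.Lib.Helper54.exists_isCoatom_ge hne_top
    exact ⟨(huniq L hL hCL) ▸ hCL, huniq⟩
  exact ⟨⟨hEN, h1b⟩, ⟨le_inf hCA (Subgroup.centralizer_le_normalizer _), h2b, h2c⟩, h3⟩

end Cfsg.Agent.Lib.Helper21
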