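import Mathlib
import Cfsg.Agent.Lib.Helper54.Coprime

/-!
# A `p`-element acting on an elementary abelian group of order `p ^ 2` (transvection lemma)

If `t` is a `p`-element normalizing `A ≅ C_p × C_p`, fixing `z ∈ A` and moving the point `X₀ ≤ A`,
then every point of `A` other than `⟨z⟩` is a conjugate of `X₀` under a power of `t`.
-/

set_option autoImplicit false

namespace Cfsg.Agent.Lib.Helper21

open scoped Pointwise

variable {G : Type*} [Group G]

/-- A subgroup of prime order is generated by any of its non-identity elements. -/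
theorem eq_zpowers_of_card_prime [Finite G] {p : ℕ} [Fact p.Prime] {Y : Subgroup G}
    (hY : Nat.card Y = p) {y : G} (hy : y ∈ Y) (hy1 : y ≠ 1) : Y = Subgroup.zpowers y := by
  have hp : p.Prime := Fact.out
  symm
  apply Subgroup.eq_of_le_of_card_ge
  · rw [Subgroup.zpowers_le]; exact hy
  · rw [Nat.card_zpowers, hY]
    have h1 : orderOf y ∣ p := by
      have := orderOf_dvd_natCard (⟨y, hy⟩ : Y)
      rwa [Subgroup.orderOf_mk, hY] at this
    rcases (Nat.dvd_prime hp).mp h1 with h | h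
    · exact absurd (orderOf_eq_one_iff.mp h) hy1
    · exact h.ge

/-- Two distinct subgroups of order `p` of a group `A` of order `p ^ 2` satisfy `A = Y Z`. -/
theorem exists_mul_of_card_prime_ne [Finite G] {p : ℕ} [Fact p.Prime] {A Y Z : Subgroup G}
    (hAcard : Nat.card A = p ^ 2) (hYA : Y ≤ A) (hZA : Z ≤ A) (hY : Nat.card Y = p)
    (hZ : Nat.card Z = p) (hYZ : Y ≠ Z) {a : G} (ha : a ∈ A) :
    ∃ y ∈ Y, ∃ w ∈ Z, a = y * w := by
  have hp : p.Prime := Fact.out
  have hinf : Y ⊓ Z = ⊥ := by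
    have h1 : Nat.card (Y ⊓ Z : Subgroup G) ∣ p := hY ▸ Subgroup.card_dvd_of_le inf_le_left
    rcases (Nat.dvd_prime hp).mp h1 with h | h
    · exact Subgroup.card_eq_one.mp h
    · exfalso
      have h2 : (Y ⊓ Z : Subgroup G) = Y := Subgroup.eq_of_le_of_card_ge inf_le_left (by rw [h, hY])
      have h3 : Y ≤ Z := h2 ▸ inf_le_right
      exact hYZ (Subgroup.eq_of_le_of_card_ge h3 (by rw [hY, hZ]))
  let φ : Y × Z → A := fun yw => ⟨(yw.1 : G) * (yw.2 : G), mul_mem (hYA yw.1.2) (hZA yw.2.2)⟩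
  have hφ : Function.Injective φ := by
    rintro ⟨⟨y, hy⟩, ⟨w, hw⟩⟩ ⟨⟨y', hy'⟩, ⟨w', hw'⟩⟩ h
    have h1 : y * w = y' * w' := congrArg Subtype.val h
    have h2 : y'⁻¹ * y = w' * w⁻¹ := by
      calc y'⁻¹ * y = y'⁻¹ * (y * w) * w⁻¹ := by group
        _ = w' * w⁻¹ := by rw [h1]; group
    have h3 : y'⁻¹ * y ∈ Y ⊓ Z := by
      refine Subgroup.mem_inf.mpr ⟨Y.mul_mem (Y.inv_mem hy') hy, ?_⟩
      rw [h2]
      exact Z.mul_mem hw' (Z.inv_mem hw)
    rw [hinf, Subgroup.mem_bot] at h3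
    have h4 : y = y' := by
      calc y = y' * (y'⁻¹ * y) := by group
        _ = y' := by rw [h3, mul_one]
    have h5 : w = w' := by
      have : w' * w⁻¹ = 1 := by rw [← h2, h3]
      calc w = (w' * w⁻¹)⁻¹ * w' := by group
        _ = w' := by rw [this, inv_one, one_mul]
    subst h4; subst h5; rfl
  have hbij : Function.Bijective φ := by
    apply hφ.bijective_of_nat_card_le
    rw [Nat.card_prod, hY, hZ, hAcard, sq]
  obtain ⟨⟨⟨y, hy⟩, ⟨w, hw⟩⟩, h⟩ := hbij.2 ⟨a, ha⟩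
  exact ⟨y, hy, w, hw, (congrArg Subtype.val h).symm⟩

theorem conj_smul_zpowers (g x : G) :
    MulAut.conj g • Subgroup.zpowers x = Subgroup.zpowers (g * x * g⁻¹) := by
  apply le_antisymm
  · intro y hy
    rw [Cfsg.Agent.Lib.Helper54.mem_conj_smul_iff] at hy
    obtain ⟨k, hk⟩ := Subgroup.mem_zpowers_iff.mp hy
    refine Subgroup.mem_zpowers_iff.mpr ⟨k, ?_⟩
    rw [conj_zpow, hk]
    group
  · rw [Subgroup.zpowers_le, Cfsg.Agent.Lib.Helper54.mem_conj_smul_iff]
    have : g⁻¹ * (g * x * g⁻¹) * g = x := by group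
    rw [this]
    exact Subgroup.mem_zpowers x

/-- **Transvection lemma.** -/
theorem exists_pow_conj_eq_of_transvection [Finite G] {p : ℕ} [Fact p.Prime] {A X₀ : Subgroup G}
    {t z : G}
    (hAexp : ∀ a ∈ A, a ^ p = 1) (hAcard : Nat.card A = p ^ 2)
    (htA : t ∈ Subgroup.normalizer (A : Set G)) (htp : IsPGroup p (Subgroup.zpowers t))
    (hzA : z ∈ A) (hz1 : z ≠ 1) (htz : t * z = z * t)
    (hX₀A : X₀ ≤ A) (hX₀ : Nat.card X₀ = p) (htX₀ : MulAut.conj t • X₀ ≠ X₀)
    {Y : Subgroup G} (hYA : Y ≤ A) (hY : Nat.card Y = p) :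
    Y = Subgroup.zpowers z ∨ ∃ i : ℕ, Y = MulAut.conj (t ^ i) • X₀ := by
  classical
  have hp : p.Prime := Fact.out
  set Z := Subgroup.zpowers z with hZdef
  have hZA : Z ≤ A := by rw [hZdef, Subgroup.zpowers_le]; exact hzA
  have hZcard : Nat.card Z = p := by
    rw [hZdef, Nat.card_zpowers]
    exact orderOf_eq_prime (hAexp z hzA) hz1
  have hfixZ : ∀ h ∈ Subgroup.zpowers t, MulAut.conj h • Z = Z := by
    intro h hh
    rw [hZdef, conj_smul_zpowers]
    obtain ⟨k, rfl⟩ := Subgroup.mem_zpowers_iff.mp hh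
    have hc : Commute (t ^ k) z := Commute.zpow_left htz k
    rw [hc.eq]
    congr 1
    group
  have hnormA : ∀ h ∈ Subgroup.zpowers t, MulAut.conj h • A = A := by
    intro h hh
    apply Cfsg.Agent.Lib.Helper54.mem_normalizer_iff_conj_smul.mp
    exact (Subgroup.zpowers_le.mpr htA) hh
  have hX₀Z : X₀ ≠ Z := by
    intro h
    apply htX₀
    rw [h]
    exact hfixZ t (Subgroup.mem_zpowers t)
  obtain ⟨x₀, hx₀, hx₀1⟩ : ∃ x ∈ X₀, x ≠ 1 := by
    by_contra h
    push Not at h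
    have : X₀ = ⊥ := (Subgroup.eq_bot_iff_forall X₀).mpr h
    rw [this, Subgroup.card_bot] at hX₀
    exact hp.one_lt.ne hX₀
  have hx₀Z : x₀ ∉ Z := by
    intro h
    apply hX₀Z
    rw [eq_zpowers_of_card_prime hX₀ hx₀ hx₀1, eq_zpowers_of_card_prime hZcard h hx₀1]
  let H := Subgroup.zpowers t
  let φ : H →* MulAut G := (MulAut.conj).comp H.subtype
  letI : MulAction H (Subgroup G) := MulAction.compHom (Subgroup G) φ
  have hsmul : ∀ (h : H) (X : Subgroup G), h • X = MulAut.conj (h : G) • X := fun _ _ => rfl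
  let Ω' : Set (Subgroup G) := {Y | Y ≤ A ∧ Nat.card Y = p ∧ Y ≠ Z}
  have horb : MulAction.orbit H X₀ ⊆ Ω' := by
    rintro _ ⟨h, rfl⟩
    refine ⟨?_, ?_, ?_⟩
    · show h • X₀ ≤ A
      rw [hsmul, ← hnormA h h.2]
      exact Cfsg.Agent.Lib.Helper54.conj_smul_le_conj_smul hX₀A
    · show Nat.card (h • X₀ : Subgroup G) = p
      rw [hsmul, Cfsg.Agent.Lib.Helper54.card_conj_smul, hX₀]
    · show h • X₀ ≠ Z
      intro hc
      apply hX₀Z
      have h1 : MulAut.conj ((h : G)⁻¹) • (MulAut.conj (h : G) • X₀) = X₀ := by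
        rw [← mul_smul, ← map_mul, inv_mul_cancel, map_one, one_smul]
      rw [← h1, ← hsmul, hc]
      exact hfixZ _ (inv_mem h.2)
  have hΩ'card : Ω'.ncard ≤ p := by
    let f : G → Subgroup G := fun w => Subgroup.zpowers (x₀ * w)
    have hsub : Ω' ⊆ f '' (Z : Set G) := by
      rintro Y ⟨hYA, hY, hYZ⟩
      obtain ⟨y, hy, w, hw, hxyw⟩ :=
        exists_mul_of_card_prime_ne hAcard hYA hZA hY hZcard hYZ (hX₀A hx₀)
      refine ⟨w⁻¹, inv_mem hw, ?_⟩
      have hy' : y = x₀ * w⁻¹ := by rw [hxyw]; group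
      have hy1 : y ≠ 1 := by
        intro h1
        apply hx₀Z
        rw [hxyw, h1, one_mul]
        exact hw
      show Subgroup.zpowers (x₀ * w⁻¹) = Y
      rw [← hy']
      exact (eq_zpowers_of_card_prime hY hy hy1).symm
    calc Ω'.ncard ≤ (f '' (Z : Set G)).ncard := Set.ncard_le_ncard hsub (Set.toFinite _)
      _ ≤ (Z : Set G).ncard := Set.ncard_image_le (Set.toFinite _)
      _ = p := by rw [← hZcard]; rfl
  obtain ⟨n, hn⟩ := htp.card_orbit (X₀ : Subgroup G)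
  have hn0 : n ≠ 0 := by
    rintro rfl
    rw [pow_zero] at hn
    have h1 : (⟨X₀, MulAction.mem_orbit_self X₀⟩ : MulAction.orbit H X₀) =
        ⟨(⟨t, Subgroup.mem_zpowers t⟩ : H) • X₀, MulAction.mem_orbit _ _⟩ := by
      have := (Nat.card_eq_one_iff_unique.mp hn).1
      exact Subsingleton.elim _ _
    apply htX₀
    have := congrArg Subtype.val h1
    exact this.symm
  have hcard : p ≤ (MulAction.orbit H X₀).ncard := by
    have h1 : (MulAction.orbit H X₀).ncard = p ^ n := by rw [← hn]; rfl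
    rw [h1]
    calc p = p ^ 1 := (pow_one p).symm
      _ ≤ p ^ n := Nat.pow_le_pow_right hp.pos (Nat.one_le_iff_ne_zero.mpr hn0)
  have heq : MulAction.orbit H X₀ = Ω' :=
    Set.eq_of_subset_of_ncard_le horb (hΩ'card.trans hcard) (Set.toFinite _)
  by_cases hYZ : Y = Z
  · left; exact hYZ
  · right
    have hYΩ : Y ∈ Ω' := ⟨hYA, hY, hYZ⟩
    rw [← heq] at hYΩ
    obtain ⟨h, hh⟩ := hYΩ
    obtain ⟨i, hi⟩ := (isOfFinOrder_of_finite t).mem_powers_iff_mem_zpowers.mpr h.2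
    refine ⟨i, ?_⟩
    have hi' : t ^ i = (h : G) := hi
    rw [hi']
    exact hh.symm

end Cfsg.Agent.Lib.Helper21
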