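import Cfsg.Agent.Lib.Helper21.BGTwelveF
import Cfsg.Agent.Lib.Helper21.BGTwelveG

/-!
# Bender–Glauberman Theorem 12.7 (statement S1419), part 1: the Sylow setup and the points of `A`
-/

set_option autoImplicit false

namespace Cfsg.Agent.Lib.Helper21

open scoped Pointwise
open Cfsg

variable {G : Type*} [Group G]

/-- The Sylow setup of B&G 12.7: a Sylow `p`-subgroup `S ≥ A` of `G`, an element `t ∈ N_S(A)`
not centralizing `A`, and a central element `z ∈ A` of `S` of order `p`. -/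
theorem exists_sylow_transvection [Finite G] (p : ℕ) [Fact p.Prime] (M A : Subgroup G)
    (hAM : A ≤ M) (hApg : IsPGroup p A) (hAne : A ≠ ⊥)
    (hΩ : ∀ x ∈ Subgroup.centralizer (A : Set G), x ^ p = 1 → x ∈ A)
    (hAexp : ∀ a ∈ A, a ^ p = 1)
    (hCA : Subgroup.centralizer (A : Set G) ≤ M)
    (hab : ∀ P : Sylow p M, IsMulCommutative (P : Subgroup M))
    (hS : ∀ S : Sylow p G, ¬ IsMulCommutative (S : Subgroup G)) :
    ∃ (S : Sylow p G) (t z : G), A ≤ (S : Subgroup G) ∧
      (∀ x ∈ (S : Subgroup G) ⊓ M, ∀ y ∈ (S : Subgroup G) ⊓ M, x * y = y * x) ∧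
      t ∈ (S : Subgroup G) ∧ t ∈ Subgroup.normalizer (A : Set G) ∧
      t ∉ Subgroup.centralizer (A : Set G) ∧ z ∈ A ∧ z ≠ 1 ∧
      ∀ s ∈ (S : Subgroup G), s * z = z * s := by
  have hp : p.Prime := Fact.out
  obtain ⟨S, hAS⟩ := hApg.exists_le_sylow
  -- `S ∩ M` is abelian
  have hcomm : ∀ x ∈ (S : Subgroup G) ⊓ M, ∀ y ∈ (S : Subgroup G) ⊓ M, x * y = y * x := by
    have hV₁pg : IsPGroup p ((S : Subgroup G) ⊓ M : Subgroup G) := S.isPGroup'.to_le inf_le_left
    obtain ⟨P', hP'⟩ := Cfsg.Agent.Lib.Helper54.exists_sylow_map_ge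
      (inf_le_right : (S : Subgroup G) ⊓ M ≤ M) hV₁pg
    intro x hx y hy
    obtain ⟨x₁, hx₁, rfl⟩ := hP' hx
    obtain ⟨y₁, hy₁, rfl⟩ := hP' hy
    have := congrArg Subtype.val ((hab P').is_comm.comm ⟨x₁, hx₁⟩ ⟨y₁, hy₁⟩)
    have h2 := congrArg (M.subtype) this
    simpa using h2
  have hASM : A ≤ (S : Subgroup G) ⊓ M := le_inf hAS hAM
  have hSMC : (S : Subgroup G) ⊓ M ≤ Subgroup.centralizer (A : Set G) := by
    intro x hx
    rw [Subgroup.mem_centralizer_iff]
    intro a ha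
    exact hcomm a (hASM ha) x hx
  set V : Subgroup G := (S : Subgroup G) ⊓ Subgroup.centralizer (A : Set G) with hV
  have hVSM : V ≤ (S : Subgroup G) ⊓ M := inf_le_inf_left _ hCA
  have hV_ne : V ≠ (S : Subgroup G) := by
    intro h
    apply hS S
    have hSle : (S : Subgroup G) ≤ (S : Subgroup G) ⊓ M := h ▸ hVSM
    refine ⟨⟨fun a b => ?_⟩⟩
    apply Subtype.ext
    exact hcomm a (hSle a.2) b (hSle b.2)
  have hnot : ¬ ((S : Subgroup G) ⊓ Subgroup.normalizer (V : Set G) ≤ V) := fun h =>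
    hV_ne (Cfsg.Agent.Lib.Helper54.eq_of_inf_normalizer_le (S : Subgroup G) V S.isPGroup'
      inf_le_left h)
  obtain ⟨t, ht, htV⟩ := SetLike.not_le_iff_exists.mp hnot
  obtain ⟨htS, htN⟩ := Subgroup.mem_inf.mp ht
  have htC : t ∉ Subgroup.centralizer (A : Set G) := fun h => htV (Subgroup.mem_inf.mpr ⟨htS, h⟩)
  have hAV : ∀ x, x ∈ A ↔ (x ∈ V ∧ x ^ p = 1) := by
    intro x
    constructor
    · intro hx
      exact ⟨Subgroup.mem_inf.mpr ⟨hAS hx, hSMC (hASM hx)⟩, hAexp x hx⟩
    · rintro ⟨hxV, hxp⟩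
      exact hΩ x (Subgroup.mem_inf.mp hxV).2 hxp
  have htNA : t ∈ Subgroup.normalizer (A : Set G) := by
    rw [Subgroup.mem_normalizer_iff]
    intro a
    rw [hAV a, hAV (t * a * t⁻¹), conj_pow, ← (Subgroup.mem_normalizer_iff.mp htN a)]
    constructor
    · rintro ⟨h1, h2⟩
      refine ⟨h1, ?_⟩
      rw [h2]; group
    · rintro ⟨h1, h2⟩
      refine ⟨h1, ?_⟩
      have : a ^ p = t⁻¹ * (t * a ^ p * t⁻¹) * t := by group
      rw [this, h2]; group
  -- the central element
  have hSnt : Nontrivial (S : Subgroup G) := by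
    rw [Subgroup.nontrivial_iff_ne_bot]
    intro h
    apply hAne
    rw [eq_bot_iff, ← h]
    exact hAS
  have hcnt : Nontrivial (Subgroup.center (S : Subgroup G)) := S.isPGroup'.center_nontrivial
  have hpc : p ∣ Nat.card (Subgroup.center (S : Subgroup G)) := by
    have hcpg : IsPGroup p (Subgroup.center (S : Subgroup G)) := S.isPGroup'.to_subgroup _
    obtain ⟨n, hn⟩ := IsPGroup.iff_card.mp hcpg
    rw [hn]
    apply dvd_pow_self
    rintro rfl
    rw [pow_zero] at hn
    have := Finite.one_lt_card_iff_nontrivial.mpr hcnt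
    omega
  obtain ⟨x, hx⟩ := exists_prime_orderOf_dvd_card' p hpc
  refine ⟨S, t, ((x : (S : Subgroup G)) : G), hAS, hcomm, htS, htNA, htC, ?_, ?_, ?_⟩
  · apply hΩ
    · rw [Subgroup.mem_centralizer_iff]
      intro a ha
      have := Subgroup.mem_center_iff.mp x.2 ⟨a, hAS ha⟩
      exact congrArg Subtype.val this
    · have h1 : x ^ p = 1 := by
        have := pow_orderOf_eq_one x
        rwa [hx] at this
      have h2 := congrArg (fun y : Subgroup.center (S : Subgroup G) => ((y : (S : Subgroup G)) : G)) h1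
      simpa using h2
  · intro h1
    have h2 : x = 1 := by
      apply Subtype.ext
      apply Subtype.ext
      simpa using h1
    rw [h2, orderOf_one] at hx
    exact hp.one_lt.ne hx
  · intro s hs
    have := Subgroup.mem_center_iff.mp x.2 ⟨s, hs⟩
    exact congrArg Subtype.val this

open Cfsg.Agent.Lib.Helper34 (UniquenessThm)
open Cfsg.Agent.Lib.Helper54 (IsExceptional)

/-- **B&G 12.7, the points of `A`**: the good point `A₀'` is `C_A(M_σ)`, every other point `X` of
`A` acts regularly on `M_σ` and `C_G(X) ⊄ M`. -/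
theorem s1419_points [Finite G] (hG : IsMinSimpleOddOrder G) (hU : UniquenessThm G)
    (p : ℕ) [Fact p.Prime] (hPL : ∀ H : Subgroup G, H ≠ ⊤ → PLengthLE p 1 H)
    (M A₀' A : Subgroup G) (hexc : IsExceptional M p A₀' A)
    (hKne : sigmaCore M ≠ ⊥)
    (hd : sigmaCore M ⊓ Subgroup.centralizer (A : Set G) = ⊥)
    (hab : ∀ P : Sylow p M, IsMulCommutative (P : Subgroup M))
    (h3 : ∀ X : Subgroup G, X ≤ A → Nat.card X = p →
      sigmaCore M ⊓ Subgroup.centralizer (X : Set G) ≠ ⊥ → Subgroup.centralizer (X : Set G) ≤ M)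
    (hS : ∀ S : Sylow p G, ¬ IsMulCommutative (S : Subgroup G)) :
    A ⊓ Subgroup.centralizer (sigmaCore M : Set G) = A₀' ∧
      ∀ X : Subgroup G, X ≤ A → Nat.card X = p → X ≠ A₀' →
        sigmaCore M ⊓ Subgroup.centralizer (X : Set G) = ⊥ ∧
          ¬ Subgroup.centralizer (X : Set G) ≤ M := by
  have hp : p.Prime := Fact.out
  have hΩ : ∀ x ∈ Subgroup.centralizer (A : Set G), x ^ p = 1 → x ∈ A := fun x hx hxp =>
    hexc.mem_of_pow_eq_one hG hU hx hxp
  obtain ⟨S, t, z, hAS, hcomm, htS, htNA, htC, hzA, hz1, hzS⟩ :=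
    exists_sylow_transvection p M A hexc.le hexc.isPGroup hexc.ne_bot hΩ hexc.elemAb.2
      hexc.centralizer_le hab hS
  have hASM : A ≤ (S : Subgroup G) ⊓ M := le_inf hAS hexc.le
  have hSMC : (S : Subgroup G) ⊓ M ≤ Subgroup.centralizer (A : Set G) := by
    intro x hx
    rw [Subgroup.mem_centralizer_iff]
    intro a ha
    exact hcomm a (hASM ha) x hx
  have htM : t ∉ M := fun h => htC (hSMC (Subgroup.mem_inf.mpr ⟨htS, h⟩))
  have htX₀ : MulAut.conj t • A₀' ≠ A₀' := by
    intro h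
    exact htM (hexc.norm (Cfsg.Agent.Lib.Helper54.mem_normalizer_iff_conj_smul.mpr h))
  have htp : IsPGroup p (Subgroup.zpowers t) :=
    S.isPGroup'.to_le (Subgroup.zpowers_le.mpr htS)
  have htz : t * z = z * t := hzS t htS
  have hZA : Subgroup.zpowers z ≤ A := Subgroup.zpowers_le.mpr hzA
  have hZcard : Nat.card (Subgroup.zpowers z) = p := by
    rw [Nat.card_zpowers]
    exact orderOf_eq_prime (hexc.elemAb.2 z hzA) hz1
  have htCZ : t ∈ Subgroup.centralizer ((Subgroup.zpowers z : Subgroup G) : Set G) := by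
    rw [Subgroup.mem_centralizer_iff]
    intro w hw
    obtain ⟨k, rfl⟩ := Subgroup.mem_zpowers_iff.mp hw
    have hc : Commute t z := htz
    exact (hc.zpow_right k).eq.symm
  have hpK : ¬ p ∣ Nat.card (sigmaCore M) := fun h =>
    hexc.not_sigma (Cfsg.Agent.Lib.Helper54.sigmaCore_isPi M p hp h)
  -- the structure of the points
  have hreg : ∀ Y : Subgroup G, Y ≤ A → Nat.card Y = p → Y ≠ A₀' →
      sigmaCore M ⊓ Subgroup.centralizer (Y : Set G) = ⊥ ∧
        (Y = Subgroup.zpowers z ∨ ∃ g : G, g ∉ M ∧ g ∈ Subgroup.normalizer (A : Set G) ∧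
          Y = MulAut.conj g • A₀') := by
    intro Y hYA hY hYne
    rcases exists_pow_conj_eq_of_transvection hexc.elemAb.2 hexc.card htNA htp hzA hz1 htz
      hexc.le₀ hexc.card₀ htX₀ hYA hY with rfl | ⟨i, rfl⟩
    · refine ⟨?_, Or.inl rfl⟩
      by_contra hne
      exact htM (h3 _ hZA hZcard hne htCZ)
    · have hgS : t ^ i ∈ (S : Subgroup G) := pow_mem htS i
      have hgNA : t ^ i ∈ Subgroup.normalizer (A : Set G) := pow_mem htNA i
      have hgM : t ^ i ∉ M := by
        intro hgM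
        apply hYne
        have h1 : t ^ i ∈ Subgroup.centralizer (A : Set G) :=
          hSMC (Subgroup.mem_inf.mpr ⟨hgS, hgM⟩)
        have h2 : t ^ i ∈ Subgroup.normalizer (A₀' : Set G) :=
          Subgroup.centralizer_le_normalizer _ (Subgroup.centralizer_le hexc.le₀ h1)
        exact Cfsg.Agent.Lib.Helper54.mem_normalizer_iff_conj_smul.mp h2
      have hAg : A ≤ MulAut.conj (t ^ i) • M := by
        rw [← Cfsg.Agent.Lib.Helper54.mem_normalizer_iff_conj_smul.mp hgNA]
        exact Cfsg.Agent.Lib.Helper54.conj_smul_le_conj_smul hexc.le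
      exact ⟨Cfsg.Agent.Lib.Helper54.exceptional_sigmaCore_inf_centralizer hG hU p hPL M A₀' A hexc
        (t ^ i) hgM hAg, Or.inr ⟨t ^ i, hgM, hgNA, rfl⟩⟩
  -- generation
  have hgen : sigmaCore M ≤ Subgroup.centralizer (A₀' : Set G) := by
    by_contra hnc
    obtain ⟨B, hBA, hBcard, hBD⟩ := Cfsg.Agent.Lib.Helper54.exists_hyperplane_centralizer A
      (sigmaCore M) (Subgroup.centralizer (A₀' : Set G)) hexc.comm hexc.elemAb.2 hpK
      (hexc.le.trans (Cfsg.Agent.Lib.Helper54.le_normalizer_sigmaCore M)) hnc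
    have hBdvd : Nat.card B ∣ p ^ 2 := hexc.card ▸ Subgroup.card_dvd_of_le hBA
    obtain ⟨k, hk2, hk⟩ := (Nat.dvd_prime_pow hp).mp hBdvd
    rw [hexc.card, hk] at hBcard
    have hp2 : 2 ≤ p := hp.two_le
    interval_cases k
    · exfalso
      rw [pow_zero, mul_one, sq] at hBcard
      nlinarith
    · rw [pow_one] at hk
      apply hBD
      by_cases hB : B = A₀'
      · rw [hB]; exact inf_le_right
      · rw [(hreg B hBA hk hB).1]; exact bot_le
    · have hBA' : B = A := Subgroup.eq_of_le_of_card_ge hBA (by rw [hk, hexc.card])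
      apply hBD
      rw [hBA', hd]
      exact bot_le
  have hA₀ : A ⊓ Subgroup.centralizer (sigmaCore M : Set G) = A₀' := by
    apply le_antisymm
    · intro a ha
      obtain ⟨haA, haC⟩ := Subgroup.mem_inf.mp ha
      by_cases ha1 : a = 1
      · rw [ha1]; exact one_mem _
      by_contra haA₀
      have hYA : Subgroup.zpowers a ≤ A := Subgroup.zpowers_le.mpr haA
      have hYcard : Nat.card (Subgroup.zpowers a) = p := by
        rw [Nat.card_zpowers]
        exact orderOf_eq_prime (hexc.elemAb.2 a haA) ha1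
      have hYne : Subgroup.zpowers a ≠ A₀' := by
        intro h
        apply haA₀
        rw [← h]
        exact Subgroup.mem_zpowers a
      have h1 := (hreg _ hYA hYcard hYne).1
      apply hKne
      rw [eq_bot_iff, ← h1]
      refine le_inf le_rfl ?_
      intro k hk
      rw [Subgroup.mem_centralizer_iff]
      intro w hw
      obtain ⟨j, rfl⟩ := Subgroup.mem_zpowers_iff.mp hw
      have hc : Commute k a := Subgroup.mem_centralizer_iff.mp haC k hk
      exact (hc.zpow_right j).eq.symm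
    · intro a ha
      refine Subgroup.mem_inf.mpr ⟨hexc.le₀ ha, ?_⟩
      rw [Subgroup.mem_centralizer_iff]
      intro k hk
      exact (Subgroup.mem_centralizer_iff.mp (hgen hk) a ha).symm
  refine ⟨hA₀, ?_⟩
  intro X hXA hX hXne
  obtain ⟨h1, h2⟩ := hreg X hXA hX hXne
  refine ⟨h1, ?_⟩
  rcases h2 with rfl | ⟨g, hgM, hgNA, rfl⟩
  · intro hle
    exact htM (hle htCZ)
  · intro hle
    apply hKne
    rw [eq_bot_iff]
    intro k hk
    have hg'M : g⁻¹ ∉ M := fun h => hgM (by simpa using M.inv_mem h)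
    have hg'NA : g⁻¹ ∈ Subgroup.normalizer (A : Set G) := inv_mem hgNA
    have hAg' : A ≤ MulAut.conj g⁻¹ • M := by
      rw [← Cfsg.Agent.Lib.Helper54.mem_normalizer_iff_conj_smul.mp hg'NA]
      exact Cfsg.Agent.Lib.Helper54.conj_smul_le_conj_smul hexc.le
    have hTI := Cfsg.Agent.Lib.Helper54.exceptional_sigmaCore_inf_conj hG hU p hPL M A₀' A hexc
      g⁻¹ hg'M hAg'
    rw [← hTI]
    refine Subgroup.mem_inf.mpr ⟨hk, ?_⟩
    rw [Cfsg.Agent.Lib.Helper54.mem_conj_smul_iff, inv_inv]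
    apply hle
    rw [Subgroup.mem_centralizer_iff]
    intro y hy
    have hy' : g⁻¹ * y * g ∈ A₀' := Cfsg.Agent.Lib.Helper54.mem_conj_smul_iff.mp hy
    have hc : (g⁻¹ * y * g) * k = k * (g⁻¹ * y * g) :=
      Subgroup.mem_centralizer_iff.mp (hgen hk) _ hy'
    calc y * (g * k * g⁻¹) = g * ((g⁻¹ * y * g) * k) * g⁻¹ := by group
      _ = g * (k * (g⁻¹ * y * g)) * g⁻¹ := by rw [hc]
      _ = g * k * g⁻¹ * y := by group

end Cfsg.Agent.Lib.Helper21
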