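import Cfsg.Agent.Lib.Helper21.BGTwelveH
import Cfsg.Agent.Lib.Helper46.BGElevenE
import Cfsg.Agent.Lib.Helper34.FittingSigma

/-!
# Bender–Glauberman Theorem 12.7 (statement S1419), part 2: `F(M) = M_σ × A₀`
-/

set_option autoImplicit false

namespace Cfsg.Agent.Lib.Helper21

open scoped Pointwise
open Cfsg

variable {G : Type*} [Group G]

/-- In a nonabelian Sylow `p`-subgroup `S` (with the structure given by S1412 / S1453) containing a
maximal elementary abelian subgroup `A` of order `p ^ 2`: a `p`-th power `y ^ p` of order at most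
`p`, with `y ∈ C_S(A)`, is central in `S`. -/
theorem pow_p_central [Finite G] (p : ℕ) [hpF : Fact p.Prime] (hp2 : p ≠ 2)
    (h1412 : ∀ S : Sylow p G, PRankLE p 2 (S : Subgroup G) →
      IsMulCommutative (S : Subgroup G) ∨ ∃ P₁ P₂ : Subgroup G, P₁ ⊔ P₂ = (S : Subgroup G) ∧
        (∀ a ∈ P₁, ∀ b ∈ P₂, a * b = b * a) ∧ ¬ IsMulCommutative P₁ ∧ Nat.card P₁ = p ^ 3 ∧
        Monoid.exponent P₁ = p ∧ IsCyclic P₂ ∧
        Subgroup.closure {x : G | x ∈ P₂ ∧ x ^ p = 1} = P₁ ⊓ Subgroup.centralizer (P₁ : Set G))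
    (S : Sylow p G) (hSna : ¬ IsMulCommutative (S : Subgroup G))
    (A : Subgroup G) (hAS : A ≤ (S : Subgroup G)) (hAe : IsElementaryAbelian p A)
    (hA2 : Nat.card A = p ^ 2)
    (hΩ : ∀ x ∈ Subgroup.centralizer (A : Set G), x ^ p = 1 → x ∈ A)
    {y : G} (hyS : y ∈ (S : Subgroup G)) (hyC : y ∈ Subgroup.centralizer (A : Set G))
    (hy : (y ^ p) ^ p = 1) : ∀ s ∈ (S : Subgroup G), s * y ^ p = y ^ p * s := by
  have hpp : p.Prime := hpF.out
  by_cases hr : PRankLE p 2 (S : Subgroup G)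
  · rcases h1412 S hr with hab | ⟨P₁, P₂, hS, hcomm, -, -, hexp, hP₂, -⟩
    · exact absurd hab hSna
    · have hdec := Cfsg.Agent.Lib.Helper46.BGEleven.exists_mul_of_mem_sup_of_commute P₁ P₂ hcomm
      rw [hS] at hdec
      have hP₂comm : ∀ a ∈ P₂, ∀ b ∈ P₂, a * b = b * a := by
        intro a ha b hb
        have := hP₂
        exact congrArg Subtype.val
          ((IsCyclic.isMulCommutative (α := P₂)).is_comm.comm (⟨a, ha⟩ : P₂) ⟨b, hb⟩)
      obtain ⟨y₁, hy₁, y₂, hy₂, rfl⟩ := hdec y hyS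
      have hy₁p : y₁ ^ p = 1 := by
        have h1 : (⟨y₁, hy₁⟩ : P₁) ^ Monoid.exponent P₁ = 1 := Monoid.pow_exponent_eq_one _
        rw [hexp] at h1
        simpa using congrArg Subtype.val h1
      have hc : Commute y₁ y₂ := hcomm y₁ hy₁ y₂ hy₂
      rw [hc.mul_pow, hy₁p, one_mul]
      intro s hs
      obtain ⟨s₁, hs₁, s₂, hs₂, rfl⟩ := hdec s hs
      have hy₂p : y₂ ^ p ∈ P₂ := pow_mem hy₂ p
      have h1 := hcomm s₁ hs₁ (y₂ ^ p) hy₂p
      have h2 := hP₂comm s₂ hs₂ (y₂ ^ p) hy₂p
      calc s₁ * s₂ * y₂ ^ p = s₁ * (s₂ * y₂ ^ p) := by group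
        _ = s₁ * (y₂ ^ p * s₂) := by rw [h2]
        _ = (s₁ * y₂ ^ p) * s₂ := by group
        _ = (y₂ ^ p * s₁) * s₂ := by rw [h1]
        _ = y₂ ^ p * (s₁ * s₂) := by group
  · -- rank at least 3: work inside the group `↥S`
    set E : Subgroup (S : Subgroup G) := A.subgroupOf (S : Subgroup G) with hE
    have hEe : IsElementaryAbelian p E := by
      refine ⟨⟨⟨?_⟩⟩, ?_⟩
      · rintro ⟨a, ha⟩ ⟨b, hb⟩
        rw [hE, Subgroup.mem_subgroupOf] at ha hb
        apply Subtype.ext
        apply Subtype.ext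
        have := congrArg Subtype.val (hAe.1.is_comm.comm ⟨_, ha⟩ ⟨_, hb⟩)
        simpa using this
      · intro a ha
        rw [hE, Subgroup.mem_subgroupOf] at ha
        apply Subtype.ext
        simpa using hAe.2 _ ha
    have hE2 : Nat.card E = p ^ 2 := by
      rw [hE, Nat.card_congr (Subgroup.subgroupOfEquivOfLe hAS).toEquiv, hA2]
    -- elements of order dividing `p` of `C_S(E)` lie in `E`
    have hΩ' : ∀ x : (S : Subgroup G), x ∈ Subgroup.centralizer (E : Set (S : Subgroup G)) →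
        x ^ p = 1 → x ∈ E := by
      intro x hx hxp
      rw [hE, Subgroup.mem_subgroupOf]
      apply hΩ
      · rw [Subgroup.mem_centralizer_iff]
        intro a ha
        have h1 := Subgroup.mem_centralizer_iff.mp hx ⟨a, hAS ha⟩
          (by rw [SetLike.mem_coe, hE, Subgroup.mem_subgroupOf]; exact ha)
        exact congrArg Subtype.val h1
      · have := congrArg Subtype.val hxp
        simpa using this
    have hEmax : ∀ B : Subgroup (S : Subgroup G), IsElementaryAbelian p B → E ≤ B → B = E := by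
      intro B hB hEB
      apply le_antisymm _ hEB
      intro b hb
      apply hΩ' b _ (hB.2 b hb)
      rw [Subgroup.mem_centralizer_iff]
      intro e he
      exact congrArg Subtype.val (hB.1.is_comm.comm ⟨e, hEB he⟩ ⟨b, hb⟩)
    obtain ⟨hET, hZ₀, -, hTchar, hTidx⟩ :=
      Cfsg.Agent.S1453.result p hp2 S.isPGroup' hr E hEe hE2 hEmax
    set T : Subgroup (S : Subgroup G) := Subgroup.centralizer ((Subgroup.closure
      {x : (S : Subgroup G) | x ∈ Subgroup.upperCentralSeries (S : Subgroup G) 2 ∧ x ^ p = 1} :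
        Subgroup (S : Subgroup G)) : Set (S : Subgroup G)) with hT
    set Z₀ : Subgroup (S : Subgroup G) := Subgroup.closure
      {x : (S : Subgroup G) | x ∈ Subgroup.center (S : Subgroup G) ∧ x ^ p = 1} with hZ₀def
    have hTn : T.Normal := by
      have := hTchar
      exact inferInstance
    have hZ₀cen : Z₀ ≤ Subgroup.center (S : Subgroup G) := by
      rw [hZ₀def, Subgroup.closure_le]
      rintro x ⟨hx, -⟩
      exact hx
    have hZ₀E : Z₀ ≤ E := by
      rw [hZ₀def, Subgroup.closure_le]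
      rintro x ⟨hx, hxp⟩
      apply hΩ' x _ hxp
      exact Subgroup.center_le_centralizer _ hx
    have hZ₀T : Z₀ ≤ T := hZ₀cen.trans (Subgroup.center_le_centralizer _)
    have hETZ : E ⊓ T = Z₀ := by
      symm
      apply Subgroup.eq_of_le_of_card_ge (le_inf hZ₀E hZ₀T)
      rw [hZ₀]
      have h1 : Nat.card (E ⊓ T : Subgroup (S : Subgroup G)) ∣ p ^ 2 :=
        hE2 ▸ Subgroup.card_dvd_of_le inf_le_left
      obtain ⟨k, hk2, hk⟩ := (Nat.dvd_prime_pow hpp).mp h1
      rw [hk]
      have hk1 : k ≠ 2 := by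
        rintro rfl
        apply hET
        have : (E ⊓ T : Subgroup (S : Subgroup G)) = E :=
          Subgroup.eq_of_le_of_card_ge inf_le_left (by rw [hk, hE2])
        exact this ▸ inf_le_right
      have hk1' : k ≤ 1 := by omega
      calc p ^ k ≤ p ^ 1 := Nat.pow_le_pow_right hpp.pos hk1'
        _ = p := pow_one p
    -- the element
    set ŷ : (S : Subgroup G) := ⟨y, hyS⟩ with hŷ
    have hŷC : ŷ ∈ Subgroup.centralizer (E : Set (S : Subgroup G)) := by
      rw [Subgroup.mem_centralizer_iff]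
      rintro ⟨e, heS⟩ he
      have heA : e ∈ A := by
        have := he
        rw [SetLike.mem_coe, hE, Subgroup.mem_subgroupOf] at this
        exact this
      apply Subtype.ext
      exact (Subgroup.mem_centralizer_iff.mp hyC) e heA
    have hûp : (ŷ ^ p) ^ p = 1 := by
      apply Subtype.ext
      simpa using hy
    have hûE : ŷ ^ p ∈ E := hΩ' _ (pow_mem hŷC p) hûp
    have hûT : ŷ ^ p ∈ T := by
      have := Subgroup.pow_index_mem T ŷ
      rwa [hTidx] at this
    have hûZ : ŷ ^ p ∈ Subgroup.center (S : Subgroup G) := by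
      apply hZ₀cen
      rw [← hETZ]
      exact Subgroup.mem_inf.mpr ⟨hûE, hûT⟩
    intro s hs
    have := Subgroup.mem_center_iff.mp hûZ ⟨s, hs⟩
    have h2 := congrArg Subtype.val this
    simpa using h2

/-- The Sylow setup of B&G 12.7 (with a prescribed `p`-subgroup `P₁ ≥ A` inside `S`): a Sylow `p`-subgroup `S ≥ A` of `G`, an element `t ∈ N_S(A)`
not centralizing `A`, and a central element `z ∈ A` of `S` of order `p`. -/
theorem exists_sylow_transvection' [Finite G] (p : ℕ) [Fact p.Prime] (M A P₁ : Subgroup G)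
    (hAM : A ≤ M) (hAP₁ : A ≤ P₁) (hP₁ : IsPGroup p P₁) (hAne : A ≠ ⊥)
    (hΩ : ∀ x ∈ Subgroup.centralizer (A : Set G), x ^ p = 1 → x ∈ A)
    (hAexp : ∀ a ∈ A, a ^ p = 1)
    (hCA : Subgroup.centralizer (A : Set G) ≤ M)
    (hab : ∀ P : Sylow p M, IsMulCommutative (P : Subgroup M))
    (hS : ∀ S : Sylow p G, ¬ IsMulCommutative (S : Subgroup G)) :
    ∃ (S : Sylow p G) (t z : G), P₁ ≤ (S : Subgroup G) ∧ A ≤ (S : Subgroup G) ∧
      (∀ x ∈ (S : Subgroup G) ⊓ M, ∀ y ∈ (S : Subgroup G) ⊓ M, x * y = y * x) ∧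
      t ∈ (S : Subgroup G) ∧ t ∈ Subgroup.normalizer (A : Set G) ∧
      t ∉ Subgroup.centralizer (A : Set G) ∧ z ∈ A ∧ z ≠ 1 ∧
      ∀ s ∈ (S : Subgroup G), s * z = z * s := by
  have hp : p.Prime := Fact.out
  obtain ⟨S, hP₁S⟩ := hP₁.exists_le_sylow
  have hAS : A ≤ (S : Subgroup G) := hAP₁.trans hP₁S
  -- `S ∩ M` is abelian
  have hcomm : ∀ x ∈ (S : Subgroup G) ⊓ M, ∀ y ∈ (S : Subgroup G) ⊓ M, x * y = y * x := by
    have hV₁pg : IsPGroup p ((S : Subgroup G) ⊓ M : Subgroup G) := S.isPGroup'.to_le inf_le_left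
    obtain ⟨P', hP'⟩ := Cfsg.Agent.Lib.Helper54.exists_sylow_map_ge
      (inf_le_right : (S : Subgroup G) ⊓ M ≤ M) hV₁pg
    intro x hx y hy
    obtain ⟨x₁, hx₁, rfl⟩ := hP' hx
    obtain ⟨y₁, hy₁, rfl⟩ := hP' hy
    have := congrArg Subtype.val ((hab P').is_comm.comm ⟨x₁, hx₁⟩ ⟨y₁, hy₁⟩)
    have h2 := congrArg (M.subtype) this
    simpa using h2
  have hASM : A ≤ (S : Subgroup G) ⊓ M := le_inf hAS hAM
  have hSMC : (S : Subgroup G) ⊓ M ≤ Subgroup.centralizer (A : Set G) := by
    intro x hx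
    rw [Subgroup.mem_centralizer_iff]
    intro a ha
    exact hcomm a (hASM ha) x hx
  set V : Subgroup G := (S : Subgroup G) ⊓ Subgroup.centralizer (A : Set G) with hV
  have hVSM : V ≤ (S : Subgroup G) ⊓ M := inf_le_inf_left _ hCA
  have hV_ne : V ≠ (S : Subgroup G) := by
    intro h
    apply hS S
    have hSle : (S : Subgroup G) ≤ (S : Subgroup G) ⊓ M := h ▸ hVSM
    refine ⟨⟨fun a b => ?_⟩⟩
    apply Subtype.ext
    exact hcomm a (hSle a.2) b (hSle b.2)
  have hnot : ¬ ((S : Subgroup G) ⊓ Subgroup.normalizer (V : Set G) ≤ V) := fun h =>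
    hV_ne (Cfsg.Agent.Lib.Helper54.eq_of_inf_normalizer_le (S : Subgroup G) V S.isPGroup'
      inf_le_left h)
  obtain ⟨t, ht, htV⟩ := SetLike.not_le_iff_exists.mp hnot
  obtain ⟨htS, htN⟩ := Subgroup.mem_inf.mp ht
  have htC : t ∉ Subgroup.centralizer (A : Set G) := fun h => htV (Subgroup.mem_inf.mpr ⟨htS, h⟩)
  have hAV : ∀ x, x ∈ A ↔ (x ∈ V ∧ x ^ p = 1) := by
    intro x
    constructor
    · intro hx
      exact ⟨Subgroup.mem_inf.mpr ⟨hAS hx, hSMC (hASM hx)⟩, hAexp x hx⟩
    · rintro ⟨hxV, hxp⟩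
      exact hΩ x (Subgroup.mem_inf.mp hxV).2 hxp
  have htNA : t ∈ Subgroup.normalizer (A : Set G) := by
    rw [Subgroup.mem_normalizer_iff]
    intro a
    rw [hAV a, hAV (t * a * t⁻¹), conj_pow, ← (Subgroup.mem_normalizer_iff.mp htN a)]
    constructor
    · rintro ⟨h1, h2⟩
      refine ⟨h1, ?_⟩
      rw [h2]; group
    · rintro ⟨h1, h2⟩
      refine ⟨h1, ?_⟩
      have : a ^ p = t⁻¹ * (t * a ^ p * t⁻¹) * t := by group
      rw [this, h2]; group
  -- the central element
  have hSnt : Nontrivial (S : Subgroup G) := by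
    rw [Subgroup.nontrivial_iff_ne_bot]
    intro h
    apply hAne
    rw [eq_bot_iff, ← h]
    exact hAS
  have hcnt : Nontrivial (Subgroup.center (S : Subgroup G)) := S.isPGroup'.center_nontrivial
  have hpc : p ∣ Nat.card (Subgroup.center (S : Subgroup G)) := by
    have hcpg : IsPGroup p (Subgroup.center (S : Subgroup G)) := S.isPGroup'.to_subgroup _
    obtain ⟨n, hn⟩ := IsPGroup.iff_card.mp hcpg
    rw [hn]
    apply dvd_pow_self
    rintro rfl
    rw [pow_zero] at hn
    have := Finite.one_lt_card_iff_nontrivial.mpr hcnt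
    omega
  obtain ⟨x, hx⟩ := exists_prime_orderOf_dvd_card' p hpc
  refine ⟨S, t, ((x : (S : Subgroup G)) : G), hP₁S, hAS, hcomm, htS, htNA, htC, ?_, ?_, ?_⟩
  · apply hΩ
    · rw [Subgroup.mem_centralizer_iff]
      intro a ha
      have := Subgroup.mem_center_iff.mp x.2 ⟨a, hAS ha⟩
      exact congrArg Subtype.val this
    · have h1 : x ^ p = 1 := by
        have := pow_orderOf_eq_one x
        rwa [hx] at this
      have h2 := congrArg (fun y : Subgroup.center (S : Subgroup G) => ((y : (S : Subgroup G)) : G)) h1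
      simpa using h2
  · intro h1
    have h2 : x = 1 := by
      apply Subtype.ext
      apply Subtype.ext
      simpa using h1
    rw [h2, orderOf_one] at hx
    exact hp.one_lt.ne hx
  · intro s hs
    have := Subgroup.mem_center_iff.mp x.2 ⟨s, hs⟩
    exact congrArg Subtype.val this


open Cfsg.Agent.Lib.Helper34 (UniquenessThm)
open Cfsg.Agent.Lib.Helper54 (IsExceptional)

/-- **B&G 12.7(b)**: `F(M) = M_σ × A₀`. -/
theorem s1419_fitting [Finite G] (hG : IsMinSimpleOddOrder G) (hU : UniquenessThm G)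
    (p : ℕ) [Fact p.Prime]
    (h1412 : ∀ S : Sylow p G, PRankLE p 2 (S : Subgroup G) →
      IsMulCommutative (S : Subgroup G) ∨ ∃ P₁ P₂ : Subgroup G, P₁ ⊔ P₂ = (S : Subgroup G) ∧
        (∀ a ∈ P₁, ∀ b ∈ P₂, a * b = b * a) ∧ ¬ IsMulCommutative P₁ ∧ Nat.card P₁ = p ^ 3 ∧
        Monoid.exponent P₁ = p ∧ IsCyclic P₂ ∧
        Subgroup.closure {x : G | x ∈ P₂ ∧ x ^ p = 1} = P₁ ⊓ Subgroup.centralizer (P₁ : Set G))
    (M A₀' A E : Subgroup G) (hexc : IsExceptional M p A₀' A)
    (hE : IsComplIn E (sigmaCore M) M) (hEN : E ≤ Subgroup.normalizer (A : Set G))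
    (hnil : Group.IsNilpotent (sigmaCore M))
    (hb : ∀ P : Sylow p M, IsMulCommutative (P : Subgroup M) ∧
        (A ≤ (P : Subgroup M).map M.subtype →
          (∀ x ∈ (P : Subgroup M).map M.subtype, x ^ p = 1 ↔ x ∈ A)))
    (hA₀ : A ⊓ Subgroup.centralizer (sigmaCore M : Set G) = A₀')
    (htau : tau2 M = {p})
    (hS : ∀ S : Sylow p G, ¬ IsMulCommutative (S : Subgroup G)) :
    fittingOf M = sigmaCore M ⊔ (A ⊓ Subgroup.centralizer (sigmaCore M : Set G)) := by
  have hp : p.Prime := Fact.out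
  have : IsSimpleGroup G := hG.2.1
  have hM := hexc.coatom
  have hMK := Cfsg.Agent.Lib.Helper54.le_normalizer_sigmaCore M
  have hKM := Cfsg.Agent.Lib.Helper54.sigmaCore_le M
  obtain ⟨hEM, -, hEK, hprod⟩ := hE
  have hpK : ¬ p ∣ Nat.card (sigmaCore M) := fun h =>
    hexc.not_sigma (Cfsg.Agent.Lib.Helper54.sigmaCore_isPi M p hp h)
  have hp2 : p ≠ 2 := by
    have hpA : p ∣ Nat.card A := by rw [hexc.card]; exact dvd_pow_self p (by norm_num)
    exact Cfsg.Agent.Lib.Helper54.ne_two_of_dvd_of_odd hG.1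
      (hpA.trans (Subgroup.card_subgroup_dvd_card _))
  apply le_antisymm
  · -- `F(M) ≤ K ⊔ A₀`
    rw [Cfsg.Agent.Lib.Helper34.fittingOf_eq_iSup]
    refine iSup_le fun q => ?_
    have : Fact (q : ℕ).Prime := ⟨q.2⟩
    by_cases hqσ : (q : ℕ) ∈ sigma M
    · refine le_trans ?_ le_sup_left
      apply Cfsg.Agent.Lib.Helper54.le_sigmaCore_of_isPi hG hU M hM
        (Cfsg.Agent.Lib.Helper34.pCoreOf_le q M)
      intro r hr hrd
      rw [Cfsg.Agent.Lib.Helper34.eq_of_prime_dvd_card_of_isPGroup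
        (Cfsg.Agent.Lib.Helper34.pCoreOf_isPGroup q M) hr hrd]
      exact hqσ
    · by_cases hO : Cfsg.Agent.Lib.Helper34.pCoreOf (q : ℕ) M = ⊥
      · rw [hO]; exact bot_le
      have hq2 := Cfsg.Agent.Lib.Helper34.mem_tau2_of_pCoreOf_ne_bot hU hM hqσ hO
      rw [htau, Set.mem_singleton_iff] at hq2
      rw [hq2]
      refine le_trans ?_ le_sup_right
      set O := Cfsg.Agent.Lib.Helper34.pCoreOf p M with hOdef
      have hOpg : IsPGroup p O := Cfsg.Agent.Lib.Helper34.pCoreOf_isPGroup p M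
      have hOM : O ≤ M := Cfsg.Agent.Lib.Helper34.pCoreOf_le p M
      have hMO : M ≤ Subgroup.normalizer (O : Set G) :=
        Cfsg.Agent.Lib.Helper34.le_normalizer_pCoreOf p M
      have hOKbot : O ⊓ sigmaCore M = ⊥ := by
        apply disjoint_iff.mp
        apply Subgroup.disjoint_of_coprime_natCard
        obtain ⟨n, hn⟩ := IsPGroup.iff_card.mp hOpg
        rw [hn]
        exact Nat.Coprime.pow_left n ((Nat.Prime.coprime_iff_not_dvd hp).mpr hpK)
      have hOK : O ≤ Subgroup.centralizer (sigmaCore M : Set G) := by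
        intro y hy
        rw [Subgroup.mem_centralizer_iff]
        intro k hk
        have h1 : y * k * y⁻¹ * k⁻¹ ∈ sigmaCore M :=
          mul_mem ((Subgroup.mem_normalizer_iff.mp (hMK (hOM hy)) k).mp hk) (inv_mem hk)
        have h2 : y * k * y⁻¹ * k⁻¹ ∈ O := by
          have : y * k * y⁻¹ * k⁻¹ = y * (k * y⁻¹ * k⁻¹) := by group
          rw [this]
          exact mul_mem hy ((Subgroup.mem_normalizer_iff.mp (hMO (hKM hk)) y⁻¹).mp (inv_mem hy))
        have h3 : y * k * y⁻¹ * k⁻¹ = 1 := by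
          have : y * k * y⁻¹ * k⁻¹ ∈ O ⊓ sigmaCore M := Subgroup.mem_inf.mpr ⟨h2, h1⟩
          rw [hOKbot] at this
          exact Subgroup.mem_bot.mp this
        calc k * y = (y * k * y⁻¹ * k⁻¹)⁻¹ * (y * k) := by group
          _ = y * k := by rw [h3, inv_one, one_mul]
      obtain ⟨P, hAP⟩ := Cfsg.Agent.Lib.Helper54.exists_sylow_map_ge hexc.le hexc.isPGroup
      have hOP : O ≤ (P : Subgroup M).map M.subtype :=
        Cfsg.Agent.Lib.Helper34.pCoreOf_le_sylow p M P
      obtain ⟨hPab, hPΩ⟩ := hb P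
      have hΩP := hPΩ hAP
      have hPcomm : ∀ x ∈ (P : Subgroup M).map M.subtype, ∀ y ∈ (P : Subgroup M).map M.subtype,
          x * y = y * x := by
        intro x hx y hy
        obtain ⟨x₁, hx₁, rfl⟩ := hx
        obtain ⟨y₁, hy₁, rfl⟩ := hy
        have := congrArg Subtype.val (hPab.is_comm.comm ⟨x₁, hx₁⟩ ⟨y₁, hy₁⟩)
        have h2 := congrArg (M.subtype) this
        simpa using h2
      have hOexp : ∀ y ∈ O, y ^ p = 1 := by
        by_contra hcon
        push Not at hcon
        obtain ⟨y, hyO, hyp⟩ := hcon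
        -- an element `y'` of `O` with `y' ^ p` of order `p`
        obtain ⟨y', hy'O, hu1, hup⟩ : ∃ y' ∈ O, y' ^ p ≠ 1 ∧ (y' ^ p) ^ p = 1 := by
          have hex : ∃ n : ℕ, y ^ p ^ n = 1 := by
            obtain ⟨k, hk⟩ := hOpg ⟨y, hyO⟩
            exact ⟨k, by simpa using congrArg Subtype.val hk⟩
          classical
          have hmin : ∀ m : ℕ, m < Nat.find hex → ¬ y ^ p ^ m = 1 := fun m hm =>
            Nat.find_min hex hm
          have hspec := Nat.find_spec hex
          set n := Nat.find hex with hn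
          have hn2 : 2 ≤ n := by
            by_contra h
            have h' : n = 0 ∨ n = 1 := by omega
            rcases h' with h0 | h1
            · rw [h0, pow_zero, pow_one] at hspec
              rw [hspec, one_pow] at hyp
              exact hyp rfl
            · rw [h1, pow_one] at hspec
              exact hyp hspec
          refine ⟨y ^ p ^ (n - 2), pow_mem hyO _, ?_, ?_⟩
          · rw [← pow_mul, ← pow_succ]
            have : n - 2 + 1 = n - 1 := by omega
            rw [this]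
            exact hmin (n - 1) (by omega)
          · rw [← pow_mul, ← pow_mul]
            have h3 : p ^ (n - 2) * (p * p) = p ^ n := by
              rw [← sq, ← pow_add]
              congr 1
              omega
            rw [h3]
            exact hspec
        set u := y' ^ p with hu
        have huO : u ∈ O := pow_mem hy'O p
        have huA : u ∈ A := (hΩP u (hOP huO)).mp hup
        have huA₀ : u ∈ A₀' := by
          rw [← hA₀]
          exact Subgroup.mem_inf.mpr ⟨huA, hOK huO⟩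
        have hΩ : ∀ x ∈ Subgroup.centralizer (A : Set G), x ^ p = 1 → x ∈ A := fun x hx hxp =>
          hexc.mem_of_pow_eq_one hG hU hx hxp
        obtain ⟨S, t, z, hPS, hAS, hcomm, htS, htNA, htC, hzA, hz1, hzS⟩ :=
          exists_sylow_transvection' p M A ((P : Subgroup M).map M.subtype) hexc.le hAP
            (P.isPGroup'.map _) hexc.ne_bot hΩ hexc.elemAb.2 hexc.centralizer_le
            (fun P' => (hb P').1) hS
        have hy'S : y' ∈ (S : Subgroup G) := hPS (hOP hy'O)
        have hy'C : y' ∈ Subgroup.centralizer (A : Set G) := by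
          rw [Subgroup.mem_centralizer_iff]
          intro a ha
          exact hPcomm a (hAP ha) y' (hOP hy'O)
        have hcen := pow_p_central p hp2 h1412 S (hS S) A hAS hexc.elemAb hexc.card hΩ hy'S hy'C hup
        have htu : t * u = u * t := hcen t htS
        have hA₀' : A₀' = Subgroup.zpowers u := eq_zpowers_of_card_prime hexc.card₀ huA₀ hu1
        have htN : t ∈ Subgroup.normalizer (A₀' : Set G) := by
          rw [Cfsg.Agent.Lib.Helper54.mem_normalizer_iff_conj_smul, hA₀', conj_smul_zpowers, htu]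
          congr 1
          group
        have htM : t ∈ M := hexc.norm htN
        apply htC
        rw [Subgroup.mem_centralizer_iff]
        intro a ha
        exact hcomm a (Subgroup.mem_inf.mpr ⟨hAS ha, hexc.le ha⟩) t (Subgroup.mem_inf.mpr ⟨htS, htM⟩)
      intro y hy
      exact Subgroup.mem_inf.mpr ⟨(hΩP y (hOP hy)).mp (hOexp y hy), hOK hy⟩
  · -- `K ⊔ A₀ ≤ F(M)`
    apply sup_le
    · exact Cfsg.Agent.Lib.Helper34.le_fittingOf hKM hMK hnil
    · have hA₀M : A ⊓ Subgroup.centralizer (sigmaCore M : Set G) ≤ M := inf_le_left.trans hexc.le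
      have hconj : ∀ m ∈ M, ∀ a ∈ A ⊓ Subgroup.centralizer (sigmaCore M : Set G),
          m * a * m⁻¹ ∈ A ⊓ Subgroup.centralizer (sigmaCore M : Set G) := by
        intro m hm a ha
        obtain ⟨haA, haC⟩ := Subgroup.mem_inf.mp ha
        obtain ⟨e, he, k, hk, rfl⟩ := hprod m hm
        have hka : k * a = a * k := (Subgroup.mem_centralizer_iff.mp haC k hk)
        have h1 : e * k * a * (e * k)⁻¹ = e * a * e⁻¹ := by
          calc e * k * a * (e * k)⁻¹ = e * (k * a) * k⁻¹ * e⁻¹ := by group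
            _ = e * (a * k) * k⁻¹ * e⁻¹ := by rw [hka]
            _ = e * a * e⁻¹ := by group
        rw [h1]
        refine Subgroup.mem_inf.mpr ⟨(Subgroup.mem_normalizer_iff.mp (hEN he) a).mp haA, ?_⟩
        rw [Subgroup.mem_centralizer_iff]
        intro k' hk'
        have hk'' : e⁻¹ * k' * e⁻¹⁻¹ ∈ sigmaCore M :=
          (Subgroup.mem_normalizer_iff.mp (hMK (M.inv_mem (hEM he))) k').mp hk'
        rw [inv_inv] at hk''
        have hc : (e⁻¹ * k' * e) * a = a * (e⁻¹ * k' * e) :=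
          Subgroup.mem_centralizer_iff.mp haC _ hk''
        calc k' * (e * a * e⁻¹) = e * ((e⁻¹ * k' * e) * a) * e⁻¹ := by group
          _ = e * (a * (e⁻¹ * k' * e)) * e⁻¹ := by rw [hc]
          _ = e * a * e⁻¹ * k' := by group
      have hMA₀ : M ≤ Subgroup.normalizer
          ((A ⊓ Subgroup.centralizer (sigmaCore M : Set G) : Subgroup G) : Set G) := by
        intro m hm
        rw [Subgroup.mem_normalizer_iff]
        intro a
        constructor
        · exact hconj m hm a
        · intro h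
          have h1 := hconj m⁻¹ (M.inv_mem hm) _ h
          have h2 : m⁻¹ * (m * a * m⁻¹) * m⁻¹⁻¹ = a := by group
          rwa [h2] at h1
      have hA₀nil : Group.IsNilpotent ↥(A ⊓ Subgroup.centralizer (sigmaCore M : Set G)) :=
        (hexc.isPGroup.to_le inf_le_left).isNilpotent
      exact Cfsg.Agent.Lib.Helper34.le_fittingOf hA₀M hMA₀ hA₀nil

end Cfsg.Agent.Lib.Helper21
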