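import Cfsg.Agent.Lib.Helper21.BGTwelveI

/-!
# Bender–Glauberman Theorem 12.7 (statement S1419): assembly

From the section 11 package `Sec11 G`, the literal S1416 statement, `M_σ ≠ 1`, the literal S1412
statement for `p`, and part (a) `τ₂(M) = {p}` (proved separately from B&G Proposition 10.11).
-/

set_option autoImplicit false

namespace Cfsg.Agent.Lib.Helper21

open scoped Pointwise
open Cfsg
open Cfsg.Agent.Lib.Helper34 (UniquenessThm)
open Cfsg.Agent.Lib.Helper54 (IsExceptional)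

variable {G : Type*} [Group G]

/-- **Bender–Glauberman Theorem 12.7** (statement S1419), conditional assembly. -/
theorem s1419_of [Finite G] (hG : IsMinSimpleOddOrder G) (hU : UniquenessThm G)
    (hPL : ∀ (q : ℕ) [Fact q.Prime] (H : Subgroup G), H ≠ ⊤ → PLengthLE q 1 H)
    (h11 : Sec11 G) (h16 : S1416Stmt G)
    (M : Subgroup G) (hM : IsCoatom M) (hKne : sigmaCore M ≠ ⊥)
    (E : Subgroup G) (hE : IsComplIn E (sigmaCore M) M) (p : ℕ) [Fact p.Prime]
    (hp : p ∈ tau2 M)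
    (h1412 : ∀ S : Sylow p G, PRankLE p 2 (S : Subgroup G) →
      IsMulCommutative (S : Subgroup G) ∨ ∃ P₁ P₂ : Subgroup G, P₁ ⊔ P₂ = (S : Subgroup G) ∧
        (∀ a ∈ P₁, ∀ b ∈ P₂, a * b = b * a) ∧ ¬ IsMulCommutative P₁ ∧ Nat.card P₁ = p ^ 3 ∧
        Monoid.exponent P₁ = p ∧ IsCyclic P₂ ∧
        Subgroup.closure {x : G | x ∈ P₂ ∧ x ^ p = 1} = P₁ ⊓ Subgroup.centralizer (P₁ : Set G))
    (hS : ∀ S : Sylow p G, ¬ IsMulCommutative (S : Subgroup G))
    (A : Subgroup G) (hA : A ≤ E ∧ IsElementaryAbelian p A ∧ Nat.card A = p ^ 2)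
    (htau : tau2 M = {p}) :
    tau2 M = {p} ∧
      (Nat.card ↥(A ⊓ Subgroup.centralizer (sigmaCore M : Set G)) = p ∧
        fittingOf M = sigmaCore M ⊔ (A ⊓ Subgroup.centralizer (sigmaCore M : Set G))) ∧
      ∀ X : Subgroup G, X ≤ E → Nat.card X = p →
        X ≠ A ⊓ Subgroup.centralizer (sigmaCore M : Set G) →
        sigmaCore M ⊓ Subgroup.centralizer (X : Set G) = ⊥ ∧
          ¬ Subgroup.centralizer (X : Set G) ≤ M := by
  have hAM : A ≤ M ∧ IsElementaryAbelian p A ∧ Nat.card A = p ^ 2 :=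
    ⟨hA.1.trans hE.1, hA.2.1, hA.2.2⟩
  obtain ⟨A₀', hexc, -⟩ := exists_exceptional_of_not_mem_sigma h16 M hM p hp.2.1 A hAM
  have h17 := s1417_of hG hU hPL h11 h16 M hM p hp A hAM
  have h18 := s1418_of hG M E hE p A hA (h16 M hM p A hAM).1 h17
  obtain ⟨hnil, hb, hc, hd, he, hf⟩ := h17
  obtain ⟨⟨hEN, h1b⟩, -, h3⟩ := h18
  obtain ⟨hA₀, hreg⟩ := s1419_points hG hU p (hPL p) M A₀' A hexc hKne hd (fun P => (hb P).1)
    (fun X hXA hX hne => (h3 X hXA hX hne).1) hS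
  refine ⟨htau, ⟨?_, ?_⟩, ?_⟩
  · rw [hA₀]; exact hexc.card₀
  · exact s1419_fitting hG hU p h1412 M A₀' A E hexc hE hEN hnil
      (fun P => ⟨(hb P).1, fun h => ((hb P).2 h).1⟩) hA₀ htau hS
  · intro X hXE hX hXne
    rw [hA₀] at hXne
    exact hreg X (h1b X hXE hX) hX hXne

end Cfsg.Agent.Lib.Helper21
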