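/-
helper21 shared library: the property "`F*(K)` is a `p`-group" for subgroups `K` of a finite
group: inheritance by normal subgroups, by extensions with `p`-group quotient, by `p`-locals,
and by centralizers of `p`-subgroups (S1246).
All declarations live in `Cfsg.Agent.Lib.Helper21`.
-/
import Mathlib
import Cfsg.Prelude.Def_Local
import Cfsg.Agent.Lib.Helper21.LocalFStar

set_option autoImplicit false

namespace Cfsg.Agent.Lib.Helper21

open Cfsg
open scoped Pointwise commutatorElement

universe u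

section FStarP

variable {p : ℕ} [Fact p.Prime]

omit [Fact p.Prime] in
theorem isPGroup_gfs_of_mulEquiv {A B : Type*} [Group A] [Group B] (e : A ≃* B)
    (h : IsPGroup p ↥(generalizedFittingSubgroup A)) :
    IsPGroup p ↥(generalizedFittingSubgroup B) := by
  rw [← Cfsg.Agent.Lib.Helper29.generalizedFittingSubgroup_map_mulEquiv e]
  exact h.map _

theorem gfs_eq_pCore_of_isPGroup {A : Type*} [Group A] [Finite A]
    (h : IsPGroup p ↥(generalizedFittingSubgroup A)) :
    generalizedFittingSubgroup A = pCore p A := by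
  apply le_antisymm
  · exact Cfsg.Agent.Lib.Helper1.le_pCore
      (Cfsg.Agent.Lib.Helper29.generalizedFittingSubgroup_normal A) h
  · refine le_trans ?_ le_sup_right
    apply le_fittingSubgroup_of_normal_nilpotent (Cfsg.Agent.Lib.Helper1.pCore_normal p)
    exact (isPGroup_pCore p A).isNilpotent

/-- A perfect subgroup lies in every normal subgroup with solvable quotient. -/
theorem le_of_isPerfect_of_isSolvable_quotient {X : Type*} [Group X] (M : Subgroup X) [M.Normal]
    (hs : Group.IsSolvable (X ⧸ M)) {L : Subgroup X} (hL : Group.IsPerfect L) : L ≤ M := by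
  have h1 : Group.IsPerfect ↥(L.map (QuotientGroup.mk' M)) := Group.IsPerfect.map _
  have h2 : Group.IsSolvable ↥(L.map (QuotientGroup.mk' M)) := inferInstance
  have h3 : ¬ Nontrivial ↥(L.map (QuotientGroup.mk' M)) := by
    intro hnt
    exact Group.IsPerfect.not_isSolvable _ h2
  rw [not_nontrivial_iff_subsingleton] at h3
  have h4 : L.map (QuotientGroup.mk' M) = ⊥ := Subgroup.eq_bot_of_subsingleton _
  rw [Subgroup.map_eq_bot_iff, QuotientGroup.ker_mk'] at h4
  exact h4

/-- `F*` of a normal subgroup lies in `F*` of the group. -/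
theorem map_gfs_le_of_normal {N : Type u} [Group N] [Finite N] (C : Subgroup N) [hC : C.Normal] :
    (generalizedFittingSubgroup ↥C).map C.subtype ≤ generalizedFittingSubgroup N := by
  unfold generalizedFittingSubgroup
  rw [Subgroup.map_sup]
  apply sup_le_sup
  · unfold layer
    rw [Subgroup.map_le_iff_le_comap]
    apply sSup_le
    intro L hL
    rw [← Subgroup.map_le_iff_le_comap]
    exact le_sSup (isComponent_map_subtype hC.isSubnormal hL)
  · exact map_fittingSubgroup_le C

omit [Fact p.Prime] in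
/-- If `F*(N)` is a `p`-group and `C ⊴ N` then `F*(C)` is a `p`-group. -/
theorem isPGroup_gfs_of_normal {N : Type u} [Group N] [Finite N] (C : Subgroup N) [C.Normal]
    (h : IsPGroup p ↥(generalizedFittingSubgroup N)) :
    IsPGroup p ↥(generalizedFittingSubgroup ↥C) := by
  have h1 : IsPGroup p ↥((generalizedFittingSubgroup ↥C).map C.subtype) :=
    h.to_le (map_gfs_le_of_normal C)
  exact h1.of_equiv (Subgroup.equivMapOfInjective _ _ C.subtype_injective).symm

/-- If `M ⊴ X`, `X / M` is a `p`-group and `F*(M)` is a `p`-group then `F*(X)` is a `p`-group. -/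
theorem isPGroup_gfs_of_quotient {X : Type u} [Group X] [Finite X] (M : Subgroup X) [hM : M.Normal]
    (hq : IsPGroup p (X ⧸ M)) (h : IsPGroup p ↥(generalizedFittingSubgroup ↥M)) :
    IsPGroup p ↥(generalizedFittingSubgroup X) := by
  have hqs : Group.IsSolvable (X ⧸ M) := by
    have : Group.IsNilpotent (X ⧸ M) := hq.isNilpotent
    exact IsNilpotent.to_isSolvable
  -- no components
  have hlayer : layer X = ⊥ := by
    unfold layer
    rw [sSup_eq_bot]
    intro L hL
    exfalso
    have hLM : L ≤ M := le_of_isPerfect_of_isSolvable_quotient M hqs hL.2.1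
    have hL' : IsComponent (L.subgroupOf M) := isComponent_subgroupOf hL hLM
    have h1 : L.subgroupOf M ≤ generalizedFittingSubgroup ↥M :=
      le_trans (le_sSup hL') le_sup_left
    have h2 : IsPGroup p ↥(L.subgroupOf M) := h.to_le h1
    have h3 : Group.IsSolvable ↥(L.subgroupOf M) := isSolvable_of_isPGroup h2
    exact qs_not_isSolvable hL'.2 h3
  unfold generalizedFittingSubgroup
  rw [hlayer, bot_sup_eq]
  -- `F(X) ∩ M` lies in `F(M)`
  have hFn : (fittingSubgroup X).Normal := Cfsg.Agent.Lib.Helper29.fittingSubgroup_normal X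
  have hFnil : Group.IsNilpotent ↥(fittingSubgroup X) :=
    Cfsg.Agent.Lib.Helper71.fittingSubgroup_isNilpotent (G := X)
  have hsub : (fittingSubgroup X).subgroupOf M ≤ generalizedFittingSubgroup ↥M := by
    refine le_trans ?_ le_sup_right
    apply le_fittingSubgroup_of_normal_nilpotent
    · exact hFn.subgroupOf M
    · let f : ↥((fittingSubgroup X).subgroupOf M) →* ↥(fittingSubgroup X) :=
        { toFun := fun x => ⟨x.1.1, x.2⟩
          map_one' := rfl
          map_mul' := fun _ _ => rfl }
      apply Subgroup.isNilpotent_of_ker_le_center f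
      have hinj : Function.Injective f := by
        intro a b hab
        apply Subtype.ext
        apply Subtype.ext
        exact congrArg (fun z : ↥(fittingSubgroup X) => (z : X)) hab
      rw [(MonoidHom.ker_eq_bot_iff f).mpr hinj]
      exact bot_le
  intro g
  obtain ⟨a, ha⟩ := hq (QuotientGroup.mk g.1)
  have hgM : g.1 ^ p ^ a ∈ M := by
    rw [← QuotientGroup.eq_one_iff, QuotientGroup.mk_pow]
    exact ha
  have hgF : g.1 ^ p ^ a ∈ fittingSubgroup X := (fittingSubgroup X).pow_mem g.2 _
  have hmem : (⟨g.1 ^ p ^ a, hgM⟩ : ↥M) ∈ generalizedFittingSubgroup ↥M := by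
    apply hsub
    rw [Subgroup.mem_subgroupOf]
    exact hgF
  obtain ⟨b, hb⟩ := h ⟨_, hmem⟩
  refine ⟨a + b, ?_⟩
  apply Subtype.ext
  have hb' : (g.1 ^ p ^ a) ^ p ^ b = 1 := by
    have := congrArg (fun z : ↥(generalizedFittingSubgroup ↥M) => ((z : ↥M) : X)) hb
    simpa using this
  rw [Subgroup.coe_pow, pow_add, pow_mul, hb']
  rfl

section Sub

variable {G : Type u} [Group G] [Finite G]

omit [Fact p.Prime] in
/-- If `F*(N)` is a `p`-group and `K ⊴ N` then `F*(K)` is a `p`-group (subgroups of `G`). -/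
theorem isPGroup_gfs_of_le_normalizer {K N : Subgroup G} (hKN : K ≤ N)
    (hNK : N ≤ Subgroup.normalizer (K : Set G))
    (h : IsPGroup p ↥(generalizedFittingSubgroup ↥N)) :
    IsPGroup p ↥(generalizedFittingSubgroup ↥K) := by
  have hn : (K.subgroupOf N).Normal := (Subgroup.normal_subgroupOf_iff_le_normalizer hKN).mpr hNK
  have h1 := isPGroup_gfs_of_normal (K.subgroupOf N) h
  exact isPGroup_gfs_of_mulEquiv (Subgroup.subgroupOfEquivOfLe hKN) h1

/-- If `F*(M)` is a `p`-group and the `p`-group `U` normalizes `M` then `F*(M U)` is a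
`p`-group. -/
theorem isPGroup_gfs_sup_of_isPGroup {M U : Subgroup G}
    (hUM : U ≤ Subgroup.normalizer (M : Set G)) (hU : IsPGroup p U)
    (h : IsPGroup p ↥(generalizedFittingSubgroup ↥M)) :
    IsPGroup p ↥(generalizedFittingSubgroup ↥(M ⊔ U)) := by
  have hMX : M ≤ M ⊔ U := le_sup_left
  have hUX : U ≤ M ⊔ U := le_sup_right
  have hXM : M ⊔ U ≤ Subgroup.normalizer (M : Set G) := sup_le Subgroup.le_normalizer hUM
  have hn : (M.subgroupOf (M ⊔ U)).Normal :=
    (Subgroup.normal_subgroupOf_iff_le_normalizer hMX).mpr hXM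
  have hq : IsPGroup p (↥(M ⊔ U) ⧸ M.subgroupOf (M ⊔ U)) := by
    intro y
    obtain ⟨x, rfl⟩ := QuotientGroup.mk_surjective y
    have hx : (x : G) ∈ ((M : Set G) * (U : Set G)) := by
      rw [← Subgroup.coe_mul_of_right_le_normalizer_left M U hUM]
      exact x.2
    obtain ⟨m, hm, u, hu, hmu⟩ := Set.mem_mul.mp hx
    obtain ⟨k, hk⟩ := hU ⟨u, hu⟩
    refine ⟨k, ?_⟩
    have hx' : x = (⟨m, hMX hm⟩ : ↥(M ⊔ U)) * ⟨u, hUX hu⟩ := Subtype.ext hmu.symm
    have h1 : (QuotientGroup.mk (⟨m, hMX hm⟩ : ↥(M ⊔ U)) : ↥(M ⊔ U) ⧸ M.subgroupOf (M ⊔ U)) = 1 := by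
      rw [QuotientGroup.eq_one_iff, Subgroup.mem_subgroupOf]
      exact hm
    have h2 : (⟨u, hUX hu⟩ : ↥(M ⊔ U)) ^ p ^ k = 1 := by
      apply Subtype.ext
      have := congrArg (fun z : ↥U => (z : G)) hk
      simpa using this
    rw [hx', QuotientGroup.mk_mul, h1, one_mul, ← QuotientGroup.mk_pow, h2, QuotientGroup.mk_one]
  have h' : IsPGroup p ↥(generalizedFittingSubgroup ↥(M.subgroupOf (M ⊔ U))) :=
    isPGroup_gfs_of_mulEquiv (Subgroup.subgroupOfEquivOfLe hMX).symm h
  exact isPGroup_gfs_of_quotient (M.subgroupOf (M ⊔ U)) hq h'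

/-- If `F*(X)` is a `p`-group, `P` a `p`-subgroup and `P C_X(P) ≤ N ≤ N_X(P)`, then `F*(N)` is a
`p`-group. -/
theorem isPGroup_gfs_local {X P N : Subgroup G}
    (hX : IsPGroup p ↥(generalizedFittingSubgroup ↥X)) (hP : IsPGroup p P) (hPN : P ≤ N)
    (hNX : N ≤ X) (hNP : N ≤ Subgroup.normalizer (P : Set G))
    (hCN : Subgroup.centralizer (P : Set G) ⊓ X ≤ N) :
    IsPGroup p ↥(generalizedFittingSubgroup ↥N) := by
  have heq := gfs_eq_pCore_of_isPGroup hX
  have hP' : IsPGroup p ↥(P.subgroupOf X) := hP.comap_subtype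
  have h1 : P.subgroupOf X ≤ N.subgroupOf X := fun x hx => hPN hx
  have h2 : N.subgroupOf X ≤ Subgroup.normalizer ((P.subgroupOf X : Subgroup ↥X) : Set ↥X) := by
    intro x hx
    rw [Subgroup.mem_normalizer_iff]
    intro y
    have := Subgroup.mem_normalizer_iff.mp (hNP hx) y.1
    simpa [Subgroup.mem_subgroupOf] using this
  have h3 : Subgroup.centralizer ((P.subgroupOf X : Subgroup ↥X) : Set ↥X) ≤ N.subgroupOf X := by
    intro x hx
    rw [Subgroup.mem_subgroupOf]
    apply hCN
    refine Subgroup.mem_inf.mpr ⟨?_, x.2⟩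
    rw [Subgroup.mem_centralizer_iff]
    intro q hq
    have hqX : q ∈ X := hNX (hPN hq)
    have := Subgroup.mem_centralizer_iff.mp hx ⟨q, hqX⟩ (Subgroup.mem_subgroupOf.mpr hq)
    exact congrArg Subtype.val this
  have h4 := gfs_local_eq_pCore_of_gfs_eq p heq hP' h1 h2 h3
  have h5 : IsPGroup p ↥(generalizedFittingSubgroup ↥(N.subgroupOf X)) := by
    rw [h4]; exact isPGroup_pCore p _
  exact isPGroup_gfs_of_mulEquiv (Subgroup.subgroupOfEquivOfLe hNX) h5

omit [Finite G] in
theorem normalizer_le_normalizer_centralizer (V : Subgroup G) :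
    Subgroup.normalizer (V : Set G) ≤
      Subgroup.normalizer ((Subgroup.centralizer (V : Set G) : Subgroup G) : Set G) := by
  rw [Subgroup.le_normalizer_iff]
  intro u hu m hm
  rw [Subgroup.mem_centralizer_iff] at hm ⊢
  intro v hv
  have hv' : u⁻¹ * v * u ∈ V := by
    have := (Subgroup.mem_normalizer_iff.mp ((Subgroup.normalizer (V : Set G)).inv_mem hu) v).mp hv
    simpa using this
  have h1 := hm _ hv'
  calc v * (u * m * u⁻¹) = u * ((u⁻¹ * v * u) * m) * u⁻¹ := by group
    _ = u * (m * (u⁻¹ * v * u)) * u⁻¹ := by rw [h1]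
    _ = u * m * u⁻¹ * v := by group

/-- S1246, normal case. -/
theorem isPGroup_gfs_centralizer_of_normal {U V : Subgroup G} (hVU : V ≤ U)
    (hUV : U ≤ Subgroup.normalizer (V : Set G)) (hU : IsPGroup p U)
    (hV : IsPGroup p ↥(generalizedFittingSubgroup ↥(Subgroup.centralizer (V : Set G)))) :
    IsPGroup p ↥(generalizedFittingSubgroup ↥(Subgroup.centralizer (U : Set G))) := by
  set M := Subgroup.centralizer (V : Set G) with hM
  have hUM : U ≤ Subgroup.normalizer (M : Set G) :=
    hUV.trans (normalizer_le_normalizer_centralizer V)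
  have hX := isPGroup_gfs_sup_of_isPGroup hUM hU hV
  have hCM : Subgroup.centralizer (U : Set G) ≤ M := Subgroup.centralizer_le hVU
  -- `N = U C_G(U)`
  have hN : IsPGroup p ↥(generalizedFittingSubgroup ↥(U ⊔ Subgroup.centralizer (U : Set G))) := by
    apply isPGroup_gfs_local hX hU le_sup_left
    · exact sup_le le_sup_right (hCM.trans le_sup_left)
    · exact sup_le Subgroup.le_normalizer (Subgroup.centralizer_le_normalizer _)
    · exact inf_le_left.trans le_sup_right
  apply isPGroup_gfs_of_le_normalizer le_sup_right _ hN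
  apply sup_le
  · exact Subgroup.le_normalizer.trans (normalizer_le_normalizer_centralizer U)
  · exact Subgroup.le_normalizer

/-- S1246: if `V ≤ U` are `p`-subgroups and `F*(C_G(V))` is a `p`-group then so is
`F*(C_G(U))`. -/
theorem isPGroup_gfs_centralizer_of_le {U : Subgroup G} (hU : IsPGroup p U) :
    ∀ V : Subgroup G, V ≤ U →
      IsPGroup p ↥(generalizedFittingSubgroup ↥(Subgroup.centralizer (V : Set G))) →
      IsPGroup p ↥(generalizedFittingSubgroup ↥(Subgroup.centralizer (U : Set G))) := by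
  intro V
  induction V using WellFoundedGT.induction with
  | ind V ih =>
    intro hVU hV
    by_cases hVeq : V = U
    · subst hVeq; exact hV
    have hlt : V < U := lt_of_le_of_ne hVU hVeq
    -- normalizer condition in the `p`-group `U`
    have hnil : Group.IsNilpotent ↥U := hU.isNilpotent
    have hnc := Group.normalizerCondition_of_isNilpotent (G := ↥U)
    have hlt' : V.subgroupOf U < ⊤ := by
      rw [lt_top_iff_ne_top, Ne, Subgroup.subgroupOf_eq_top]
      exact not_le_of_gt hlt
    have h1 := hnc (V.subgroupOf U) hlt'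
    rw [← Subgroup.subgroupOf_normalizer_eq hVU] at h1
    obtain ⟨h1le, x, hxN, hxV⟩ := SetLike.lt_iff_le_and_exists.mp h1
    rw [Subgroup.mem_subgroupOf] at hxN hxV
    have hV'U : Subgroup.normalizer (V : Set G) ⊓ U ≤ U := inf_le_right
    have hVV' : V < Subgroup.normalizer (V : Set G) ⊓ U := by
      rw [SetLike.lt_iff_le_and_exists]
      exact ⟨le_inf Subgroup.le_normalizer hVU, x.1, Subgroup.mem_inf.mpr ⟨hxN, x.2⟩, hxV⟩
    have hV'N : Subgroup.normalizer (V : Set G) ⊓ U ≤ Subgroup.normalizer (V : Set G) :=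
      inf_le_left
    have h3 := isPGroup_gfs_centralizer_of_normal hVV'.le hV'N (hU.to_le hV'U) hV
    exact ih _ hVV' hV'U h3

end Sub


end FStarP

end Cfsg.Agent.Lib.Helper21
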