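/-
helper21 shared library: `O_{p'}(C_G(x))` centralizes the components `L` of `G` with
`[L, x] ≠ L`, when `O_{p'}(G) = 1` (S1270).
All declarations live in `Cfsg.Agent.Lib.Helper21`.
-/
import Mathlib
import Cfsg.Prelude.Def_Local
import Cfsg.Agent.Lib.Helper21.Components
import Cfsg.Agent.Lib.Helper21.FStarP
import Cfsg.Agent.Lib.Helper31.PPrimeLocal
import Cfsg.Agent.Lib.Helper31.Balance

set_option autoImplicit false

namespace Cfsg.Agent.Lib.Helper21

open Cfsg
open scoped Pointwise commutatorElement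

section PPrimeCentralizer

variable {G : Type*} [Group G]

/-- `H` normalizes `⁅H, K⁆`. -/
theorem le_normalizer_commutator_left (H K : Subgroup G) :
    H ≤ Subgroup.normalizer ((⁅H, K⁆ : Subgroup G) : Set G) := by
  rw [Subgroup.le_normalizer_iff]
  intro h' hh' g hg
  have hle : ⁅H, K⁆ ≤ (⁅H, K⁆).comap (MulAut.conj h').toMonoidHom := by
    rw [Subgroup.commutator_le]
    intro h hh k hk
    rw [Subgroup.mem_comap]
    show h' * ⁅h, k⁆ * h'⁻¹ ∈ ⁅H, K⁆
    have heq : h' * ⁅h, k⁆ * h'⁻¹ = ⁅h' * h, k⁆ * ⁅h', k⁆⁻¹ := by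
      simp only [commutatorElement_def]; group
    rw [heq]
    exact mul_mem (Subgroup.commutator_mem_commutator (mul_mem hh' hh) hk)
      (inv_mem (Subgroup.commutator_mem_commutator hh' hk))
  exact hle hg

/-- The ordered product `∏_{i=1}^{n} x^i l x^{-i}`. -/
def conjProd (x l : G) : ℕ → G
  | 0 => 1
  | n + 1 => conjProd x l n * (x ^ (n + 1) * l * (x ^ (n + 1))⁻¹)

theorem conj_mul_conjProd (x l : G) (n : ℕ) :
    x * (l * conjProd x l n) * x⁻¹ = conjProd x l (n + 1) := by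
  induction n with
  | zero => simp [conjProd]
  | succ n ih =>
    have h1 : conjProd x l (n + 1 + 1) =
        conjProd x l (n + 1) * (x ^ (n + 1 + 1) * l * (x ^ (n + 1 + 1))⁻¹) := rfl
    have h2 : conjProd x l (n + 1) = conjProd x l n * (x ^ (n + 1) * l * (x ^ (n + 1))⁻¹) := rfl
    have h3 : x ^ (n + 1 + 1) = x * x ^ (n + 1) := pow_succ' x (n + 1)
    calc x * (l * conjProd x l (n + 1)) * x⁻¹
        = x * (l * (conjProd x l n * (x ^ (n + 1) * l * (x ^ (n + 1))⁻¹))) * x⁻¹ := by rw [h2]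
      _ = (x * (l * conjProd x l n) * x⁻¹) * (x * (x ^ (n + 1) * l * (x ^ (n + 1))⁻¹) * x⁻¹) := by
          group
      _ = conjProd x l (n + 1) * (x * (x ^ (n + 1) * l * (x ^ (n + 1))⁻¹) * x⁻¹) := by rw [ih]
      _ = conjProd x l (n + 1) * (x ^ (n + 1 + 1) * l * (x ^ (n + 1 + 1))⁻¹) := by
          rw [h3]; group
      _ = conjProd x l (n + 1 + 1) := h1.symm

variable [Finite G]

omit [Finite G] in
/-- If `⁅L, ⟨x⟩⁆ ≠ L` for a component `L`, then `x` does not normalize `L` or `x` centralizes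
`L`. -/
theorem not_mem_normalizer_or_commute_of_commutator_ne {L : Subgroup G} (hL : IsComponent L)
    {x : G} (hne : ⁅L, Subgroup.zpowers x⁆ ≠ L) :
    x ∉ Subgroup.normalizer (L : Set G) ∨ ∀ l ∈ L, x * l = l * x := by
  by_cases hx : x ∈ Subgroup.normalizer (L : Set G)
  · right
    have hzx : Subgroup.zpowers x ≤ Subgroup.normalizer (L : Set G) := by
      rw [Subgroup.zpowers_le]; exact hx
    have hNL : ⁅L, Subgroup.zpowers x⁆ ≤ L := by
      rw [Subgroup.commutator_le]
      intro l hl k hk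
      rw [commutatorElement_def]
      have h1 : k * l⁻¹ * k⁻¹ ∈ L :=
        (Subgroup.mem_normalizer_iff.mp (hzx hk) l⁻¹).mp (L.inv_mem hl)
      have h2 : l * k * l⁻¹ * k⁻¹ = l * (k * l⁻¹ * k⁻¹) := by group
      rw [h2]
      exact L.mul_mem hl h1
    have hnorm := le_normalizer_commutator_left L (Subgroup.zpowers x)
    rcases qs_eq_or_commutator_eq_bot hL.2 hNL hnorm with h | h
    · exact absurd h hne
    · have hLL : ⁅L, L⁆ = L := qs_commutator_eq_self hL.2
      have h1 : ⁅⁅Subgroup.zpowers x, L⁆, L⁆ = ⊥ := by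
        rw [Subgroup.commutator_comm (Subgroup.zpowers x) L, Subgroup.commutator_comm]
        exact h
      have h2 := commutator_eq_bot_of_perfect hLL h1
      intro l hl
      exact ((commutator_eq_bot_iff_commute.mp h2) l hl x (Subgroup.mem_zpowers x)).symm
  · left; exact hx

/-- If `x` of prime order `p` does not normalize the component `L`, every `l ∈ L` can be
completed by an element `r` of `C_G(L)` to an element `l r` of `C_G(x)`. -/
theorem exists_mul_mem_centralizer_of_not_mem_normalizer {L : Subgroup G} (hL : IsComponent L)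
    {p : ℕ} [hp : Fact p.Prime] {x : G} (hx : orderOf x = p)
    (hxL : x ∉ Subgroup.normalizer (L : Set G)) {l : G} (hl : l ∈ L) :
    ∃ r ∈ Subgroup.centralizer (L : Set G), x * (l * r) = (l * r) * x := by
  -- `x ^ i l x ^ (-i)` centralizes `L` for `0 < i < p`
  have hconj : ∀ i : ℕ, 0 < i → i < p →
      x ^ i * l * (x ^ i)⁻¹ ∈ Subgroup.centralizer (L : Set G) := by
    intro i hi0 hip
    have hcop : Nat.Coprime i (orderOf x) := by
      rw [hx]
      exact (Nat.coprime_of_lt_prime hi0.ne' hip hp.out).symm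
    obtain ⟨m, hm⟩ := exists_pow_eq_self_of_coprime hcop
    have hxi : x ^ i ∉ Subgroup.normalizer (L : Set G) := by
      intro h
      apply hxL
      rw [← hm]
      exact (Subgroup.normalizer (L : Set G)).pow_mem h m
    have hLi : IsComponent (L.map (MulAut.conj (x ^ i)).toMonoidHom) := isComponent_map_conj hL _
    have hne : L ≠ L.map (MulAut.conj (x ^ i)).toMonoidHom := by
      intro h
      apply hxi
      rw [Subgroup.mem_normalizer_iff_map_conj_eq]
      exact h.symm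
    have hcomm := component_commutator_eq_bot_of_ne hL hLi hne
    rw [Subgroup.mem_centralizer_iff]
    intro l' hl'
    have hmem : x ^ i * l * (x ^ i)⁻¹ ∈ L.map (MulAut.conj (x ^ i)).toMonoidHom :=
      ⟨l, hl, rfl⟩
    exact (commutator_eq_bot_iff_commute.mp hcomm) l' hl' _ hmem
  have hprod : ∀ n : ℕ, n < p → conjProd x l n ∈ Subgroup.centralizer (L : Set G) := by
    intro n
    induction n with
    | zero => intro _; exact Subgroup.one_mem _
    | succ n ih =>
      intro hn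
      exact Subgroup.mul_mem _ (ih (by omega)) (hconj (n + 1) (by omega) hn)
  have hp1 : 1 ≤ p := hp.out.one_le
  refine ⟨conjProd x l (p - 1), hprod (p - 1) (by omega), ?_⟩
  have h1 := conj_mul_conjProd x l (p - 1)
  have h2 : conjProd x l (p - 1 + 1) =
      conjProd x l (p - 1) * (x ^ (p - 1 + 1) * l * (x ^ (p - 1 + 1))⁻¹) := rfl
  have h3 : p - 1 + 1 = p := by omega
  have h4 : x ^ p = 1 := by rw [← hx]; exact pow_orderOf_eq_one x
  rw [h2, h3, h4, one_mul, inv_one, mul_one] at h1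
  have h5 : conjProd x l (p - 1) * l = l * conjProd x l (p - 1) :=
    (Subgroup.mem_centralizer_iff.mp (hprod (p - 1) (by omega))) l hl |>.symm
  rw [h5] at h1
  calc x * (l * conjProd x l (p - 1)) = (x * (l * conjProd x l (p - 1)) * x⁻¹) * x := by group
    _ = (l * conjProd x l (p - 1)) * x := by rw [h1]

omit [Finite G] in
theorem centralizer_zpowers_eq (x : G) :
    Subgroup.centralizer ((Subgroup.zpowers x : Subgroup G) : Set G) =
      Subgroup.centralizer ({x} : Set G) := by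
  rw [Subgroup.zpowers_eq_closure, Subgroup.centralizer_closure]

/-- `O_{p'}(C_G(x))` normalizes every component of `G` when `O_{p'}(G) = 1` and `x` has
order `p`. -/
theorem centralizerPPrimeCore_le_normalizer_component (p : ℕ) [Fact p.Prime]
    (hO : pPrimeCore p G = ⊥) (x : G) (hx : orderOf x = p) {L : Subgroup G}
    (hL : IsComponent L) :
    centralizerPPrimeCore p x ≤ Subgroup.normalizer (L : Set G) := by
  have hWc : (Nat.card (centralizerPPrimeCore p x)).Coprime p :=
    Cfsg.Agent.Lib.Helper31.card_centralizerPPrimeCore_coprime p x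
  have hWC : centralizerPPrimeCore p x ≤ Subgroup.centralizer ({x} : Set G) :=
    Cfsg.Agent.Lib.Helper31.centralizerPPrimeCore_le p x
  have hR : IsPGroup p (Subgroup.zpowers x) := by
    rw [IsPGroup.iff_card, Nat.card_zpowers, hx]
    exact ⟨1, (pow_one p).symm⟩
  have hWR : centralizerPPrimeCore p x ≤
      Subgroup.normalizer ((Subgroup.zpowers x : Subgroup G) : Set G) := by
    refine hWC.trans ?_
    rw [← centralizer_zpowers_eq]
    exact Subgroup.centralizer_le_normalizer _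
  have hRW : Subgroup.normalizer ((Subgroup.zpowers x : Subgroup G) : Set G) ≤
      Subgroup.normalizer ((centralizerPPrimeCore p x : Subgroup G) : Set G) := by
    refine le_trans (Cfsg.Agent.Lib.Helper49.normalizer_le_normalizer_centralizer _) ?_
    rw [centralizer_zpowers_eq]
    exact Cfsg.Agent.Lib.Helper31.normalizer_le_normalizer_map_subtype_of_characteristic _
  exact Cfsg.Agent.Lib.Helper31.le_normalizer_component_of_coprime_local hO hR hWR hRW hWc hL

/-- S1270: if `O_{p'}(G) = 1`, `x` has order `p` and `L` is a component with `⁅L, ⟨x⟩⁆ ≠ L`,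
then `O_{p'}(C_G(x))` centralizes `L`. -/
theorem commutator_centralizerPPrimeCore_eq_bot (p : ℕ) [Fact p.Prime]
    (hO : pPrimeCore p G = ⊥) (x : G) (hx : orderOf x = p) {L : Subgroup G}
    (hL : IsComponent L) (hne : ⁅L, Subgroup.zpowers x⁆ ≠ L) :
    ⁅L, centralizerPPrimeCore p x⁆ = ⊥ := by
  set W := centralizerPPrimeCore p x with hW
  have hWc : (Nat.card W).Coprime p :=
    Cfsg.Agent.Lib.Helper31.card_centralizerPPrimeCore_coprime p x
  have hWL : W ≤ Subgroup.normalizer (L : Set G) :=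
    centralizerPPrimeCore_le_normalizer_component p hO x hx hL
  have hWCL : W ≤ Subgroup.normalizer ((Subgroup.centralizer (L : Set G) : Subgroup G) : Set G) :=
    hWL.trans (normalizer_le_normalizer_centralizer L)
  have hWnorm : ∀ c : G, c * x = x * c → ∀ y ∈ W, c * y * c⁻¹ ∈ W := fun c hc y hy =>
    Cfsg.Agent.Lib.Helper31.conj_mem_centralizerPPrimeCore hc hy
  have hLL : ⁅L, L⁆ = L := qs_commutator_eq_self hL.2
  -- every `l ∈ L` can be completed to an element of `C_G(x)`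
  have hdiag : ∀ l ∈ L, ∃ r ∈ Subgroup.centralizer (L : Set G), x * (l * r) = (l * r) * x := by
    intro l hl
    rcases not_mem_normalizer_or_commute_of_commutator_ne hL hne with h | h
    · exact exists_mul_mem_centralizer_of_not_mem_normalizer hL hx h hl
    · exact ⟨1, Subgroup.one_mem _, by rw [mul_one]; exact h l hl⟩
  have hcomm : ∀ l ∈ L, ∀ m ∈ Subgroup.centralizer (L : Set G), m * l = l * m := by
    intro l hl m hm
    exact ((Subgroup.mem_centralizer_iff.mp hm) l hl).symm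
  -- the projection of `W ∩ L C(L)` to `L`
  let T : Subgroup G :=
    { carrier := {l | l ∈ L ∧ ∃ m ∈ Subgroup.centralizer (L : Set G), l * m ∈ W}
      one_mem' := ⟨L.one_mem, 1, Subgroup.one_mem _, by rw [mul_one]; exact W.one_mem⟩
      mul_mem' := by
        rintro a b ⟨ha, m, hm, ham⟩ ⟨hb, n, hn, hbn⟩
        refine ⟨L.mul_mem ha hb, m * n, Subgroup.mul_mem _ hm hn, ?_⟩
        have h1 : a * b * (m * n) = (a * m) * (b * n) := by
          calc a * b * (m * n) = a * (b * m) * n := by group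
            _ = a * (m * b) * n := by rw [hcomm b hb m hm]
            _ = (a * m) * (b * n) := by group
        rw [h1]
        exact W.mul_mem ham hbn
      inv_mem' := by
        rintro a ⟨ha, m, hm, ham⟩
        refine ⟨L.inv_mem ha, m⁻¹, Subgroup.inv_mem _ hm, ?_⟩
        have h1 : a⁻¹ * m⁻¹ = (a * m)⁻¹ := by
          rw [mul_inv_rev, ← hcomm a⁻¹ (L.inv_mem ha) m⁻¹ (Subgroup.inv_mem _ hm)]
        rw [h1]
        exact W.inv_mem ham }
  have hTL : T ≤ L := fun l hl => hl.1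
  have hTnorm : L ≤ Subgroup.normalizer (T : Set G) := by
    rw [Subgroup.le_normalizer_iff]
    rintro l₀ hl₀ t ⟨ht, m, hm, htm⟩
    obtain ⟨r₀, hr₀, hc⟩ := hdiag l₀ hl₀
    have hL1 : l₀ * t * l₀⁻¹ ∈ L := L.mul_mem (L.mul_mem hl₀ ht) (L.inv_mem hl₀)
    refine ⟨hL1, r₀ * m * r₀⁻¹,
      Subgroup.mul_mem _ (Subgroup.mul_mem _ hr₀ hm) (Subgroup.inv_mem _ hr₀), ?_⟩
    have h1 := hWnorm (l₀ * r₀) hc.symm (t * m) htm
    have h2 : l₀ * r₀ * (t * m) * (l₀ * r₀)⁻¹ = l₀ * t * l₀⁻¹ * (r₀ * m * r₀⁻¹) := by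
      have e1 : r₀ * t = t * r₀ := hcomm t ht r₀ hr₀
      have e2 : (r₀ * m * r₀⁻¹) * l₀⁻¹ = l₀⁻¹ * (r₀ * m * r₀⁻¹) :=
        hcomm l₀⁻¹ (L.inv_mem hl₀) _
          (Subgroup.mul_mem _ (Subgroup.mul_mem _ hr₀ hm) (Subgroup.inv_mem _ hr₀))
      calc l₀ * r₀ * (t * m) * (l₀ * r₀)⁻¹ = l₀ * (r₀ * t) * m * r₀⁻¹ * l₀⁻¹ := by group
        _ = l₀ * (t * r₀) * m * r₀⁻¹ * l₀⁻¹ := by rw [e1]
        _ = l₀ * t * ((r₀ * m * r₀⁻¹) * l₀⁻¹) := by group
        _ = l₀ * t * (l₀⁻¹ * (r₀ * m * r₀⁻¹)) := by rw [e2]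
        _ = l₀ * t * l₀⁻¹ * (r₀ * m * r₀⁻¹) := by group
    rw [h2] at h1
    exact h1
  -- commutators `⁅l, w⁆` lie in `T`
  have hLWT : ⁅L, W⁆ ≤ T := by
    rw [Subgroup.commutator_le]
    intro l hl w hw
    obtain ⟨r, hr, hc⟩ := hdiag l hl
    rw [commutatorElement_def]
    have hwl : w * l⁻¹ * w⁻¹ ∈ L :=
      (Subgroup.mem_normalizer_iff.mp (hWL hw) l⁻¹).mp (L.inv_mem hl)
    have hwr : w * r⁻¹ * w⁻¹ ∈ Subgroup.centralizer (L : Set G) :=
      (Subgroup.mem_normalizer_iff.mp (hWCL hw) r⁻¹).mp (Subgroup.inv_mem _ hr)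
    have hL1 : l * w * l⁻¹ * w⁻¹ ∈ L := by
      have : l * w * l⁻¹ * w⁻¹ = l * (w * l⁻¹ * w⁻¹) := by group
      rw [this]; exact L.mul_mem hl hwl
    refine ⟨hL1, r * (w * r⁻¹ * w⁻¹), Subgroup.mul_mem _ hr hwr, ?_⟩
    -- `(l r) w (l r)⁻¹ w⁻¹ ∈ W`
    have h1 : (l * r) * w * (l * r)⁻¹ ∈ W := hWnorm (l * r) hc.symm w hw
    have h2 : (l * r) * w * (l * r)⁻¹ * w⁻¹ ∈ W := W.mul_mem h1 (W.inv_mem hw)
    have h3 : (l * r) * w * (l * r)⁻¹ * w⁻¹ = l * w * l⁻¹ * w⁻¹ * (r * (w * r⁻¹ * w⁻¹)) := by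
      have e1 : r * (w * l⁻¹ * w⁻¹) = (w * l⁻¹ * w⁻¹) * r := hcomm _ hwl r hr
      have e2 : (w * r⁻¹ * w⁻¹) * (w * l⁻¹ * w⁻¹) = (w * l⁻¹ * w⁻¹) * (w * r⁻¹ * w⁻¹) :=
        hcomm _ hwl _ hwr
      calc (l * r) * w * (l * r)⁻¹ * w⁻¹
          = l * r * ((w * r⁻¹ * w⁻¹) * (w * l⁻¹ * w⁻¹)) := by group
        _ = l * r * ((w * l⁻¹ * w⁻¹) * (w * r⁻¹ * w⁻¹)) := by rw [e2]
        _ = l * (r * (w * l⁻¹ * w⁻¹)) * (w * r⁻¹ * w⁻¹) := by group
        _ = l * ((w * l⁻¹ * w⁻¹) * r) * (w * r⁻¹ * w⁻¹) := by rw [e1]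
        _ = l * w * l⁻¹ * w⁻¹ * (r * (w * r⁻¹ * w⁻¹)) := by group
    rw [h3] at h2
    exact h2
  rcases qs_eq_or_commutator_eq_bot hL.2 hTL hTnorm with hT | hT
  · -- `T = L`: then `L` is a `p'`-group, impossible
    exfalso
    have hperf : Group.IsPerfect ↥L := hL.2.1
    have P : Sylow p ↥L := default
    have hPc : (P : Subgroup ↥L) ≤ Subgroup.center ↥L := by
      intro g hg
      obtain ⟨k, hk⟩ := P.isPGroup' ⟨g, hg⟩
      have hgk : (g : G) ^ p ^ k = 1 := by
        have := congrArg (fun z : ↥(P : Subgroup ↥L) => ((z : ↥L) : G)) hk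
        simpa using this
      have hgT : (g : G) ∈ T := by rw [hT]; exact g.2
      obtain ⟨_, m, hm, hgm⟩ := hgT
      set n := orderOf ((g : G) * m) with hn
      have hncop : n.Coprime p :=
        Nat.Coprime.coprime_dvd_left (Subgroup.orderOf_dvd_natCard W hgm) hWc
      have hgm' : (g : G) * m = m * (g : G) := (hcomm g g.2 m hm).symm
      have hpow : ((g : G) * m) ^ n = 1 := pow_orderOf_eq_one _
      rw [(show Commute (g : G) m from hgm').mul_pow] at hpow
      -- `g ^ n = (m ^ n)⁻¹` centralizes `L`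
      have hgn : (g : G) ^ n ∈ Subgroup.centralizer (L : Set G) := by
        have : (g : G) ^ n = (m ^ n)⁻¹ := eq_inv_of_mul_eq_one_left hpow
        rw [this]
        exact Subgroup.inv_mem _ (Subgroup.pow_mem _ hm n)
      have hord : orderOf (g : G) ∣ p ^ k := orderOf_dvd_of_pow_eq_one hgk
      have hcop2 : n.Coprime (orderOf (g : G)) :=
        Nat.Coprime.coprime_dvd_right hord (Nat.Coprime.pow_right k hncop)
      obtain ⟨j, hj⟩ := exists_pow_eq_self_of_coprime hcop2
      have hgC : (g : G) ∈ Subgroup.centralizer (L : Set G) := by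
        rw [← hj]; exact Subgroup.pow_mem _ hgn j
      rw [Subgroup.mem_center_iff]
      intro h
      apply Subtype.ext
      exact (Subgroup.mem_centralizer_iff.mp hgC) h h.2
    have hcop := Cfsg.Agent.Lib.Helper31.card_coprime_of_isPerfect_of_sylow_le_center P hPc
    have hle := Cfsg.Agent.Lib.Helper22.le_pPrimeCore_of_isSubnormal_of_coprime p hL.1 hcop
    rw [hO, le_bot_iff] at hle
    have hnt := qs_nontrivial hL.2
    rw [hle] at hnt
    exact not_nontrivial _ hnt
  · -- `T ≤ Z(L)`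
    have h1 : ⁅⁅W, L⁆, L⁆ = ⊥ := by
      rw [Subgroup.commutator_comm W L, Subgroup.commutator_comm]
      rw [eq_bot_iff]
      exact (Subgroup.commutator_mono le_rfl hLWT).trans hT.le
    exact commutator_eq_bot_of_perfect hLL h1


end PPrimeCentralizer

end Cfsg.Agent.Lib.Helper21
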