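/-
helper21 shared library: balance of `H / C_H(L)` forces a `p'`-subgroup, centralizing `x` and
normalized by the preimage of `C_{H/C}(xC)`, to centralize the quasisimple normal subgroup `L`
(towards S1271).
All declarations live in `Cfsg.Agent.Lib.Helper21`.
-/
import Mathlib
import Cfsg.Prelude.Def_Local
import Cfsg.Prelude.Def_Balance
import Cfsg.Agent.Lib.Helper21.PPrimeCentralizer

set_option autoImplicit false

namespace Cfsg.Agent.Lib.Helper21

open Cfsg
open scoped Pointwise commutatorElement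

section BalanceQuot

/-- A finite perfect group in which every element has a power, prime to `p`, in the center, has
order prime to `p`. -/
theorem card_coprime_of_forall_exists_pow_mem_center {p : ℕ} [Fact p.Prime] {K : Type*} [Group K]
    [Finite K] [Group.IsPerfect K]
    (h : ∀ g : K, ∃ n : ℕ, n.Coprime p ∧ g ^ n ∈ Subgroup.center K) :
    (Nat.card K).Coprime p := by
  have P : Sylow p K := default
  apply Cfsg.Agent.Lib.Helper31.card_coprime_of_isPerfect_of_sylow_le_center P
  intro g hg
  obtain ⟨k, hk⟩ := P.isPGroup' ⟨g, hg⟩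
  have hgk : g ^ p ^ k = 1 := by
    have := congrArg (fun z : ↥(P : Subgroup K) => (z : K)) hk
    simpa using this
  obtain ⟨n, hn, hgn⟩ := h g
  have hord : orderOf g ∣ p ^ k := orderOf_dvd_of_pow_eq_one hgk
  have hcop : n.Coprime (orderOf g) :=
    Nat.Coprime.coprime_dvd_right hord (Nat.Coprime.pow_right k hn)
  obtain ⟨j, hj⟩ := exists_pow_eq_self_of_coprime hcop
  rw [← hj]
  exact Subgroup.pow_mem _ hgn j

variable {H : Type*} [Group H] [Finite H]

/-- Key quotient lemma for S1271. -/
theorem le_of_isBalancedFor_quotient {p : ℕ} [Fact p.Prime] (L C : Subgroup H) [hLn : L.Normal]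
    [hCn : C.Normal] (hC : ∀ h : H, h ∈ C ↔ ∀ l ∈ L, l * h = h * l) (hLq : IsQuasisimple L)
    (hLp : ¬ (Nat.card L).Coprime p) (hbal : IsBalancedFor p (H ⧸ C)) (x : H)
    (hx : orderOf x = p) (hxC : x ∉ C) (W : Subgroup H) (hWc : (Nat.card W).Coprime p)
    (hWx : ∀ w ∈ W, w * x = x * w)
    (hWn : ∀ d : H, ⁅d, x⁆ ∈ C → ∀ w ∈ W, d * w * d⁻¹ ∈ W) : W ≤ C := by
  set π : H →* H ⧸ C := QuotientGroup.mk' C with hπ
  have hπC : ∀ h : H, π h = 1 ↔ h ∈ C := fun h => QuotientGroup.eq_one_iff h
  -- the image of `x` has order `p`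
  have hxbar : orderOf (π x) = p := by
    apply orderOf_eq_prime
    · rw [← map_pow, ← hx, pow_orderOf_eq_one, map_one]
    · intro h; exact hxC ((hπC x).mp h)
  have hb := hbal (π x) hxbar
  -- the image of `W` lies in `O_{p'}(C(π x))`
  have hWbar : W.map π ≤ centralizerPPrimeCore p (π x) := by
    have hWcent : W.map π ≤ Subgroup.centralizer ({π x} : Set (H ⧸ C)) := by
      rintro _ ⟨w, hw, rfl⟩
      rw [Subgroup.mem_centralizer_singleton_iff, ← map_mul, ← map_mul, hWx w hw]
    have hn : ((W.map π).subgroupOf (Subgroup.centralizer ({π x} : Set (H ⧸ C)))).Normal := by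
      apply Subgroup.normal_subgroupOf_of_le_normalizer
      rw [Subgroup.le_normalizer_iff]
      rintro dbar hdbar _ ⟨w, hw, rfl⟩
      obtain ⟨d, rfl⟩ := QuotientGroup.mk'_surjective C dbar
      rw [Subgroup.mem_centralizer_singleton_iff] at hdbar
      change π d * π x = π x * π d at hdbar
      have hdx : ⁅d, x⁆ ∈ C := by
        rw [← hπC, commutatorElement_def, map_mul, map_mul, map_mul, map_inv, map_inv, hdbar]
        group
      refine ⟨d * w * d⁻¹, hWn d hdx w hw, ?_⟩
      rw [map_mul, map_mul, map_inv]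
    have hcard : (Nat.card ((W.map π).subgroupOf
        (Subgroup.centralizer ({π x} : Set (H ⧸ C))))).Coprime p := by
      rw [Nat.card_congr (Subgroup.subgroupOfEquivOfLe hWcent).toEquiv]
      exact Nat.Coprime.coprime_dvd_left (Subgroup.card_map_dvd W π) hWc
    have hle := Cfsg.Agent.Lib.Helper1.le_pPrimeCore hn hcard
    intro y hy
    exact ⟨⟨y, hWcent hy⟩, hle hy, rfl⟩
  set Y : Subgroup H := (pPrimeCore p (H ⧸ C)).comap π with hY
  have hYn : Y.Normal := (Cfsg.Agent.Lib.Helper1.pPrimeCore_normal p).comap π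
  have hWY : W ≤ Y := by
    intro w hw
    rw [hY, Subgroup.mem_comap]
    exact hb (hWbar ⟨w, hw, rfl⟩)
  have hLL : ⁅L, L⁆ = L := qs_commutator_eq_self hLq
  have hYLn : (Y ⊓ L).Normal := inferInstance
  have hnorm : L ≤ Subgroup.normalizer ((Y ⊓ L : Subgroup H) : Set H) := by
    rw [Subgroup.normalizer_eq_top]; exact le_top
  rcases qs_eq_or_commutator_eq_bot hLq (inf_le_right : Y ⊓ L ≤ L) hnorm with h | h
  · -- `L ≤ Y`: then `L` is a `p'`-group
    exfalso
    apply hLp
    have hperf : Group.IsPerfect ↥L := hLq.1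
    apply card_coprime_of_forall_exists_pow_mem_center
    intro g
    have hgY : (g : H) ∈ Y := by
      have : (g : H) ∈ Y ⊓ L := by rw [h]; exact g.2
      exact this.1
    rw [hY, Subgroup.mem_comap] at hgY
    refine ⟨Nat.card (pPrimeCore p (H ⧸ C)),
      Cfsg.Agent.Lib.Helper1.pPrimeCore_card_coprime p, ?_⟩
    have h1 : (π (g : H)) ^ Nat.card (pPrimeCore p (H ⧸ C)) = 1 := by
      have h0 : (⟨π (g : H), hgY⟩ : ↥(pPrimeCore p (H ⧸ C))) ^
          Nat.card ↥(pPrimeCore p (H ⧸ C)) = 1 := pow_card_eq_one'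
      have h00 := congrArg Subtype.val h0
      rw [Subgroup.coe_pow] at h00
      exact h00
    rw [← map_pow, hπC] at h1
    rw [Subgroup.mem_center_iff]
    intro l
    apply Subtype.ext
    have := (hC _).mp h1 l l.2
    simpa using this
  · -- `[L, Y ∩ L] = 1`
    have h1 : ⁅⁅Y, L⁆, L⁆ = ⊥ := by
      rw [Subgroup.commutator_comm]
      rw [eq_bot_iff]
      exact (Subgroup.commutator_mono le_rfl (Subgroup.commutator_le_inf Y L)).trans h.le
    have h2 : ⁅L, Y⁆ = ⊥ := commutator_eq_bot_of_perfect hLL h1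
    intro w hw
    rw [hC]
    intro l hl
    exact (commutator_eq_bot_iff_commute.mp h2) l hl w (hWY hw)

end BalanceQuot

end Cfsg.Agent.Lib.Helper21
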