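/-
helper21 shared library: a group with `O_{p'}(G) = 1` all of whose components have balanced
automizers is balanced (S1271).
All declarations live in `Cfsg.Agent.Lib.Helper21`.
-/
import Mathlib
import Cfsg.Prelude.Def_Local
import Cfsg.Prelude.Def_Balance
import Cfsg.Agent.Lib.Helper21.BalanceQuot
import Cfsg.Agent.Lib.Helper21.GenFitting
import Cfsg.Agent.Lib.Helper22.PConstrained

set_option autoImplicit false

namespace Cfsg.Agent.Lib.Helper21

open Cfsg
open scoped Pointwise commutatorElement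

section BalanceComponents

universe u

variable {G : Type u} [Group G]

/-- `K` normalizes `⁅H, K⁆`. -/
theorem le_normalizer_commutator_right (H K : Subgroup G) :
    K ≤ Subgroup.normalizer ((⁅H, K⁆ : Subgroup G) : Set G) := by
  rw [Subgroup.commutator_comm]
  exact le_normalizer_commutator_left K H

variable [Finite G]

/-- `Z(L) = L ∩ C_G(L)` lies in the Fitting subgroup, for a subnormal `L`. -/
theorem inf_centralizer_le_fittingSubgroup {L : Subgroup G} (hL : L.IsSubnormal) :
    L ⊓ Subgroup.centralizer (L : Set G) ≤ fittingSubgroup G := by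
  apply subnormal_nilpotent_le_fitting
  · refine Subgroup.IsSubnormal.step _ L inf_le_left hL ?_
    apply Subgroup.normal_subgroupOf_of_le_normalizer
    refine le_trans ?_ (Subgroup.inf_normalizer_le_normalizer_inf)
    exact le_inf Subgroup.le_normalizer
      (Subgroup.le_normalizer.trans (normalizer_le_normalizer_centralizer L))
  · have hcomm : IsMulCommutative ↥(L ⊓ Subgroup.centralizer (L : Set G)) := by
      refine ⟨⟨fun a b => ?_⟩⟩
      apply Subtype.ext
      have := (Subgroup.mem_centralizer_iff.mp a.2.2) b.1 b.2.1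
      exact this.symm
    let _ : CommGroup ↥(L ⊓ Subgroup.centralizer (L : Set G)) :=
      { (inferInstance : Group ↥(L ⊓ Subgroup.centralizer (L : Set G))) with
        mul_comm := mul_comm' }
    exact CommGroup.isNilpotent

/-- The hypotheses of helper31's local lemmas for `R = ⟨x⟩` and `W = O_{p'}(C_G(x))`. -/
theorem centralizerPPrimeCore_local_hyps (p : ℕ) [Fact p.Prime] (x : G) (hx : orderOf x = p) :
    IsPGroup p (Subgroup.zpowers x) ∧
    centralizerPPrimeCore p x ≤ Subgroup.normalizer ((Subgroup.zpowers x : Subgroup G) : Set G) ∧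
    Subgroup.normalizer ((Subgroup.zpowers x : Subgroup G) : Set G) ≤
      Subgroup.normalizer ((centralizerPPrimeCore p x : Subgroup G) : Set G) ∧
    (Nat.card (centralizerPPrimeCore p x)).Coprime p := by
  refine ⟨?_, ?_, ?_, Cfsg.Agent.Lib.Helper31.card_centralizerPPrimeCore_coprime p x⟩
  · rw [IsPGroup.iff_card, Nat.card_zpowers, hx]
    exact ⟨1, (pow_one p).symm⟩
  · refine (Cfsg.Agent.Lib.Helper31.centralizerPPrimeCore_le p x).trans ?_
    rw [← centralizer_zpowers_eq]
    exact Subgroup.centralizer_le_normalizer _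
  · refine le_trans (Cfsg.Agent.Lib.Helper49.normalizer_le_normalizer_centralizer _) ?_
    rw [centralizer_zpowers_eq]
    exact Cfsg.Agent.Lib.Helper31.normalizer_le_normalizer_map_subtype_of_characteristic _

/-- `O_{p'}(C_G(x))` centralizes `O_p(G)`. -/
theorem centralizerPPrimeCore_le_centralizer_pCore (p : ℕ) [Fact p.Prime] (x : G)
    (hx : orderOf x = p) :
    centralizerPPrimeCore p x ≤ Subgroup.centralizer (pCore p G : Set G) := by
  obtain ⟨hR, hWR, hRW, hW⟩ := centralizerPPrimeCore_local_hyps p x hx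
  exact Cfsg.Agent.Lib.Helper31.le_centralizer_pCore_of_coprime_local hR hWR hRW hW

/-- Key step of S1271 for a component `L` with `⁅L, ⟨x⟩⁆ = L`. -/
theorem commutator_centralizerPPrimeCore_eq_bot_of_balanced (p : ℕ) [Fact p.Prime]
    (hO : pPrimeCore p G = ⊥) (x : G) (hx : orderOf x = p) {L : Subgroup G} (hL : IsComponent L)
    (hLx : ⁅L, Subgroup.zpowers x⁆ = L)
    (hbal : ∀ H : Subgroup G, L ≤ H → (L.subgroupOf H).Normal →
      ∀ [((Subgroup.centralizer (L : Set G)).subgroupOf H).Normal],
        IsBalancedFor p (↥H ⧸ (Subgroup.centralizer (L : Set G)).subgroupOf H)) :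
    ⁅L, centralizerPPrimeCore p x⁆ = ⊥ := by
  set W := centralizerPPrimeCore p x with hW
  set N := Subgroup.normalizer (L : Set G) with hN
  set Cx := Subgroup.centralizer ({x} : Set G) with hCx
  set CL := Subgroup.centralizer (L : Set G) with hCL
  have hNCL : N ≤ Subgroup.normalizer (CL : Set G) := normalizer_le_normalizer_centralizer L
  have hxN : x ∈ N := by
    have := le_normalizer_commutator_right L (Subgroup.zpowers x)
    rw [hLx] at this
    exact this (Subgroup.mem_zpowers x)
  have hxCx : x ∈ Cx := Subgroup.mem_centralizer_singleton_iff.mpr rfl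
  set M := N ⊓ Cx with hM
  set H := L ⊔ M with hH
  have hLH : L ≤ H := le_sup_left
  have hMH : M ≤ H := le_sup_right
  have hMN : M ≤ N := inf_le_left
  have hHN : H ≤ N := sup_le Subgroup.le_normalizer hMN
  have hxH : x ∈ H := hMH ⟨hxN, hxCx⟩
  have hWc : (Nat.card W).Coprime p :=
    Cfsg.Agent.Lib.Helper31.card_centralizerPPrimeCore_coprime p x
  have hWCx : W ≤ Cx := Cfsg.Agent.Lib.Helper31.centralizerPPrimeCore_le p x
  have hWN : W ≤ N := centralizerPPrimeCore_le_normalizer_component p hO x hx hL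
  have hWM : W ≤ M := le_inf hWN hWCx
  have hCxW : Cx ≤ Subgroup.normalizer (W : Set G) := by
    rw [Subgroup.le_normalizer_iff]
    intro c hc w hw
    exact Cfsg.Agent.Lib.Helper31.conj_mem_centralizerPPrimeCore
      (Subgroup.mem_centralizer_singleton_iff.mp hc) hw
  -- decomposition of the elements of `H`
  have hdecomp : ∀ h ∈ H, ∃ l ∈ L, ∃ c ∈ M, l * c = h := by
    intro h hh
    have : h ∈ ((L : Set G) * (M : Set G)) := by
      rw [← Subgroup.coe_mul_of_right_le_normalizer_left L M hMN]; exact hh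
    obtain ⟨l, hl, c, hc, e⟩ := Set.mem_mul.mp this
    exact ⟨l, hl, c, hc, e⟩
  set Z := L ⊓ CL with hZ
  set P₁ := Z ⊔ Subgroup.zpowers x with hP₁
  -- `W` centralizes `Z` and `x`
  have hFp : fittingSubgroup G = pCore p G :=
    Cfsg.Agent.Lib.Helper22.fittingSubgroup_eq_pCore_of_pPrimeCore_eq_bot p hO
  have hZQ : Z ≤ pCore p G := by
    rw [← hFp]; exact inf_centralizer_le_fittingSubgroup hL.1
  have hWZ : W ≤ Subgroup.centralizer (Z : Set G) :=
    (centralizerPPrimeCore_le_centralizer_pCore p x hx).trans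
      (Subgroup.centralizer_le (SetLike.coe_subset_coe.mpr hZQ))
  have hWP₁ : W ≤ Subgroup.centralizer (P₁ : Set G) := by
    rw [Subgroup.le_centralizer_iff]
    apply sup_le
    · rw [← Subgroup.le_centralizer_iff]; exact hWZ
    · rw [Subgroup.zpowers_le, Subgroup.mem_centralizer_iff]
      intro w hw
      exact Subgroup.mem_centralizer_singleton_iff.mp (hWCx hw)
  set K := Subgroup.centralizer (P₁ : Set G) ⊓ H with hK
  have hKCx : K ≤ Cx := by
    refine inf_le_left.trans ?_
    rw [hCx, ← centralizer_zpowers_eq]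
    exact Subgroup.centralizer_le (SetLike.coe_subset_coe.mpr le_sup_right)
  have hWK : W ≤ K := le_inf hWP₁ (hWM.trans hMH)
  set W₂ : Subgroup G := (pPrimeCore p ↥K).map K.subtype with hW₂
  have hWW₂ : W ≤ W₂ := by
    have hn : (W.subgroupOf K).Normal :=
      Subgroup.normal_subgroupOf_of_le_normalizer (hKCx.trans hCxW)
    have hcard : (Nat.card (W.subgroupOf K)).Coprime p := by
      rw [Nat.card_congr (Subgroup.subgroupOfEquivOfLe hWK).toEquiv]
      exact hWc
    have hle := Cfsg.Agent.Lib.Helper1.le_pPrimeCore hn hcard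
    intro y hy
    exact ⟨⟨y, hWK hy⟩, hle hy, rfl⟩
  have hW₂c : (Nat.card W₂).Coprime p := by
    rw [hW₂, Subgroup.card_map_of_injective K.subtype_injective]
    exact Cfsg.Agent.Lib.Helper1.pPrimeCore_card_coprime p
  have hW₂K : W₂ ≤ K := Subgroup.map_subtype_le _
  -- the preimage of `C(x̄)` normalizes `W₂`
  have hD : ∀ d ∈ H, ⁅d, x⁆ ∈ CL → d ∈ Subgroup.normalizer (W₂ : Set G) := by
    intro d hd hdx
    have hdN : d ∈ N := hHN hd
    have hdxL : ⁅d, x⁆ ∈ L := by
      obtain ⟨l, hl, c, hc, rfl⟩ := hdecomp d hd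
      have hcx : c * x = x * c := Subgroup.mem_centralizer_singleton_iff.mp hc.2
      have heq : ⁅l * c, x⁆ = l * (x * l⁻¹ * x⁻¹) := by
        rw [commutatorElement_def]
        calc l * c * x * (l * c)⁻¹ * x⁻¹ = l * (c * x) * c⁻¹ * l⁻¹ * x⁻¹ := by group
          _ = l * (x * c) * c⁻¹ * l⁻¹ * x⁻¹ := by rw [hcx]
          _ = l * (x * l⁻¹ * x⁻¹) := by group
      rw [heq]
      exact L.mul_mem hl ((Subgroup.mem_normalizer_iff.mp hxN l⁻¹).mp (L.inv_mem hl))
    have hdxZ : ⁅d, x⁆ ∈ Z := ⟨hdxL, hdx⟩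
    have hdP : d ∈ Subgroup.normalizer (P₁ : Set G) := by
      rw [Subgroup.mem_normalizer_iff_map_conj_eq]
      apply Subgroup.eq_of_le_of_card_ge
      · rw [Subgroup.map_sup]
        apply sup_le
        · rintro _ ⟨z, hz, rfl⟩
          apply Subgroup.mem_sup_left
          show d * z * d⁻¹ ∈ Z
          exact ⟨(Subgroup.mem_normalizer_iff.mp hdN z).mp hz.1,
            (Subgroup.mem_normalizer_iff.mp (hNCL hdN) z).mp hz.2⟩
        · rw [MonoidHom.map_zpowers, Subgroup.zpowers_le]
          show d * x * d⁻¹ ∈ P₁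
          have : d * x * d⁻¹ = ⁅d, x⁆ * x := by rw [commutatorElement_def]; group
          rw [this]
          exact P₁.mul_mem (Subgroup.mem_sup_left hdxZ)
            (Subgroup.mem_sup_right (Subgroup.mem_zpowers x))
      · rw [Subgroup.card_map_of_injective (MulAut.conj d).injective]
    have hdK : d ∈ Subgroup.normalizer (K : Set G) :=
      Subgroup.inf_normalizer_le_normalizer_inf
        ⟨normalizer_le_normalizer_centralizer P₁ hdP, Subgroup.le_normalizer hd⟩
    exact Cfsg.Agent.Lib.Helper31.normalizer_le_normalizer_map_subtype_of_characteristic _ hdK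
  -- apply the quotient lemma in `H`
  have hLHn : (L.subgroupOf H).Normal := (Subgroup.normal_subgroupOf_iff_le_normalizer hLH).mpr hHN
  have hCLn : (CL.subgroupOf H).Normal :=
    Subgroup.normal_subgroupOf_of_le_normalizer (hHN.trans hNCL)
  have hbalH := hbal H hLH hLHn
  have hC' : ∀ h : ↥H, h ∈ CL.subgroupOf H ↔ ∀ l ∈ L.subgroupOf H, l * h = h * l := by
    intro h
    rw [Subgroup.mem_subgroupOf, Subgroup.mem_centralizer_iff]
    constructor
    · intro hh l hl
      apply Subtype.ext
      exact hh l.1 (Subgroup.mem_subgroupOf.mp hl)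
    · intro hh g hg
      have := hh ⟨g, hLH hg⟩ (Subgroup.mem_subgroupOf.mpr hg)
      exact congrArg Subtype.val this
  have hLq' : IsQuasisimple ↥(L.subgroupOf H) :=
    Cfsg.Agent.Lib.Helper29.isQuasisimple_of_mulEquiv (Subgroup.subgroupOfEquivOfLe hLH).symm hL.2
  have hLp' : ¬ (Nat.card ↥(L.subgroupOf H)).Coprime p := by
    rw [Nat.card_congr (Subgroup.subgroupOfEquivOfLe hLH).toEquiv]
    intro hc
    have hle := Cfsg.Agent.Lib.Helper22.le_pPrimeCore_of_isSubnormal_of_coprime p hL.1 hc
    rw [hO, le_bot_iff] at hle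
    have hnt := qs_nontrivial hL.2
    rw [hle] at hnt
    exact not_nontrivial _ hnt
  have hx' : orderOf (⟨x, hxH⟩ : ↥H) = p := by
    rw [Subgroup.orderOf_mk]; exact hx
  have hxC' : (⟨x, hxH⟩ : ↥H) ∉ CL.subgroupOf H := by
    rw [Subgroup.mem_subgroupOf]
    intro hxCL
    have h1 : ⁅L, Subgroup.zpowers x⁆ = ⊥ := by
      rw [Subgroup.commutator_eq_bot_iff_le_centralizer, Subgroup.le_centralizer_iff,
        Subgroup.zpowers_le]
      exact hxCL
    rw [hLx] at h1
    have hnt := qs_nontrivial hL.2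
    rw [h1] at hnt
    exact not_nontrivial _ hnt
  have hW₂H : W₂ ≤ H := hW₂K.trans inf_le_right
  have hW₂c' : (Nat.card ↥(W₂.subgroupOf H)).Coprime p := by
    rw [Nat.card_congr (Subgroup.subgroupOfEquivOfLe hW₂H).toEquiv]
    exact hW₂c
  have hW₂x' : ∀ w ∈ W₂.subgroupOf H, w * (⟨x, hxH⟩ : ↥H) = ⟨x, hxH⟩ * w := by
    intro w hw
    apply Subtype.ext
    exact Subgroup.mem_centralizer_singleton_iff.mp (hKCx (hW₂K (Subgroup.mem_subgroupOf.mp hw)))
  have hW₂n' : ∀ d : ↥H, ⁅d, (⟨x, hxH⟩ : ↥H)⁆ ∈ CL.subgroupOf H →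
      ∀ w ∈ W₂.subgroupOf H, d * w * d⁻¹ ∈ W₂.subgroupOf H := by
    intro d hd w hw
    rw [Subgroup.mem_subgroupOf] at hd hw ⊢
    have hd' : ⁅(d : G), x⁆ ∈ CL := by
      have : ((⁅d, (⟨x, hxH⟩ : ↥H)⁆ : ↥H) : G) = ⁅(d : G), x⁆ := by
        simp [commutatorElement_def]
      rw [← this]; exact hd
    have := hD d.1 d.2 hd'
    exact (Subgroup.mem_normalizer_iff.mp this w.1).mp hw
  have key := le_of_isBalancedFor_quotient (p := p) (L.subgroupOf H) (CL.subgroupOf H) hC' hLq'
    hLp' hbalH ⟨x, hxH⟩ hx' hxC' (W₂.subgroupOf H) hW₂c' hW₂x' hW₂n'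
  have hWCL : W ≤ CL := by
    intro w hw
    have h1 : (⟨w, hMH (hWM hw)⟩ : ↥H) ∈ W₂.subgroupOf H := by
      rw [Subgroup.mem_subgroupOf]; exact hWW₂ hw
    have := key h1
    rwa [Subgroup.mem_subgroupOf] at this
  rw [Subgroup.commutator_comm, Subgroup.commutator_eq_bot_iff_le_centralizer]
  exact hWCL


/-- S1271: if `O_{p'}(G) = 1` and the automizers `H / C_H(L)` of the components are balanced for
`p`, then `G` is balanced for `p`. -/
theorem isBalancedFor_of_components (p : ℕ) [Fact p.Prime] (hO : pPrimeCore p G = ⊥)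
    (h : ∀ L : Subgroup G, IsComponent L → ∀ H : Subgroup G, L ≤ H → (L.subgroupOf H).Normal →
      ∀ [((Subgroup.centralizer (L : Set G)).subgroupOf H).Normal],
        IsBalancedFor p (↥H ⧸ (Subgroup.centralizer (L : Set G)).subgroupOf H)) :
    IsBalancedFor p G := by
  intro x hx
  set W := centralizerPPrimeCore p x with hW
  have hWc : (Nat.card W).Coprime p :=
    Cfsg.Agent.Lib.Helper31.card_centralizerPPrimeCore_coprime p x
  have hcomp : ∀ L : Subgroup G, IsComponent L → L ≤ Subgroup.centralizer (W : Set G) := by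
    intro L hL
    rw [← Subgroup.commutator_eq_bot_iff_le_centralizer]
    by_cases hLx : ⁅L, Subgroup.zpowers x⁆ = L
    · exact commutator_centralizerPPrimeCore_eq_bot_of_balanced p hO x hx hL hLx (h L hL)
    · exact commutator_centralizerPPrimeCore_eq_bot p hO x hx hL hLx
  have hlayer : layer G ≤ Subgroup.centralizer (W : Set G) := sSup_le fun L hL => hcomp L hL
  have hFp : fittingSubgroup G = pCore p G :=
    Cfsg.Agent.Lib.Helper22.fittingSubgroup_eq_pCore_of_pPrimeCore_eq_bot p hO
  have hfit : fittingSubgroup G ≤ Subgroup.centralizer (W : Set G) := by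
    rw [hFp, ← Subgroup.le_centralizer_iff]
    exact centralizerPPrimeCore_le_centralizer_pCore p x hx
  have hgfs : generalizedFittingSubgroup G ≤ Subgroup.centralizer (W : Set G) :=
    sup_le hlayer hfit
  have hW1 : W ≤ Subgroup.centralizer (generalizedFittingSubgroup G : Set G) :=
    Subgroup.le_centralizer_iff.mp hgfs
  have hW2 : W ≤ generalizedFittingSubgroup G :=
    hW1.trans centralizer_generalizedFittingSubgroup_le
  have hA : generalizedFittingSubgroup G ⊓
      Subgroup.centralizer (generalizedFittingSubgroup G : Set G) ≤ fittingSubgroup G :=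
    inf_centralizer_le_fittingSubgroup
      (Cfsg.Agent.Lib.Helper29.generalizedFittingSubgroup_normal G).isSubnormal
  have hWQ : W ≤ pCore p G := by
    rw [← hFp]; exact (le_inf hW2 hW1).trans hA
  have hbot : pCore p G ⊓ W = ⊥ :=
    Cfsg.Agent.Lib.Helper97.inf_eq_bot_of_isPGroup_of_coprime (isPGroup_pCore p G) hWc
  have hWbot : W = ⊥ := by
    rw [← hbot]; exact (inf_eq_right.mpr hWQ).symm
  rw [hWbot]
  exact bot_le


end BalanceComponents

end Cfsg.Agent.Lib.Helper21
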