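import Mathlib

/-!
# 2 × 2 matrices over the field with three elements (helper21; for BHRSP-[3B-R0-*])

Entry-level facts are decided over `ZMod 3` and transferred along `ZMod 3 ≃+* F`.
-/

set_option autoImplicit false
set_option linter.unusedSimpArgs false
set_option linter.unusedSectionVars false

namespace Cfsg.Agent.Lib.Helper21.Sp4

open scoped Matrix

/-! ### decided facts over `ZMod 3` -/

set_option maxRecDepth 1000000 in
theorem z_genpair : ∀ a b c a' b' c' : ZMod 3, -(a * a) - b * c = 1 → -(a' * a') - b' * c' = 1 →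
    a * a' + a * a' + b * c' + c * b' = 0 ∨ (a' = a ∧ b' = b ∧ c' = c) ∨ (a' = -a ∧ b' = -b ∧ c' = -c) := by
  decide

set_option maxRecDepth 1000000 in
theorem z_orth_sq : ∀ a b c e : ZMod 3, a * a + c * c = 1 → a * b + c * e = 0 → b * b + e * e = 1 →
    (a * a + b * c = 1 ∧ a * b + b * e = 0 ∧ c * a + e * c = 0 ∧ c * b + e * e = 1) ∨
    (a * a + b * c = -1 ∧ a * b + b * e = 0 ∧ c * a + e * c = 0 ∧ c * b + e * e = -1) := by
  decide

set_option maxRecDepth 1000000 in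
theorem z_orth_sq_neg : ∀ a b c e : ZMod 3, a * a + c * c = 1 → a * b + c * e = 0 → b * b + e * e = 1 →
    a * a + b * c = -1 →
    (a = 0 ∧ b = 1 ∧ c = -1 ∧ e = 0) ∨ (a = 0 ∧ b = -1 ∧ c = 1 ∧ e = 0) := by
  decide

set_option maxRecDepth 1000000 in
theorem z_orth_comm_J : ∀ a b c e : ZMod 3, a * a + c * c = 1 → a * b + c * e = 0 → b * b + e * e = 1 →
    a * a + b * c = 1 → c = -b → e = a →
    (a = 1 ∧ b = 0 ∧ c = 0 ∧ e = 1) ∨ (a = -1 ∧ b = 0 ∧ c = 0 ∧ e = -1) := by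
  decide

set_option maxRecDepth 1000000 in
theorem z_orth_center : ∀ a b c e : ZMod 3, a * a + c * c = 1 → a * b + c * e = 0 → b * b + e * e = 1 →
    c = -b → e = a → -b = b →
    (a = 1 ∧ b = 0 ∧ c = 0 ∧ e = 1) ∨ (a = -1 ∧ b = 0 ∧ c = 0 ∧ e = -1) := by
  decide

set_option maxRecDepth 1000000 in
set_option synthInstance.maxSize 4096 in
set_option synthInstance.maxHeartbeats 400000 in
theorem z_orth_inv_shape : ∀ a b c e : ZMod 3, a * a + c * c = 1 → a * b + c * e = 0 → b * b + e * e = 1 →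
    a * a + b * c = 1 →
    (a = 1 ∧ b = 0 ∧ c = 0 ∧ e = 1) ∨ (a = -1 ∧ b = 0 ∧ c = 0 ∧ e = -1) ∨ (e = -a ∧ c = b ∧ a * a + b * b = 1) := by
  decide

set_option maxRecDepth 1000000 in
theorem z_refl_pair : ∀ a b a' b' : ZMod 3, a * a + b * b = 1 → a' * a' + b' * b' = 1 →
    a * b' - b * a' = a' * b - b' * a → (a' = a ∧ b' = b) ∨ (a' = -a ∧ b' = -b) := by
  decide

set_option maxRecDepth 1000000 in
theorem z_q_center : ∀ a b c e : ZMod 3, a * e - b * c = 1 → c = -b → e = a → b = c →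
    (a = 1 ∧ b = 0 ∧ c = 0 ∧ e = 1) ∨ (a = -1 ∧ b = 0 ∧ c = 0 ∧ e = -1) := by
  decide

theorem z_one_ne : (1 : ZMod 3) ≠ -1 := by decide

/-! ### transfer to a field with three elements -/

variable {F : Type*} [Field F] [Fintype F]

theorem exists_equiv (hq : Fintype.card F = 3) : Nonempty (ZMod 3 ≃+* F) :=
  ⟨ZMod.ringEquivOfPrime F Nat.prime_three hq⟩

theorem transfer_eq (φ : ZMod 3 ≃+* F) {x y : F} : x = y ↔ φ.symm x = φ.symm y :=
  φ.symm.injective.eq_iff.symm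

theorem one_ne_neg_one (hq : Fintype.card F = 3) : (1 : F) ≠ -1 := by
  obtain ⟨φ⟩ := exists_equiv hq
  intro h
  rw [transfer_eq φ] at h
  simp only [map_one, map_neg] at h
  exact z_one_ne h

theorem f_genpair (hq : Fintype.card F = 3) (a b c a' b' c' : F) (h1 : -(a * a) - b * c = 1)
    (h2 : -(a' * a') - b' * c' = 1) :
    a * a' + a * a' + b * c' + c * b' = 0 ∨ (a' = a ∧ b' = b ∧ c' = c) ∨ (a' = -a ∧ b' = -b ∧ c' = -c) := by
  obtain ⟨φ⟩ := exists_equiv hq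
  simp only [transfer_eq φ, map_mul, map_add, map_sub, map_neg, map_one, map_zero] at h1 h2 ⊢
  exact z_genpair _ _ _ _ _ _ h1 h2

theorem f_orth_sq (hq : Fintype.card F = 3) (a b c e : F) (h1 : a * a + c * c = 1) (h2 : a * b + c * e = 0)
    (h3 : b * b + e * e = 1) :
    (a * a + b * c = 1 ∧ a * b + b * e = 0 ∧ c * a + e * c = 0 ∧ c * b + e * e = 1) ∨
    (a * a + b * c = -1 ∧ a * b + b * e = 0 ∧ c * a + e * c = 0 ∧ c * b + e * e = -1) := by
  obtain ⟨φ⟩ := exists_equiv hq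
  simp only [transfer_eq φ, map_mul, map_add, map_sub, map_neg, map_one, map_zero] at h1 h2 h3 ⊢
  exact z_orth_sq _ _ _ _ h1 h2 h3

theorem f_orth_sq_neg (hq : Fintype.card F = 3) (a b c e : F) (h1 : a * a + c * c = 1) (h2 : a * b + c * e = 0)
    (h3 : b * b + e * e = 1) (h4 : a * a + b * c = -1) :
    (a = 0 ∧ b = 1 ∧ c = -1 ∧ e = 0) ∨ (a = 0 ∧ b = -1 ∧ c = 1 ∧ e = 0) := by
  obtain ⟨φ⟩ := exists_equiv hq
  simp only [transfer_eq φ, map_mul, map_add, map_sub, map_neg, map_one, map_zero] at h1 h2 h3 h4 ⊢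
  exact z_orth_sq_neg _ _ _ _ h1 h2 h3 h4

theorem f_orth_comm_J (hq : Fintype.card F = 3) (a b c e : F) (h1 : a * a + c * c = 1) (h2 : a * b + c * e = 0)
    (h3 : b * b + e * e = 1) (h4 : a * a + b * c = 1) (h5 : c = -b) (h6 : e = a) :
    (a = 1 ∧ b = 0 ∧ c = 0 ∧ e = 1) ∨ (a = -1 ∧ b = 0 ∧ c = 0 ∧ e = -1) := by
  obtain ⟨φ⟩ := exists_equiv hq
  simp only [transfer_eq φ, map_mul, map_add, map_sub, map_neg, map_one, map_zero] at h1 h2 h3 h4 h5 h6 ⊢
  exact z_orth_comm_J _ _ _ _ h1 h2 h3 h4 h5 h6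

theorem f_orth_center (hq : Fintype.card F = 3) (a b c e : F) (h1 : a * a + c * c = 1) (h2 : a * b + c * e = 0)
    (h3 : b * b + e * e = 1) (h5 : c = -b) (h6 : e = a) (h7 : -b = b) :
    (a = 1 ∧ b = 0 ∧ c = 0 ∧ e = 1) ∨ (a = -1 ∧ b = 0 ∧ c = 0 ∧ e = -1) := by
  obtain ⟨φ⟩ := exists_equiv hq
  simp only [transfer_eq φ, map_mul, map_add, map_sub, map_neg, map_one, map_zero] at h1 h2 h3 h5 h6 h7 ⊢
  exact z_orth_center _ _ _ _ h1 h2 h3 h5 h6 h7

theorem f_orth_inv_shape (hq : Fintype.card F = 3) (a b c e : F) (h1 : a * a + c * c = 1)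
    (h2 : a * b + c * e = 0) (h3 : b * b + e * e = 1) (h4 : a * a + b * c = 1) :
    (a = 1 ∧ b = 0 ∧ c = 0 ∧ e = 1) ∨ (a = -1 ∧ b = 0 ∧ c = 0 ∧ e = -1) ∨
      (e = -a ∧ c = b ∧ a * a + b * b = 1) := by
  obtain ⟨φ⟩ := exists_equiv hq
  simp only [transfer_eq φ, map_mul, map_add, map_sub, map_neg, map_one, map_zero] at h1 h2 h3 h4 ⊢
  exact z_orth_inv_shape _ _ _ _ h1 h2 h3 h4

theorem f_refl_pair (hq : Fintype.card F = 3) (a b a' b' : F) (h1 : a * a + b * b = 1)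
    (h2 : a' * a' + b' * b' = 1) (h3 : a * b' - b * a' = a' * b - b' * a) :
    (a' = a ∧ b' = b) ∨ (a' = -a ∧ b' = -b) := by
  obtain ⟨φ⟩ := exists_equiv hq
  simp only [transfer_eq φ, map_mul, map_add, map_sub, map_neg, map_one, map_zero] at h1 h2 h3 ⊢
  exact z_refl_pair _ _ _ _ h1 h2 h3

theorem f_q_center (hq : Fintype.card F = 3) (a b c e : F) (h1 : a * e - b * c = 1) (h2 : c = -b) (h3 : e = a)
    (h4 : b = c) :
    (a = 1 ∧ b = 0 ∧ c = 0 ∧ e = 1) ∨ (a = -1 ∧ b = 0 ∧ c = 0 ∧ e = -1) := by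
  obtain ⟨φ⟩ := exists_equiv hq
  simp only [transfer_eq φ, map_mul, map_add, map_sub, map_neg, map_one, map_zero] at h1 h2 h3 h4 ⊢
  exact z_q_center _ _ _ _ h1 h2 h3 h4

end Cfsg.Agent.Lib.Helper21.Sp4
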