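import Mathlib
import Cfsg.Agent.Lib.Helper21.BhrSp4Two

/-!
# 2 × 2 matrix groups over the field with three elements (helper21; for BHRSP-[3B-R0-*])

`IsQ q` : `det q = 1` and (`trace q = 0` or `q = ± 1`)  (the quaternion group `Q_8 ≤ SL_2(3)`);
`IsO d` : `dᵀ d = 1`  (the dihedral group `O_2(3)` of order 8).
-/

set_option autoImplicit false
set_option linter.unusedSimpArgs false
set_option linter.unusedSectionVars false

namespace Cfsg.Agent.Lib.Helper21.Sp4

open scoped Matrix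

variable {F : Type*} [Field F] [Fintype F]

local notation "M2" => Matrix (Fin 2) (Fin 2) F

theorem ext2 {x y : Matrix (Fin 2) (Fin 2) F} (h00 : x 0 0 = y 0 0) (h01 : x 0 1 = y 0 1)
    (h10 : x 1 0 = y 1 0) (h11 : x 1 1 = y 1 1) : x = y := by
  ext i j
  fin_cases i <;> fin_cases j
  · exact h00
  · exact h01
  · exact h10
  · exact h11

theorem mul00 (x y : Matrix (Fin 2) (Fin 2) F) : (x * y) 0 0 = x 0 0 * y 0 0 + x 0 1 * y 1 0 := by
  simp [Matrix.mul_apply, Fin.sum_univ_two]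
theorem mul01 (x y : Matrix (Fin 2) (Fin 2) F) : (x * y) 0 1 = x 0 0 * y 0 1 + x 0 1 * y 1 1 := by
  simp [Matrix.mul_apply, Fin.sum_univ_two]
theorem mul10 (x y : Matrix (Fin 2) (Fin 2) F) : (x * y) 1 0 = x 1 0 * y 0 0 + x 1 1 * y 1 0 := by
  simp [Matrix.mul_apply, Fin.sum_univ_two]
theorem mul11 (x y : Matrix (Fin 2) (Fin 2) F) : (x * y) 1 1 = x 1 0 * y 0 1 + x 1 1 * y 1 1 := by
  simp [Matrix.mul_apply, Fin.sum_univ_two]

theorem one00 : (1 : Matrix (Fin 2) (Fin 2) F) 0 0 = 1 := by simp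
theorem one01 : (1 : Matrix (Fin 2) (Fin 2) F) 0 1 = 0 := by simp
theorem one10 : (1 : Matrix (Fin 2) (Fin 2) F) 1 0 = 0 := by simp
theorem one11 : (1 : Matrix (Fin 2) (Fin 2) F) 1 1 = 1 := by simp

/-- generators of `Q_8` : determinant one, trace zero -/
def IsGen (q : Matrix (Fin 2) (Fin 2) F) : Prop := q.det = 1 ∧ q.trace = 0

def IsQ (q : Matrix (Fin 2) (Fin 2) F) : Prop := q.det = 1 ∧ (q.trace = 0 ∨ q = 1 ∨ q = -1)

def IsO (d : Matrix (Fin 2) (Fin 2) F) : Prop := dᵀ * d = 1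

theorem IsGen.isQ {q : Matrix (Fin 2) (Fin 2) F} (h : IsGen q) : IsQ q := ⟨h.1, Or.inl h.2⟩

theorem isGen_entries {q : Matrix (Fin 2) (Fin 2) F} (h : IsGen q) :
    q 0 0 * q 1 1 - q 0 1 * q 1 0 = 1 ∧ q 0 0 + q 1 1 = 0 := by
  obtain ⟨h1, h2⟩ := h
  rw [Matrix.det_fin_two] at h1
  rw [Matrix.trace_fin_two] at h2
  exact ⟨h1, h2⟩

/-- (Q1) a generator has square `-1` -/
theorem IsGen.sq {q : Matrix (Fin 2) (Fin 2) F} (h : IsGen q) : q * q = -1 := by
  obtain ⟨hd, ht⟩ := isGen_entries h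
  apply ext2
  · rw [mul00, Matrix.neg_apply, one00]; linear_combination (q 0 0) * ht - hd
  · rw [mul01, Matrix.neg_apply, one01]; linear_combination (q 0 1) * ht
  · rw [mul10, Matrix.neg_apply, one10]; linear_combination (q 1 0) * ht
  · rw [mul11, Matrix.neg_apply, one11]; linear_combination (q 1 1) * ht - hd

theorem trace_mul2 (x y : Matrix (Fin 2) (Fin 2) F) :
    (x * y).trace = (x 0 0 * y 0 0 + x 0 1 * y 1 0) + (x 1 0 * y 0 1 + x 1 1 * y 1 1) := by
  rw [Matrix.trace_fin_two, mul00, mul11]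

/-- (Q2) two generators: the product has trace zero, or they are equal up to sign -/
theorem gen_pair (hq : Fintype.card F = 3) {q q' : Matrix (Fin 2) (Fin 2) F} (h : IsGen q) (h' : IsGen q') :
    (q * q').trace = 0 ∨ q' = q ∨ q' = -q := by
  obtain ⟨hd, ht⟩ := isGen_entries h
  obtain ⟨hd', ht'⟩ := isGen_entries h'
  have e1 : q 1 1 = -(q 0 0) := by linear_combination ht
  have e1' : q' 1 1 = -(q' 0 0) := by linear_combination ht'
  have k1 : -(q 0 0 * q 0 0) - q 0 1 * q 1 0 = 1 := by rw [e1] at hd; linear_combination hd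
  have k1' : -(q' 0 0 * q' 0 0) - q' 0 1 * q' 1 0 = 1 := by rw [e1'] at hd'; linear_combination hd'
  rcases f_genpair hq _ _ _ _ _ _ k1 k1' with h0 | ⟨ha, hb, hc⟩ | ⟨ha, hb, hc⟩
  · left
    rw [trace_mul2, e1, e1']
    linear_combination h0
  · right; left
    exact ext2 ha hb hc (by rw [e1, e1', ha])
  · right; right
    apply ext2
    · rw [Matrix.neg_apply]; exact ha
    · rw [Matrix.neg_apply]; exact hb
    · rw [Matrix.neg_apply]; exact hc
    · rw [Matrix.neg_apply, e1, e1', ha]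

/-- (Q3) two generators whose product has trace zero anticommute -/
theorem gen_anticomm {q q' : Matrix (Fin 2) (Fin 2) F} (h : IsGen q) (h' : IsGen q')
    (htr : (q * q').trace = 0) : q * q' = -(q' * q) := by
  obtain ⟨_, ht⟩ := isGen_entries h
  obtain ⟨_, ht'⟩ := isGen_entries h'
  rw [trace_mul2] at htr
  apply ext2
  · rw [Matrix.neg_apply, mul00, mul00]; linear_combination htr + (q 0 0) * ht' - (q' 1 1) * ht
  · rw [Matrix.neg_apply, mul01, mul01]; linear_combination (q' 0 1) * ht + (q 0 1) * ht'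
  · rw [Matrix.neg_apply, mul10, mul10]; linear_combination (q 1 0) * ht' + (q' 1 0) * ht
  · rw [Matrix.neg_apply, mul11, mul11]; linear_combination htr - (q 0 0) * ht' + (q' 1 1) * ht

theorem isGen_neg {q : Matrix (Fin 2) (Fin 2) F} (h : IsGen q) : IsGen (-q) := by
  refine ⟨?_, ?_⟩
  · rw [Matrix.det_neg, h.1]; simp
  · rw [Matrix.trace_neg, h.2, neg_zero]

theorem isQ_one : IsQ (1 : Matrix (Fin 2) (Fin 2) F) := ⟨Matrix.det_one, Or.inr (Or.inl rfl)⟩

theorem isQ_neg {q : Matrix (Fin 2) (Fin 2) F} (h : IsQ q) : IsQ (-q) := by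
  obtain ⟨hd, ht | rfl | rfl⟩ := h
  · exact (isGen_neg ⟨hd, ht⟩).isQ
  · refine ⟨?_, Or.inr (Or.inr rfl)⟩
    rw [Matrix.det_neg, Matrix.det_one]; simp
  · rw [neg_neg]; exact isQ_one

theorem isQ_mul (hq : Fintype.card F = 3) {x y : Matrix (Fin 2) (Fin 2) F} (hx : IsQ x) (hy : IsQ y) :
    IsQ (x * y) := by
  obtain ⟨hdx, htx | rfl | rfl⟩ := hx
  · obtain ⟨hdy, hty | rfl | rfl⟩ := hy
    · have gx : IsGen x := ⟨hdx, htx⟩
      have gy : IsGen y := ⟨hdy, hty⟩
      rcases gen_pair hq gx gy with h0 | rfl | rfl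
      · exact ⟨by rw [Matrix.det_mul, hdx, hdy, one_mul], Or.inl h0⟩
      · rw [gx.sq]; exact isQ_neg isQ_one
      · rw [mul_neg, gx.sq, neg_neg]; exact isQ_one
    · rw [mul_one]; exact ⟨hdx, Or.inl htx⟩
    · rw [mul_neg, mul_one]; exact isQ_neg ⟨hdx, Or.inl htx⟩
  · rw [one_mul]; exact hy
  · rw [neg_mul, one_mul]; exact isQ_neg hy

/-- squares in `Q_8` -/
theorem isQ_sq {q : Matrix (Fin 2) (Fin 2) F} (h : IsQ q) : (q = 1 ∨ q = -1) ∨ q * q = -1 := by
  obtain ⟨hd, ht | h1 | h1⟩ := h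
  · exact Or.inr (IsGen.sq ⟨hd, ht⟩)
  · exact Or.inl (Or.inl h1)
  · exact Or.inl (Or.inr h1)

theorem one_ne_neg_one_mat (hq : Fintype.card F = 3) : (1 : Matrix (Fin 2) (Fin 2) F) ≠ -1 := by
  intro h
  have := congrFun (congrFun h 0) 0
  rw [Matrix.neg_apply, one00] at this
  exact one_ne_neg_one hq this

/-- an element of `Q_8` of square `-1` is a generator -/
theorem isGen_of_sq (hq : Fintype.card F = 3) {q : Matrix (Fin 2) (Fin 2) F} (h : IsQ q) (hs : q * q = -1) :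
    IsGen q := by
  obtain ⟨hd, ht | rfl | rfl⟩ := h
  · exact ⟨hd, ht⟩
  · rw [mul_one] at hs; exact absurd hs (one_ne_neg_one_mat hq)
  · rw [neg_mul_neg, mul_one] at hs; exact absurd hs (one_ne_neg_one_mat hq)

/-- (Qc) commuting elements of square `-1` in `Q_8` are equal up to sign -/
theorem isQ_comm_sq (hq : Fintype.card F = 3) {q q' : Matrix (Fin 2) (Fin 2) F} (h : IsQ q) (h' : IsQ q')
    (hs : q * q = -1) (hs' : q' * q' = -1) (hc : q * q' = q' * q) : q' = q ∨ q' = -q := by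
  have g := isGen_of_sq hq h hs
  have g' := isGen_of_sq hq h' hs'
  rcases gen_pair hq g g' with h0 | h1 | h1
  · exfalso
    have ha := gen_anticomm g g' h0
    rw [← hc] at ha
    -- q q' = -(q q') so q q' = 0, but det = 1
    have h2 : q * q' = 0 := by
      have h3 : (q * q') + (q * q') = 0 := by
        nth_rewrite 1 [ha]; rw [neg_add_cancel]
      have h4 : ((1 : F) + 1) • (q * q') = 0 := by rw [add_smul, one_smul]; exact h3
      have h5 : (1 : F) + 1 ≠ 0 := by
        intro h6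
        exact one_ne_neg_one hq (by linear_combination h6)
      exact (smul_eq_zero.1 h4).resolve_left h5
    have h7 : (q * q').det = 1 := by rw [Matrix.det_mul, g.1, g'.1, one_mul]
    rw [h2, Matrix.det_zero] at h7
    exact zero_ne_one h7
  · exact Or.inl h1
  · exact Or.inr h1

/-- the two standard generators -/
def gA : Matrix (Fin 2) (Fin 2) F := !![0, 1; -1, 0]
def gB : Matrix (Fin 2) (Fin 2) F := !![1, 1; 1, -1]

theorem isGen_gA : IsGen (gA : Matrix (Fin 2) (Fin 2) F) := by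
  refine ⟨?_, ?_⟩
  · rw [Matrix.det_fin_two]; simp [gA]
  · rw [Matrix.trace_fin_two]; simp [gA]

theorem isGen_gB (hq : Fintype.card F = 3) : IsGen (gB : Matrix (Fin 2) (Fin 2) F) := by
  refine ⟨?_, ?_⟩
  · rw [Matrix.det_fin_two]
    simp [gB]
    have h3 : (3 : F) = 0 := by
      have := Nat.cast_card_eq_zero F; rw [hq] at this; exact_mod_cast this
    linear_combination (-1 : F) * h3
  · rw [Matrix.trace_fin_two]; simp [gB]

/-- (Qd) an element of `Q_8` commuting with both standard generators is `± 1` -/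
theorem isQ_center (hq : Fintype.card F = 3) {q : Matrix (Fin 2) (Fin 2) F} (h : IsQ q)
    (hA : q * gA = gA * q) (hB : q * gB = gB * q) : q = 1 ∨ q = -1 := by
  have hd := h.1
  rw [Matrix.det_fin_two] at hd
  have a00 := congrFun (congrFun hA 0) 0
  have a01 := congrFun (congrFun hA 0) 1
  have b00 := congrFun (congrFun hB 0) 0
  rw [mul00, mul00] at a00 b00
  rw [mul01, mul01] at a01
  simp [gA, gB] at a00 a01 b00
  have e2 : q 1 0 = -(q 0 1) := by linear_combination -a00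
  have e3 : q 1 1 = q 0 0 := by linear_combination -a01
  have e4 : q 0 1 = q 1 0 := by linear_combination b00
  rcases f_q_center hq _ _ _ _ hd e2 e3 e4 with ⟨ha, hb, hc, he⟩ | ⟨ha, hb, hc, he⟩
  · left; exact ext2 (by rw [ha, one00]) (by rw [hb, one01]) (by rw [hc, one10]) (by rw [he, one11])
  · right
    apply ext2 <;> rw [Matrix.neg_apply]
    · rw [ha, one00]
    · rw [hb, one01, neg_zero]
    · rw [hc, one10, neg_zero]
    · rw [he, one11]

/-! ### the orthogonal group -/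

def gJ : Matrix (Fin 2) (Fin 2) F := !![0, 1; -1, 0]
def gT : Matrix (Fin 2) (Fin 2) F := !![1, 0; 0, -1]

theorem isO_entries {d : Matrix (Fin 2) (Fin 2) F} (h : IsO d) :
    d 0 0 * d 0 0 + d 1 0 * d 1 0 = 1 ∧ d 0 0 * d 0 1 + d 1 0 * d 1 1 = 0 ∧
      d 0 1 * d 0 1 + d 1 1 * d 1 1 = 1 := by
  unfold IsO at h
  have h00 := congrFun (congrFun h 0) 0
  have h01 := congrFun (congrFun h 0) 1
  have h11 := congrFun (congrFun h 1) 1
  rw [mul00, one00] at h00
  rw [mul01, one01] at h01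
  rw [mul11, one11] at h11
  simp only [Matrix.transpose_apply] at h00 h01 h11
  exact ⟨h00, h01, h11⟩

/-- squares in `O_2` -/
theorem isO_sq (hq : Fintype.card F = 3) {d : Matrix (Fin 2) (Fin 2) F} (h : IsO d) :
    d * d = 1 ∨ d * d = -1 := by
  obtain ⟨h1, h2, h3⟩ := isO_entries h
  rcases f_orth_sq hq _ _ _ _ h1 h2 h3 with ⟨k1, k2, k3, k4⟩ | ⟨k1, k2, k3, k4⟩
  · left
    apply ext2
    · rw [mul00, one00]; exact k1
    · rw [mul01, one01]; exact k2
    · rw [mul10, one10]; exact k3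
    · rw [mul11, one11]; exact k4
  · right
    apply ext2 <;> rw [Matrix.neg_apply]
    · rw [mul00, one00]; exact k1
    · rw [mul01, one01, neg_zero]; exact k2
    · rw [mul10, one10, neg_zero]; exact k3
    · rw [mul11, one11]; exact k4

/-- the elements of `O_2` of square `-1` are `± J` -/
theorem isO_sq_neg (hq : Fintype.card F = 3) {d : Matrix (Fin 2) (Fin 2) F} (h : IsO d) (hs : d * d = -1) :
    d = gJ ∨ d = -gJ := by
  obtain ⟨h1, h2, h3⟩ := isO_entries h
  have h4 := congrFun (congrFun hs 0) 0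
  rw [mul00, Matrix.neg_apply, one00] at h4
  rcases f_orth_sq_neg hq _ _ _ _ h1 h2 h3 h4 with ⟨ka, kb, kc, ke⟩ | ⟨ka, kb, kc, ke⟩
  · left
    apply ext2 <;> simp [gJ, ka, kb, kc, ke]
  · right
    apply ext2 <;> simp [gJ, ka, kb, kc, ke]

/-- an involution of `O_2` commuting with `J` is `± 1` -/
theorem isO_comm_J (hq : Fintype.card F = 3) {d : Matrix (Fin 2) (Fin 2) F} (h : IsO d) (hs : d * d = 1)
    (hc : d * gJ = gJ * d) : d = 1 ∨ d = -1 := by
  obtain ⟨h1, h2, h3⟩ := isO_entries h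
  have h4 := congrFun (congrFun hs 0) 0
  rw [mul00, one00] at h4
  have a00 := congrFun (congrFun hc 0) 0
  have a01 := congrFun (congrFun hc 0) 1
  rw [mul00, mul00] at a00
  rw [mul01, mul01] at a01
  simp [gJ] at a00 a01
  have e2 : d 1 0 = -(d 0 1) := by linear_combination -a00
  have e3 : d 1 1 = d 0 0 := by linear_combination -a01
  rcases f_orth_comm_J hq _ _ _ _ h1 h2 h3 h4 e2 e3 with ⟨ha, hb, hc', he⟩ | ⟨ha, hb, hc', he⟩
  · left; exact ext2 (by rw [ha, one00]) (by rw [hb, one01]) (by rw [hc', one10]) (by rw [he, one11])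
  · right
    apply ext2 <;> rw [Matrix.neg_apply]
    · rw [ha, one00]
    · rw [hb, one01, neg_zero]
    · rw [hc', one10, neg_zero]
    · rw [he, one11]

/-- an element of `O_2` commuting with `J` and `T` is `± 1` -/
theorem isO_center (hq : Fintype.card F = 3) {d : Matrix (Fin 2) (Fin 2) F} (h : IsO d)
    (hJ : d * gJ = gJ * d) (hT : d * gT = gT * d) : d = 1 ∨ d = -1 := by
  obtain ⟨h1, h2, h3⟩ := isO_entries h
  have a00 := congrFun (congrFun hJ 0) 0
  have a01 := congrFun (congrFun hJ 0) 1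
  have b01 := congrFun (congrFun hT 0) 1
  rw [mul00, mul00] at a00
  rw [mul01, mul01] at a01 b01
  simp [gJ] at a00 a01
  simp [gT] at b01
  have e2 : d 1 0 = -(d 0 1) := by linear_combination -a00
  have e3 : d 1 1 = d 0 0 := by linear_combination -a01
  have e4 : -(d 0 1) = d 0 1 := by linear_combination b01
  rcases f_orth_center hq _ _ _ _ h1 h2 h3 e2 e3 e4 with ⟨ha, hb, hc', he⟩ | ⟨ha, hb, hc', he⟩
  · left; exact ext2 (by rw [ha, one00]) (by rw [hb, one01]) (by rw [hc', one10]) (by rw [he, one11])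
  · right
    apply ext2 <;> rw [Matrix.neg_apply]
    · rw [ha, one00]
    · rw [hb, one01, neg_zero]
    · rw [hc', one10, neg_zero]
    · rw [he, one11]

/-- (Oc) commuting involutions of `O_2` -/
theorem isO_comm_inv (hq : Fintype.card F = 3) {d d' : Matrix (Fin 2) (Fin 2) F} (h : IsO d) (h' : IsO d')
    (hs : d * d = 1) (hs' : d' * d' = 1) (hc : d * d' = d' * d) :
    (d = 1 ∨ d = -1) ∨ (d' = 1 ∨ d' = -1) ∨ (d' = d ∨ d' = -d) := by
  obtain ⟨h1, h2, h3⟩ := isO_entries h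
  obtain ⟨h1', h2', h3'⟩ := isO_entries h'
  have h4 := congrFun (congrFun hs 0) 0
  rw [mul00, one00] at h4
  have h4' := congrFun (congrFun hs' 0) 0
  rw [mul00, one00] at h4'
  have pm : ∀ x : Matrix (Fin 2) (Fin 2) F, (x 0 0 = 1 ∧ x 0 1 = 0 ∧ x 1 0 = 0 ∧ x 1 1 = 1) → x = 1 :=
    fun x ⟨ha, hb, hc', he⟩ =>
      ext2 (by rw [ha, one00]) (by rw [hb, one01]) (by rw [hc', one10]) (by rw [he, one11])
  have pn : ∀ x : Matrix (Fin 2) (Fin 2) F, (x 0 0 = -1 ∧ x 0 1 = 0 ∧ x 1 0 = 0 ∧ x 1 1 = -1) → x = -1 := by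
    intro x ⟨ha, hb, hc', he⟩
    apply ext2 <;> rw [Matrix.neg_apply]
    · rw [ha, one00]
    · rw [hb, one01, neg_zero]
    · rw [hc', one10, neg_zero]
    · rw [he, one11]
  rcases f_orth_inv_shape hq _ _ _ _ h1 h2 h3 h4 with k | k | ⟨ke, kc, kn⟩
  · exact Or.inl (Or.inl (pm d k))
  · exact Or.inl (Or.inr (pn d k))
  rcases f_orth_inv_shape hq _ _ _ _ h1' h2' h3' h4' with k' | k' | ⟨ke', kc', kn'⟩
  · exact Or.inr (Or.inl (Or.inl (pm d' k')))
  · exact Or.inr (Or.inl (Or.inr (pn d' k')))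
  right; right
  have c01 := congrFun (congrFun hc 0) 1
  rw [mul01, mul01, ke, ke'] at c01
  have c01' : d 0 0 * d' 0 1 - d 0 1 * d' 0 0 = d' 0 0 * d 0 1 - d' 0 1 * d 0 0 := by
    linear_combination c01
  rcases f_refl_pair hq _ _ _ _ kn kn' c01' with ⟨ha, hb⟩ | ⟨ha, hb⟩
  · left
    exact ext2 ha hb (by rw [kc, kc', hb]) (by rw [ke, ke', ha])
  · right
    apply ext2 <;> rw [Matrix.neg_apply]
    · exact ha
    · exact hb
    · rw [kc, kc', hb]
    · rw [ke, ke', ha]

theorem isO_gJ : IsO (gJ : Matrix (Fin 2) (Fin 2) F) := by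
  unfold IsO
  apply ext2 <;> simp [gJ, Matrix.mul_apply, Fin.sum_univ_two]

theorem isO_gT : IsO (gT : Matrix (Fin 2) (Fin 2) F) := by
  unfold IsO
  apply ext2 <;> simp [gT, Matrix.mul_apply, Fin.sum_univ_two]

theorem isO_one : IsO (1 : Matrix (Fin 2) (Fin 2) F) := by
  unfold IsO; simp

theorem isO_neg {d : Matrix (Fin 2) (Fin 2) F} (h : IsO d) : IsO (-d) := by
  unfold IsO at *
  rw [Matrix.transpose_neg, neg_mul_neg, h]

end Cfsg.Agent.Lib.Helper21.Sp4
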