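import Mathlib
import Cfsg.Prelude.Def_GeometricClasses
import Cfsg.Agent.Lib.Helper94.BHRSP.Sp4Model
import Cfsg.Agent.Lib.Helper94.BHRSP.Sp4Kit
import Cfsg.Agent.Lib.Helper21.BhrSp4Mat

/-!
# The group `R₀ = Q_8 ⊗ O_2 ≤ GL_4(3)` at the matrix level (helper21; for BHRSP-[3B-R0-*])
-/

set_option autoImplicit false
set_option linter.unusedSimpArgs false
set_option linter.unusedSectionVars false

namespace Cfsg.Agent.Lib.Helper21.Sp4

open Cfsg Cfsg.Geo Cfsg.Agent.Lib.Helper94.BHRSP.Sp4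
open scoped MatrixGroups Matrix

variable {F : Type*} [Field F] [Fintype F]

/-! ### membership -/

theorem isQ_pow_four {q : Matrix (Fin 2) (Fin 2) F} (h : IsQ q) : (q * q) * (q * q) = 1 := by
  rcases isQ_sq h with (rfl | rfl) | h1
  · simp
  · simp
  · rw [h1]; simp

theorem isQ_of_mem_Q8 (hq : Fintype.card F = 3) {q : GL (Fin 2) F}
    (h : q ∈ (Q8 : Subgroup (GL (Fin 2) F))) : IsQ (q : Matrix (Fin 2) (Fin 2) F) := by
  unfold Q8 at h
  refine Subgroup.closure_induction (p := fun (x : GL (Fin 2) F) _ => IsQ (x : Matrix (Fin 2) (Fin 2) F)) ?_ ?_ ?_ ?_ h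
  · intro x hx
    exact ⟨hx.1, Or.inl hx.2⟩
  · rw [Units.val_one]; exact isQ_one
  · intro x y _ _ hx hy
    rw [Units.val_mul]; exact isQ_mul hq hx hy
  · intro x _ hx
    have h4 : x * (x * x * x) = 1 := by
      apply Units.ext
      rw [Units.val_mul, Units.val_mul, Units.val_mul, Units.val_one]
      have := isQ_pow_four hx
      rw [← this]; simp only [mul_assoc]
    have hinv : x⁻¹ = x * x * x := inv_eq_of_mul_eq_one_right h4
    rw [hinv, Units.val_mul, Units.val_mul]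
    exact isQ_mul hq (isQ_mul hq hx hx) hx

theorem mem_Q8_of_isQ {q : GL (Fin 2) F} (h : IsQ (q : Matrix (Fin 2) (Fin 2) F)) :
    q ∈ (Q8 : Subgroup (GL (Fin 2) F)) := by
  obtain ⟨hd, ht | h1 | h1⟩ := h
  · exact mem_Q8_of_det_trace q hd ht
  · have : q = 1 := Units.ext (by rw [h1, Units.val_one])
    rw [this]; exact Subgroup.one_mem _
  · have : q = -1 := Units.ext (by rw [h1, Units.val_neg, Units.val_one])
    rw [this]; exact neg_one_mem_Q8

theorem mem_Q8_iff_isQ (hq : Fintype.card F = 3) (q : GL (Fin 2) F) :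
    q ∈ (Q8 : Subgroup (GL (Fin 2) F)) ↔ IsQ (q : Matrix (Fin 2) (Fin 2) F) :=
  ⟨isQ_of_mem_Q8 hq, mem_Q8_of_isQ⟩

theorem mem_O2_iff_isO (d : GL (Fin 2) F) :
    d ∈ (O2 : Subgroup (GL (Fin 2) F)) ↔ IsO (d : Matrix (Fin 2) (Fin 2) F) := Iff.rfl

/-- a `GL` element from an `IsQ` matrix -/
noncomputable def glOfQ {q : Matrix (Fin 2) (Fin 2) F} (h : IsQ q) : GL (Fin 2) F :=
  Matrix.GeneralLinearGroup.mkOfDetNeZero q (by rw [h.1]; exact one_ne_zero)

theorem glOfQ_val {q : Matrix (Fin 2) (Fin 2) F} (h : IsQ q) :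
    ((glOfQ h : GL (Fin 2) F) : Matrix (Fin 2) (Fin 2) F) = q := rfl

/-- a `GL` element from an `IsO` matrix -/
def glOfO {d : Matrix (Fin 2) (Fin 2) F} (h : IsO d) : GL (Fin 2) F :=
  ⟨d, dᵀ, mul_eq_one_comm.1 h, h⟩

theorem glOfO_val {d : Matrix (Fin 2) (Fin 2) F} (h : IsO d) :
    ((glOfO h : GL (Fin 2) F) : Matrix (Fin 2) (Fin 2) F) = d := rfl

theorem isO_mul {d d' : Matrix (Fin 2) (Fin 2) F} (h : IsO d) (h' : IsO d') : IsO (d * d') := by
  unfold IsO at *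
  rw [Matrix.transpose_mul, Matrix.mul_assoc, ← Matrix.mul_assoc dᵀ, h, Matrix.one_mul, h']

theorem isO_ne_zero {d : Matrix (Fin 2) (Fin 2) F} (h : IsO d) : d ≠ 0 := by
  rintro rfl
  unfold IsO at h
  rw [Matrix.mul_zero] at h
  exact zero_ne_one h

theorem isQ_ne_zero {q : Matrix (Fin 2) (Fin 2) F} (h : IsQ q) : q ≠ 0 := by
  rintro rfl
  have := h.1
  rw [Matrix.det_zero] at this
  exact zero_ne_one this

/-! ### tensors -/

theorem tens_left_cancel {a a' d : Matrix (Fin 2) (Fin 2) F} (hd : d ≠ 0) (h : tens a d = tens a' d) :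
    a = a' := by
  have : ∃ j k, d j k ≠ 0 := by
    by_contra hcon
    push Not at hcon
    exact hd (by ext j k; exact hcon j k)
  obtain ⟨j, k, hjk⟩ := this
  apply ext2
  · have := congrFun (congrFun h (Sum.inl j)) (Sum.inl k)
    rw [tens_apply_inl_inl, tens_apply_inl_inl] at this
    exact mul_right_cancel₀ hjk this
  · have := congrFun (congrFun h (Sum.inl j)) (Sum.inr k)
    rw [tens_apply_inl_inr, tens_apply_inl_inr] at this
    exact mul_right_cancel₀ hjk this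
  · have := congrFun (congrFun h (Sum.inr j)) (Sum.inl k)
    rw [tens_apply_inr_inl, tens_apply_inr_inl] at this
    exact mul_right_cancel₀ hjk this
  · have := congrFun (congrFun h (Sum.inr j)) (Sum.inr k)
    rw [tens_apply_inr_inr, tens_apply_inr_inr] at this
    exact mul_right_cancel₀ hjk this

theorem tens_right_cancel {a d d' : Matrix (Fin 2) (Fin 2) F} (ha : a ≠ 0) (h : tens a d = tens a d') :
    d = d' := by
  have : ∃ j k, a j k ≠ 0 := by
    by_contra hcon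
    push Not at hcon
    exact ha (by ext j k; exact hcon j k)
  obtain ⟨j, k, hjk⟩ := this
  ext i l
  fin_cases j <;> fin_cases k
  · have := congrFun (congrFun h (Sum.inl i)) (Sum.inl l)
    rw [tens_apply_inl_inl, tens_apply_inl_inl] at this
    exact mul_left_cancel₀ hjk this
  · have := congrFun (congrFun h (Sum.inl i)) (Sum.inr l)
    rw [tens_apply_inl_inr, tens_apply_inl_inr] at this
    exact mul_left_cancel₀ hjk this
  · have := congrFun (congrFun h (Sum.inr i)) (Sum.inl l)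
    rw [tens_apply_inr_inl, tens_apply_inr_inl] at this
    exact mul_left_cancel₀ hjk this
  · have := congrFun (congrFun h (Sum.inr i)) (Sum.inr l)
    rw [tens_apply_inr_inr, tens_apply_inr_inr] at this
    exact mul_left_cancel₀ hjk this

theorem tens_pm {q q' d d' : Matrix (Fin 2) (Fin 2) F} (hq : q' = q ∨ q' = -q) (hd : d' = d ∨ d' = -d) :
    tens q' d' = tens q d ∨ tens q' d' = -tens q d := by
  rcases hq with rfl | rfl <;> rcases hd with rfl | rfl
  · exact Or.inl rfl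
  · right; rw [tens_neg_right]
  · right; rw [tens_neg_left]
  · left; rw [tens_neg_left, tens_neg_right, neg_neg]

theorem tens_pm_one {q d : Matrix (Fin 2) (Fin 2) F} (hq : q = 1 ∨ q = -1) (hd : d = 1 ∨ d = -1) :
    tens q d = 1 ∨ tens q d = -1 := by
  have := tens_pm (q := 1) (d := 1) hq hd
  rwa [tens_one] at this

theorem one_ne_neg_one_mat4 (hq : Fintype.card F = 3) :
    (1 : Matrix (Fin 2 ⊕ Fin 2) (Fin 2 ⊕ Fin 2) F) ≠ -1 := by
  intro h
  have := congrFun (congrFun h (Sum.inl 0)) (Sum.inl 0)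
  rw [Matrix.neg_apply, Matrix.one_apply_eq] at this
  exact one_ne_neg_one hq this

/-! ### the set `R₀` of matrices -/

/-- `x = q ⊗ d` with `q ∈ Q_8`, `d ∈ O_2` -/
def InR0 (x : Matrix (Fin 2 ⊕ Fin 2) (Fin 2 ⊕ Fin 2) F) : Prop :=
  ∃ q d : Matrix (Fin 2) (Fin 2) F, IsQ q ∧ IsO d ∧ x = tens q d

theorem mem_R0_iff_inR0 (hq : Fintype.card F = 3) (x : GL (Fin 2 ⊕ Fin 2) F) :
    x ∈ (R0 : Subgroup (GL (Fin 2 ⊕ Fin 2) F)) ↔
      InR0 (x : Matrix (Fin 2 ⊕ Fin 2) (Fin 2 ⊕ Fin 2) F) := by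
  rw [mem_R0_iff]
  constructor
  · rintro ⟨q, hq', d, hd, rfl⟩
    exact ⟨q, d, isQ_of_mem_Q8 hq hq', hd, tensGL_val q d⟩
  · rintro ⟨q, d, hq', hd, hx⟩
    refine ⟨glOfQ hq', mem_Q8_of_isQ (by rw [glOfQ_val]; exact hq'), glOfO hd, hd, ?_⟩
    apply Units.ext
    rw [hx, tensGL_val, glOfQ_val, glOfO_val]

theorem isQ_sq' {q : Matrix (Fin 2) (Fin 2) F} (h : IsQ q) : q * q = 1 ∨ q * q = -1 := by
  rcases isQ_sq h with (rfl | rfl) | h1
  · left; simp
  · left; simp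
  · exact Or.inr h1

/-- squares are `± 1` -/
theorem inR0_sq (hq : Fintype.card F = 3) {x : Matrix (Fin 2 ⊕ Fin 2) (Fin 2 ⊕ Fin 2) F} (hx : InR0 x) :
    x * x = 1 ∨ x * x = -1 := by
  obtain ⟨q, d, hq', hd, rfl⟩ := hx
  rw [tens_mul]
  exact tens_pm_one (isQ_sq' hq') (isO_sq hq hd)

/-- the two types of involutions -/
theorem inR0_types (hq : Fintype.card F = 3) {q d : Matrix (Fin 2) (Fin 2) F} (hq' : IsQ q) (hd : IsO d)
    (h : tens q d * tens q d = 1) : (q * q = 1 ∧ d * d = 1) ∨ (q * q = -1 ∧ d * d = -1) := by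
  rw [tens_mul] at h
  rcases isQ_sq' hq' with h1 | h1 <;> rcases isO_sq hq hd with h2 | h2
  · exact Or.inl ⟨h1, h2⟩
  · exfalso
    rw [h1, h2, tens_neg_right, tens_one] at h
    exact one_ne_neg_one_mat4 hq h.symm
  · exfalso
    rw [h1, h2, tens_neg_left, tens_one] at h
    exact one_ne_neg_one_mat4 hq h.symm
  · exact Or.inr ⟨h1, h2⟩

theorem isQ_pm_of_sq_one (hq : Fintype.card F = 3) {q : Matrix (Fin 2) (Fin 2) F} (h : IsQ q)
    (hs : q * q = 1) : q = 1 ∨ q = -1 := by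
  rcases isQ_sq h with h1 | h1
  · exact h1
  · rw [hs] at h1; exact absurd h1 (one_ne_neg_one_mat hq)

/-- every element commutes with an element of square `-1` -/
theorem inR0_exists_sq (hq : Fintype.card F = 3) {x : Matrix (Fin 2 ⊕ Fin 2) (Fin 2 ⊕ Fin 2) F}
    (hx : InR0 x) : ∃ u, InR0 u ∧ u * u = -1 ∧ u * x = x * u := by
  obtain ⟨q, d, hq', hd, rfl⟩ := hx
  rcases isQ_sq hq' with h1 | h1
  · refine ⟨tens gA 1, ⟨gA, 1, isGen_gA.isQ, isO_one, rfl⟩, ?_, ?_⟩
    · rw [tens_mul, isGen_gA.sq, mul_one, tens_neg_left, tens_one]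
    · rw [tens_mul, tens_mul, one_mul, mul_one]
      rcases h1 with rfl | rfl
      · rw [mul_one, one_mul]
      · rw [mul_neg, mul_one, neg_mul, one_mul]
  · refine ⟨tens q 1, ⟨q, 1, hq', isO_one, rfl⟩, ?_, ?_⟩
    · rw [tens_mul, h1, mul_one, tens_neg_left, tens_one]
    · rw [tens_mul, tens_mul, one_mul, mul_one]

/-- the centre, factorwise -/
theorem inR0_center_factors (hq : Fintype.card F = 3) {q d : Matrix (Fin 2) (Fin 2) F} (hq' : IsQ q)
    (hd : IsO d) (hc : ∀ y, InR0 y → tens q d * y = y * tens q d) :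
    (q = 1 ∨ q = -1) ∧ (d = 1 ∨ d = -1) := by
  have hA : q * gA = gA * q := by
    have := hc (tens gA 1) ⟨gA, 1, isGen_gA.isQ, isO_one, rfl⟩
    rw [tens_mul, tens_mul, one_mul, mul_one] at this
    exact tens_left_cancel (isO_ne_zero hd) this
  have hB : q * gB = gB * q := by
    have := hc (tens gB 1) ⟨gB, 1, (isGen_gB hq).isQ, isO_one, rfl⟩
    rw [tens_mul, tens_mul, one_mul, mul_one] at this
    exact tens_left_cancel (isO_ne_zero hd) this
  have hJ : d * gJ = gJ * d := by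
    have := hc (tens 1 gJ) ⟨1, gJ, isQ_one, isO_gJ, rfl⟩
    rw [tens_mul, tens_mul, one_mul, mul_one] at this
    exact tens_right_cancel (isQ_ne_zero hq') this
  have hT : d * gT = gT * d := by
    have := hc (tens 1 gT) ⟨1, gT, isQ_one, isO_gT, rfl⟩
    rw [tens_mul, tens_mul, one_mul, mul_one] at this
    exact tens_right_cancel (isQ_ne_zero hq') this
  exact ⟨isQ_center hq hq' hA hB, isO_center hq hd hJ hT⟩

/-- the centre -/
theorem inR0_center (hq : Fintype.card F = 3) {x : Matrix (Fin 2 ⊕ Fin 2) (Fin 2 ⊕ Fin 2) F}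
    (hx : InR0 x) (hc : ∀ y, InR0 y → x * y = y * x) : x = 1 ∨ x = -1 := by
  obtain ⟨q, d, hq', hd, rfl⟩ := hx
  obtain ⟨h1, h2⟩ := inR0_center_factors hq hq' hd hc
  exact tens_pm_one h1 h2

theorem pm_of_pm_one {a b : Matrix (Fin 2) (Fin 2) F} (ha : a = 1 ∨ a = -1) (hb : b = 1 ∨ b = -1) :
    b = a ∨ b = -a := by
  rcases ha with rfl | rfl <;> rcases hb with rfl | rfl
  · exact Or.inl rfl
  · exact Or.inr rfl
  · right; rw [neg_neg]
  · exact Or.inl rfl

theorem pm_of_pm {g a b : Matrix (Fin 2) (Fin 2) F} (ha : a = g ∨ a = -g) (hb : b = g ∨ b = -g) :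
    b = a ∨ b = -a := by
  rcases ha with rfl | rfl <;> rcases hb with rfl | rfl
  · exact Or.inl rfl
  · exact Or.inr rfl
  · right; rw [neg_neg]
  · exact Or.inl rfl

theorem comm_of_pm_one {a b : Matrix (Fin 2) (Fin 2) F} (ha : a = 1 ∨ a = -1) : a * b = b * a := by
  rcases ha with rfl | rfl
  · rw [one_mul, mul_one]
  · rw [neg_mul, one_mul, mul_neg, mul_one]

/-- **commuting involutions** -/
theorem inR0_comm_inv (hq : Fintype.card F = 3) {x y : Matrix (Fin 2 ⊕ Fin 2) (Fin 2 ⊕ Fin 2) F}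
    (hx : InR0 x) (hy : InR0 y) (hxx : x * x = 1) (hyy : y * y = 1) (hxy : x * y = y * x) :
    (x = 1 ∨ x = -1) ∨ (y = 1 ∨ y = -1) ∨ (y = x ∨ y = -x) := by
  obtain ⟨q, d, hq1, hd1, rfl⟩ := hx
  obtain ⟨q', d', hq2, hd2, rfl⟩ := hy
  rw [tens_mul, tens_mul] at hxy
  rcases inR0_types hq hq1 hd1 hxx with ⟨t1, t2⟩ | ⟨t1, t2⟩ <;>
    rcases inR0_types hq hq2 hd2 hyy with ⟨s1, s2⟩ | ⟨s1, s2⟩
  · -- (I, I)
    have p1 := isQ_pm_of_sq_one hq hq1 t1
    have p2 := isQ_pm_of_sq_one hq hq2 s1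
    have hcq : q * q' = q' * q := comm_of_pm_one p1
    rw [← hcq] at hxy
    have hcd : d * d' = d' * d := tens_right_cancel (isQ_ne_zero (isQ_mul hq hq1 hq2)) hxy
    rcases isO_comm_inv hq hd1 hd2 t2 s2 hcd with h | h | h
    · exact Or.inl (tens_pm_one p1 h)
    · exact Or.inr (Or.inl (tens_pm_one p2 h))
    · exact Or.inr (Or.inr (tens_pm (pm_of_pm_one p1 p2) h))
  · -- (I, II)
    have p1 := isQ_pm_of_sq_one hq hq1 t1
    have hcq : q * q' = q' * q := comm_of_pm_one p1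
    rw [← hcq] at hxy
    have hcd : d * d' = d' * d := tens_right_cancel (isQ_ne_zero (isQ_mul hq hq1 hq2)) hxy
    have hJ : d * gJ = gJ * d := by
      rcases isO_sq_neg hq hd2 s2 with rfl | rfl
      · exact hcd
      · rw [mul_neg, neg_mul] at hcd; exact neg_injective hcd
    exact Or.inl (tens_pm_one p1 (isO_comm_J hq hd1 t2 hJ))
  · -- (II, I)
    have p2 := isQ_pm_of_sq_one hq hq2 s1
    have hcq : q * q' = q' * q := (comm_of_pm_one p2).symm
    rw [← hcq] at hxy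
    have hcd : d * d' = d' * d := tens_right_cancel (isQ_ne_zero (isQ_mul hq hq1 hq2)) hxy
    have hJ : d' * gJ = gJ * d' := by
      rcases isO_sq_neg hq hd1 t2 with rfl | rfl
      · exact hcd.symm
      · rw [mul_neg, neg_mul] at hcd; exact (neg_injective hcd).symm
    exact Or.inr (Or.inl (tens_pm_one p2 (isO_comm_J hq hd2 s2 hJ)))
  · -- (II, II)
    have j1 := isO_sq_neg hq hd1 t2
    have j2 := isO_sq_neg hq hd2 s2
    have hcd : d * d' = d' * d := by
      rcases j1 with rfl | rfl <;> rcases j2 with rfl | rfl <;> simp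
    rw [← hcd] at hxy
    have hcq : q * q' = q' * q := tens_left_cancel (isO_ne_zero (isO_mul hd1 hd2)) hxy
    exact Or.inr (Or.inr (tens_pm (isQ_comm_sq hq hq1 hq2 t1 s1 hcq) (pm_of_pm j1 j2)))

theorem inR0_mul (hq : Fintype.card F = 3) {x y : Matrix (Fin 2 ⊕ Fin 2) (Fin 2 ⊕ Fin 2) F}
    (hx : InR0 x) (hy : InR0 y) : InR0 (x * y) := by
  obtain ⟨q, d, hq1, hd1, rfl⟩ := hx
  obtain ⟨q', d', hq2, hd2, rfl⟩ := hy
  exact ⟨q * q', d * d', isQ_mul hq hq1 hq2, isO_mul hd1 hd2, tens_mul q d q' d'⟩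

theorem inR0_one : InR0 (1 : Matrix (Fin 2 ⊕ Fin 2) (Fin 2 ⊕ Fin 2) F) :=
  ⟨1, 1, isQ_one, isO_one, tens_one.symm⟩

theorem inR0_neg_one : InR0 (-1 : Matrix (Fin 2 ⊕ Fin 2) (Fin 2 ⊕ Fin 2) F) :=
  ⟨-1, 1, isQ_neg isQ_one, isO_one, by rw [tens_neg_left, tens_one]⟩

end Cfsg.Agent.Lib.Helper21.Sp4
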