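import Mathlib
import Cfsg.Agent.Lib.Helper15.BhrE4Group

/-!
# Abstract lemmas on extraspecial-like 2-groups (helper21)

`G` a finite group, `c` a central involution, any two elements commute up to `c`, every square is `1` or `c`.

* `le_center_of_characteristic_of_gen` : if an element commuting with all elements of square `c` is central, then every
  characteristic commutative subgroup is central (symplectic transvections, `Helper15.BhrE4.transvHom`);
* `isCyclic_of_characteristic_of_gen` : ... hence cyclic when the centre is `{1, c}`;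
* `exponent_eq_four`;
* `card_lt_eight_of_elementary` : minus type from "commuting non-central involutions are equal up to `c`".
-/

set_option autoImplicit false
set_option linter.style.haveILetI false

namespace Cfsg.Agent.Lib.Helper21.Extraspecial

open Cfsg.Agent.Lib.Helper15.BhrE4

variable {G : Type*} [Group G]

/-- an element commuting with all elements of square `c` is central, given: every involution other than `1`, `c`
commutes with some element of square `c`. -/
theorem central_of_commute_sq (c : G) (hc : ∀ x, c * x = x * c)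
    (hsq : ∀ x : G, x * x = 1 ∨ x * x = c)
    (hinv : ∀ x : G, x * x = 1 → x = 1 ∨ x = c ∨ ∃ u : G, u * u = c ∧ u * x = x * u)
    (b : G) (hb : ∀ u : G, u * u = c → b * u = u * b) (x : G) : b * x = x * b := by
  rcases hsq x with h1 | h1
  · rcases hinv x h1 with rfl | rfl | ⟨u, hu, hux⟩
    · rw [mul_one, one_mul]
    · exact (hc b).symm
    · -- `x * u` has square `c`
      have hxu : (x * u) * (x * u) = c := by
        calc (x * u) * (x * u) = x * (u * x) * u := by simp only [mul_assoc]
          _ = x * (x * u) * u := by rw [hux]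
          _ = (x * x) * (u * u) := by simp only [mul_assoc]
          _ = c := by rw [h1, hu, one_mul]
      have h2 := hb (x * u) hxu
      have h3 := hb u hu
      -- b x u = x u b = x b u
      have h4 : b * x * u = x * b * u := by
        calc b * x * u = b * (x * u) := by rw [mul_assoc]
          _ = x * u * b := h2
          _ = x * (u * b) := by rw [mul_assoc]
          _ = x * (b * u) := by rw [h3]
          _ = x * b * u := by rw [mul_assoc]
      exact mul_right_cancel h4
  · exact hb x h1

/-- **Characteristic commutative subgroups are central.** -/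
theorem le_center_of_characteristic_of_gen [Finite G] (c : G) (hc : ∀ x, c * x = x * c) (hcc : c * c = 1)
    (hcomm : ∀ x y : G, x * y = y * x ∨ x * y = c * (y * x))
    (hgen : ∀ b : G, (∀ u : G, u * u = c → b * u = u * b) → ∀ x, b * x = x * b)
    (A : Subgroup G) (hA : A.Characteristic) (hAc : ∀ x ∈ A, ∀ y ∈ A, x * y = y * x) :
    A ≤ Subgroup.center G := by
  classical
  intro a ha
  rw [Subgroup.mem_center_iff]
  intro b
  refine (hgen a (fun u hu => ?_) b).symm
  by_contra hau
  have hinj := transvHom_injective c u hc hcc hu hcomm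
  let φ : G ≃* G := MulEquiv.ofBijective (transvHom c u hc hcc hu hcomm)
    ⟨hinj, Finite.surjective_of_injective hinj⟩
  have hfix := hA.fixed φ
  have hφa : φ a ∈ A := by
    have : a ∈ A.comap φ.toMonoidHom := by rw [hfix]; exact ha
    exact this
  have hφa' : φ a = a * u := by
    show transvMap u a = a * u
    unfold transvMap
    rw [if_neg hau]
  rw [hφa'] at hφa
  have h2 := hAc a ha (a * u) hφa
  apply hau
  have h3 : a * (a * u) = a * (u * a) := by rw [h2, mul_assoc]
  exact mul_left_cancel h3

/-- ... hence cyclic when the centre is `{1, c}`. -/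
theorem isCyclic_of_characteristic_of_gen [Finite G] (c : G) (hc : ∀ x, c * x = x * c) (hcc : c * c = 1)
    (hcomm : ∀ x y : G, x * y = y * x ∨ x * y = c * (y * x))
    (hgen : ∀ b : G, (∀ u : G, u * u = c → b * u = u * b) → ∀ x, b * x = x * b)
    (hZ : ∀ z : G, (∀ x, z * x = x * z) → z = 1 ∨ z = c)
    (A : Subgroup G) (hA : A.Characteristic) (hAc : IsMulCommutative A) : IsCyclic A := by
  have hle : A ≤ Subgroup.center G := by
    refine le_center_of_characteristic_of_gen c hc hcc hcomm hgen A hA ?_
    intro x hx y hy
    have := hAc.is_comm.comm ⟨x, hx⟩ ⟨y, hy⟩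
    exact congrArg Subtype.val this
  have hle2 : A ≤ Subgroup.zpowers c := by
    intro a ha
    have hac := hle ha
    rw [Subgroup.mem_center_iff] at hac
    rcases hZ a (fun x => (hac x).symm) with h | h
    · rw [h]; exact Subgroup.one_mem _
    · rw [h]; exact Subgroup.mem_zpowers c
  exact isCyclic_of_injective (Subgroup.inclusion hle2) (Subgroup.inclusion_injective hle2)

/-- the exponent is `4`. -/
theorem exponent_eq_four (c : G) (hcc : c * c = 1) (hc1 : c ≠ 1)
    (hsq : ∀ x : G, x * x = 1 ∨ x * x = c) (u : G) (hu : u * u = c) : Monoid.exponent G = 4 := by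
  have h4 : ∀ x : G, x ^ 4 = 1 := by
    intro x
    have : x ^ 4 = (x * x) * (x * x) := by
      rw [show (4 : ℕ) = 2 + 2 from rfl, pow_add, pow_two]
    rw [this]
    rcases hsq x with h | h <;> rw [h]
    · rw [one_mul]
    · exact hcc
  have hd1 : Monoid.exponent G ∣ 4 := Monoid.exponent_dvd_of_forall_pow_eq_one h4
  haveI : Fact (Nat.Prime 2) := ⟨Nat.prime_two⟩
  have hord : orderOf u = 2 ^ (1 + 1) := by
    refine orderOf_eq_prime_pow ?_ ?_
    · rw [pow_one, pow_two, hu]; exact hc1
    · exact h4 u
  have hd2 : 4 ∣ Monoid.exponent G := by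
    have := Monoid.order_dvd_exponent u
    rwa [hord] at this
  exact Nat.dvd_antisymm hd1 hd2

/-- every element has order a power of `2`. -/
theorem isPGroup_two (c : G) (hcc : c * c = 1) (hsq : ∀ x : G, x * x = 1 ∨ x * x = c) : IsPGroup 2 G := by
  intro x
  refine ⟨2, ?_⟩
  have : x ^ 2 ^ 2 = (x * x) * (x * x) := by
    rw [show (2 : ℕ) ^ 2 = 2 + 2 from rfl, pow_add, pow_two]
  rw [this]
  rcases hsq x with h | h <;> rw [h]
  · rw [one_mul]
  · exact hcc

/-- **minus type**: an elementary abelian subgroup has order at most `4`. -/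
theorem card_lt_eight_of_elementary (c : G)
    (hM : ∀ x y : G, x * x = 1 → y * y = 1 → x * y = y * x →
      x = 1 ∨ x = c ∨ y = 1 ∨ y = c ∨ y = x ∨ y = c * x)
    (A : Subgroup G) (hAc : ∀ x ∈ A, ∀ y ∈ A, x * y = y * x) (hA2 : ∀ x ∈ A, x * x = 1) :
    Nat.card A < 8 := by
  classical
  have hcard : ∀ s : Finset G, (A : Set G) ⊆ (s : Set G) → Nat.card A ≤ s.card := by
    intro s hs
    have h1 : Nat.card A = (A : Set G).ncard := (Nat.card_coe_set_eq (A : Set G))
    rw [h1, ← Set.ncard_coe_finset s]
    exact Set.ncard_le_ncard hs (Finset.finite_toSet s)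
  by_cases h : ∀ x ∈ A, x = 1 ∨ x = c
  · have := hcard {1, c} (fun x hx => by
      rcases h x hx with rfl | rfl <;> simp)
    have h2 : ({1, c} : Finset G).card ≤ 2 := Finset.card_le_two
    omega
  · push Not at h
    obtain ⟨x, hxA, hx1, hxc⟩ := h
    have := hcard {1, c, x, c * x} (fun y hy => by
      rcases hM x y (hA2 x hxA) (hA2 y hy) (hAc x hxA y hy) with h | h | h | h | h | h
      · exact absurd h hx1
      · exact absurd h hxc
      · rw [h]; simp
      · rw [h]; simp
      · rw [h]; simp
      · rw [h]; simp)
    have h2 : ({1, c, x, c * x} : Finset G).card ≤ 4 := Finset.card_le_four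
    omega

end Cfsg.Agent.Lib.Helper21.Extraspecial
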