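import Mathlib
import Cfsg.Prelude.Def_GeometricClasses
import Cfsg.Agent.Lib.Helper94.BHRSP.Sp4Model
import Cfsg.Agent.Lib.Helper94.BHRSP.Sp4Kit
import Cfsg.Agent.Lib.Helper21.BhrSp4R0
import Cfsg.Agent.Lib.Helper21.ExtraspecialAbs
import Cfsg.Agent.Lib.Helper49.U92Transport

/-!
# BHRSP-[3B-R0-CARD], [3B-R0-STR], [3B-R0-MINUS] (helper21, for helper94's project BHRSP, phase 2)

`Rc P = P (Q_8 ⊗ O_2) P⁻¹ ≤ GL_4(3)` has order 32, centre of order 2, is of symplectic type and of minus type.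
-/

set_option autoImplicit false
set_option linter.unusedSimpArgs false
set_option linter.unusedSectionVars false
set_option linter.style.haveILetI false

namespace Cfsg.Agent.Lib.Helper21.Sp4

open Cfsg Cfsg.Geo Cfsg.Agent.Lib.Helper94.BHRSP.Sp4
open scoped MatrixGroups Matrix

variable {F : Type*} [Field F] [Fintype F]

/-! ### counting `Q_8` and `O_2` -/

def PQ (t : ZMod 3 × ZMod 3 × ZMod 3 × ZMod 3) : Prop :=
  t.1 * t.2.2.2 - t.2.1 * t.2.2.1 = 1 ∧ (t.1 + t.2.2.2 = 0 ∨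
    (t.1 = 1 ∧ t.2.1 = 0 ∧ t.2.2.1 = 0 ∧ t.2.2.2 = 1) ∨
    (t.1 = -1 ∧ t.2.1 = 0 ∧ t.2.2.1 = 0 ∧ t.2.2.2 = -1))

instance : DecidablePred PQ := fun t => by unfold PQ; infer_instance

set_option maxRecDepth 1000000 in
theorem cardPQ : Fintype.card {t // PQ t} = 8 := by decide

def PO (t : ZMod 3 × ZMod 3 × ZMod 3 × ZMod 3) : Prop :=
  t.1 * t.1 + t.2.2.1 * t.2.2.1 = 1 ∧ t.1 * t.2.1 + t.2.2.1 * t.2.2.2 = 0 ∧
    t.2.1 * t.2.1 + t.2.2.2 * t.2.2.2 = 1

instance : DecidablePred PO := fun t => by unfold PO; infer_instance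

set_option maxRecDepth 1000000 in
theorem cardPO : Fintype.card {t // PO t} = 8 := by decide

/-- the entries of a 2 × 2 matrix, read in `ZMod 3` -/
def entryEquiv (φ : ZMod 3 ≃+* F) : Matrix (Fin 2) (Fin 2) F ≃ (ZMod 3 × ZMod 3 × ZMod 3 × ZMod 3) where
  toFun m := (φ.symm (m 0 0), φ.symm (m 0 1), φ.symm (m 1 0), φ.symm (m 1 1))
  invFun t := !![φ t.1, φ t.2.1; φ t.2.2.1, φ t.2.2.2]
  left_inv m := by apply ext2 <;> simp
  right_inv t := by simp

theorem eq_one_iff2 (m : Matrix (Fin 2) (Fin 2) F) :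
    m = 1 ↔ m 0 0 = 1 ∧ m 0 1 = 0 ∧ m 1 0 = 0 ∧ m 1 1 = 1 := by
  constructor
  · rintro rfl; simp
  · rintro ⟨a, b, c, e⟩
    exact ext2 (by rw [a, one00]) (by rw [b, one01]) (by rw [c, one10]) (by rw [e, one11])

theorem eq_neg_one_iff2 (m : Matrix (Fin 2) (Fin 2) F) :
    m = -1 ↔ m 0 0 = -1 ∧ m 0 1 = 0 ∧ m 1 0 = 0 ∧ m 1 1 = -1 := by
  constructor
  · rintro rfl; simp
  · rintro ⟨a, b, c, e⟩
    apply ext2 <;> rw [Matrix.neg_apply]
    · rw [a, one00]
    · rw [b, one01, neg_zero]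
    · rw [c, one10, neg_zero]
    · rw [e, one11]

theorem isQ_iff_PQ (φ : ZMod 3 ≃+* F) (m : Matrix (Fin 2) (Fin 2) F) : IsQ m ↔ PQ (entryEquiv φ m) := by
  unfold IsQ PQ entryEquiv
  rw [Matrix.det_fin_two, Matrix.trace_fin_two, eq_one_iff2, eq_neg_one_iff2]
  simp only [transfer_eq φ, map_mul, map_add, map_sub, map_neg, map_one, map_zero, Equiv.coe_fn_mk]

theorem isO_iff_PO (φ : ZMod 3 ≃+* F) (m : Matrix (Fin 2) (Fin 2) F) : IsO m ↔ PO (entryEquiv φ m) := by
  have h1 : IsO m ↔ (m 0 0 * m 0 0 + m 1 0 * m 1 0 = 1 ∧ m 0 0 * m 0 1 + m 1 0 * m 1 1 = 0 ∧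
      m 0 1 * m 0 1 + m 1 1 * m 1 1 = 1) := by
    constructor
    · exact isO_entries
    · rintro ⟨a, b, c⟩
      unfold IsO
      apply ext2
      · rw [mul00, one00]; simp only [Matrix.transpose_apply]; exact a
      · rw [mul01, one01]; simp only [Matrix.transpose_apply]; exact b
      · rw [mul10, one10]; simp only [Matrix.transpose_apply]; linear_combination b
      · rw [mul11, one11]; simp only [Matrix.transpose_apply]; exact c
  rw [h1]
  unfold PO entryEquiv
  simp only [transfer_eq φ, map_mul, map_add, map_sub, map_neg, map_one, map_zero, Equiv.coe_fn_mk]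

theorem card_isQ (hq : Fintype.card F = 3) : Nat.card {m : Matrix (Fin 2) (Fin 2) F // IsQ m} = 8 := by
  obtain ⟨φ⟩ := exists_equiv hq
  rw [Nat.card_congr ((entryEquiv φ).subtypeEquiv (isQ_iff_PQ φ)), Nat.card_eq_fintype_card, cardPQ]

theorem card_isO (hq : Fintype.card F = 3) : Nat.card {m : Matrix (Fin 2) (Fin 2) F // IsO m} = 8 := by
  obtain ⟨φ⟩ := exists_equiv hq
  rw [Nat.card_congr ((entryEquiv φ).subtypeEquiv (isO_iff_PO φ)), Nat.card_eq_fintype_card, cardPO]

theorem card_Q8 (hq : Fintype.card F = 3) : Nat.card (Q8 : Subgroup (GL (Fin 2) F)) = 8 := by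
  rw [← card_isQ hq]
  refine Nat.card_congr (Equiv.ofBijective
    (fun q : (Q8 : Subgroup (GL (Fin 2) F)) =>
      (⟨((q : GL (Fin 2) F) : Matrix (Fin 2) (Fin 2) F), isQ_of_mem_Q8 hq q.2⟩ :
        {m : Matrix (Fin 2) (Fin 2) F // IsQ m})) ⟨?_, ?_⟩)
  · intro a b hab
    have := congrArg Subtype.val hab
    exact Subtype.ext (Units.ext this)
  · rintro ⟨m, hm⟩
    exact ⟨⟨glOfQ hm, mem_Q8_of_isQ (by rw [glOfQ_val]; exact hm)⟩, rfl⟩

theorem card_O2 (hq : Fintype.card F = 3) : Nat.card (O2 : Subgroup (GL (Fin 2) F)) = 8 := by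
  rw [← card_isO hq]
  refine Nat.card_congr (Equiv.ofBijective
    (fun d : (O2 : Subgroup (GL (Fin 2) F)) =>
      (⟨((d : GL (Fin 2) F) : Matrix (Fin 2) (Fin 2) F), d.2⟩ :
        {m : Matrix (Fin 2) (Fin 2) F // IsO m})) ⟨?_, ?_⟩)
  · intro a b hab
    have := congrArg Subtype.val hab
    exact Subtype.ext (Units.ext this)
  · rintro ⟨m, hm⟩
    exact ⟨⟨glOfO hm, hm⟩, rfl⟩

/-! ### the group `↥R₀` -/

/-- the matrix of an element of `R₀` -/
def mat (x : (R0 : Subgroup (GL (Fin 2 ⊕ Fin 2) F))) : Matrix (Fin 2 ⊕ Fin 2) (Fin 2 ⊕ Fin 2) F :=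
  ((x : GL (Fin 2 ⊕ Fin 2) F) : Matrix (Fin 2 ⊕ Fin 2) (Fin 2 ⊕ Fin 2) F)

theorem mat_mul (x y : (R0 : Subgroup (GL (Fin 2 ⊕ Fin 2) F))) : mat (x * y) = mat x * mat y := by
  unfold mat
  rw [Subgroup.coe_mul, Units.val_mul]

theorem mat_one : mat (1 : (R0 : Subgroup (GL (Fin 2 ⊕ Fin 2) F))) = 1 := by
  unfold mat
  rw [Subgroup.coe_one, Units.val_one]

theorem mat_injective {a b : (R0 : Subgroup (GL (Fin 2 ⊕ Fin 2) F))} (h : mat a = mat b) : a = b :=
  Subtype.ext (Units.ext h)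

theorem mat_inR0 (hq : Fintype.card F = 3) (x : (R0 : Subgroup (GL (Fin 2 ⊕ Fin 2) F))) : InR0 (mat x) :=
  (mem_R0_iff_inR0 hq _).1 x.2

theorem exists_el (hq : Fintype.card F = 3) {u : Matrix (Fin 2 ⊕ Fin 2) (Fin 2 ⊕ Fin 2) F} (hu : InR0 u) :
    ∃ g : (R0 : Subgroup (GL (Fin 2 ⊕ Fin 2) F)), mat g = u := by
  obtain ⟨q, d, hq', hd, rfl⟩ := hu
  refine ⟨⟨tensGL (glOfQ hq') (glOfO hd), (mem_R0_iff _).2
    ⟨glOfQ hq', mem_Q8_of_isQ (by rw [glOfQ_val]; exact hq'), glOfO hd, hd, rfl⟩⟩, ?_⟩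
  unfold mat
  rw [tensGL_val, glOfQ_val, glOfO_val]

/-- the central involution `-1` -/
noncomputable def cEl (hq : Fintype.card F = 3) : (R0 : Subgroup (GL (Fin 2 ⊕ Fin 2) F)) :=
  (exists_el hq (inR0_neg_one (F := F))).choose

theorem mat_cEl (hq : Fintype.card F = 3) : mat (cEl hq) = (-1 : Matrix (Fin 2 ⊕ Fin 2) (Fin 2 ⊕ Fin 2) F) :=
  (exists_el hq (inR0_neg_one (F := F))).choose_spec

theorem cEl_central (hq : Fintype.card F = 3) (x : (R0 : Subgroup (GL (Fin 2 ⊕ Fin 2) F))) :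
    cEl hq * x = x * cEl hq := by
  apply mat_injective
  rw [mat_mul, mat_mul, mat_cEl, neg_mul, one_mul, mul_neg, mul_one]

theorem cEl_sq (hq : Fintype.card F = 3) : cEl hq * cEl hq = (1 : (R0 : Subgroup (GL (Fin 2 ⊕ Fin 2) F))) := by
  apply mat_injective
  rw [mat_mul, mat_cEl, mat_one, neg_mul_neg, mul_one]

theorem cEl_ne_one (hq : Fintype.card F = 3) : cEl hq ≠ (1 : (R0 : Subgroup (GL (Fin 2 ⊕ Fin 2) F))) := by
  intro h
  have := congrArg mat h
  rw [mat_cEl, mat_one] at this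
  exact one_ne_neg_one_mat4 hq this.symm

theorem el_sq (hq : Fintype.card F = 3) (x : (R0 : Subgroup (GL (Fin 2 ⊕ Fin 2) F))) :
    x * x = 1 ∨ x * x = cEl hq := by
  rcases inR0_sq hq (mat_inR0 hq x) with h | h
  · left; apply mat_injective; rw [mat_mul, mat_one]; exact h
  · right; apply mat_injective; rw [mat_mul, mat_cEl]; exact h

/-- abstract: commute up to `c` from squares in `{1, c}` -/
theorem comm_or_of_sq {G : Type*} [Group G] (c : G) (hc : ∀ x, c * x = x * c) (hcc : c * c = 1)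
    (hsq : ∀ x : G, x * x = 1 ∨ x * x = c) (x y : G) : x * y = y * x ∨ x * y = c * (y * x) := by
  have hinv : ∀ x : G, x⁻¹ = x ∨ x⁻¹ = c * x := by
    intro x
    rcases hsq x with h | h
    · left; exact inv_eq_of_mul_eq_one_right h
    · right
      apply inv_eq_of_mul_eq_one_right
      rw [← mul_assoc, ← hc x, mul_assoc, h, hcc]
  have h1 : (x * y)⁻¹ = y * x ∨ (x * y)⁻¹ = c * (y * x) := by
    rw [mul_inv_rev]
    rcases hinv x with hx | hx <;> rcases hinv y with hy | hy <;> rw [hx, hy]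
    · exact Or.inl rfl
    · right; rw [mul_assoc]
    · right; rw [← mul_assoc, ← hc y, mul_assoc]
    · left
      calc c * y * (c * x) = c * (y * c) * x := by simp only [mul_assoc]
        _ = c * (c * y) * x := by rw [hc y]
        _ = (c * c) * (y * x) := by simp only [mul_assoc]
        _ = y * x := by rw [hcc, one_mul]
  rcases hinv (x * y) with h2 | h2
  · rw [h2] at h1; exact h1
  · rw [h2] at h1
    rcases h1 with h3 | h3
    · right
      calc x * y = (c * c) * (x * y) := by rw [hcc, one_mul]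
        _ = c * (c * (x * y)) := by rw [mul_assoc]
        _ = c * (y * x) := by rw [h3]
    · left; exact mul_left_cancel h3

theorem el_comm (hq : Fintype.card F = 3) (x y : (R0 : Subgroup (GL (Fin 2 ⊕ Fin 2) F))) :
    x * y = y * x ∨ x * y = cEl hq * (y * x) :=
  comm_or_of_sq (cEl hq) (cEl_central hq) (cEl_sq hq) (el_sq hq) x y

theorem el_gen (hq : Fintype.card F = 3) (b : (R0 : Subgroup (GL (Fin 2 ⊕ Fin 2) F)))
    (hb : ∀ u, u * u = cEl hq → b * u = u * b) (x : (R0 : Subgroup (GL (Fin 2 ⊕ Fin 2) F))) :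
    b * x = x * b := by
  refine Extraspecial.central_of_commute_sq (cEl hq) (cEl_central hq) (el_sq hq) ?_ b hb x
  intro y _
  right; right
  obtain ⟨u, hu, huu, hux⟩ := inR0_exists_sq hq (mat_inR0 hq y)
  obtain ⟨g, rfl⟩ := exists_el hq hu
  refine ⟨g, ?_, ?_⟩
  · apply mat_injective; rw [mat_mul, mat_cEl]; exact huu
  · apply mat_injective; rw [mat_mul, mat_mul]; exact hux

theorem el_center (hq : Fintype.card F = 3) (z : (R0 : Subgroup (GL (Fin 2 ⊕ Fin 2) F)))
    (hz : ∀ x, z * x = x * z) : z = 1 ∨ z = cEl hq := by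
  have := inR0_center hq (mat_inR0 hq z) (fun y hy => by
    obtain ⟨g, rfl⟩ := exists_el hq hy
    rw [← mat_mul, ← mat_mul, hz g])
  rcases this with h | h
  · left; apply mat_injective; rw [mat_one]; exact h
  · right; apply mat_injective; rw [mat_cEl]; exact h

theorem el_minus (hq : Fintype.card F = 3) (x y : (R0 : Subgroup (GL (Fin 2 ⊕ Fin 2) F)))
    (hx : x * x = 1) (hy : y * y = 1) (hxy : x * y = y * x) :
    x = 1 ∨ x = cEl hq ∨ y = 1 ∨ y = cEl hq ∨ y = x ∨ y = cEl hq * x := by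
  have h1 : mat x * mat x = 1 := by rw [← mat_mul, hx, mat_one]
  have h2 : mat y * mat y = 1 := by rw [← mat_mul, hy, mat_one]
  have h3 : mat x * mat y = mat y * mat x := by rw [← mat_mul, ← mat_mul, hxy]
  rcases inR0_comm_inv hq (mat_inR0 hq x) (mat_inR0 hq y) h1 h2 h3 with (h | h) | (h | h) | (h | h)
  · left; apply mat_injective; rw [mat_one]; exact h
  · right; left; apply mat_injective; rw [mat_cEl]; exact h
  · right; right; left; apply mat_injective; rw [mat_one]; exact h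
  · right; right; right; left; apply mat_injective; rw [mat_cEl]; exact h
  · right; right; right; right; left; exact mat_injective h
  · right; right; right; right; right
    apply mat_injective; rw [mat_mul, mat_cEl, neg_mul, one_mul]; exact h

theorem exists_sq_c (hq : Fintype.card F = 3) :
    ∃ u : (R0 : Subgroup (GL (Fin 2 ⊕ Fin 2) F)), u * u = cEl hq := by
  obtain ⟨u, hu, huu, _⟩ := inR0_exists_sq hq (inR0_one (F := F))
  obtain ⟨g, rfl⟩ := exists_el hq hu
  exact ⟨g, by apply mat_injective; rw [mat_mul, mat_cEl]; exact huu⟩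

/-! ### the three properties for `R₀` -/

theorem isSymplecticTypeGroup_R0 (hq : Fintype.card F = 3) :
    IsSymplecticTypeGroup 2 (R0 : Subgroup (GL (Fin 2 ⊕ Fin 2) F)) := by
  obtain ⟨u, hu⟩ := exists_sq_c hq
  refine ⟨Nat.prime_two, Extraspecial.isPGroup_two (cEl hq) (cEl_sq hq) (el_sq hq), ?_, ?_⟩
  · intro A hA hAc
    exact Extraspecial.isCyclic_of_characteristic_of_gen (cEl hq) (cEl_central hq) (cEl_sq hq) (el_comm hq)
      (el_gen hq) (el_center hq) A hA hAc
  · rw [Extraspecial.exponent_eq_four (cEl hq) (cEl_sq hq) (cEl_ne_one hq) (el_sq hq) u hu]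
    rfl

theorem isOfMinusType_R0 (hq : Fintype.card F = 3) :
    IsOfMinusType 2 (R0 : Subgroup (GL (Fin 2 ⊕ Fin 2) F)) := by
  intro A hAc hA2
  have := Extraspecial.card_lt_eight_of_elementary (cEl hq) (el_minus hq) A
    (fun x hx y hy => by
      have := hAc.is_comm.comm ⟨x, hx⟩ ⟨y, hy⟩
      exact congrArg Subtype.val this) hA2
  exact this

theorem card_center_R0 (hq : Fintype.card F = 3) :
    Nat.card (Subgroup.center (R0 : Subgroup (GL (Fin 2 ⊕ Fin 2) F))) = 2 := by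
  have hset : ((Subgroup.center (R0 : Subgroup (GL (Fin 2 ⊕ Fin 2) F)) :
      Subgroup (R0 : Subgroup (GL (Fin 2 ⊕ Fin 2) F))) : Set (R0 : Subgroup (GL (Fin 2 ⊕ Fin 2) F))) =
      {1, cEl hq} := by
    ext z
    constructor
    · intro hz
      have hz' := Subgroup.mem_center_iff.1 hz
      rcases el_center hq z (fun x => (hz' x).symm) with h | h
      · rw [h]; simp
      · rw [h]; simp
    · rintro (h | h)
      · rw [h]; exact Subgroup.one_mem _
      · rw [Set.mem_singleton_iff] at h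
        rw [h]
        exact Subgroup.mem_center_iff.2 (fun x => (cEl_central hq x).symm)
  have h1 : Nat.card (Subgroup.center (R0 : Subgroup (GL (Fin 2 ⊕ Fin 2) F))) =
      Set.ncard ((Subgroup.center (R0 : Subgroup (GL (Fin 2 ⊕ Fin 2) F)) :
        Subgroup (R0 : Subgroup (GL (Fin 2 ⊕ Fin 2) F))) : Set (R0 : Subgroup (GL (Fin 2 ⊕ Fin 2) F))) :=
    Nat.card_coe_set_eq ((Subgroup.center (R0 : Subgroup (GL (Fin 2 ⊕ Fin 2) F)) :
        Subgroup (R0 : Subgroup (GL (Fin 2 ⊕ Fin 2) F))) : Set (R0 : Subgroup (GL (Fin 2 ⊕ Fin 2) F)))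
  rw [h1, hset, Set.ncard_pair (cEl_ne_one hq).symm]

/-! ### the order of `R₀` -/

theorem neg_one_mem_O2 : (-1 : GL (Fin 2) F) ∈ (O2 : Subgroup (GL (Fin 2) F)) := by
  rw [mem_O2_iff_isO, Units.val_neg, Units.val_one]
  exact isO_neg isO_one

theorem card_R0 (hq : Fintype.card F = 3) : Nat.card (R0 : Subgroup (GL (Fin 2 ⊕ Fin 2) F)) = 32 := by
  classical
  let H : Subgroup (GL (Fin 2) F × GL (Fin 2) F) := (Q8 : Subgroup (GL (Fin 2) F)).prod O2
  let g : H →* GL (Fin 2 ⊕ Fin 2) F := tensHom.comp H.subtype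
  have hrange : g.range = R0 := by
    show (tensHom.comp H.subtype).range = H.map tensHom
    rw [← MonoidHom.map_range, Subgroup.range_subtype]
  have hH : Nat.card H = 64 := by
    rw [Nat.card_congr (Subgroup.prodEquiv (Q8 : Subgroup (GL (Fin 2) F)) O2).toEquiv, Nat.card_prod,
      card_Q8 hq, card_O2 hq]
  let k0 : H := ⟨(-1, -1), Subgroup.mem_prod.2 ⟨neg_one_mem_Q8, neg_one_mem_O2⟩⟩
  have hk0 : k0 ∈ g.ker := by
    rw [MonoidHom.mem_ker]
    show tensHom ((-1 : GL (Fin 2) F), (-1 : GL (Fin 2) F)) = 1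
    rw [tensHom_apply]
    apply Units.ext
    rw [tensGL_val, Units.val_neg, Units.val_one, Units.val_one, tens_neg_left, tens_neg_right, neg_neg,
      tens_one]
  have hk01 : (1 : H) ≠ k0 := by
    intro h
    have h1 := congrArg (fun z : H => (((z : GL (Fin 2) F × GL (Fin 2) F).1 : GL (Fin 2) F) :
      Matrix (Fin 2) (Fin 2) F)) h
    simp only [k0, Subgroup.coe_one, Prod.fst_one, Units.val_one, Units.val_neg] at h1
    exact one_ne_neg_one_mat hq h1
  have hker : ∀ z : H, z ∈ g.ker → z = 1 ∨ z = k0 := by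
    rintro ⟨⟨q, d⟩, hz⟩ hzk
    obtain ⟨hqm, hdm⟩ := Subgroup.mem_prod.1 hz
    have hq' := isQ_of_mem_Q8 hq hqm
    have hd : IsO (d : Matrix (Fin 2) (Fin 2) F) := hdm
    rw [MonoidHom.mem_ker] at hzk
    have h1 : tens (q : Matrix (Fin 2) (Fin 2) F) (d : Matrix (Fin 2) (Fin 2) F) = 1 := by
      have : tensGL q d = 1 := hzk
      have h2 := congrArg (fun u : GL (Fin 2 ⊕ Fin 2) F => (u : Matrix (Fin 2 ⊕ Fin 2) (Fin 2 ⊕ Fin 2) F)) this
      simpa only [tensGL_val, Units.val_one] using h2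
    obtain ⟨hq1, hd1⟩ := inR0_center_factors hq hq' hd (fun y _ => by rw [h1, one_mul, mul_one])
    rcases hq1 with hq1 | hq1 <;> rcases hd1 with hd1 | hd1
    · left
      apply Subtype.ext
      apply Prod.ext
      · exact Units.ext (by rw [hq1]; rfl)
      · exact Units.ext (by rw [hd1]; rfl)
    · exfalso
      rw [hq1, hd1, tens_neg_right, tens_one] at h1
      exact one_ne_neg_one_mat4 hq h1.symm
    · exfalso
      rw [hq1, hd1, tens_neg_left, tens_one] at h1
      exact one_ne_neg_one_mat4 hq h1.symm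
    · right
      apply Subtype.ext
      apply Prod.ext
      · exact Units.ext (by rw [hq1]; simp [k0])
      · exact Units.ext (by rw [hd1]; simp [k0])
  have hkcard : Nat.card g.ker = 2 := by
    have hset : ((g.ker : Subgroup H) : Set H) = {1, k0} := by
      ext z
      constructor
      · intro hz
        rcases hker z hz with h | h
        · rw [h]; simp
        · rw [h]; simp
      · rintro (h | h)
        · rw [h]; exact Subgroup.one_mem _
        · rw [Set.mem_singleton_iff] at h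
          rw [h]; exact hk0
    have h1 : Nat.card g.ker = Set.ncard ((g.ker : Subgroup H) : Set H) :=
      Nat.card_coe_set_eq ((g.ker : Subgroup H) : Set H)
    rw [h1, hset, Set.ncard_pair hk01]
  have h1 := Subgroup.card_mul_index g.ker
  rw [Subgroup.index_ker, hrange, hkcard, hH] at h1
  omega

/-! ### transport along an isomorphism -/

theorem card_center_congr {G H : Type*} [Group G] [Group H] (e : G ≃* H) :
    Nat.card (Subgroup.center G) = Nat.card (Subgroup.center H) := by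
  refine Nat.card_congr (e.toEquiv.subtypeEquiv (fun a => ?_))
  rw [Subgroup.mem_center_iff, Subgroup.mem_center_iff]
  constructor
  · intro h b
    have := h (e.symm b)
    have h2 := congrArg e this
    simpa using h2
  · intro h b
    have := h (e b)
    apply e.injective
    simpa using this

theorem isOfMinusType_congr {G : Type*} [Group G] {R R' : Subgroup G} (e : R ≃* R') (k : ℕ)
    (h : IsOfMinusType k R) : IsOfMinusType k R' := by
  intro A hAc hA2
  have hinj : Function.Injective e.symm.toMonoidHom := e.symm.injective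
  have hcard : Nat.card (A.map e.symm.toMonoidHom) = Nat.card A := Subgroup.card_map_of_injective hinj
  rw [← hcard]
  refine h (A.map e.symm.toMonoidHom) ?_ ?_
  · refine ⟨⟨?_⟩⟩
    rintro ⟨_, a, ha, rfl⟩ ⟨_, b, hb, rfl⟩
    apply Subtype.ext
    have := hAc.is_comm.comm ⟨a, ha⟩ ⟨b, hb⟩
    have h2 : a * b = b * a := congrArg Subtype.val this
    show e.symm.toMonoidHom a * e.symm.toMonoidHom b = e.symm.toMonoidHom b * e.symm.toMonoidHom a
    rw [← map_mul, ← map_mul, h2]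
  · rintro _ ⟨a, ha, rfl⟩
    rw [← map_mul, hA2 a ha, map_one]

/-! ### the three leaves (exact statements of `Skel2.lean.txt`, in helper21's namespace) -/

/-- the conjugation isomorphism `R₀ ≃* Rc P` -/
noncomputable def rcEquiv (P : GL (Fin 2 ⊕ Fin 2) F) :
    (R0 : Subgroup (GL (Fin 2 ⊕ Fin 2) F)) ≃* (Rc P : Subgroup (GL (Fin 2 ⊕ Fin 2) F)) :=
  (MulAut.conj P).subgroupMap R0

/-- **[3B-R0-CARD]** -/
theorem card_Rc (hq : Fintype.card F = 3) (P : GL (Fin 2 ⊕ Fin 2) F) :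
    Nat.card (Rc P) = 32 ∧ Nat.card (Subgroup.center (Rc P)) = 2 := by
  constructor
  · rw [← Nat.card_congr (rcEquiv P).toEquiv]
    exact Cfsg.Agent.Lib.Helper21.Sp4.card_R0 hq
  · rw [← Cfsg.Agent.Lib.Helper21.Sp4.card_center_congr (rcEquiv P)]
    exact Cfsg.Agent.Lib.Helper21.Sp4.card_center_R0 hq

/-- **[3B-R0-STR]** -/
theorem isSymplecticTypeGroup_Rc (hq : Fintype.card F = 3) (P : GL (Fin 2 ⊕ Fin 2) F) :
    IsSymplecticTypeGroup 2 (Rc P) :=
  Cfsg.Agent.Lib.Helper99.U92.isSymplecticTypeGroup_map (MulAut.conj P) 2 R0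
    (Cfsg.Agent.Lib.Helper21.Sp4.isSymplecticTypeGroup_R0 hq)

/-- **[3B-R0-MINUS]** -/
theorem isOfMinusType_Rc (hq : Fintype.card F = 3) (P : GL (Fin 2 ⊕ Fin 2) F) :
    IsOfMinusType 2 (Rc P) :=
  Cfsg.Agent.Lib.Helper21.Sp4.isOfMinusType_congr (rcEquiv P) 2
    (Cfsg.Agent.Lib.Helper21.Sp4.isOfMinusType_R0 hq)

end Cfsg.Agent.Lib.Helper21.Sp4
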