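import Mathlib
import Cfsg.Prelude.Def_GeometricClasses
import Cfsg.Agent.Lib.Helper94.BHRSP.Kit

/-!
# BHRSP-[A-DECOMP] and BHRSP-[A-C3DIV] (helper21, for helper94's project BHRSP)

* `mul_eq_of_isMDecomposition` : an `IsMDecomposition k D` of `F^(Fin m ⊕ Fin m)` into `t` pieces has `t * k = 2 * m`;
* `dvd_two_mul_of_isFieldSubalgebra` : the degree of a field subalgebra of `M_{2m}(F)` divides `2 * m`.
-/

set_option autoImplicit false
set_option linter.unusedSectionVars false
set_option linter.style.haveILetI false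

namespace Cfsg.Agent.Lib.Helper94.BHRSP

open Cfsg Cfsg.Geo
open scoped MatrixGroups Matrix Kronecker

variable {F : Type*} [Field F] [Fintype F] {m : ℕ}

/-- **[A-DECOMP]** LEAF, easy. Sum of the finranks of an independent spanning family. -/
theorem mul_eq_of_isMDecomposition {t k : ℕ} (D : Fin t → Submodule F (Fin m ⊕ Fin m → F))
    (hD : IsMDecomposition k D) : t * k = 2 * m := by
  classical
  have hint : DirectSum.IsInternal D :=
    DirectSum.isInternal_submodule_of_iSupIndep_of_iSup_eq_top hD.indep hD.iSup_eq_top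
  have h1 : Module.finrank F (Fin m ⊕ Fin m → F) = ∑ i, Module.finrank F (D i) := by
    have e := LinearEquiv.ofBijective (DirectSum.coeLinearMap D) hint
    rw [← e.finrank_eq, Module.finrank_directSum]
  simp only [hD.finrank_eq, Finset.sum_const, Finset.card_univ, Fintype.card_fin, smul_eq_mul,
    Module.finrank_fintype_fun_eq_card, Fintype.card_sum] at h1
  omega

/-- **[A-C3DIV]** LEAF: `F^(2m)` is a `K`-module, `finrank_mul_finrank`. -/
theorem dvd_two_mul_of_isFieldSubalgebra (r : ℕ)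
    (K : Subalgebra F (Matrix (Fin m ⊕ Fin m) (Fin m ⊕ Fin m) F)) (hK : IsFieldSubalgebra r K) : r ∣ 2 * m := by
  classical
  rcases Nat.eq_zero_or_pos m with rfl | hm
  · exact dvd_zero r
  haveI : Nonempty (Fin m ⊕ Fin m) := ⟨Sum.inl ⟨0, hm⟩⟩
  haveI : Nontrivial (Matrix (Fin m ⊕ Fin m) (Fin m ⊕ Fin m) F) := inferInstance
  have hfield : IsField ↥K :=
    { exists_pair_ne := ⟨0, 1, fun h => zero_ne_one (congrArg Subtype.val h)⟩
      mul_comm := fun a b => Subtype.ext (hK.comm a.1 a.2 b.1 b.2)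
      mul_inv_cancel := fun {a} ha => by
        obtain ⟨y, hyK, hy⟩ := hK.inv a.1 a.2 (fun h => ha (Subtype.ext h))
        exact ⟨⟨y, hyK⟩, Subtype.ext hy⟩ }
  -- the module structure of F^(2m) over K
  let φ : ↥K →+* Module.End F (Fin m ⊕ Fin m → F) :=
    (Matrix.toLinAlgEquiv' : Matrix (Fin m ⊕ Fin m) (Fin m ⊕ Fin m) F ≃ₐ[F]
      Module.End F (Fin m ⊕ Fin m → F)).toAlgHom.toRingHom.comp K.val.toRingHom
  letI instMod : Module ↥K (Fin m ⊕ Fin m → F) := Module.compHom (Fin m ⊕ Fin m → F) φ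
  haveI hTower : IsScalarTower F ↥K (Fin m ⊕ Fin m → F) := ⟨fun c k v => by
    show φ (c • k) v = c • φ k v
    simp [φ]⟩
  haveI hSRC : StrongRankCondition ↥K := by
    letI instFld : Field ↥K := hfield.toField
    exact (inferInstance : StrongRankCondition ↥K)
  haveI hfree : Module.Free ↥K (Fin m ⊕ Fin m → F) := by
    letI instFld : Field ↥K := hfield.toField
    exact @Module.Free.of_divisionRing ↥K (Fin m ⊕ Fin m → F) _ _ instMod
  have key := @Module.finrank_mul_finrank F ↥K (Fin m ⊕ Fin m → F) _ _ _ _ instMod _ hTower _ hSRC _ hfree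
  rw [Module.finrank_fintype_fun_eq_card, Fintype.card_sum, Fintype.card_fin] at key
  rw [← hK.finrank_eq]
  exact Dvd.intro _ (by rw [key]; ring)

end Cfsg.Agent.Lib.Helper94.BHRSP
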