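import Mathlib
import Cfsg.Prelude.Def_GeometricClasses
import Cfsg.Agent.Lib.Helper94.BHRSP.Kit
import Cfsg.Agent.Lib.Helper21.BhrspADecomp

/-!
# BHRSP-[A-C3], `_of` form (helper21, for helper94's project BHRSP)

`r ∣ m` for a self-adjoint field subalgebra of prime degree `r` with `f(kv, v) = 0`, from [A-C3DIV] (on main) and the
statement of [A-C3TWO] taken as a hypothesis.
-/

set_option autoImplicit false
set_option linter.unusedSectionVars false

namespace Cfsg.Agent.Lib.Helper21.BHRSP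

open Cfsg Cfsg.Geo Cfsg.Agent.Lib.Helper94.BHRSP
open scoped MatrixGroups Matrix Kronecker

variable {F : Type*} [Field F] [Fintype F] {m : ℕ}

/-- **[A-C3]**, with the statement of [A-C3TWO] as a hypothesis. -/
theorem dvd_of_selfAdjoint_field_of
    (hTwo : ∀ K : Subalgebra F (Matrix (Fin m ⊕ Fin m) (Fin m ⊕ Fin m) F), IsFieldSubalgebra 2 K →
      IsSelfAdjointFor (sympForm m F) K → (∀ k ∈ K, ∀ v, sympForm m F (k *ᵥ v) v = 0) → Even m)
    (r : ℕ) (hr : r.Prime)
    (K : Subalgebra F (Matrix (Fin m ⊕ Fin m) (Fin m ⊕ Fin m) F)) (hK : IsFieldSubalgebra r K)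
    (hsa : IsSelfAdjointFor (sympForm m F) K) (halt : ∀ k ∈ K, ∀ v, sympForm m F (k *ᵥ v) v = 0) : r ∣ m := by
  have hdvd : r ∣ 2 * m := dvd_two_mul_of_isFieldSubalgebra r K hK
  rcases hr.eq_two_or_odd' with h2 | hodd
  · subst h2
    exact (even_iff_two_dvd.1 (hTwo K hK hsa halt))
  · have hcop : Nat.Coprime r 2 := Nat.Coprime.symm (Nat.coprime_two_left.2 hodd)
    exact hcop.dvd_of_dvd_mul_left hdvd

end Cfsg.Agent.Lib.Helper21.BHRSP
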