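import Mathlib
import Cfsg.Prelude.Def_GeometricClasses
import Cfsg.Agent.Lib.Helper94.BHRSP.Kit

/-!
# BHRSP-[P2] (helper21, for helper94's project BHRSP): `spGL m F` is contained in no decomposition stabiliser
-/

set_option autoImplicit false
set_option linter.unusedSectionVars false

namespace Cfsg.Agent.Lib.Helper94.BHRSP

open Cfsg Cfsg.Geo
open scoped MatrixGroups Matrix Kronecker

variable {F : Type*} [Field F] [Fintype F] {m : ℕ}

/-- **[P2]** LEAF. `0 ≠ u₀ ∈ D 0`, `0 ≠ u₁ ∈ D 1`; `u₀ + u₁` lies in no `D j` (`indep`);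
`g u₀ = u₀ + u₁` by `exists_spGL_mulVec_eq`, but `g (D 0) = D (σ 0)`. -/
theorem not_spGL_le_decompositionStabilizer {t k : ℕ} (D : Fin t → Submodule F (Fin m ⊕ Fin m → F))
    (hD : IsMDecomposition k D) : ¬ spGL m F ≤ decompositionStabilizer D := by
  intro hle
  have ht := hD.two_le
  set i0 : Fin t := ⟨0, by omega⟩ with hi0
  set i1 : Fin t := ⟨1, by omega⟩ with hi1
  have h01 : i0 ≠ i1 := by
    intro h
    have := congrArg Fin.val h
    simp [hi0, hi1] at this
  have hne : ∀ i, ∃ x ∈ D i, x ≠ 0 := by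
    intro i
    have hfr := hD.finrank_eq i
    have hpos : 0 < Module.finrank F (D i) := by rw [hfr]; exact hD.pos
    have hbot : D i ≠ ⊥ := by
      intro hb
      rw [hb, finrank_bot] at hpos
      exact lt_irrefl _ hpos
    exact Submodule.exists_mem_ne_zero_of_ne_bot hbot
  obtain ⟨v, hvD, hv0⟩ := hne i0
  obtain ⟨w, hwD, hw0⟩ := hne i1
  have hdisj : Disjoint (D i0) (D i1) := hD.indep.pairwiseDisjoint h01
  have hvw0 : v + w ≠ 0 := by
    intro hz
    have hvneg : v = -w := eq_neg_of_add_eq_zero_left hz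
    have : v ∈ D i1 := by rw [hvneg]; exact (D i1).neg_mem hwD
    exact hv0 (Submodule.disjoint_def.mp hdisj v hvD this)
  obtain ⟨g, hgSp, hg⟩ := exists_spGL_mulVec_eq v (v + w) hv0 hvw0
  obtain ⟨σ, hσ⟩ := hle hgSp
  have hmem : v + w ∈ D (σ i0) := by
    rw [← hσ i0]
    refine ⟨v, hvD, ?_⟩
    rw [Matrix.toLin'_apply, hg]
  by_cases hj0 : σ i0 = i0
  · rw [hj0] at hmem
    have : w ∈ D i0 := ((D i0).add_mem_iff_right hvD).mp hmem
    exact hw0 (Submodule.disjoint_def.mp hdisj w this hwD)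
  by_cases hj1 : σ i0 = i1
  · rw [hj1] at hmem
    have : v ∈ D i1 := ((D i1).add_mem_iff_left hwD).mp hmem
    exact hv0 (Submodule.disjoint_def.mp hdisj v hvD this)
  · have hind := hD.indep (σ i0)
    have hsup : v + w ∈ ⨆ (k : Fin t) (_ : k ≠ σ i0), D k := by
      refine Submodule.add_mem _ ?_ ?_
      · exact Submodule.mem_iSup_of_mem i0 (Submodule.mem_iSup_of_mem (Ne.symm hj0) hvD)
      · exact Submodule.mem_iSup_of_mem i1 (Submodule.mem_iSup_of_mem (Ne.symm hj1) hwD)
    exact hvw0 (Submodule.disjoint_def.mp hind (v + w) hmem hsup)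

end Cfsg.Agent.Lib.Helper94.BHRSP
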