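/-
helper21: BHRSU6-[ROW-5802] (helper86's mini-sheet BHRSU6 = S5802, the SU_6 row), `_of_leaves` form: the two leaves
[E-SU6-DEC6] and [E-SU6-F3] enter as hypotheses `hDEC6`, `hF3`, stated exactly as in `Lib/Helper86/BHRSU6/Skel.lean.txt`
(specialised to the `q` at hand).  Everything else ([MAXU], [PROPER], [E-D2Q2], [E-MAX], tensor_unit2) is on main.
Once the leaves are on main, the Skel statement `row5802_of` is
`row5802_of_leaves q hA hF (fun hq D hD => by subst hq; exact exists_between_decomp_points_six (by rw [hF]; norm_num) D hD)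
   (fun hq K hK hadj => by subst hq; exact field_three_le_subfield (by rw [hF]; norm_num) K hK hadj) H hH`.
-/
import Mathlib
import Cfsg.Prelude.Def_GeometricClasses
import Cfsg.Prelude.Def_ClassicalGeometry
import Cfsg.Agent.Lib.Helper37.BHRSU.Defs
import Cfsg.Agent.Lib.Helper37.BHRSU.Except
import Cfsg.Agent.Lib.Helper37.BHRSU.Max
import Cfsg.Agent.Lib.Helper87.BhrMaxCasesOf
import Cfsg.Agent.Lib.Helper24.BhrC3Div
import Cfsg.Agent.Lib.Helper94.TensorUnit2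

set_option autoImplicit false
set_option linter.unusedVariables false
set_option maxHeartbeats 1000000

namespace Cfsg.Agent.Lib.Helper21.Bhrsu6Row

open Cfsg Cfsg.Geo Cfsg.Agent.Lib.Helper70.AschU Cfsg.Agent.Lib.Helper37.BHRSU
open scoped MatrixGroups Matrix Kronecker

/-- BHRSU6-[ROW-5802], from the conclusion of [MAXU] and the two leaves as hypotheses. -/
theorem row5802_of_max_leaves {F : Type*} [Field F] [Fintype F] (q : ℕ) (hF : Fintype.card F = q ^ 2)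
    (hprop : ∀ M : Subgroup (GL (Fin 6) F), InUnitaryClassR 6 F q M → ¬ SUg 6 F q ≤ M)
    (hDEC6 : q = 2 → ∀ D : Fin 6 → Submodule F (Fin 6 → F), IsNondegenerateMDecomposition (hermForm 6 F q) 1 D →
      ∃ K : Subgroup (GL (Fin 6) F), decompositionStabilizer D ⊓ SUg 6 F q < K ∧ K < SUg 6 F q)
    (hF3 : q = 2 → ∀ K : Subalgebra F (Matrix (Fin 6) (Fin 6) F), IsFieldSubalgebra 3 K →
      IsAdjointClosedFor (hermForm 6 F q) K →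
      ∃ (F₀ : Subfield F) (P : GL (Fin 6) F) (ζ : F), Fintype.card F = Nat.card F₀ ^ 2 ∧ ζ ≠ 0 ∧ ζ + ζ ^ q = 0 ∧
        IsFormRationalStructure (hermForm 6 F q) F₀ ζ P ∧
        (∀ u : Fin 6 → F, (∀ i, u i ∈ F₀) →
          hermForm 6 F q ((P : Matrix (Fin 6) (Fin 6) F) *ᵥ u) ((P : Matrix (Fin 6) (Fin 6) F) *ᵥ u) = 0) ∧
        subalgebraNormalizer K ⊓ SUg 6 F q ≤ subfieldSubgroup F₀ P)
    (H : Subgroup (Matrix.GeneralLinearGroup (Fin 6) F)) (hH : Cfsg.Geo.IsMaximalIn (Cfsg.GU 6 F q ⊓ Cfsg.Geo.specialLinear (Fin 6) F) H)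
    (hmax : (∃ M : Subgroup (Matrix.GeneralLinearGroup (Fin 6) F), InUnitaryClassR 6 F q M ∧ H = M ⊓ Cfsg.Geo.specialLinear (Fin 6) F) ∨
      Cfsg.Geo.InUnitaryResidualClass H) :
    (∃ W : Submodule F (Fin 6 → F), W ≠ ⊥ ∧ Cfsg.Geo.IsTotallySingularFor (Cfsg.hermForm 6 F q) W ∧ H = Cfsg.Geo.subspaceStabilizer W ⊓ (Cfsg.GU 6 F q ⊓ Cfsg.Geo.specialLinear (Fin 6) F)) ∨
    (∃ W : Submodule F (Fin 6 → F), W ≠ ⊥ ∧ Cfsg.Geo.IsNondegenerateOn (Cfsg.hermForm 6 F q) W ∧ 2 * Module.finrank F W < 6 ∧ H = Cfsg.Geo.subspaceStabilizer W ⊓ (Cfsg.GU 6 F q ⊓ Cfsg.Geo.specialLinear (Fin 6) F)) ∨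
    (3 ≤ q ∧ ∃ D : Fin 6 → Submodule F (Fin 6 → F), Cfsg.Geo.IsNondegenerateMDecomposition (Cfsg.hermForm 6 F q) 1 D ∧ H = Cfsg.Geo.decompositionStabilizer D ⊓ (Cfsg.GU 6 F q ⊓ Cfsg.Geo.specialLinear (Fin 6) F)) ∨
    (3 ≤ q ∧ ∃ D : Fin 3 → Submodule F (Fin 6 → F), Cfsg.Geo.IsNondegenerateMDecomposition (Cfsg.hermForm 6 F q) 2 D ∧ H = Cfsg.Geo.decompositionStabilizer D ⊓ (Cfsg.GU 6 F q ⊓ Cfsg.Geo.specialLinear (Fin 6) F)) ∨
    (∃ D : Fin 2 → Submodule F (Fin 6 → F), Cfsg.Geo.IsNondegenerateMDecomposition (Cfsg.hermForm 6 F q) 3 D ∧ H = Cfsg.Geo.decompositionStabilizer D ⊓ (Cfsg.GU 6 F q ⊓ Cfsg.Geo.specialLinear (Fin 6) F)) ∨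
    (∃ D : Fin 2 → Submodule F (Fin 6 → F), Cfsg.Geo.IsMDecomposition 3 D ∧ (∀ i, Cfsg.Geo.IsTotallySingularFor (Cfsg.hermForm 6 F q) (D i)) ∧ H = Cfsg.Geo.decompositionStabilizer D ⊓ (Cfsg.GU 6 F q ⊓ Cfsg.Geo.specialLinear (Fin 6) F)) ∨
    (3 ≤ q ∧ ∃ K : Subalgebra F (Matrix (Fin 6) (Fin 6) F), Cfsg.Geo.IsFieldSubalgebra 3 K ∧ Cfsg.Geo.IsAdjointClosedFor (Cfsg.hermForm 6 F q) K ∧ H = Cfsg.Geo.subalgebraNormalizer K ⊓ (Cfsg.GU 6 F q ⊓ Cfsg.Geo.specialLinear (Fin 6) F)) ∨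
    (3 ≤ q ∧ ∃ (e : Fin 6 ≃ Fin 2 × Fin 3) (P : Matrix.GeneralLinearGroup (Fin 6) F) (f₁ : (Fin 2 → F) → (Fin 2 → F) → F) (f₂ : (Fin 3 → F) → (Fin 3 → F) → F), Cfsg.Geo.IsUnitaryFormPow q f₁ ∧ Cfsg.Geo.IsUnitaryFormPow q f₂ ∧ Cfsg.Geo.IsTensorFormStructure (fun x : F => x ^ q) (Cfsg.hermForm 6 F q) f₁ f₂ e P ∧ H = Cfsg.Geo.tensorProductSubgroup 2 3 e P ⊓ (Cfsg.GU 6 F q ⊓ Cfsg.Geo.specialLinear (Fin 6) F)) ∨
    (∃ (F₀ : Subfield F) (r : ℕ) (P : Matrix.GeneralLinearGroup (Fin 6) F), r.Prime ∧ Odd r ∧ Fintype.card F = Nat.card F₀ ^ r ∧ Cfsg.Geo.IsFormRationalStructure (Cfsg.hermForm 6 F q) F₀ 1 P ∧ H = Cfsg.Geo.subfieldSubgroup F₀ P ⊓ (Cfsg.GU 6 F q ⊓ Cfsg.Geo.specialLinear (Fin 6) F)) ∨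
    (∃ (F₀ : Subfield F) (P : Matrix.GeneralLinearGroup (Fin 6) F) (ζ : F), Fintype.card F = Nat.card F₀ ^ 2 ∧ ζ ≠ 0 ∧ ζ + ζ ^ q = 0 ∧ Cfsg.Geo.IsFormRationalStructure (Cfsg.hermForm 6 F q) F₀ ζ P ∧ (∀ u : Fin 6 → F, (∀ i, u i ∈ F₀) → (Cfsg.hermForm 6 F q) (Matrix.mulVec (P : Matrix (Fin 6) (Fin 6) F) u) (Matrix.mulVec (P : Matrix (Fin 6) (Fin 6) F) u) = 0) ∧ H = Cfsg.Geo.subfieldSubgroup F₀ P ⊓ (Cfsg.GU 6 F q ⊓ Cfsg.Geo.specialLinear (Fin 6) F)) ∨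
    (Odd q ∧ ∃ (F₀ : Subfield F) (P : Matrix.GeneralLinearGroup (Fin 6) F), Fintype.card F = Nat.card F₀ ^ 2 ∧ Cfsg.Geo.IsFormRationalStructure (Cfsg.hermForm 6 F q) F₀ 1 P ∧ H = Cfsg.Geo.subfieldSubgroup F₀ P ⊓ (Cfsg.GU 6 F q ⊓ Cfsg.Geo.specialLinear (Fin 6) F)) ∨
    Cfsg.Geo.InUnitaryResidualClass H := by
  have hq2 : 2 ≤ q := two_le_q hF
  rcases hmax with ⟨M, hM, hHM⟩ | hres
  swap
  · exact Or.inr (Or.inr (Or.inr (Or.inr (Or.inr (Or.inr (Or.inr (Or.inr (Or.inr (Or.inr (Or.inr hres))))))))))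
  -- a subgroup strictly between `H` and `SU` contradicts maximality
  have hbetween : ∀ A : Subgroup (GL (Fin 6) F), H = A ⊓ (GU 6 F q ⊓ specialLinear (Fin 6) F) →
      (∃ K : Subgroup (GL (Fin 6) F), A ⊓ (GU 6 F q ⊓ specialLinear (Fin 6) F) < K ∧
        K < GU 6 F q ⊓ specialLinear (Fin 6) F) → False := by
    rintro A rfl ⟨K, h1, h2⟩
    exact not_isMaximalIn_of_between h1 h2 hH
  rcases hM with hM | hM
  · dsimp only [InUnitaryClassNo6] at hM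
    rcases hM with ⟨W, h1, h2, rfl⟩ | ⟨W, h1, h2, h3, rfl⟩ | ⟨t, k, D, hD, rfl⟩ | ⟨k, D, hk, hD, hts, rfl⟩ |
      ⟨F₀, r, P, hr, hodd, hc, hrat, rfl⟩ | ⟨F₀, P, hodd, hc, hrat, rfl⟩ |
      ⟨F₀, P, ζ, hev, hc, hζ, hζ2, hrat, hiso, rfl⟩ | ⟨r, K, hr, hodd, hK, hadj, rfl⟩ |
      ⟨n₁, n₂, e, P, f₁, f₂, h1, h2, hf₁, hf₂, hT, rfl⟩ | ⟨k, t, e, P, f₁, h1, h2, h3, hf₁, hT, rfl⟩
    · exact Or.inl ⟨W, h1, h2, by rw [hHM, inf_assoc]⟩
    · exact Or.inr (Or.inl ⟨W, h1, h2, h3, by rw [hHM, inf_assoc]⟩)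
    · -- non-degenerate decompositions: `t * k = 6`
      have htk : t * k = 6 := Cfsg.Agent.Lib.Helper87.BhrMaxCases.mul_eq_of_isMDecomposition D hD.decomp
      have ht2 := hD.decomp.two_le
      have hkpos := hD.decomp.pos
      have hcases : (t = 6 ∧ k = 1) ∨ (t = 3 ∧ k = 2) ∨ (t = 2 ∧ k = 3) := by
        have hle : t ≤ 6 := Nat.le_of_dvd (by norm_num) ⟨k, htk.symm⟩
        interval_cases t <;> omega
      rcases hcases with ⟨rfl, rfl⟩ | ⟨rfl, rfl⟩ | ⟨rfl, rfl⟩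
      · have hq3 : 3 ≤ q := by
          by_contra hlt
          have hq : q = 2 := by omega
          exact hbetween _ (by rw [hHM, inf_assoc]) (hDEC6 hq D hD)
        exact Or.inr (Or.inr (Or.inl ⟨hq3, D, hD, by rw [hHM, inf_assoc]⟩))
      · have hq3 : 3 ≤ q := by
          by_contra hlt
          obtain rfl : q = 2 := by omega
          have hF4 : Fintype.card F = 4 := by rw [hF]; norm_num
          exact hbetween _ (by rw [hHM, inf_assoc]) (exists_between_decomp_two hF4 D hD)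
        exact Or.inr (Or.inr (Or.inr (Or.inl ⟨hq3, D, hD, by rw [hHM, inf_assoc]⟩)))
      · exact Or.inr (Or.inr (Or.inr (Or.inr (Or.inl ⟨D, hD, by rw [hHM, inf_assoc]⟩))))
    · -- totally singular pairs: `2 * k = 6`
      obtain rfl : k = 3 := by omega
      exact Or.inr (Or.inr (Or.inr (Or.inr (Or.inr (Or.inl ⟨D, hD, hts, by rw [hHM, inf_assoc]⟩)))))
    · exact Or.inr (Or.inr (Or.inr (Or.inr (Or.inr (Or.inr (Or.inr (Or.inr (Or.inl ⟨F₀, r, P, hr, hodd, hc, hrat, by rw [hHM, inf_assoc]⟩))))))))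
    · exact Or.inr (Or.inr (Or.inr (Or.inr (Or.inr (Or.inr (Or.inr (Or.inr (Or.inr (Or.inr (Or.inl ⟨hodd, F₀, P, hc, hrat, by rw [hHM, inf_assoc]⟩))))))))))
    · exact Or.inr (Or.inr (Or.inr (Or.inr (Or.inr (Or.inr (Or.inr (Or.inr (Or.inr (Or.inl ⟨F₀, P, ζ, hc, hζ, hζ2, hrat, hiso, by rw [hHM, inf_assoc]⟩)))))))))
    · -- field subalgebras: `r` odd prime dividing `6`
      have hdvd : r ∣ 6 := Cfsg.Agent.Lib.Helper99.Asch.dvd_of_isFieldSubalgebra r K hK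
      have hr3 : r = 3 := by
        have h6 : r ∣ 2 * 3 := by norm_num; exact hdvd
        rcases (Nat.Prime.dvd_mul hr).mp h6 with h | h
        · have hr2 : r = 2 := (Nat.prime_dvd_prime_iff_eq hr (by norm_num)).mp h
          subst hr2
          exact absurd hodd (by decide)
        · exact (Nat.prime_dvd_prime_iff_eq hr (by norm_num)).mp h
      subst hr3
      by_cases hq3 : 3 ≤ q
      · exact Or.inr (Or.inr (Or.inr (Or.inr (Or.inr (Or.inr (Or.inl ⟨hq3, K, hK, hadj, by rw [hHM, inf_assoc]⟩))))))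
      · -- `q = 2`: the normaliser lies in a subfield group of symplectic type
        have hq : q = 2 := by omega
        obtain ⟨F₀, P, ζ, hc, hζ, hζ2, hrat, hiso, hle⟩ := hF3 hq K hK hadj
        have hM' : InUnitaryClassR 6 F q (subfieldSubgroup F₀ P ⊓ GU 6 F q) :=
          Or.inl (Or.inr (Or.inr (Or.inr (Or.inr (Or.inr (Or.inr (Or.inl
            ⟨F₀, P, ζ, ⟨3, rfl⟩, hc, hζ, hζ2, hrat, hiso, rfl⟩)))))))
        have hHeq : H = subalgebraNormalizer K ⊓ (GU 6 F q ⊓ specialLinear (Fin 6) F) := by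
          rw [hHM, inf_assoc]
        have hHK : H ≤ subfieldSubgroup F₀ P ⊓ (GU 6 F q ⊓ specialLinear (Fin 6) F) := by
          rw [hHeq]
          exact le_inf hle inf_le_right
        rcases hH.2 _ hHK inf_le_right with h3 | h3
        · exact Or.inr (Or.inr (Or.inr (Or.inr (Or.inr (Or.inr (Or.inr (Or.inr (Or.inr (Or.inl ⟨F₀, P, ζ, hc, hζ, hζ2, hrat, hiso, h3.symm⟩)))))))))
        · exfalso
          apply hprop _ hM'
          show GU 6 F q ⊓ specialLinear (Fin 6) F ≤ subfieldSubgroup F₀ P ⊓ GU 6 F q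
          rw [← h3]
          exact le_inf inf_le_left (inf_le_right.trans inf_le_left)
    · -- tensor products: `n₁ * n₂ = 6`, `2 ≤ n₁ < n₂`
      have hmul : n₁ * n₂ = 6 := Cfsg.Agent.Lib.Helper87.BhrMaxCases.mul_eq_of_equiv_prod e
      have hcases : n₁ = 2 ∧ n₂ = 3 := by
        have hle : n₁ ≤ 6 := Nat.le_of_dvd (by norm_num) ⟨n₂, hmul.symm⟩
        interval_cases n₁ <;> omega
      obtain ⟨rfl, rfl⟩ := hcases
      have hq3 : 3 ≤ q := by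
        by_contra hlt
        obtain rfl : q = 2 := by omega
        have hF4 : Fintype.card F = 4 := by rw [hF]; norm_num
        exact hbetween _ (by rw [hHM, inf_assoc])
          (Cfsg.Agent.Lib.Helper94.exists_between_tensor_unit2 hF4 6 (by norm_num) e P f₁ f₂ hf₁ hf₂ hT)
      exact Or.inr (Or.inr (Or.inr (Or.inr (Or.inr (Or.inr (Or.inr (Or.inl ⟨hq3, e, P, f₁, f₂, hf₁, hf₂, hT, by rw [hHM, inf_assoc]⟩)))))))
    · -- tensor powers: `k ^ t = 6`, `3 ≤ k`, `2 ≤ t`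
      exfalso
      have hpow : k ^ t = 6 := Cfsg.Agent.Lib.Helper87.BhrMaxCases.pow_eq_of_equiv_fun e
      have h2' : k ^ 2 ≤ k ^ t := Nat.pow_le_pow_right (by omega) h2
      nlinarith
  · -- class 6: `6 = r ^ k` is impossible
    exfalso
    obtain ⟨r, R, p, e, k, hst, habs, hsim, hrp, hmin, hcase, hn, rfl⟩ := hM
    have hrprime := hst.prime
    have h2r : 2 ∣ r := Nat.Prime.dvd_of_dvd_pow Nat.prime_two (by rw [← hn]; norm_num)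
    have h3r : 3 ∣ r := Nat.Prime.dvd_of_dvd_pow Nat.prime_three (by rw [← hn]; norm_num)
    have e2 : 2 = r := (Nat.prime_dvd_prime_iff_eq Nat.prime_two hrprime).mp h2r
    have e3 : 3 = r := (Nat.prime_dvd_prime_iff_eq Nat.prime_three hrprime).mp h3r
    omega

/-- BHRSU6-[ROW-5802] under `hA : AschUR 6 F q`, the two leaves [E-SU6-DEC6], [E-SU6-F3] as hypotheses. -/
theorem row5802_of_leaves {F : Type*} [Field F] [Fintype F] (q : ℕ) (hA : AschUR 6 F q) (hF : Fintype.card F = q ^ 2)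
    (hDEC6 : q = 2 → ∀ D : Fin 6 → Submodule F (Fin 6 → F), IsNondegenerateMDecomposition (hermForm 6 F q) 1 D →
      ∃ K : Subgroup (GL (Fin 6) F), decompositionStabilizer D ⊓ SUg 6 F q < K ∧ K < SUg 6 F q)
    (hF3 : q = 2 → ∀ K : Subalgebra F (Matrix (Fin 6) (Fin 6) F), IsFieldSubalgebra 3 K →
      IsAdjointClosedFor (hermForm 6 F q) K →
      ∃ (F₀ : Subfield F) (P : GL (Fin 6) F) (ζ : F), Fintype.card F = Nat.card F₀ ^ 2 ∧ ζ ≠ 0 ∧ ζ + ζ ^ q = 0 ∧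
        IsFormRationalStructure (hermForm 6 F q) F₀ ζ P ∧
        (∀ u : Fin 6 → F, (∀ i, u i ∈ F₀) →
          hermForm 6 F q ((P : Matrix (Fin 6) (Fin 6) F) *ᵥ u) ((P : Matrix (Fin 6) (Fin 6) F) *ᵥ u) = 0) ∧
        subalgebraNormalizer K ⊓ SUg 6 F q ≤ subfieldSubgroup F₀ P)
    (H : Subgroup (Matrix.GeneralLinearGroup (Fin 6) F)) (hH : Cfsg.Geo.IsMaximalIn (Cfsg.GU 6 F q ⊓ Cfsg.Geo.specialLinear (Fin 6) F) H) :
    (∃ W : Submodule F (Fin 6 → F), W ≠ ⊥ ∧ Cfsg.Geo.IsTotallySingularFor (Cfsg.hermForm 6 F q) W ∧ H = Cfsg.Geo.subspaceStabilizer W ⊓ (Cfsg.GU 6 F q ⊓ Cfsg.Geo.specialLinear (Fin 6) F)) ∨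
    (∃ W : Submodule F (Fin 6 → F), W ≠ ⊥ ∧ Cfsg.Geo.IsNondegenerateOn (Cfsg.hermForm 6 F q) W ∧ 2 * Module.finrank F W < 6 ∧ H = Cfsg.Geo.subspaceStabilizer W ⊓ (Cfsg.GU 6 F q ⊓ Cfsg.Geo.specialLinear (Fin 6) F)) ∨
    (3 ≤ q ∧ ∃ D : Fin 6 → Submodule F (Fin 6 → F), Cfsg.Geo.IsNondegenerateMDecomposition (Cfsg.hermForm 6 F q) 1 D ∧ H = Cfsg.Geo.decompositionStabilizer D ⊓ (Cfsg.GU 6 F q ⊓ Cfsg.Geo.specialLinear (Fin 6) F)) ∨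
    (3 ≤ q ∧ ∃ D : Fin 3 → Submodule F (Fin 6 → F), Cfsg.Geo.IsNondegenerateMDecomposition (Cfsg.hermForm 6 F q) 2 D ∧ H = Cfsg.Geo.decompositionStabilizer D ⊓ (Cfsg.GU 6 F q ⊓ Cfsg.Geo.specialLinear (Fin 6) F)) ∨
    (∃ D : Fin 2 → Submodule F (Fin 6 → F), Cfsg.Geo.IsNondegenerateMDecomposition (Cfsg.hermForm 6 F q) 3 D ∧ H = Cfsg.Geo.decompositionStabilizer D ⊓ (Cfsg.GU 6 F q ⊓ Cfsg.Geo.specialLinear (Fin 6) F)) ∨
    (∃ D : Fin 2 → Submodule F (Fin 6 → F), Cfsg.Geo.IsMDecomposition 3 D ∧ (∀ i, Cfsg.Geo.IsTotallySingularFor (Cfsg.hermForm 6 F q) (D i)) ∧ H = Cfsg.Geo.decompositionStabilizer D ⊓ (Cfsg.GU 6 F q ⊓ Cfsg.Geo.specialLinear (Fin 6) F)) ∨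
    (3 ≤ q ∧ ∃ K : Subalgebra F (Matrix (Fin 6) (Fin 6) F), Cfsg.Geo.IsFieldSubalgebra 3 K ∧ Cfsg.Geo.IsAdjointClosedFor (Cfsg.hermForm 6 F q) K ∧ H = Cfsg.Geo.subalgebraNormalizer K ⊓ (Cfsg.GU 6 F q ⊓ Cfsg.Geo.specialLinear (Fin 6) F)) ∨
    (3 ≤ q ∧ ∃ (e : Fin 6 ≃ Fin 2 × Fin 3) (P : Matrix.GeneralLinearGroup (Fin 6) F) (f₁ : (Fin 2 → F) → (Fin 2 → F) → F) (f₂ : (Fin 3 → F) → (Fin 3 → F) → F), Cfsg.Geo.IsUnitaryFormPow q f₁ ∧ Cfsg.Geo.IsUnitaryFormPow q f₂ ∧ Cfsg.Geo.IsTensorFormStructure (fun x : F => x ^ q) (Cfsg.hermForm 6 F q) f₁ f₂ e P ∧ H = Cfsg.Geo.tensorProductSubgroup 2 3 e P ⊓ (Cfsg.GU 6 F q ⊓ Cfsg.Geo.specialLinear (Fin 6) F)) ∨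
    (∃ (F₀ : Subfield F) (r : ℕ) (P : Matrix.GeneralLinearGroup (Fin 6) F), r.Prime ∧ Odd r ∧ Fintype.card F = Nat.card F₀ ^ r ∧ Cfsg.Geo.IsFormRationalStructure (Cfsg.hermForm 6 F q) F₀ 1 P ∧ H = Cfsg.Geo.subfieldSubgroup F₀ P ⊓ (Cfsg.GU 6 F q ⊓ Cfsg.Geo.specialLinear (Fin 6) F)) ∨
    (∃ (F₀ : Subfield F) (P : Matrix.GeneralLinearGroup (Fin 6) F) (ζ : F), Fintype.card F = Nat.card F₀ ^ 2 ∧ ζ ≠ 0 ∧ ζ + ζ ^ q = 0 ∧ Cfsg.Geo.IsFormRationalStructure (Cfsg.hermForm 6 F q) F₀ ζ P ∧ (∀ u : Fin 6 → F, (∀ i, u i ∈ F₀) → (Cfsg.hermForm 6 F q) (Matrix.mulVec (P : Matrix (Fin 6) (Fin 6) F) u) (Matrix.mulVec (P : Matrix (Fin 6) (Fin 6) F) u) = 0) ∧ H = Cfsg.Geo.subfieldSubgroup F₀ P ⊓ (Cfsg.GU 6 F q ⊓ Cfsg.Geo.specialLinear (Fin 6) F)) ∨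
    (Odd q ∧ ∃ (F₀ : Subfield F) (P : Matrix.GeneralLinearGroup (Fin 6) F), Fintype.card F = Nat.card F₀ ^ 2 ∧ Cfsg.Geo.IsFormRationalStructure (Cfsg.hermForm 6 F q) F₀ 1 P ∧ H = Cfsg.Geo.subfieldSubgroup F₀ P ⊓ (Cfsg.GU 6 F q ⊓ Cfsg.Geo.specialLinear (Fin 6) F)) ∨
    Cfsg.Geo.InUnitaryResidualClass H :=
  row5802_of_max_leaves q hF (fun M hM => not_SUg_le_of_inUnitaryClassR hF (by norm_num) (by norm_num) M hM) hDEC6 hF3 H hH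
    (maximal_eq_member hA hF (by norm_num) (by norm_num) H hH)

end Cfsg.Agent.Lib.Helper21.Bhrsu6Row
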