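import Mathlib
import Cfsg.Agent.Lib.Helper64.CH4Defs

/-!
# Project CH4 (S4167), module [ABS-Q]

`AbSyl` (all Sylow `2`-subgroups abelian) passes to quotients.
-/

set_option autoImplicit false

namespace Cfsg.Agent.Lib.Helper21.CH4AbsQ

open Cfsg.Agent.Lib.Helper64.CH4

/-- [ABS-Q] -/
theorem abSyl_quotient {G : Type*} [Group G] [Finite G] (hab : AbSyl G) (N : Subgroup G) [N.Normal] :
    AbSyl (G ⧸ N) := by
  intro Q a ha b hb
  have : Fact (Nat.Prime 2) := ⟨Nat.prime_two⟩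
  obtain ⟨P, rfl⟩ := Sylow.mapSurjective_surjective (QuotientGroup.mk'_surjective N) 2 Q
  have ha' : a ∈ (P : Subgroup G).map (QuotientGroup.mk' N) := ha
  have hb' : b ∈ (P : Subgroup G).map (QuotientGroup.mk' N) := hb
  obtain ⟨x, hx, rfl⟩ := Subgroup.mem_map.mp ha'
  obtain ⟨y, hy, rfl⟩ := Subgroup.mem_map.mp hb'
  rw [← map_mul, ← map_mul, hab P x hx y hy]

end Cfsg.Agent.Lib.Helper21.CH4AbsQ
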