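import Mathlib
import Cfsg.Agent.Lib.Helper64.CH4Defs
import Cfsg.Agent.S0215

/-!
# Project CH4 (S4167), module [ZSTAR]

In a nonabelian simple group every involution of a Sylow `2`-subgroup `P` has a conjugate in `P`
different from itself (Glauberman's Z*-theorem).
-/

set_option autoImplicit false

namespace Cfsg.Agent.Lib.Helper21.CH4ZStar

/-- [ZSTAR] -/
theorem exists_conj_ne_of_simple {G : Type*} [Group G] [Finite G] [IsSimpleGroup G]
    (hG : ∃ a b : G, a * b ≠ b * a) (P : Sylow 2 G) (t : G) (ht : orderOf t = 2) (htP : t ∈ P) :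
    ∃ g : G, g * t * g⁻¹ ∈ P ∧ g * t * g⁻¹ ≠ t := by
  by_contra hcon
  push Not at hcon
  obtain ⟨N, hN, hodd, hcomm⟩ := Cfsg.Agent.S0215.result P t ht htP hcon
  have ht1 : t ≠ 1 := by
    intro h1
    rw [h1, orderOf_one] at ht
    norm_num at ht
  rcases hN.eq_bot_or_eq_top with h | h
  · subst h
    have hc : ∀ g, t * g = g * t := by
      intro g
      have h1 := hcomm g
      rw [Subgroup.mem_bot] at h1
      calc t * g = (t * g * t⁻¹ * g⁻¹) * (g * t) := by group
        _ = g * t := by rw [h1, one_mul]
    have htc : t ∈ Subgroup.center G := by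
      rw [Subgroup.mem_center_iff]
      intro g
      exact (hc g).symm
    rcases (inferInstance : (Subgroup.center G).Normal).eq_bot_or_eq_top with h | h
    · rw [h, Subgroup.mem_bot] at htc
      exact ht1 htc
    · obtain ⟨a, b, hab⟩ := hG
      have ha : a ∈ Subgroup.center G := by
        rw [h]
        exact Subgroup.mem_top a
      rw [Subgroup.mem_center_iff] at ha
      exact hab (ha b).symm
  · subst h
    have h2 : 2 ∣ Nat.card G := ht ▸ orderOf_dvd_natCard t
    rw [Nat.card_congr Subgroup.topEquiv.toEquiv] at hodd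
    exact (Nat.not_even_iff_odd.mpr hodd) (even_iff_two_dvd.mpr h2)

end Cfsg.Agent.Lib.Helper21.CH4ZStar
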