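import Mathlib
import Cfsg.Prelude.Def_Local
import Cfsg.Agent.Lib.Helper21.Quasisimple

set_option autoImplicit false

namespace Cfsg.Agent.Lib.Helper21

open Cfsg
open scoped Pointwise commutatorElement

section CentralQuotient

variable {X : Type*} [Group X]

/-- If `D ⊔ Z = ⊤` with `D` normal and `Z` central, then `⁅⊤, ⊤⁆ ≤ ⁅D, D⁆`. -/
theorem commutator_top_le_of_sup_center_eq_top {D Z : Subgroup X} [hD : D.Normal]
    (hZ : Z ≤ Subgroup.center X) (h : D ⊔ Z = ⊤) : commutator X ≤ ⁅D, D⁆ := by
  have hN : (⁅D, D⁆ : Subgroup X).Normal := Subgroup.commutator_normal D D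
  have hZc : ∀ K : Subgroup X, ⁅Z, K⁆ = ⊥ := by
    intro K
    rw [Subgroup.commutator_eq_bot_iff_le_centralizer]
    intro z hz x _
    exact (Subgroup.mem_center_iff.mp (hZ hz) x)
  have h1 : ⁅D ⊔ Z, D⁆ ≤ ⁅D, D⁆ := by
    apply Cfsg.Agent.Lib.Helper71.commutator_sup_le
    · exact le_rfl
    · rw [hZc]; exact bot_le
  have h2 : ⁅D ⊔ Z, D ⊔ Z⁆ ≤ ⁅D, D⁆ := by
    rw [Subgroup.commutator_comm]
    apply Cfsg.Agent.Lib.Helper71.commutator_sup_le
    · rw [Subgroup.commutator_comm]; exact h1
    · rw [hZc]; exact bot_le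
  rw [h] at h2
  exact h2

/-- S1258: if `X ⧸ Z(X)` is non-abelian simple then `X = X' Z(X)` and `X'` is quasisimple. -/
theorem commutator_quasisimple_of_simple_central_quotient
    (hs : IsSimpleGroup (X ⧸ Subgroup.center X))
    (hna : ¬ IsMulCommutative (X ⧸ Subgroup.center X)) :
    commutator X ⊔ Subgroup.center X = ⊤ ∧ IsQuasisimple ↥(commutator X) := by
  set Z := Subgroup.center X with hZ
  set D := commutator X with hD
  have hDn : D.Normal := inferInstance
  -- the image of `D` in `X ⧸ Z` is the commutator subgroup of the quotient, hence everything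
  have hmap : D.map (QuotientGroup.mk' Z) = ⊤ := by
    have hnorm : (D.map (QuotientGroup.mk' Z)).Normal :=
      hDn.map _ (QuotientGroup.mk'_surjective Z)
    rcases hnorm.eq_bot_or_eq_top with h1 | h1
    · exfalso
      apply hna
      have h2 : commutator (X ⧸ Z) = ⊥ := by
        rw [← h1, hD, commutator_def, commutator_def, Subgroup.map_commutator,
          ← MonoidHom.range_eq_map, MonoidHom.range_eq_top.mpr (QuotientGroup.mk'_surjective Z)]
      refine ⟨⟨fun a b => ?_⟩⟩
      have : ⁅a, b⁆ ∈ commutator (X ⧸ Z) :=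
        Subgroup.commutator_mem_commutator (Subgroup.mem_top a) (Subgroup.mem_top b)
      rw [h2, Subgroup.mem_bot] at this
      exact commutatorElement_eq_one_iff_mul_comm.mp this
    · exact h1
  have hsup : D ⊔ Z = ⊤ := by
    have := congrArg (Subgroup.comap (QuotientGroup.mk' Z)) hmap
    rwa [Subgroup.comap_map_eq, QuotientGroup.ker_mk', Subgroup.comap_top] at this
  refine ⟨hsup, ?_, ?_⟩
  · -- perfect
    rw [Subgroup.isPerfect_iff]
    apply le_antisymm (Subgroup.commutator_le_left D D)
    exact commutator_top_le_of_sup_center_eq_top le_rfl hsup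
  · -- simple central quotient
    let f : ↥D →* X ⧸ Z := (QuotientGroup.mk' Z).comp D.subtype
    have hf : Function.Surjective f := by
      intro y
      obtain ⟨x, rfl⟩ := QuotientGroup.mk'_surjective Z y
      have hx : x ∈ D ⊔ Z := by rw [hsup]; exact Subgroup.mem_top x
      obtain ⟨d, hd, c, hc, rfl⟩ := exists_mul_of_mem_sup_normal hx
      refine ⟨⟨d, hd⟩, ?_⟩
      simp only [f, MonoidHom.comp_apply, Subgroup.coe_subtype, map_mul]
      have : (QuotientGroup.mk' Z) c = 1 := (QuotientGroup.eq_one_iff c).mpr hc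
      rw [this, mul_one]
    have hker : f.ker = Subgroup.center ↥D := by
      ext ⟨d, hd⟩
      rw [MonoidHom.mem_ker, Subgroup.mem_center_iff]
      simp only [f, MonoidHom.comp_apply, Subgroup.coe_subtype, QuotientGroup.mk'_apply,
        QuotientGroup.eq_one_iff]
      constructor
      · intro hdz g
        apply Subtype.ext
        exact Subgroup.mem_center_iff.mp hdz g.1
      · intro hc
        rw [hZ, Subgroup.mem_center_iff]
        intro x
        have hx : x ∈ D ⊔ Z := by rw [hsup]; exact Subgroup.mem_top x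
        obtain ⟨d', hd', c, hc', rfl⟩ := exists_mul_of_mem_sup_normal hx
        have h1 : d' * d = d * d' := congrArg Subtype.val (hc ⟨d', hd'⟩)
        have h2 : c * d = d * c := (Subgroup.mem_center_iff.mp hc' d).symm
        calc d' * c * d = d' * (c * d) := by group
          _ = d' * (d * c) := by rw [h2]
          _ = (d' * d) * c := by group
          _ = (d * d') * c := by rw [h1]
          _ = d * (d' * c) := by group
    have e1 : ↥D ⧸ f.ker ≃* X ⧸ Z := QuotientGroup.quotientKerEquivOfSurjective f hf
    have e2 : ↥D ⧸ Subgroup.center ↥D ≃* ↥D ⧸ f.ker :=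
      QuotientGroup.quotientMulEquivOfEq hker.symm
    exact (e2.trans e1).isSimpleGroup

end CentralQuotient

end Cfsg.Agent.Lib.Helper21
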