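/-
helper21 shared library: finite groups in which the centralizer of every involution is an
elementary abelian 2-group (S1226–S1229).
All declarations live in `Cfsg.Agent.Lib.Helper21`.
-/
import Mathlib
import Cfsg.Prelude.Def_Involutions
import Cfsg.Agent.Lib.Helper21.StronglyEmbedded

set_option autoImplicit false

namespace Cfsg.Agent.Lib.Helper21

open Cfsg
open scoped Pointwise

section ElemAb

variable {G : Type*} [Group G] [Finite G] (T : Sylow 2 G)

/-- The standing hypothesis: centralizers of involutions are elementary abelian 2-groups. -/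
def InvCentElemAb (G : Type*) [Group G] : Prop :=
  ∀ t : G, orderOf t = 2 → IsMulCommutative (Subgroup.centralizer ({t} : Set G)) ∧
    ∀ c ∈ Subgroup.centralizer ({t} : Set G), c ^ 2 = 1

variable {T}

omit [Finite G] in
theorem eab_isPGroup_centralizer (hC : InvCentElemAb G) {t : G} (ht : orderOf t = 2) :
    IsPGroup 2 (Subgroup.centralizer ({t} : Set G)) := by
  intro c
  refine ⟨1, ?_⟩
  apply Subtype.ext
  have := (hC t ht).2 c.1 c.2
  simpa using this

omit [Finite G] in
/-- If `T ≤ C(t)` for an involution `t` then `C(t) = T`. -/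
theorem eab_centralizer_eq_of_le (hC : InvCentElemAb G) {t : G} (ht : orderOf t = 2)
    (hle : (T : Subgroup G) ≤ Subgroup.centralizer ({t} : Set G)) :
    Subgroup.centralizer ({t} : Set G) = T :=
  T.is_maximal' (eab_isPGroup_centralizer hC ht) hle

omit [Finite G] in
theorem eab_ne_bot (hnc : ¬ IsCyclic (T : Subgroup G)) : (T : Subgroup G) ≠ ⊥ := by
  intro h
  apply hnc
  have : Subsingleton (T : Subgroup G) := by rw [h]; infer_instance
  exact isCyclic_of_subsingleton

/-- There is a central involution in `T`. -/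
theorem eab_exists_central_involution (hnc : ¬ IsCyclic (T : Subgroup G)) :
    ∃ z : G, z ∈ (T : Subgroup G) ∧ orderOf z = 2 ∧ ∀ t ∈ (T : Subgroup G), t * z = z * t := by
  have hnt : Nontrivial (T : Subgroup G) := by
    rw [Subgroup.nontrivial_iff_ne_bot]
    exact eab_ne_bot hnc
  have hp : IsPGroup 2 (T : Subgroup G) := T.isPGroup'
  have : Fact (Nat.Prime 2) := ⟨Nat.prime_two⟩
  have hcn : Nontrivial (Subgroup.center (T : Subgroup G)) := hp.center_nontrivial
  have hcp : IsPGroup 2 (Subgroup.center (T : Subgroup G)) := hp.to_subgroup _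
  obtain ⟨n, hn⟩ := IsPGroup.iff_card.mp hcp
  have hn0 : n ≠ 0 := by
    intro h0
    rw [h0, pow_zero] at hn
    have := (Nat.card_eq_one_iff_unique.mp hn).1
    exact not_nontrivial _ hcn
  have hdvd : 2 ∣ Nat.card (Subgroup.center (T : Subgroup G)) := by
    rw [hn]; exact dvd_pow_self 2 hn0
  obtain ⟨z, hz⟩ := exists_prime_orderOf_dvd_card' (G := Subgroup.center (T : Subgroup G)) 2 hdvd
  refine ⟨(z.1 : G), z.1.2, ?_, ?_⟩
  · have h1 : orderOf ((z.1 : (T : Subgroup G)) : G) = orderOf z.1 := Subgroup.orderOf_coe z.1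
    have h2 : orderOf (z.1 : (T : Subgroup G)) = orderOf z := Subgroup.orderOf_coe z
    rw [h1, h2, hz]
  · intro t ht
    have := Subgroup.mem_center_iff.mp z.2 ⟨t, ht⟩
    exact congrArg Subtype.val this

/-- `T` is commutative of exponent two. -/
theorem eab_T_props (hnc : ¬ IsCyclic (T : Subgroup G)) (hC : InvCentElemAb G) :
    (∀ a ∈ (T : Subgroup G), ∀ b ∈ (T : Subgroup G), a * b = b * a) ∧
      ∀ a ∈ (T : Subgroup G), a * a = 1 := by
  obtain ⟨z, hzT, hz2, hzc⟩ := eab_exists_central_involution (T := T) hnc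
  have hle : (T : Subgroup G) ≤ Subgroup.centralizer ({z} : Set G) := by
    intro t ht
    rw [Subgroup.mem_centralizer_singleton_iff]
    exact hzc t ht
  have heq := eab_centralizer_eq_of_le hC hz2 hle
  have hcomm := (hC z hz2).1
  have hexp := (hC z hz2).2
  constructor
  · intro a ha b hb
    have ha' : a ∈ Subgroup.centralizer ({z} : Set G) := by rw [heq]; exact ha
    have hb' : b ∈ Subgroup.centralizer ({z} : Set G) := by rw [heq]; exact hb
    have := hcomm.is_comm.comm (⟨a, ha'⟩ : Subgroup.centralizer ({z} : Set G)) ⟨b, hb'⟩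
    exact congrArg Subtype.val this
  · intro a ha
    have ha' : a ∈ Subgroup.centralizer ({z} : Set G) := by rw [heq]; exact ha
    have := hexp a ha'
    rwa [pow_two] at this

/-- Nonidentity elements of `T` are involutions with centralizer `T`. -/
theorem eab_orderOf_eq_two (hnc : ¬ IsCyclic (T : Subgroup G)) (hC : InvCentElemAb G) {t : G}
    (ht : t ∈ (T : Subgroup G)) (ht1 : t ≠ 1) : orderOf t = 2 :=
  orderOf_eq_two_of ht1 ((eab_T_props hnc hC).2 t ht)

theorem eab_centralizer_eq (hnc : ¬ IsCyclic (T : Subgroup G)) (hC : InvCentElemAb G) {t : G}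
    (ht : t ∈ (T : Subgroup G)) (ht1 : t ≠ 1) : Subgroup.centralizer ({t} : Set G) = T := by
  apply eab_centralizer_eq_of_le hC (eab_orderOf_eq_two hnc hC ht ht1)
  intro a ha
  rw [Subgroup.mem_centralizer_singleton_iff]
  exact (eab_T_props hnc hC).1 a ha t ht

/-- An involution normalizing `T` lies in `T`. -/
theorem eab_involution_mem_of_mem_normalizer {t : G} (ht : orderOf t = 2)
    (htN : t ∈ Subgroup.normalizer ((T : Subgroup G) : Set G)) : t ∈ (T : Subgroup G) := by
  have h1 : IsPGroup 2 (Subgroup.zpowers t) := by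
    have : Fact (Nat.Prime 2) := ⟨Nat.prime_two⟩
    rw [IsPGroup.iff_card, Nat.card_zpowers, ht]
    exact ⟨1, by norm_num⟩
  have h2 : Subgroup.zpowers t ≤ Subgroup.normalizer ((T : Subgroup G) : Set G) := by
    rw [Subgroup.zpowers_le]; exact htN
  have h3 : IsPGroup 2 (Subgroup.zpowers t ⊔ (T : Subgroup G) : Subgroup G) :=
    IsPGroup.to_sup_of_normal_right' h1 T.isPGroup' h2
  have h4 := T.is_maximal' h3 le_sup_right
  rw [← h4]
  exact Subgroup.mem_sup_left (Subgroup.mem_zpowers t)

/-- If a nonidentity element `t` of `T` has `g⁻¹ t g ∈ T` then `g` normalizes `T`. -/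
theorem eab_mem_normalizer_of_conj_mem (hnc : ¬ IsCyclic (T : Subgroup G)) (hC : InvCentElemAb G)
    {t g : G} (ht : t ∈ (T : Subgroup G)) (ht1 : t ≠ 1) (hg : g⁻¹ * t * g ∈ (T : Subgroup G)) :
    g ∈ Subgroup.normalizer ((T : Subgroup G) : Set G) := by
  have h1 := eab_centralizer_eq hnc hC ht ht1
  have hne : g⁻¹ * t * g ≠ 1 := by
    intro h
    apply ht1
    calc t = g * (g⁻¹ * t * g) * g⁻¹ := by group
      _ = 1 := by rw [h]; group
  have h2 := eab_centralizer_eq hnc hC hg hne
  rw [Subgroup.mem_normalizer_iff]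
  intro h
  rw [← SetLike.mem_coe, ← SetLike.mem_coe] 
  constructor
  · intro hh
    have : h ∈ Subgroup.centralizer ({g⁻¹ * t * g} : Set G) := by rw [h2]; exact hh
    rw [Subgroup.mem_centralizer_singleton_iff] at this
    have h3 : g * h * g⁻¹ ∈ Subgroup.centralizer ({t} : Set G) := by
      rw [Subgroup.mem_centralizer_singleton_iff]
      calc g * h * g⁻¹ * t = g * (h * (g⁻¹ * t * g)) * g⁻¹ := by group
        _ = g * ((g⁻¹ * t * g) * h) * g⁻¹ := by rw [this]
        _ = t * (g * h * g⁻¹) := by group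
    rw [h1] at h3
    exact h3
  · intro hh
    have : g * h * g⁻¹ ∈ Subgroup.centralizer ({t} : Set G) := by rw [h1]; exact hh
    rw [Subgroup.mem_centralizer_singleton_iff] at this
    have h3 : h ∈ Subgroup.centralizer ({g⁻¹ * t * g} : Set G) := by
      rw [Subgroup.mem_centralizer_singleton_iff]
      calc h * (g⁻¹ * t * g) = g⁻¹ * ((g * h * g⁻¹) * t) * g := by group
        _ = g⁻¹ * (t * (g * h * g⁻¹)) * g := by rw [this]
        _ = g⁻¹ * t * g * h := by group
    rw [h2] at h3
    exact h3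

/-- S1226: `N_G(T)` is strongly embedded. -/
theorem eab_normalizer_stronglyEmbedded (hnc : ¬ IsCyclic (T : Subgroup G))
    (hnn : ¬ (T : Subgroup G).Normal) (hC : InvCentElemAb G) :
    IsStronglyEmbedded (Subgroup.normalizer ((T : Subgroup G) : Set G)) := by
  set N := Subgroup.normalizer ((T : Subgroup G) : Set G) with hN
  have : Fact (Nat.Prime 2) := ⟨Nat.prime_two⟩
  refine ⟨?_, ?_, ?_⟩
  · intro h
    exact hnn (Subgroup.normalizer_eq_top_iff.mp h)
  · obtain ⟨z, hzT, hz2, _⟩ := eab_exists_central_involution (T := T) hnc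
    have hzN : z ∈ N := Subgroup.le_normalizer hzT
    have h1 : orderOf (⟨z, hzN⟩ : N) ∣ Nat.card N := orderOf_dvd_natCard _
    rw [Subgroup.orderOf_mk, hz2] at h1
    exact even_iff_two_dvd.mpr h1
  · intro g hg
    by_contra hodd
    rw [Nat.not_odd_iff_even] at hodd
    have hdvd : 2 ∣ Nat.card ↥(N ⊓ N.map (MulAut.conj g).toMonoidHom) := even_iff_two_dvd.mp hodd
    obtain ⟨t, ht⟩ := exists_prime_orderOf_dvd_card'
      (G := ↥(N ⊓ N.map (MulAut.conj g).toMonoidHom)) 2 hdvd
    have ht2 : orderOf (t : G) = 2 := by rw [← ht, Subgroup.orderOf_coe]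
    obtain ⟨htN, htNg⟩ := Subgroup.mem_inf.mp t.2
    rw [mem_map_conj_iff] at htNg
    have htT : (t : G) ∈ (T : Subgroup G) := eab_involution_mem_of_mem_normalizer ht2 htN
    have ht2' : orderOf (g⁻¹ * (t : G) * g) = 2 := by
      have := orderOf_conj_eq_two ht2 g⁻¹
      simpa using this
    have htT' : g⁻¹ * (t : G) * g ∈ (T : Subgroup G) :=
      eab_involution_mem_of_mem_normalizer ht2' htNg
    exact hg (eab_mem_normalizer_of_conj_mem hnc hC htT (inv_ne_one ht2) htT')

end ElemAb

end Cfsg.Agent.Lib.Helper21
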