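/-
helper21 shared library: finite groups in which the centralizer of every involution is an
elementary abelian 2-group, part 2: the two point stabilizer `D = H ∩ uHu⁻¹` (S1227).
All declarations live in `Cfsg.Agent.Lib.Helper21`.
-/
import Mathlib
import Cfsg.Prelude.Def_Involutions
import Cfsg.Agent.Lib.Helper21.ElemAbCent

set_option autoImplicit false

namespace Cfsg.Agent.Lib.Helper21

open Cfsg
open scoped Pointwise

section ElemAb2

variable {G : Type*} [Group G] [Finite G]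

/-- The normalizer of the Sylow subgroup. -/
abbrev eabH (T : Sylow 2 G) : Subgroup G := Subgroup.normalizer ((T : Subgroup G) : Set G)

/-- The two point stabilizer `H ∩ uHu⁻¹`. -/
abbrev eabD (T : Sylow 2 G) (u : G) : Subgroup G :=
  eabH T ⊓ (eabH T).map (MulAut.conj u).toMonoidHom

variable {T : Sylow 2 G} {u : G}

omit [Finite G] in
theorem eab_mem_D_iff {d : G} : d ∈ eabD T u ↔
    d • (QuotientGroup.mk 1 : G ⧸ eabH T) = QuotientGroup.mk 1 ∧
      d • (QuotientGroup.mk u : G ⧸ eabH T) = QuotientGroup.mk u := by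
  rw [Subgroup.mem_inf, smul_mk_one_eq_iff, mem_map_conj_iff_smul]

omit [Finite G] in
theorem eab_mk_ne (huH : u ∉ eabH T) :
    (QuotientGroup.mk 1 : G ⧸ eabH T) ≠ QuotientGroup.mk u := by
  intro h
  have := QuotientGroup.eq.mp h
  simp only [inv_one, one_mul] at this
  exact huH this

omit [Finite G] in
theorem eab_u_swap (hu : orderOf u = 2) :
    u • (QuotientGroup.mk 1 : G ⧸ eabH T) = QuotientGroup.mk u ∧
      u • (QuotientGroup.mk u : G ⧸ eabH T) = QuotientGroup.mk 1 := by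
  constructor
  · rw [MulAction.Quotient.smul_mk, smul_eq_mul, mul_one]
  · rw [MulAction.Quotient.smul_mk, smul_eq_mul, inv_mul_self hu]

variable (hnc : ¬ IsCyclic (T : Subgroup G)) (hnn : ¬ (T : Subgroup G).Normal)
  (hC : InvCentElemAb G) (hu : orderOf u = 2) (huH : u ∉ eabH T)

include hnc hnn hC huH in
theorem eab_D_odd {d : G} (hd : d ∈ eabD T u) : Odd (orderOf d) := by
  have hse := eab_normalizer_stronglyEmbedded hnc hnn hC
  obtain ⟨h1, h2⟩ := eab_mem_D_iff.mp hd
  exact se_odd_orderOf_of_fixes_two hse (eab_mk_ne huH) h1 h2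

include hnc hnn hC huH in
theorem eab_D_eq_one_of_mul_self {d : G} (hd : d ∈ eabD T u) (hdd : d * d = 1) : d = 1 := by
  have hodd := eab_D_odd hnc hnn hC huH hd
  have hdvd : orderOf d ∣ 2 := orderOf_dvd_of_pow_eq_one (by rw [pow_two]; exact hdd)
  have : orderOf d = 1 := by
    rcases (Nat.dvd_prime Nat.prime_two).mp hdvd with h | h
    · exact h
    · rw [h] at hodd; exact absurd hodd (by decide)
  exact orderOf_eq_one_iff.mp this

include hu in
omit [Finite G] in
theorem eab_conj_mem_D {d : G} (hd : d ∈ eabD T u) : u * d * u⁻¹ ∈ eabD T u := by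
  obtain ⟨h1, h2⟩ := eab_mem_D_iff.mp hd
  obtain ⟨hu1, hu2⟩ := eab_u_swap (T := T) hu
  rw [eab_mem_D_iff]
  constructor
  · rw [mul_smul, mul_smul, inv_inv_eq hu, hu1, h2, hu2]
  · rw [mul_smul, mul_smul, inv_inv_eq hu, hu2, h1, hu1]

include hnc hnn hC hu huH in
theorem eab_D_commute_u {d : G} (hd : d ∈ eabD T u) (hcomm : u * d = d * u) : d = 1 := by
  apply eab_D_eq_one_of_mul_self hnc hnn hC huH hd
  have hmem : d ∈ Subgroup.centralizer ({u} : Set G) := by
    rw [Subgroup.mem_centralizer_singleton_iff]; exact hcomm.symm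
  have := (hC u hu).2 d hmem
  rwa [pow_two] at this

include hnc hnn hC hu huH in
/-- `u` inverts `D`. -/
theorem eab_u_inverts_D {d : G} (hd : d ∈ eabD T u) : u * d * u⁻¹ = d⁻¹ := by
  have huu := inv_mul_self hu
  have huinv := inv_inv_eq hu
  let f : eabD T u → eabD T u := fun d =>
    ⟨d.1⁻¹ * (u * d.1 * u⁻¹), (eabD T u).mul_mem ((eabD T u).inv_mem d.2) (eab_conj_mem_D hu d.2)⟩
  have hf : Function.Injective f := by
    rintro ⟨a, ha⟩ ⟨b, hb⟩ hab
    have h1 : a⁻¹ * (u * a * u⁻¹) = b⁻¹ * (u * b * u⁻¹) := congrArg Subtype.val hab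
    have hc : u * (b * a⁻¹) = (b * a⁻¹) * u := by
      have h2 : b * (a⁻¹ * (u * a * u⁻¹)) * u = b * (b⁻¹ * (u * b * u⁻¹)) * u := by rw [h1]
      have h3 : b * (a⁻¹ * (u * a * u⁻¹)) * u = (b * a⁻¹ * u) * a := by group
      have h4 : b * (b⁻¹ * (u * b * u⁻¹)) * u = u * b := by group
      rw [h3, h4] at h2
      calc u * (b * a⁻¹) = (u * b) * a⁻¹ := by group
        _ = (b * a⁻¹ * u * a) * a⁻¹ := by rw [h2]
        _ = b * a⁻¹ * u := by group
    have hmem : b * a⁻¹ ∈ eabD T u := (eabD T u).mul_mem hb ((eabD T u).inv_mem ha)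
    have := eab_D_commute_u hnc hnn hC hu huH hmem hc
    apply Subtype.ext
    show a = b
    calc a = (b * a⁻¹)⁻¹ * b := by group
      _ = b := by rw [this]; group
  have hs : Function.Surjective f := Finite.surjective_of_injective hf
  obtain ⟨⟨e, he⟩, hfe⟩ := hs ⟨d, hd⟩
  have hde : e⁻¹ * (u * e * u⁻¹) = d := congrArg Subtype.val hfe
  rw [← hde]
  calc u * (e⁻¹ * (u * e * u⁻¹)) * u⁻¹ = u * e⁻¹ * u * e * (u⁻¹ * u⁻¹) := by group
    _ = u * e⁻¹ * u * e * (u * u) := by rw [huinv]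
    _ = u * e⁻¹ * u * e := by rw [huu, mul_one]
    _ = u * e⁻¹ * u⁻¹ * e := by rw [huinv]
    _ = (e⁻¹ * (u * e * u⁻¹))⁻¹ := by group

include hnc hnn hC huH in
theorem eab_D_disjoint_T : Disjoint (eabD T u) (T : Subgroup G) := by
  rw [Subgroup.disjoint_def]
  intro d hd hdT
  exact eab_D_eq_one_of_mul_self hnc hnn hC huH hd ((eab_T_props hnc hC).2 d hdT)

include hnc hnn hC hu huH in
/-- `H = D T`. -/
theorem eab_exists_mul_of_mem_H {h : G} (hh : h ∈ eabH T) :
    ∃ d ∈ eabD T u, ∃ t ∈ (T : Subgroup G), d * t = h := by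
  have hse := eab_normalizer_stronglyEmbedded hnc hnn hC
  obtain ⟨z, hzT, hz2, _⟩ := eab_exists_central_involution (T := T) hnc
  have hzH : z ∈ eabH T := Subgroup.le_normalizer hzT
  -- `h z h⁻¹` is an involution of `H`
  have hz' : orderOf (h * z * h⁻¹) = 2 := orderOf_conj_eq_two hz2 h
  have hz'H : h * z * h⁻¹ ∈ eabH T :=
    (eabH T).mul_mem ((eabH T).mul_mem hh hzH) ((eabH T).inv_mem hh)
  obtain ⟨d, hd, hdz⟩ := se_involutions_conj_in_inter hse hu huH hz2 hzH hz' hz'H
  refine ⟨d, hd, d⁻¹ * h, ?_, by group⟩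
  -- `d⁻¹ h` centralizes `z`
  have hcz : d⁻¹ * h ∈ Subgroup.centralizer ({z} : Set G) := by
    rw [Subgroup.mem_centralizer_singleton_iff]
    calc d⁻¹ * h * z = d⁻¹ * (h * z * h⁻¹) * h := by group
      _ = d⁻¹ * (d * z * d⁻¹) * h := by rw [hdz]
      _ = z * (d⁻¹ * h) := by group
  rw [eab_centralizer_eq hnc hC hzT (inv_ne_one hz2)] at hcz
  exact hcz

include hnc hnn hC hu huH in
/-- `D` is a complement of `T` in `H`. -/
theorem eab_isComplement' :
    Subgroup.IsComplement' ((eabD T u).subgroupOf (eabH T))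
      ((T : Subgroup G).subgroupOf (eabH T)) := by
  apply Subgroup.isComplement'_of_disjoint_and_mul_eq_univ
  · rw [Subgroup.disjoint_def]
    intro x hxD hxT
    have := (Subgroup.disjoint_def.mp (eab_D_disjoint_T hnc hnn hC huH))
      (Subgroup.mem_subgroupOf.mp hxD) (Subgroup.mem_subgroupOf.mp hxT)
    exact Subtype.ext this
  · rw [Set.eq_univ_iff_forall]
    rintro ⟨h, hh⟩
    obtain ⟨d, hd, t, ht, rfl⟩ := eab_exists_mul_of_mem_H hnc hnn hC hu huH hh
    have hdH : d ∈ eabH T := (Subgroup.mem_inf.mp hd).1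
    have htH : t ∈ eabH T := Subgroup.le_normalizer ht
    refine Set.mem_mul.mpr ⟨⟨d, hdH⟩, ?_, ⟨t, htH⟩, ?_, rfl⟩
    · exact Subgroup.mem_subgroupOf.mpr hd
    · exact Subgroup.mem_subgroupOf.mpr ht

include hnc hnn hC hu huH in
/-- `|D| = |T| - 1`. -/
theorem eab_card_D : Nat.card (eabD T u) = Nat.card T - 1 := by
  have hse := eab_normalizer_stronglyEmbedded hnc hnn hC
  obtain ⟨z, hzT, hz2, _⟩ := eab_exists_central_involution (T := T) hnc
  have hzH : z ∈ eabH T := Subgroup.le_normalizer hzT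
  -- bijection `D ≃ T ∖ {1}`, `d ↦ d z d⁻¹`
  have hconjT : ∀ d ∈ eabD T u, d * z * d⁻¹ ∈ (T : Subgroup G) := by
    intro d hd
    have hdH : d ∈ eabH T := (Subgroup.mem_inf.mp hd).1
    have := (Subgroup.mem_normalizer_iff.mp hdH z).mp hzT
    exact this
  let φ : eabD T u → {t : (T : Subgroup G) // t ≠ 1} := fun d =>
    ⟨⟨d.1 * z * d.1⁻¹, hconjT d.1 d.2⟩, by
      intro h
      have h1 : d.1 * z * d.1⁻¹ = 1 := congrArg Subtype.val h
      have : orderOf (d.1 * z * d.1⁻¹) = 2 := orderOf_conj_eq_two hz2 d.1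
      rw [h1, orderOf_one] at this
      norm_num at this⟩
  have hφ : Function.Bijective φ := by
    constructor
    · rintro ⟨a, ha⟩ ⟨b, hb⟩ hab
      have h1 : a * z * a⁻¹ = b * z * b⁻¹ := by
        have := congrArg (fun x => ((x.1 : (T : Subgroup G)) : G)) hab
        exact this
      -- `b⁻¹ a ∈ C(z) = T`
      have hcz : b⁻¹ * a ∈ Subgroup.centralizer ({z} : Set G) := by
        rw [Subgroup.mem_centralizer_singleton_iff]
        calc b⁻¹ * a * z = b⁻¹ * (a * z * a⁻¹) * a := by group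
          _ = b⁻¹ * (b * z * b⁻¹) * a := by rw [h1]
          _ = z * (b⁻¹ * a) := by group
      rw [eab_centralizer_eq hnc hC hzT (inv_ne_one hz2)] at hcz
      have hmem : b⁻¹ * a ∈ eabD T u := (eabD T u).mul_mem ((eabD T u).inv_mem hb) ha
      have := (Subgroup.disjoint_def.mp (eab_D_disjoint_T hnc hnn hC huH)) hmem hcz
      apply Subtype.ext
      show a = b
      calc a = b * (b⁻¹ * a) := by group
        _ = b := by rw [this, mul_one]
    · rintro ⟨⟨t, htT⟩, ht1⟩
      have ht1' : t ≠ 1 := fun h => ht1 (Subtype.ext h)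
      have ht2 : orderOf t = 2 := eab_orderOf_eq_two hnc hC htT ht1'
      have htH : t ∈ eabH T := Subgroup.le_normalizer htT
      obtain ⟨d, hd, hdz⟩ := se_involutions_conj_in_inter hse hu huH hz2 hzH ht2 htH
      exact ⟨⟨d, hd⟩, Subtype.ext (Subtype.ext hdz)⟩
  rw [Nat.card_congr (Equiv.ofBijective φ hφ)]
  have : Fintype (T : Subgroup G) := Fintype.ofFinite _
  classical
  rw [Nat.card_eq_fintype_card, Nat.card_eq_fintype_card, Fintype.card_subtype_compl,
    Fintype.card_subtype_eq]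

include hnc hnn hC hu huH in
/-- `|H| = |T| (|T| - 1)`. -/
theorem eab_card_H : Nat.card (eabH T) = Nat.card T * (Nat.card T - 1) := by
  have h1 := (eab_isComplement' hnc hnn hC hu huH).card_mul_card
  have h2 : Nat.card ((eabD T u).subgroupOf (eabH T)) = Nat.card (eabD T u) :=
    Nat.card_congr (Subgroup.subgroupOfEquivOfLe inf_le_left).toEquiv
  have h3 : Nat.card ((T : Subgroup G).subgroupOf (eabH T)) = Nat.card (T : Subgroup G) :=
    Nat.card_congr (Subgroup.subgroupOfEquivOfLe Subgroup.le_normalizer).toEquiv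
  rw [h2, h3, eab_card_D hnc hnn hC hu huH] at h1
  rw [← h1, mul_comm]

end ElemAb2

end Cfsg.Agent.Lib.Helper21
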