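/-
helper21 shared library: finite groups in which the centralizer of every involution is an
elementary abelian 2-group, part 3: the normalizer of the two point stabilizer (S1228).
All declarations live in `Cfsg.Agent.Lib.Helper21`.
-/
import Mathlib
import Cfsg.Prelude.Def_Involutions
import Cfsg.Agent.Lib.Helper21.ElemAbCent2

set_option autoImplicit false

namespace Cfsg.Agent.Lib.Helper21

open Cfsg
open scoped Pointwise

section ElemAb3

variable {G : Type*} [Group G] [Finite G]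

omit [Finite G] in
/-- The conjugate of `N(P)` is the normalizer of the conjugate Sylow subgroup. -/
theorem eab_map_conj_eabH (P : Sylow 2 G) (g : G) :
    (eabH P).map (MulAut.conj g).toMonoidHom = eabH (g • P) := by
  show (Subgroup.normalizer ((P : Subgroup G) : Set G)).map (MulAut.conj g).toMonoidHom =
    Subgroup.normalizer (((g • P : Sylow 2 G) : Subgroup G) : Set G)
  rw [Subgroup.map_equiv_normalizer_eq, Sylow.coe_subgroup_smul, Subgroup.pointwise_smul_def]
  rfl

omit [Finite G] in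
theorem eabD_eq_inf (P : Sylow 2 G) (i : G) : eabD P i = eabH P ⊓ eabH (i • P) := by
  show eabH P ⊓ (eabH P).map (MulAut.conj i).toMonoidHom = _
  rw [eab_map_conj_eabH]

variable {T : Sylow 2 G}

theorem eab_sylow_not_isCyclic (hnc : ¬ IsCyclic (T : Subgroup G)) (P : Sylow 2 G) :
    ¬ IsCyclic (P : Subgroup G) := by
  have : Fact (Nat.Prime 2) := ⟨Nat.prime_two⟩
  obtain ⟨g, rfl⟩ := MulAction.exists_smul_eq G P T
  intro h
  exact hnc ((Sylow.equivSMul P g).isCyclic.mp h)

theorem eab_sylow_not_normal (hnn : ¬ (T : Subgroup G).Normal) (P : Sylow 2 G) :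
    ¬ (P : Subgroup G).Normal := by
  have : Fact (Nat.Prime 2) := ⟨Nat.prime_two⟩
  intro h
  obtain ⟨g, hg⟩ := MulAction.exists_smul_eq G P T
  rw [Sylow.smul_eq_of_normal] at hg
  subst hg
  exact hnn h

theorem eab_sylow_card (P : Sylow 2 G) : Nat.card (P : Subgroup G) = Nat.card (T : Subgroup G) := by
  have : Fact (Nat.Prime 2) := ⟨Nat.prime_two⟩
  rw [Sylow.card_eq_multiplicity, Sylow.card_eq_multiplicity]

/-- Two distinct Sylow 2-subgroups are swapped by an involution. -/
theorem eab_exists_involution_smul (hnc : ¬ IsCyclic (T : Subgroup G))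
    (hnn : ¬ (T : Subgroup G).Normal) (hC : InvCentElemAb G) {P Q : Sylow 2 G} (hPQ : P ≠ Q) :
    ∃ i : G, orderOf i = 2 ∧ i • P = Q ∧ i • Q = P ∧ i ∉ eabH P := by
  have : Fact (Nat.Prime 2) := ⟨Nat.prime_two⟩
  have hncP := eab_sylow_not_isCyclic hnc P
  have hnnP := eab_sylow_not_normal hnn P
  have hse := eab_normalizer_stronglyEmbedded hncP hnnP hC
  obtain ⟨g, hg⟩ := MulAction.exists_smul_eq G P Q
  obtain ⟨a, haP, ha2, _⟩ := eab_exists_central_involution (T := P) hncP
  have haH : a ∈ eabH P := Subgroup.le_normalizer haP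
  have hgH : g ∉ eabH P := by
    intro h
    have h' : g • P = P := Sylow.smul_eq_iff_mem_normalizer.mpr h
    exact hPQ (h'.symm.trans hg)
  have hxy : (QuotientGroup.mk 1 : G ⧸ eabH P) ≠ QuotientGroup.mk g := eab_mk_ne hgH
  have hx : a • (QuotientGroup.mk 1 : G ⧸ eabH P) = QuotientGroup.mk 1 :=
    (smul_mk_one_eq_iff a).mpr haH
  have hy : (g * a * g⁻¹) • (QuotientGroup.mk g : G ⧸ eabH P) = QuotientGroup.mk g := by
    rw [smul_mk_eq_mk_iff]
    have : g⁻¹ * (g * a * g⁻¹) * g = a := by group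
    rw [this]
    exact haH
  obtain ⟨i, hi2, hix, hiy, _, _⟩ :=
    se_exists_swap_conj hse ha2 (orderOf_conj_eq_two ha2 g) hxy hx hy
  have hiP : i • P = Q := by
    rw [MulAction.Quotient.smul_mk, smul_eq_mul, mul_one, QuotientGroup.eq] at hix
    have h' : (i⁻¹ * g) • P = P := Sylow.smul_eq_iff_mem_normalizer.mpr hix
    rw [mul_smul, hg, inv_smul_eq_iff] at h'
    exact h'.symm
  refine ⟨i, hi2, hiP, ?_, ?_⟩
  · rw [← hiP, ← mul_smul, inv_mul_self hi2, one_smul]
  · intro h
    have h' : i • P = P := Sylow.smul_eq_iff_mem_normalizer.mpr h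
    exact hPQ (h'.symm.trans hiP)

variable {u : G}

/-- `D` is not trivial. -/
theorem eab_exists_ne_one_mem_D (hnc : ¬ IsCyclic (T : Subgroup G))
    (hnn : ¬ (T : Subgroup G).Normal) (hC : InvCentElemAb G) (hu : orderOf u = 2)
    (huH : u ∉ eabH T) : ∃ d ∈ eabD T u, d ≠ 1 := by
  have : Fact (Nat.Prime 2) := ⟨Nat.prime_two⟩
  have hcard := eab_card_D hnc hnn hC hu huH
  have h1 : Nat.card (T : Subgroup G) ≠ 1 := by
    intro h
    exact eab_ne_bot hnc (Subgroup.card_eq_one.mp h)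
  have h2 : Nat.card (T : Subgroup G) ≠ 2 := by
    intro h
    exact hnc (isCyclic_of_prime_card h)
  have h0 : Nat.card (T : Subgroup G) ≠ 0 := Nat.card_pos.ne'
  have h3 : eabD T u ≠ ⊥ := by
    intro h
    rw [← Subgroup.card_eq_one] at h
    omega
  by_contra hcon
  push Not at hcon
  apply h3
  rw [eq_bot_iff]
  intro d hd
  rw [Subgroup.mem_bot]
  exact hcon d hd

/-- `N_H(D) = D`. -/
theorem eab_mem_D_of_mem_normalizer (hnc : ¬ IsCyclic (T : Subgroup G))
    (hnn : ¬ (T : Subgroup G).Normal) (hC : InvCentElemAb G) (hu : orderOf u = 2)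
    (huH : u ∉ eabH T) {n : G} (hnH : n ∈ eabH T)
    (hnD : n ∈ Subgroup.normalizer ((eabD T u : Subgroup G) : Set G)) : n ∈ eabD T u := by
  obtain ⟨d, hd, t, ht, rfl⟩ := eab_exists_mul_of_mem_H hnc hnn hC hu huH hnH
  have hdN : d ∈ Subgroup.normalizer ((eabD T u : Subgroup G) : Set G) :=
    Subgroup.le_normalizer hd
  have htN : t ∈ Subgroup.normalizer ((eabD T u : Subgroup G) : Set G) := by
    have := (Subgroup.normalizer ((eabD T u : Subgroup G) : Set G)).mul_mem
      ((Subgroup.normalizer ((eabD T u : Subgroup G) : Set G)).inv_mem hdN) hnD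
    rwa [inv_mul_cancel_left] at this
  suffices h : t = 1 by
    rw [h, mul_one]; exact hd
  by_contra ht1
  obtain ⟨e, he, he1⟩ := eab_exists_ne_one_mem_D hnc hnn hC hu huH
  have heH : e ∈ eabH T := (Subgroup.mem_inf.mp he).1
  have hdisj : ∀ {x : G}, x ∈ eabD T u → x ∈ (T : Subgroup G) → x = 1 := fun {x} hx hy =>
    Subgroup.disjoint_def.mp (eab_D_disjoint_T hnc hnn hC huH) hx hy
  have h1 : t * e * t⁻¹ * e⁻¹ ∈ eabD T u :=
    (eabD T u).mul_mem ((Subgroup.mem_normalizer_iff.mp htN e).mp he) ((eabD T u).inv_mem he)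
  have h2 : t * e * t⁻¹ * e⁻¹ ∈ (T : Subgroup G) := by
    have h3 : e * t⁻¹ * e⁻¹ ∈ (T : Subgroup G) :=
      (Subgroup.mem_normalizer_iff.mp heH t⁻¹).mp ((T : Subgroup G).inv_mem ht)
    have := (T : Subgroup G).mul_mem ht h3
    have h4 : t * (e * t⁻¹ * e⁻¹) = t * e * t⁻¹ * e⁻¹ := by group
    rwa [h4] at this
  have h5 := hdisj h1 h2
  have hcomm : e * t = t * e := by
    calc e * t = (t * e * t⁻¹ * e⁻¹)⁻¹ * (t * e) := by group
      _ = t * e := by rw [h5]; group
  have hmem : e ∈ Subgroup.centralizer ({t} : Set G) := by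
    rw [Subgroup.mem_centralizer_singleton_iff]; exact hcomm
  rw [eab_centralizer_eq hnc hC ht ht1] at hmem
  exact he1 (hdisj he hmem)

omit [Finite G] in
theorem mem_normalizer_of_inverts {D : Subgroup G} {x : G} (h : ∀ d ∈ D, x * d * x⁻¹ = d⁻¹) :
    x ∈ Subgroup.normalizer ((D : Subgroup G) : Set G) := by
  rw [Subgroup.mem_normalizer_iff]
  intro d
  constructor
  · intro hd
    rw [h d hd]; exact D.inv_mem hd
  · intro hd
    have h1 := h _ (D.inv_mem hd)
    rw [inv_inv] at h1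
    have h2 : d = (x * d * x⁻¹)⁻¹ := by
      calc d = x⁻¹ * (x * d * x⁻¹) * x := by group
        _ = x⁻¹ * (x * (x * d * x⁻¹)⁻¹ * x⁻¹) * x := by rw [h1]
        _ = (x * d * x⁻¹)⁻¹ := by group
    rw [h2]
    exact D.inv_mem hd

/-- If `D = N(T) ∩ N(T^u)` normalizes a Sylow 2-subgroup `R` then `R = T` or `R = T^u`. -/
theorem eab_sylow_eq_of_D_le (hnc : ¬ IsCyclic (T : Subgroup G))
    (hnn : ¬ (T : Subgroup G).Normal) (hC : InvCentElemAb G) (hu : orderOf u = 2)
    (huH : u ∉ eabH T) {R : Sylow 2 G} (hR : eabD T u ≤ eabH R) : R = T ∨ R = u • T := by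
  by_contra hcon
  push Not at hcon
  obtain ⟨hRT, hRT'⟩ := hcon
  have hncR := eab_sylow_not_isCyclic hnc R
  have hnnR := eab_sylow_not_normal hnn R
  have hDH : eabD T u ≤ eabH T := inf_le_left
  have hDH' : eabD T u ≤ eabH (u • T) := by
    rw [eabD_eq_inf]; exact inf_le_right
  -- the involution `w` swapping `T` and `R`
  obtain ⟨w, hw2, hwT, hwR, hwH⟩ := eab_exists_involution_smul hnc hnn hC (Ne.symm hRT)
  have hDw : eabD T u = eabD T w := by
    apply Subgroup.eq_of_le_of_card_ge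
    · rw [eabD_eq_inf T w, hwT]
      exact le_inf hDH hR
    · rw [eab_card_D hnc hnn hC hu huH, eab_card_D hnc hnn hC hw2 hwH]
  -- the involution `v` swapping `R` and `T^u`
  obtain ⟨v, hv2, hvR, hvT', hvH⟩ := eab_exists_involution_smul hnc hnn hC hRT'
  have hDv : eabD T u = eabD R v := by
    apply Subgroup.eq_of_le_of_card_ge
    · rw [eabD_eq_inf R v, hvR]
      exact le_inf hR hDH'
    · rw [eab_card_D hnc hnn hC hu huH, eab_card_D hncR hnnR hC hv2 hvH, eab_sylow_card R]
  have hinv_u : ∀ d ∈ eabD T u, u * d * u⁻¹ = d⁻¹ := fun d hd =>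
    eab_u_inverts_D hnc hnn hC hu huH hd
  have hinv_w : ∀ d ∈ eabD T u, w * d * w⁻¹ = d⁻¹ := fun d hd =>
    eab_u_inverts_D hnc hnn hC hw2 hwH (hDw ▸ hd)
  have hinv_v : ∀ d ∈ eabD T u, v * d * v⁻¹ = d⁻¹ := fun d hd =>
    eab_u_inverts_D hncR hnnR hC hv2 hvH (hDv ▸ hd)
  -- `c = u w` centralizes `D`
  have hc : ∀ d ∈ eabD T u, (u * w) * d * (u * w)⁻¹ = d := by
    intro d hd
    calc (u * w) * d * (u * w)⁻¹ = u * (w * d * w⁻¹) * u⁻¹ := by group
      _ = u * d⁻¹ * u⁻¹ := by rw [hinv_w d hd]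
      _ = d⁻¹⁻¹ := hinv_u d⁻¹ ((eabD T u).inv_mem hd)
      _ = d := inv_inv d
  -- `v c` inverts `D` and normalizes `R`
  have hvc : ∀ d ∈ eabD T u, (v * (u * w)) * d * (v * (u * w))⁻¹ = d⁻¹ := by
    intro d hd
    calc (v * (u * w)) * d * (v * (u * w))⁻¹ = v * ((u * w) * d * (u * w)⁻¹) * v⁻¹ := by group
      _ = v * d * v⁻¹ := by rw [hc d hd]
      _ = d⁻¹ := hinv_v d hd
  have hvcR : v * (u * w) ∈ eabH R := by
    apply Sylow.smul_eq_iff_mem_normalizer.mp
    rw [mul_smul, mul_smul, hwR, hvT']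
  have hvcN : v * (u * w) ∈ Subgroup.normalizer ((eabD R v : Subgroup G) : Set G) := by
    rw [← hDv]
    exact mem_normalizer_of_inverts hvc
  have hvcD : v * (u * w) ∈ eabD T u := by
    rw [hDv]
    exact eab_mem_D_of_mem_normalizer hncR hnnR hC hv2 hvH hvcR hvcN
  have hvc1 : v * (u * w) = 1 := by
    apply eab_D_eq_one_of_mul_self hnc hnn hC huH hvcD
    have h1 := hvc _ hvcD
    rw [mul_inv_cancel_right] at h1
    calc v * (u * w) * (v * (u * w)) = (v * (u * w)) * (v * (u * w))⁻¹ := by rw [← h1]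
      _ = 1 := mul_inv_cancel _
  obtain ⟨e, he, he1⟩ := eab_exists_ne_one_mem_D hnc hnn hC hu huH
  apply he1
  apply eab_D_eq_one_of_mul_self hnc hnn hC huH he
  have h2 := hvc e he
  rw [hvc1] at h2
  have h3 : e = e⁻¹ := by simpa using h2
  calc e * e = e * e⁻¹ := by rw [← h3]
    _ = 1 := mul_inv_cancel _

/-- `N_G(D) = D ⟨u⟩`. -/
theorem eab_normalizer_D (hnc : ¬ IsCyclic (T : Subgroup G))
    (hnn : ¬ (T : Subgroup G).Normal) (hC : InvCentElemAb G) (hu : orderOf u = 2)
    (huH : u ∉ eabH T) :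
    Subgroup.normalizer ((eabD T u : Subgroup G) : Set G) = eabD T u ⊔ Subgroup.zpowers u := by
  apply le_antisymm
  · intro n hn
    -- `D = n D n⁻¹` normalizes `n • T`
    have hle : eabD T u ≤ eabH (n • T) := by
      intro d hd
      rw [← eab_map_conj_eabH, mem_map_conj_iff]
      have hninv : n⁻¹ ∈ Subgroup.normalizer ((eabD T u : Subgroup G) : Set G) :=
        (Subgroup.normalizer ((eabD T u : Subgroup G) : Set G)).inv_mem hn
      have := (Subgroup.mem_normalizer_iff.mp hninv d).mp hd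
      rw [inv_inv] at this
      exact (Subgroup.mem_inf.mp this).1
    rcases eab_sylow_eq_of_D_le hnc hnn hC hu huH hle with h | h
    · have hnH : n ∈ eabH T := Sylow.smul_eq_iff_mem_normalizer.mp h
      exact Subgroup.mem_sup_left (eab_mem_D_of_mem_normalizer hnc hnn hC hu huH hnH hn)
    · have h1 : (u⁻¹ * n) • T = T := by
        rw [mul_smul, h, inv_smul_smul]
      have hnH : u⁻¹ * n ∈ eabH T := Sylow.smul_eq_iff_mem_normalizer.mp h1
      have huN : u ∈ Subgroup.normalizer ((eabD T u : Subgroup G) : Set G) :=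
        mem_normalizer_of_inverts (fun d hd => eab_u_inverts_D hnc hnn hC hu huH hd)
      have hnN : u⁻¹ * n ∈ Subgroup.normalizer ((eabD T u : Subgroup G) : Set G) :=
        (Subgroup.normalizer ((eabD T u : Subgroup G) : Set G)).mul_mem
          ((Subgroup.normalizer ((eabD T u : Subgroup G) : Set G)).inv_mem huN) hn
      have hD := eab_mem_D_of_mem_normalizer hnc hnn hC hu huH hnH hnN
      have : n = u * (u⁻¹ * n) := by group
      rw [this]
      exact (eabD T u ⊔ Subgroup.zpowers u).mul_mem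
        (Subgroup.mem_sup_right (Subgroup.mem_zpowers u)) (Subgroup.mem_sup_left hD)
  · apply sup_le
    · exact Subgroup.le_normalizer
    · rw [Subgroup.zpowers_le]
      exact mem_normalizer_of_inverts (fun d hd => eab_u_inverts_D hnc hnn hC hu huH hd)

/-- The fixed points of `D` on `G / N(T)` are exactly `N(T)` and `u N(T)`. -/
theorem eab_D_fixed_points (hnc : ¬ IsCyclic (T : Subgroup G))
    (hnn : ¬ (T : Subgroup G).Normal) (hC : InvCentElemAb G) (hu : orderOf u = 2)
    (huH : u ∉ eabH T) (g : G) :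
    (∀ d ∈ eabD T u, d • (QuotientGroup.mk g : G ⧸ eabH T) = QuotientGroup.mk g) ↔
      (QuotientGroup.mk g : G ⧸ eabH T) = QuotientGroup.mk 1 ∨
        (QuotientGroup.mk g : G ⧸ eabH T) = QuotientGroup.mk u := by
  constructor
  · intro h
    have hle : eabD T u ≤ eabH (g • T) := by
      intro d hd
      rw [← eab_map_conj_eabH, mem_map_conj_iff_smul]
      exact h d hd
    rcases eab_sylow_eq_of_D_le hnc hnn hC hu huH hle with h1 | h1
    · left
      have hgH : g ∈ eabH T := Sylow.smul_eq_iff_mem_normalizer.mp h1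
      rw [QuotientGroup.eq, mul_one]
      exact (eabH T).inv_mem hgH
    · right
      have h2 : (g⁻¹ * u) • T = T := by
        rw [mul_smul, ← h1, inv_smul_smul]
      have hgH : g⁻¹ * u ∈ eabH T := Sylow.smul_eq_iff_mem_normalizer.mp h2
      rw [QuotientGroup.eq]
      exact hgH
  · rintro (h | h) d hd
    · rw [h]; exact (eab_mem_D_iff.mp hd).1
    · rw [h]; exact (eab_mem_D_iff.mp hd).2

end ElemAb3

end Cfsg.Agent.Lib.Helper21
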