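/-
helper21 shared library: finite groups in which the centralizer of every involution is an
elementary abelian 2-group, part 4: sharp triple transitivity on `G / N(T)` (S1229).
All declarations live in `Cfsg.Agent.Lib.Helper21`.
-/
import Mathlib
import Cfsg.Prelude.Def_Involutions
import Cfsg.Agent.Lib.Helper21.ElemAbCent3

set_option autoImplicit false

namespace Cfsg.Agent.Lib.Helper21

open Cfsg
open scoped Pointwise

section ElemAb4

variable {G : Type*} [Group G] [Finite G] {T : Sylow 2 G} {u : G}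

/-- `D` is abelian (it is inverted by `u`). -/
theorem eab_D_comm (hnc : ¬ IsCyclic (T : Subgroup G))
    (hnn : ¬ (T : Subgroup G).Normal) (hC : InvCentElemAb G) (hu : orderOf u = 2)
    (huH : u ∉ eabH T) {d e : G} (hd : d ∈ eabD T u) (he : e ∈ eabD T u) : d * e = e * d := by
  have h1 := eab_u_inverts_D hnc hnn hC hu huH hd
  have h2 := eab_u_inverts_D hnc hnn hC hu huH he
  have h3 := eab_u_inverts_D hnc hnn hC hu huH ((eabD T u).mul_mem hd he)
  have h4 : u * (d * e) * u⁻¹ = (u * d * u⁻¹) * (u * e * u⁻¹) := by group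
  rw [h4, h1, h2, mul_inv_rev] at h3
  -- d⁻¹ e⁻¹ = e⁻¹ d⁻¹
  calc d * e = (e⁻¹ * d⁻¹)⁻¹ := by group
    _ = (d⁻¹ * e⁻¹)⁻¹ := by rw [h3]
    _ = e * d := by group

/-- A nonidentity element normalizes at most two Sylow 2-subgroups. -/
theorem eab_eq_one_of_mem_three (hnc : ¬ IsCyclic (T : Subgroup G))
    (hnn : ¬ (T : Subgroup G).Normal) (hC : InvCentElemAb G) {P₁ P₂ P₃ : Sylow 2 G}
    (h12 : P₁ ≠ P₂) (h13 : P₁ ≠ P₃) (h23 : P₂ ≠ P₃) {g : G} (h1 : g ∈ eabH P₁)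
    (h2 : g ∈ eabH P₂) (h3 : g ∈ eabH P₃) : g = 1 := by
  have hnc₁ := eab_sylow_not_isCyclic hnc P₁
  have hnn₁ := eab_sylow_not_normal hnn P₁
  obtain ⟨i, hi2, hiP, _, hiH⟩ := eab_exists_involution_smul hnc hnn hC h12
  obtain ⟨j, hj2, hjP, _, hjH⟩ := eab_exists_involution_smul hnc hnn hC h13
  have hg2 : g ∈ eabD P₁ i := by
    rw [eabD_eq_inf, hiP]; exact ⟨h1, h2⟩
  have hg3 : g ∈ eabD P₁ j := by
    rw [eabD_eq_inf, hjP]; exact ⟨h1, h3⟩
  by_contra hg1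
  have hdisj : ∀ {x : G}, x ∈ eabD P₁ i → x ∈ (P₁ : Subgroup G) → x = 1 := fun {x} hx hy =>
    Subgroup.disjoint_def.mp (eab_D_disjoint_T hnc₁ hnn₁ hC hiH) hx hy
  have hle : eabD P₁ i ≤ eabD P₁ j := by
    intro e he
    have heH : e ∈ eabH P₁ := (Subgroup.mem_inf.mp he).1
    obtain ⟨d, hd, t, ht, hdt⟩ := eab_exists_mul_of_mem_H hnc₁ hnn₁ hC hj2 hjH heH
    suffices h : t = 1 by
      rw [← hdt, h, mul_one]; exact hd
    by_contra ht1
    have hcomm1 : g * (d * t) = (d * t) * g := by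
      rw [hdt]; exact eab_D_comm hnc₁ hnn₁ hC hi2 hiH hg2 he
    have hcomm2 : g * d = d * g := eab_D_comm hnc₁ hnn₁ hC hj2 hjH hg3 hd
    have hcomm3 : g * t = t * g := by
      calc g * t = d⁻¹ * (d * g) * t := by group
        _ = d⁻¹ * (g * d) * t := by rw [hcomm2]
        _ = d⁻¹ * (g * (d * t)) := by group
        _ = d⁻¹ * ((d * t) * g) := by rw [hcomm1]
        _ = t * g := by group
    have hmem : g ∈ Subgroup.centralizer ({t} : Set G) := by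
      rw [Subgroup.mem_centralizer_singleton_iff]; exact hcomm3
    rw [eab_centralizer_eq hnc₁ hC ht ht1] at hmem
    exact hg1 (hdisj hg2 hmem)
  have hle3 : eabD P₁ i ≤ eabH P₃ := by
    refine hle.trans ?_
    rw [eabD_eq_inf, hjP]; exact inf_le_right
  rcases eab_sylow_eq_of_D_le hnc₁ hnn₁ hC hi2 hiH hle3 with h | h
  · exact h13 h.symm
  · rw [hiP] at h; exact h23 h.symm

/-- `T` is transitive on the Sylow 2-subgroups other than `T`. -/
theorem eab_exists_T_smul (hnc : ¬ IsCyclic (T : Subgroup G))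
    (hnn : ¬ (T : Subgroup G).Normal) (hC : InvCentElemAb G) (hu : orderOf u = 2)
    (huH : u ∉ eabH T) {R : Sylow 2 G} (hR : R ≠ T) :
    ∃ t ∈ (T : Subgroup G), t • (u • T) = R := by
  obtain ⟨w, hw2, hwT, _, hwH⟩ := eab_exists_involution_smul hnc hnn hC (Ne.symm hR)
  obtain ⟨e, he, he1⟩ := eab_exists_ne_one_mem_D hnc hnn hC hw2 hwH
  have heH : e ∈ eabH T := (Subgroup.mem_inf.mp he).1
  have heR : e ∈ eabH R := by
    have := he
    rw [eabD_eq_inf, hwT] at this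
    exact (Subgroup.mem_inf.mp this).2
  obtain ⟨d, hd, t', ht', hdt⟩ := eab_exists_mul_of_mem_H hnc hnn hC hu huH heH
  have hdH : d ∈ eabH T := (Subgroup.mem_inf.mp hd).1
  have hdisj : ∀ {x : G}, x ∈ eabD T u → x ∈ (T : Subgroup G) → x = 1 := fun {x} hx hy =>
    Subgroup.disjoint_def.mp (eab_D_disjoint_T hnc hnn hC huH) hx hy
  have hdisjw : ∀ {x : G}, x ∈ eabD T w → x ∈ (T : Subgroup G) → x = 1 := fun {x} hx hy =>
    Subgroup.disjoint_def.mp (eab_D_disjoint_T hnc hnn hC hwH) hx hy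
  have hd1 : d ≠ 1 := by
    intro h
    rw [h, one_mul] at hdt
    rw [hdt] at ht'
    exact he1 (hdisjw he ht')
  -- the map `t ↦ t d t⁻¹ d⁻¹` is a bijection of `T`
  have hmapT : ∀ t ∈ (T : Subgroup G), t * d * t⁻¹ * d⁻¹ ∈ (T : Subgroup G) := by
    intro t ht
    have h3 : d * t⁻¹ * d⁻¹ ∈ (T : Subgroup G) :=
      (Subgroup.mem_normalizer_iff.mp hdH t⁻¹).mp ((T : Subgroup G).inv_mem ht)
    have := (T : Subgroup G).mul_mem ht h3
    have h4 : t * (d * t⁻¹ * d⁻¹) = t * d * t⁻¹ * d⁻¹ := by group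
    rwa [h4] at this
  let f : ↥(T : Subgroup G) → ↥(T : Subgroup G) := fun t => ⟨t.1 * d * t.1⁻¹ * d⁻¹, hmapT t.1 t.2⟩
  have hf : Function.Injective f := by
    rintro ⟨a, ha⟩ ⟨b, hb⟩ hab
    have h1 : a * d * a⁻¹ * d⁻¹ = b * d * b⁻¹ * d⁻¹ := congrArg Subtype.val hab
    have h2 : d * (b⁻¹ * a) = (b⁻¹ * a) * d := by
      have h3 : a * d * a⁻¹ = b * d * b⁻¹ := by
        calc a * d * a⁻¹ = (a * d * a⁻¹ * d⁻¹) * d := by group
          _ = (b * d * b⁻¹ * d⁻¹) * d := by rw [h1]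
          _ = b * d * b⁻¹ := by group
      calc d * (b⁻¹ * a) = b⁻¹ * (b * d * b⁻¹) * a := by group
        _ = b⁻¹ * (a * d * a⁻¹) * a := by rw [h3]
        _ = (b⁻¹ * a) * d := by group
    have hba : b⁻¹ * a ∈ (T : Subgroup G) := (T : Subgroup G).mul_mem ((T : Subgroup G).inv_mem hb) ha
    apply Subtype.ext
    show a = b
    by_contra hne
    have hne1 : b⁻¹ * a ≠ 1 := by
      intro h
      apply hne
      calc a = b * (b⁻¹ * a) := by group
        _ = b := by rw [h, mul_one]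
    have hmem : d ∈ Subgroup.centralizer ({b⁻¹ * a} : Set G) := by
      rw [Subgroup.mem_centralizer_singleton_iff]; exact h2
    rw [eab_centralizer_eq hnc hC hba hne1] at hmem
    exact hd1 (hdisj hd hmem)
  have hs : Function.Surjective f := Finite.surjective_of_injective hf
  have htarget : d * t' * d⁻¹ ∈ (T : Subgroup G) := (Subgroup.mem_normalizer_iff.mp hdH t').mp ht'
  obtain ⟨⟨t, ht⟩, hft⟩ := hs ⟨d * t' * d⁻¹, htarget⟩
  have hconj : t * d * t⁻¹ = e := by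
    have h1 : t * d * t⁻¹ * d⁻¹ = d * t' * d⁻¹ := congrArg Subtype.val hft
    calc t * d * t⁻¹ = (t * d * t⁻¹ * d⁻¹) * d := by group
      _ = (d * t' * d⁻¹) * d := by rw [h1]
      _ = d * t' := by group
      _ = e := hdt
  refine ⟨t, ht, ?_⟩
  -- `e` normalizes `T`, `R` and `t • (u • T)`
  have htH : t ∈ eabH T := Subgroup.le_normalizer ht
  have hetu : e ∈ eabH (t • (u • T)) := by
    rw [← eab_map_conj_eabH, mem_map_conj_iff, ← hconj]
    have h1 : t⁻¹ * (t * d * t⁻¹) * t = d := by group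
    rw [h1]
    have := hd
    rw [eabD_eq_inf] at this
    exact (Subgroup.mem_inf.mp this).2
  have hne1 : T ≠ t • (u • T) := by
    intro h
    have h1 : t⁻¹ • T = T := Sylow.smul_eq_iff_mem_normalizer.mpr ((eabH T).inv_mem htH)
    have h2 : t⁻¹ • T = u • T := by
      rw [inv_smul_eq_iff]; exact h
    rw [h1] at h2
    exact huH (Sylow.smul_eq_iff_mem_normalizer.mp h2.symm)
  by_contra hne2
  exact he1 (eab_eq_one_of_mem_three hnc hnn hC hne1 (Ne.symm hR) hne2 heH hetu heR)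

omit [Finite G] in
theorem eab_mk_eq_iff (a b : G) :
    (QuotientGroup.mk a : G ⧸ eabH T) = QuotientGroup.mk b ↔ a • T = b • T := by
  rw [QuotientGroup.eq]
  constructor
  · intro h
    have h' : (a⁻¹ * b) • T = T := Sylow.smul_eq_iff_mem_normalizer.mpr h
    rw [mul_smul, inv_smul_eq_iff] at h'
    exact h'.symm
  · intro h
    apply Sylow.smul_eq_iff_mem_normalizer.mp
    rw [mul_smul, inv_smul_eq_iff]; exact h.symm

omit [Finite G] in
theorem eab_mk_eq_one_iff (a : G) :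
    (QuotientGroup.mk a : G ⧸ eabH T) = QuotientGroup.mk 1 ↔ a • T = T := by
  rw [eab_mk_eq_iff, one_smul]

omit [Finite G] in
theorem eab_smul_mk_eq_iff (g a : G) :
    g • (QuotientGroup.mk a : G ⧸ eabH T) = QuotientGroup.mk a ↔ g ∈ eabH (a • T) := by
  rw [← eab_map_conj_eabH, mem_map_conj_iff_smul]

/-- Sharpness: an element fixing three points is trivial. -/
theorem eab_eq_one_of_fixes_three (hnc : ¬ IsCyclic (T : Subgroup G))
    (hnn : ¬ (T : Subgroup G).Normal) (hC : InvCentElemAb G) (g : G)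
    (x₁ x₂ x₃ : G ⧸ eabH T) (h12 : x₁ ≠ x₂) (h13 : x₁ ≠ x₃) (h23 : x₂ ≠ x₃)
    (h1 : g • x₁ = x₁) (h2 : g • x₂ = x₂) (h3 : g • x₃ = x₃) : g = 1 := by
  obtain ⟨a, rfl⟩ := QuotientGroup.mk_surjective x₁
  obtain ⟨b, rfl⟩ := QuotientGroup.mk_surjective x₂
  obtain ⟨c, rfl⟩ := QuotientGroup.mk_surjective x₃
  rw [eab_smul_mk_eq_iff] at h1 h2 h3
  refine eab_eq_one_of_mem_three hnc hnn hC ?_ ?_ ?_ h1 h2 h3
  · intro h; exact h12 ((eab_mk_eq_iff a b).mpr h)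
  · intro h; exact h13 ((eab_mk_eq_iff a c).mpr h)
  · intro h; exact h23 ((eab_mk_eq_iff b c).mpr h)

/-- There is an involution outside `N(T)`. -/
theorem eab_exists_u (hnc : ¬ IsCyclic (T : Subgroup G))
    (hnn : ¬ (T : Subgroup G).Normal) (hC : InvCentElemAb G) :
    ∃ u : G, orderOf u = 2 ∧ u ∉ eabH T := by
  have hne : eabH T ≠ ⊤ := fun h => hnn (Subgroup.normalizer_eq_top_iff.mp h)
  obtain ⟨g, hg⟩ : ∃ g : G, g ∉ eabH T := by
    by_contra hcon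
    push Not at hcon
    exact hne (eq_top_iff.mpr fun x _ => hcon x)
  have hgT : T ≠ g • T := fun h => hg (Sylow.smul_eq_iff_mem_normalizer.mp h.symm)
  obtain ⟨i, hi2, _, _, hiH⟩ := eab_exists_involution_smul hnc hnn hC hgT
  exact ⟨i, hi2, hiH⟩

/-- `T` is transitive on the points other than `N(T)`. -/
theorem eab_exists_T_smul_mk (hnc : ¬ IsCyclic (T : Subgroup G))
    (hnn : ¬ (T : Subgroup G).Normal) (hC : InvCentElemAb G) (hu : orderOf u = 2)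
    (huH : u ∉ eabH T) (z : G ⧸ eabH T) (hz : z ≠ QuotientGroup.mk 1) :
    ∃ t ∈ (T : Subgroup G), t • (QuotientGroup.mk u : G ⧸ eabH T) = z := by
  obtain ⟨a, rfl⟩ := QuotientGroup.mk_surjective z
  have haT : a • T ≠ T := fun h => hz ((eab_mk_eq_one_iff a).mpr h)
  obtain ⟨t, ht, htu⟩ := eab_exists_T_smul hnc hnn hC hu huH haT
  refine ⟨t, ht, ?_⟩
  rw [MulAction.Quotient.smul_mk, smul_eq_mul, eab_mk_eq_iff, mul_smul]
  exact htu

/-- A nonidentity element of `T` fixes only the point `N(T)`. -/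
theorem eab_T_fixed (hnc : ¬ IsCyclic (T : Subgroup G))
    (hnn : ¬ (T : Subgroup G).Normal) (hC : InvCentElemAb G) {t : G}
    (ht : t ∈ (T : Subgroup G)) (ht1 : t ≠ 1) {x : G ⧸ eabH T} (hx : t • x = x) :
    x = QuotientGroup.mk 1 := by
  have hse := eab_normalizer_stronglyEmbedded hnc hnn hC
  have ht2 := eab_orderOf_eq_two hnc hC ht ht1
  have htH : t ∈ eabH T := Subgroup.le_normalizer ht
  exact se_fixed_unique hse ht2 hx ((smul_mk_one_eq_iff t).mpr htH)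

/-- `T` is regular on the points other than `N(T)`. -/
theorem eab_T_regular (hnc : ¬ IsCyclic (T : Subgroup G))
    (hnn : ¬ (T : Subgroup G).Normal) (hC : InvCentElemAb G) (x y : G ⧸ eabH T)
    (hx : x ≠ QuotientGroup.mk 1) (hy : y ≠ QuotientGroup.mk 1) :
    ∃! t : G, t ∈ T ∧ t • x = y := by
  obtain ⟨u, hu, huH⟩ := eab_exists_u hnc hnn hC
  obtain ⟨t₁, ht₁, h1⟩ := eab_exists_T_smul_mk hnc hnn hC hu huH x hx
  obtain ⟨t₂, ht₂, h2⟩ := eab_exists_T_smul_mk hnc hnn hC hu huH y hy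
  refine ⟨t₂ * t₁⁻¹, ⟨(T : Subgroup G).mul_mem ht₂ ((T : Subgroup G).inv_mem ht₁), ?_⟩, ?_⟩
  · rw [← h1, ← h2, mul_smul, inv_smul_smul]
  · rintro t ⟨ht, htx⟩
    by_contra hne
    have hmem : (t₂ * t₁⁻¹)⁻¹ * t ∈ (T : Subgroup G) :=
      (T : Subgroup G).mul_mem ((T : Subgroup G).inv_mem
        ((T : Subgroup G).mul_mem ht₂ ((T : Subgroup G).inv_mem ht₁))) ht
    have hne1 : (t₂ * t₁⁻¹)⁻¹ * t ≠ 1 := by
      intro h
      apply hne
      calc t = (t₂ * t₁⁻¹) * ((t₂ * t₁⁻¹)⁻¹ * t) := by group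
        _ = t₂ * t₁⁻¹ := by rw [h, mul_one]
    have hfix : ((t₂ * t₁⁻¹)⁻¹ * t) • x = x := by
      rw [mul_smul, htx, inv_smul_eq_iff, ← h1, ← h2, mul_smul, inv_smul_smul]
    exact hx (eab_T_fixed hnc hnn hC hmem hne1 hfix)

/-- `D` is transitive on the points other than `N(T)` and `u N(T)`. -/
theorem eab_exists_D_smul (hnc : ¬ IsCyclic (T : Subgroup G))
    (hnn : ¬ (T : Subgroup G).Normal) (hC : InvCentElemAb G) (hu : orderOf u = 2)
    (huH : u ∉ eabH T) (z z' : G ⧸ eabH T) (hz0 : z ≠ QuotientGroup.mk 1)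
    (hz1 : z ≠ QuotientGroup.mk u) (hz0' : z' ≠ QuotientGroup.mk 1)
    (hz1' : z' ≠ QuotientGroup.mk u) : ∃ d ∈ eabD T u, d • z = z' := by
  have hse := eab_normalizer_stronglyEmbedded hnc hnn hC
  obtain ⟨t, ht, h1⟩ := eab_exists_T_smul_mk hnc hnn hC hu huH z hz0
  obtain ⟨t', ht', h2⟩ := eab_exists_T_smul_mk hnc hnn hC hu huH z' hz0'
  have ht1 : t ≠ 1 := by
    intro h; rw [h, one_smul] at h1; exact hz1 h1.symm
  have ht1' : t' ≠ 1 := by
    intro h; rw [h, one_smul] at h2; exact hz1' h2.symm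
  have ht2 := eab_orderOf_eq_two hnc hC ht ht1
  have ht2' := eab_orderOf_eq_two hnc hC ht' ht1'
  have htH : t ∈ eabH T := Subgroup.le_normalizer ht
  have htH' : t' ∈ eabH T := Subgroup.le_normalizer ht'
  obtain ⟨d, hd, hdt⟩ := se_involutions_conj_in_inter hse hu huH ht2 htH ht2' htH'
  refine ⟨d, hd, ?_⟩
  have hdu : d • (QuotientGroup.mk u : G ⧸ eabH T) = QuotientGroup.mk u :=
    (eab_mem_D_iff.mp hd).2
  have h3 : d * t = t' * d := by
    calc d * t = (d * t * d⁻¹) * d := by group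
      _ = t' * d := by rw [hdt]
  rw [← h1, ← h2, ← mul_smul, h3, mul_smul, hdu]

/-- Move a triple of distinct points to a standard triple. -/
theorem eab_exists_smul_triple (hnc : ¬ IsCyclic (T : Subgroup G))
    (hnn : ¬ (T : Subgroup G).Normal) (hC : InvCentElemAb G) (hu : orderOf u = 2)
    (huH : u ∉ eabH T) {t₀ : G} (ht₀ : t₀ ∈ (T : Subgroup G)) (ht₀1 : t₀ ≠ 1)
    (x₁ x₂ x₃ : G ⧸ eabH T) (h12 : x₁ ≠ x₂) (h13 : x₁ ≠ x₃) (h23 : x₂ ≠ x₃) :
    ∃ g : G, g • x₁ = QuotientGroup.mk 1 ∧ g • x₂ = QuotientGroup.mk u ∧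
      g • x₃ = t₀ • (QuotientGroup.mk u : G ⧸ eabH T) := by
  obtain ⟨a, rfl⟩ := QuotientGroup.mk_surjective x₁
  have ha1 : a⁻¹ • (QuotientGroup.mk a : G ⧸ eabH T) = QuotientGroup.mk 1 := by
    rw [MulAction.Quotient.smul_mk, smul_eq_mul, inv_mul_cancel]
  have hx2 : a⁻¹ • x₂ ≠ QuotientGroup.mk 1 := by
    intro h
    rw [← ha1] at h
    exact h12 (smul_left_cancel _ h).symm
  have hx3 : a⁻¹ • x₃ ≠ QuotientGroup.mk 1 := by
    intro h
    rw [← ha1] at h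
    exact h13 (smul_left_cancel _ h).symm
  obtain ⟨t, ht, htu⟩ := eab_exists_T_smul_mk hnc hnn hC hu huH _ hx2
  have htH : t⁻¹ ∈ eabH T := (eabH T).inv_mem (Subgroup.le_normalizer ht)
  have ht1 : t⁻¹ • (QuotientGroup.mk 1 : G ⧸ eabH T) = QuotientGroup.mk 1 :=
    (smul_mk_one_eq_iff t⁻¹).mpr htH
  have ht2 : t⁻¹ • a⁻¹ • x₂ = QuotientGroup.mk u := by
    rw [← htu, inv_smul_smul]
  have hx3' : t⁻¹ • a⁻¹ • x₃ ≠ QuotientGroup.mk 1 := by
    intro h
    rw [← ht1] at h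
    exact hx3 (smul_left_cancel _ h)
  have hx3'' : t⁻¹ • a⁻¹ • x₃ ≠ QuotientGroup.mk u := by
    intro h
    rw [← ht2] at h
    exact h23 (smul_left_cancel _ (smul_left_cancel _ h)).symm
  have hz0 : t₀ • (QuotientGroup.mk u : G ⧸ eabH T) ≠ QuotientGroup.mk 1 := by
    intro h
    have ht₀H : t₀ ∈ eabH T := Subgroup.le_normalizer ht₀
    have h1 : t₀ • (QuotientGroup.mk 1 : G ⧸ eabH T) = QuotientGroup.mk 1 :=
      (smul_mk_one_eq_iff t₀).mpr ht₀H
    rw [← h1] at h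
    exact eab_mk_ne huH (smul_left_cancel _ h).symm
  have hz1 : t₀ • (QuotientGroup.mk u : G ⧸ eabH T) ≠ QuotientGroup.mk u := by
    intro h
    exact eab_mk_ne huH (eab_T_fixed hnc hnn hC ht₀ ht₀1 h).symm
  obtain ⟨d, hd, hdz⟩ := eab_exists_D_smul hnc hnn hC hu huH _ _ hx3' hx3'' hz0 hz1
  obtain ⟨hd1, hd2⟩ := eab_mem_D_iff.mp hd
  refine ⟨d * (t⁻¹ * a⁻¹), ?_, ?_, ?_⟩
  · rw [mul_smul, mul_smul, ha1, ht1, hd1]
  · rw [mul_smul, mul_smul, ht2, hd2]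
  · rw [mul_smul, mul_smul, hdz]

/-- `G` is triply transitive on `G / N(T)`. -/
theorem eab_triply_transitive (hnc : ¬ IsCyclic (T : Subgroup G))
    (hnn : ¬ (T : Subgroup G).Normal) (hC : InvCentElemAb G)
    (x₁ x₂ x₃ y₁ y₂ y₃ : G ⧸ eabH T) (h12 : x₁ ≠ x₂) (h13 : x₁ ≠ x₃) (h23 : x₂ ≠ x₃)
    (k12 : y₁ ≠ y₂) (k13 : y₁ ≠ y₃) (k23 : y₂ ≠ y₃) :
    ∃ g : G, g • x₁ = y₁ ∧ g • x₂ = y₂ ∧ g • x₃ = y₃ := by
  obtain ⟨u, hu, huH⟩ := eab_exists_u hnc hnn hC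
  obtain ⟨t₀, ht₀, ht₀2, _⟩ := eab_exists_central_involution (T := T) hnc
  have ht₀1 : t₀ ≠ 1 := inv_ne_one ht₀2
  obtain ⟨g, hg1, hg2, hg3⟩ :=
    eab_exists_smul_triple hnc hnn hC hu huH ht₀ ht₀1 x₁ x₂ x₃ h12 h13 h23
  obtain ⟨k, hk1, hk2, hk3⟩ :=
    eab_exists_smul_triple hnc hnn hC hu huH ht₀ ht₀1 y₁ y₂ y₃ k12 k13 k23
  refine ⟨k⁻¹ * g, ?_, ?_, ?_⟩
  · rw [mul_smul, hg1, ← hk1, inv_smul_smul]
  · rw [mul_smul, hg2, ← hk2, inv_smul_smul]
  · rw [mul_smul, hg3, ← hk3, inv_smul_smul]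

end ElemAb4

end Cfsg.Agent.Lib.Helper21
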