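/-
helper21 shared library: splitting `X = [X, Y] C_X(Y)` for a `p`-group `Y` acting on a group `X`
with `F*(X) = X` and `O_p(X) = 1` (MSS local structure theorem, section 1).
All declarations live in `Cfsg.Agent.Lib.Helper21`.
-/
import Mathlib
import Cfsg.Prelude.Def_Local
import Cfsg.Agent.Lib.Helper21.Quasisimple
import Cfsg.Agent.Lib.Helper21.Components
import Cfsg.Agent.Lib.Helper21.LocalLayer
import Cfsg.Agent.Lib.Helper21.FStarP
import Cfsg.Agent.Lib.Helper22.Layer
import Cfsg.Agent.Lib.Helper48.Coprime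
import Cfsg.Agent.Lib.Helper29.Iso
import Cfsg.Agent.Lib.Helper97.Cores
import Cfsg.Agent.Lib.Helper1.Fitting

set_option autoImplicit false

namespace Cfsg.Agent.Lib.Helper21

open Cfsg
open scoped commutatorElement

universe u

section SplitGeneral

variable {G : Type*} [Group G]

/-- If `X = [X, Y] C_X(Y)` then `[X, Y, Y] = [X, Y]`. -/
theorem commutator_commutator_eq_of_le_sup {X Y : Subgroup G}
    (h : X ≤ ⁅X, Y⁆ ⊔ (X ⊓ Subgroup.centralizer (Y : Set G))) : ⁅⁅X, Y⁆, Y⁆ = ⁅X, Y⁆ := by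
  have hYW : Y ≤ Subgroup.normalizer ((⁅X, Y⁆ : Subgroup G) : Set G) :=
    Subgroup.normalizer_commutator_ge_right X Y
  apply le_antisymm (Subgroup.le_normalizer_iff_commutator_le_left.mp hYW)
  rw [Subgroup.commutator_le]
  intro x hx y hy
  have hx' : x ∈ ((⁅X, Y⁆ ⊔ (X ⊓ Subgroup.centralizer (Y : Set G)) : Subgroup G) : Set G) := h hx
  have hnorm : X ⊓ Subgroup.centralizer (Y : Set G) ≤
      Subgroup.normalizer ((⁅X, Y⁆ : Subgroup G) : Set G) :=
    inf_le_left.trans (Subgroup.normalizer_commutator_ge_left X Y)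
  rw [Subgroup.coe_mul_of_right_le_normalizer_left _ _ hnorm] at hx'
  obtain ⟨w, hw, c, hc, rfl⟩ := Set.mem_mul.mp hx'
  have hcy : ⁅c, y⁆ = 1 := by
    rw [commutatorElement_eq_one_iff_mul_comm]
    exact (Subgroup.mem_centralizer_iff.mp hc.2 y hy).symm
  rw [commutatorElement_mul_left_eq_conj_mul, hcy]
  simp only [mul_one, mul_inv_cancel, one_mul]
  exact Subgroup.commutator_mem_commutator hw hy

/-- A join of quasisimple subgroups which pairwise coincide or commute: every subgroup `N` of the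
join `E` normalized by `E` satisfies `E = N [C_E(N), C_E(N)]`. -/
theorem le_sup_commutator_centralizer_of_qs_family {𝒦 : Set (Subgroup G)}
    (hq : ∀ K ∈ 𝒦, IsQuasisimple K)
    (hc : ∀ K₁ ∈ 𝒦, ∀ K₂ ∈ 𝒦, K₁ = K₂ ∨ ⁅K₁, K₂⁆ = ⊥) (N : Subgroup G)
    (hNE : N ≤ sSup 𝒦) (hEN : sSup 𝒦 ≤ Subgroup.normalizer (N : Set G)) :
    sSup 𝒦 ≤ N ⊔ ⁅sSup 𝒦 ⊓ Subgroup.centralizer (N : Set G),
      sSup 𝒦 ⊓ Subgroup.centralizer (N : Set G)⁆ := by
  apply sSup_le
  intro K hK
  -- `E` normalizes `K`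
  have hEK : sSup 𝒦 ≤ Subgroup.normalizer (K : Set G) := by
    apply sSup_le
    intro K₂ hK₂
    rcases hc K₂ hK₂ K hK with h | h
    · rw [h]; exact Subgroup.le_normalizer
    · rw [Subgroup.commutator_eq_bot_iff_le_centralizer] at h
      exact h.trans (Subgroup.centralizer_le_normalizer _)
  have hKE : K ≤ sSup 𝒦 := le_sSup hK
  -- `K ⊓ N` is normalized by `K`
  have hKN : K ≤ Subgroup.normalizer ((K ⊓ N : Subgroup G) : Set G) :=
    (le_inf Subgroup.le_normalizer (hKE.trans hEN)).trans (inf_normalizer_le_normalizer_inf K N)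
  rcases qs_eq_or_commutator_eq_bot (hq K hK) inf_le_left hKN with h | h
  · exact (inf_eq_left.mp h).trans le_sup_left
  · -- `[N, K] ≤ K ⊓ N` commutes with `K`, so `[K, N] = 1`
    have h1 : ⁅N, K⁆ ≤ K ⊓ N := by
      apply le_inf
      · exact Subgroup.le_normalizer_iff_commutator_le_right.mp (hNE.trans hEK)
      · exact Subgroup.le_normalizer_iff_commutator_le_left.mp (hKE.trans hEN)
    have h2 : ⁅⁅N, K⁆, K⁆ = ⊥ := by
      rw [eq_bot_iff, ← h, Subgroup.commutator_comm K (K ⊓ N)]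
      exact Subgroup.commutator_mono h1 le_rfl
    have hperf : ⁅K, K⁆ = K := qs_commutator_eq_self (hq K hK)
    have h3 : ⁅K, N⁆ = ⊥ := commutator_eq_bot_of_perfect hperf h2
    have h4 : K ≤ sSup 𝒦 ⊓ Subgroup.centralizer (N : Set G) :=
      le_inf hKE (Subgroup.commutator_eq_bot_iff_le_centralizer.mp h3)
    calc K = ⁅K, K⁆ := hperf.symm
      _ ≤ ⁅sSup 𝒦 ⊓ Subgroup.centralizer (N : Set G),
          sSup 𝒦 ⊓ Subgroup.centralizer (N : Set G)⁆ := Subgroup.commutator_mono h4 h4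
      _ ≤ _ := le_sup_right

/-- If every normal subgroup `N` of `E` satisfies `E = N [C_E(N), C_E(N)]`, then
`E = [E, Y] C_E(Y)` for every subgroup `Y` normalizing `E`. -/
theorem le_commutator_sup_centralizer_of_star {E Y : Subgroup G}
    (hYE : Y ≤ Subgroup.normalizer (E : Set G))
    (hE : ∀ N : Subgroup G, N ≤ E → E ≤ Subgroup.normalizer (N : Set G) →
      E ≤ N ⊔ ⁅E ⊓ Subgroup.centralizer (N : Set G), E ⊓ Subgroup.centralizer (N : Set G)⁆) :
    E ≤ ⁅E, Y⁆ ⊔ (E ⊓ Subgroup.centralizer (Y : Set G)) := by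
  have hNE : ⁅E, Y⁆ ≤ E := Subgroup.le_normalizer_iff_commutator_le_left.mp hYE
  have hEN : E ≤ Subgroup.normalizer ((⁅E, Y⁆ : Subgroup G) : Set G) :=
    Subgroup.normalizer_commutator_ge_left E Y
  have hYN : Y ≤ Subgroup.normalizer ((⁅E, Y⁆ : Subgroup G) : Set G) :=
    Subgroup.normalizer_commutator_ge_right E Y
  refine (hE _ hNE hEN).trans (sup_le le_sup_left (le_trans ?_ le_sup_right))
  set C : Subgroup G := E ⊓ Subgroup.centralizer ((⁅E, Y⁆ : Subgroup G) : Set G) with hC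
  -- `Y` normalizes `C`
  have hYC : Y ≤ Subgroup.normalizer (C : Set G) := by
    refine (le_inf hYE (hYN.trans ?_)).trans (inf_normalizer_le_normalizer_inf _ _)
    exact normalizer_le_normalizer_centralizer _
  -- `[C, Y] ≤ [E, Y] ⊓ C`
  have h1 : ⁅C, Y⁆ ≤ ⁅E, Y⁆ := Subgroup.commutator_mono inf_le_left le_rfl
  have h2 : ⁅C, Y⁆ ≤ C := Subgroup.le_normalizer_iff_commutator_le_left.mp hYC
  -- `[[C, Y], C] = 1`
  have h3 : ⁅⁅C, Y⁆, C⁆ = ⊥ := by
    rw [Subgroup.commutator_eq_bot_iff_le_centralizer]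
    intro x hx
    rw [Subgroup.mem_centralizer_iff]
    intro c hc
    have hc' : c ∈ Subgroup.centralizer ((⁅E, Y⁆ : Subgroup G) : Set G) := hc.2
    exact (Subgroup.mem_centralizer_iff.mp hc' x (h1 hx)).symm
  have h4 : ⁅⁅Y, C⁆, C⁆ = ⊥ := by rw [Subgroup.commutator_comm Y C]; exact h3
  have h5 : ⁅⁅C, C⁆, Y⁆ = ⊥ := Subgroup.commutator_commutator_eq_bot_of_rotate h3 h4
  refine le_inf ((Subgroup.commutator_le_self C).trans inf_le_left) ?_
  exact Subgroup.commutator_eq_bot_iff_le_centralizer.mp h5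

end SplitGeneral

section Core

variable {G : Type u} [Group G]

/-- Conjugation by an element of the normalizer of `X`, as an automorphism of `X`. -/
def conjNormalizerEquiv (X : Subgroup G) (y : G) (hy : y ∈ Subgroup.normalizer (X : Set G)) :
    ↥X ≃* ↥X where
  toFun x := ⟨y * x * y⁻¹, (Subgroup.mem_normalizer_iff.mp hy x).mp x.2⟩
  invFun x := ⟨y⁻¹ * x * y, by
    have h := (Subgroup.mem_normalizer_iff.mp hy (y⁻¹ * x * y))
    rw [h]
    have : y * (y⁻¹ * (x : G) * y) * y⁻¹ = x := by group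
    rw [this]; exact x.2⟩
  left_inv x := by ext; simp [mul_assoc]
  right_inv x := by ext; simp [mul_assoc]
  map_mul' a b := by ext; simp [mul_assoc]

/-- The image in `G` of a characteristic subgroup of `X` is normalized by `N_G(X)`. -/
theorem normalizer_le_normalizer_map_of_characteristic {X : Subgroup G} (C : Subgroup X)
    [hC : C.Characteristic] :
    Subgroup.normalizer (X : Set G) ≤
      Subgroup.normalizer ((C.map X.subtype : Subgroup G) : Set G) := by
  rw [Subgroup.le_normalizer_iff]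
  rintro y hy _ ⟨c, hc, rfl⟩
  refine ⟨conjNormalizerEquiv X y hy c, ?_, rfl⟩
  exact (Subgroup.characteristic_iff_map_le.mp hC (conjNormalizerEquiv X y hy))
    (Subgroup.mem_map_of_mem _ hc)

/-- If `O_p(X) = 1` then `F(X)` is a `p'`-group. -/
theorem coprime_card_fittingSubgroup_of_pCore_eq_bot {X : Type*} [Group X] [Finite X] {p : ℕ}
    [hp : Fact p.Prime] (hO : pCore p X = ⊥) : (Nat.card (fittingSubgroup X)).Coprime p := by
  rw [Cfsg.Agent.Lib.Helper1.fittingSubgroup_eq_iSup_pCore, iSup]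
  apply (Cfsg.Agent.Lib.Helper1.normal_and_coprime_card_sSup p _ ?_).2
  rintro N ⟨q, rfl⟩
  refine ⟨inferInstance, ?_⟩
  by_cases hq : (q : ℕ) = p
  · simp only [hq, hO]; simp
  · have : Fact (q : ℕ).Prime := ⟨q.2⟩
    obtain ⟨k, hk⟩ := IsPGroup.iff_card.mp (isPGroup_pCore (q : ℕ) X)
    rw [hk]
    exact Nat.Coprime.pow_left k ((Nat.coprime_primes q.2 hp.out).mpr hq)

/-- **Core splitting lemma.** Let `X` be a subgroup of the finite group `G` with `F*(X) = X` and
`O_p(X) = 1`, and let `Y` be a `p`-subgroup of `G` normalizing `X`. Then `X = [X, Y] C_X(Y)` and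
`[X, Y, Y] = [X, Y]`. -/
theorem fstar_split [Finite G] {p : ℕ} [Fact p.Prime] {X Y : Subgroup G} (hY : IsPGroup p Y)
    (hYX : Y ≤ Subgroup.normalizer (X : Set G)) (hF : generalizedFittingSubgroup ↥X = ⊤)
    (hO : pCore p ↥X = ⊥) :
    ⁅X, Y⁆ ⊔ (X ⊓ Subgroup.centralizer (Y : Set G)) = X ∧ ⁅⁅X, Y⁆, Y⁆ = ⁅X, Y⁆ := by
  set R : Subgroup G := (fittingSubgroup ↥X).map X.subtype with hR
  set E : Subgroup G := (layer ↥X).map X.subtype with hE
  have hXRE : X = R ⊔ E := by
    rw [hR, hE, ← Subgroup.map_sup, sup_comm]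
    have : layer ↥X ⊔ fittingSubgroup ↥X = ⊤ := hF
    rw [this, ← MonoidHom.range_eq_map, Subgroup.range_subtype]
  have := Cfsg.Agent.Lib.Helper29.fittingSubgroup_characteristic ↥X
  have := Cfsg.Agent.Lib.Helper29.layer_characteristic ↥X
  have hYR : Y ≤ Subgroup.normalizer (R : Set G) :=
    hYX.trans (normalizer_le_normalizer_map_of_characteristic _)
  have hYE : Y ≤ Subgroup.normalizer (E : Set G) :=
    hYX.trans (normalizer_le_normalizer_map_of_characteristic _)
  have hRcard : ¬ p ∣ Nat.card R := by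
    have h1 : Nat.card R = Nat.card (fittingSubgroup ↥X) :=
      Nat.card_congr (Subgroup.equivMapOfInjective _ X.subtype X.subtype_injective).symm.toEquiv
    rw [h1]
    have h2 := coprime_card_fittingSubgroup_of_pCore_eq_bot hO
    intro hdvd
    have := Nat.Coprime.eq_one_of_dvd h2.symm hdvd
    exact (Fact.out : p.Prime).one_lt.ne' this
  -- the Fitting part: coprime action
  have h1 : R ≤ ⁅R, Y⁆ ⊔ (R ⊓ Subgroup.centralizer (Y : Set G)) := by
    intro x hx
    obtain ⟨c, hc, w, hw, rfl⟩ :=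
      Cfsg.Agent.Lib.Helper48.exists_centralizer_mul_commutator hY hRcard hYR hx
    exact Subgroup.mul_mem _ (Subgroup.mem_sup_right hc) (Subgroup.mem_sup_left hw)
  -- the layer part
  have h2 : E ≤ ⁅E, Y⁆ ⊔ (E ⊓ Subgroup.centralizer (Y : Set G)) := by
    apply le_commutator_sup_centralizer_of_star hYE
    intro N hNE hEN
    set 𝒦 : Set (Subgroup G) :=
      {K' | ∃ K : Subgroup ↥X, IsComponent K ∧ K.map X.subtype = K'} with h𝒦
    have hEs : E = sSup 𝒦 := by
      apply le_antisymm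
      · rw [hE, Subgroup.map_le_iff_le_comap]
        apply sSup_le
        intro K hK
        rw [← Subgroup.map_le_iff_le_comap]
        exact le_sSup ⟨K, hK, rfl⟩
      · apply sSup_le
        rintro _ ⟨K, hK, rfl⟩
        exact Subgroup.map_mono (le_sSup hK)
    have hq : ∀ K ∈ 𝒦, IsQuasisimple K := by
      rintro _ ⟨K, hK, rfl⟩
      exact Cfsg.Agent.Lib.Helper29.isQuasisimple_of_mulEquiv
        (Subgroup.equivMapOfInjective K X.subtype X.subtype_injective) hK.2
    have hc : ∀ K₁ ∈ 𝒦, ∀ K₂ ∈ 𝒦, K₁ = K₂ ∨ ⁅K₁, K₂⁆ = ⊥ := by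
      rintro _ ⟨K₁, hK₁, rfl⟩ _ ⟨K₂, hK₂, rfl⟩
      by_cases h : K₁ = K₂
      · left; rw [h]
      · right
        rw [← Subgroup.map_commutator, component_commutator_eq_bot_of_ne hK₁ hK₂ h,
          Subgroup.map_bot]
    rw [hEs] at hNE hEN ⊢
    exact le_sup_commutator_centralizer_of_qs_family hq hc N hNE hEN
  have h3 : X ≤ ⁅X, Y⁆ ⊔ (X ⊓ Subgroup.centralizer (Y : Set G)) := by
    have hRX : R ≤ X := by rw [hXRE]; exact le_sup_left
    have hEX : E ≤ X := by rw [hXRE]; exact le_sup_right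
    have hmono : ∀ {A : Subgroup G}, A ≤ X →
        ⁅A, Y⁆ ⊔ (A ⊓ Subgroup.centralizer (Y : Set G)) ≤
          ⁅X, Y⁆ ⊔ (X ⊓ Subgroup.centralizer (Y : Set G)) := fun hA =>
      sup_le_sup (Subgroup.commutator_mono hA le_rfl) (inf_le_inf_right _ hA)
    calc X = R ⊔ E := hXRE
      _ ≤ _ := sup_le (h1.trans (hmono hRX)) (h2.trans (hmono hEX))
  refine ⟨le_antisymm ?_ h3, commutator_commutator_eq_of_le_sup h3⟩
  exact sup_le (Subgroup.le_normalizer_iff_commutator_le_left.mp hYX) inf_le_left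

end Core

section Applications

/-- `O_p` of a subnormal subgroup of a group with trivial `O_p` is trivial. -/
theorem pCore_eq_bot_of_isSubnormal {H : Type*} [Group H] (p : ℕ) (hO : pCore p H = ⊥)
    {S : Subgroup H} (hS : S.IsSubnormal) : pCore p ↥S = ⊥ := by
  induction hS with
  | top =>
    rw [← Cfsg.Agent.Lib.Helper97.pCore_map_equiv (Subgroup.topEquiv (G := H)).symm p, hO,
      Subgroup.map_bot]
  | step A K hAK hK hN ih =>
    have := hN
    have h1 : pCore p ↥(A.subgroupOf K) = ⊥ := by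
      have h := Cfsg.Agent.Lib.Helper97.map_pCore_le_of_normal p (A.subgroupOf K)
      rw [ih, le_bot_iff] at h
      exact (Subgroup.map_eq_bot_iff_of_injective _ (Subgroup.subtype_injective _)).mp h
    rw [← Cfsg.Agent.Lib.Helper97.pCore_map_equiv (Subgroup.subgroupOfEquivOfLe hAK) p, h1,
      Subgroup.map_bot]

/-- The splitting lemma for a subnormal subgroup `X ≤ F*(H)` of a finite group `H` with
`O_p(H) = 1`. -/
theorem fstar_split_of_isSubnormal {H : Type u} [Group H] [Finite H] {p : ℕ} [Fact p.Prime]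
    (hO : pCore p H = ⊥) {X Y : Subgroup H} (hX : X.IsSubnormal)
    (hXF : X ≤ generalizedFittingSubgroup H) (hY : IsPGroup p Y)
    (hYX : Y ≤ Subgroup.normalizer (X : Set H)) :
    ⁅X, Y⁆ ⊔ (X ⊓ Subgroup.centralizer (Y : Set H)) = X ∧ ⁅⁅X, Y⁆, Y⁆ = ⁅X, Y⁆ :=
  fstar_split hY hYX
    (Cfsg.Agent.Lib.Helper22.generalizedFittingSubgroup_eq_top_of_isSubnormal_of_le hX hXF)
    (pCore_eq_bot_of_isSubnormal p hO hX)

/-- The splitting lemma in the form of MSS: `H ≤ G` with `O_p(H) = 1`, `L ≤ F*(H)` subnormal in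
`H`, `Y` a `p`-subgroup of `G` normalizing `L`. -/
theorem fstar_split_of_subgroupOf_isSubnormal {G : Type u} [Group G] [Finite G] {p : ℕ}
    [Fact p.Prime] (H : Subgroup G) (hO : pCore p ↥H = ⊥) (Y : Subgroup G) (hY : IsPGroup p ↥Y)
    (L : Subgroup G) (hLF : L ≤ (generalizedFittingSubgroup ↥H).map H.subtype)
    (hLsn : (L.subgroupOf H).IsSubnormal) (hYL : Y ≤ Subgroup.normalizer (L : Set G)) :
    ⁅L, Y⁆ ⊔ (L ⊓ Subgroup.centralizer (Y : Set G)) = L ∧ ⁅⁅L, Y⁆, Y⁆ = ⁅L, Y⁆ := by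
  have hLH : L ≤ H := hLF.trans (Subgroup.map_subtype_le _)
  have hL'F : L.subgroupOf H ≤ generalizedFittingSubgroup ↥H := by
    intro x hx
    obtain ⟨y, hy, hyx⟩ := hLF (Subgroup.mem_subgroupOf.mp hx)
    have : y = x := Subtype.ext hyx
    exact this ▸ hy
  have h1 := Cfsg.Agent.Lib.Helper22.generalizedFittingSubgroup_eq_top_of_isSubnormal_of_le
    hLsn hL'F
  have h2 := pCore_eq_bot_of_isSubnormal p hO hLsn
  have e : ↥(L.subgroupOf H) ≃* ↥L := Subgroup.subgroupOfEquivOfLe hLH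
  have hF : generalizedFittingSubgroup ↥L = ⊤ := by
    rw [← Cfsg.Agent.Lib.Helper29.generalizedFittingSubgroup_map_mulEquiv e, h1]
    exact Subgroup.map_top_of_surjective _ e.surjective
  have hO' : pCore p ↥L = ⊥ := by
    rw [← Cfsg.Agent.Lib.Helper97.pCore_map_equiv e p, h2, Subgroup.map_bot]
  exact fstar_split hY hYL hF hO'

end Applications

section Further

variable {H : Type u} [Group H]

/-- If `K` is subnormal, `Y ≤ K` and `W = [W, Y]`, then `W ≤ K`. -/
theorem le_of_commutator_eq_of_isSubnormal {K W Y : Subgroup H} (hK : K.IsSubnormal)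
    (hYK : Y ≤ K) (hW : ⁅W, Y⁆ = W) : W ≤ K := by
  induction hK with
  | top => exact le_top
  | step A B hAB hB hN ih =>
    have hWB : W ≤ B := ih (hYK.trans hAB)
    have hBA : B ≤ Subgroup.normalizer (A : Set H) :=
      (Subgroup.normal_subgroupOf_iff_le_normalizer hAB).mp hN
    have h1 : ⁅A, B⁆ ≤ A := Subgroup.le_normalizer_iff_commutator_le_left.mp hBA
    calc W = ⁅W, Y⁆ := hW.symm
      _ ≤ ⁅B, A⁆ := Subgroup.commutator_mono hWB hYK
      _ = ⁅A, B⁆ := Subgroup.commutator_comm B A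
      _ ≤ A := h1

/-- For a normal subgroup `N`, `Z(N) = N ∩ C(N)` lies in the Fitting subgroup. -/
theorem inf_centralizer_le_fittingSubgroup {N : Subgroup H} (hN : N.Normal) :
    N ⊓ Subgroup.centralizer (N : Set H) ≤ fittingSubgroup H := by
  have hCn : (Subgroup.centralizer (N : Set H)).Normal := Subgroup.normal_centralizer
  have hn : (N ⊓ Subgroup.centralizer (N : Set H)).Normal := Subgroup.normal_inf_normal _ _
  apply le_fittingSubgroup_of_normal_nilpotent hn
  apply isNilpotent_of_commutator_commutator_eq_bot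
  have h1 : ⁅N ⊓ Subgroup.centralizer (N : Set H), N ⊓ Subgroup.centralizer (N : Set H)⁆ = ⊥ := by
    rw [Subgroup.commutator_eq_bot_iff_le_centralizer]
    exact inf_le_right.trans (Subgroup.centralizer_le (by exact_mod_cast inf_le_left))
  rw [h1, Subgroup.commutator_bot_left]

/-- A `p`-subgroup of a subgroup of order prime to `p` is trivial. -/
theorem eq_bot_of_isPGroup_of_le_of_coprime [Finite H] {p : ℕ} [Fact p.Prime] {Q F : Subgroup H}
    (hQ : IsPGroup p Q) (hQF : Q ≤ F) (hF : (Nat.card F).Coprime p) : Q = ⊥ := by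
  obtain ⟨n, hn⟩ := IsPGroup.iff_card.mp hQ
  have h1 : (Nat.card Q).Coprime p := Nat.Coprime.coprime_dvd_left (Subgroup.card_dvd_of_le hQF) hF
  apply Subgroup.eq_bot_of_card_eq
  rw [hn] at h1 ⊢
  rcases Nat.eq_zero_or_pos n with h0 | h0
  · rw [h0, pow_zero]
  · exfalso
    have h2 : p ∣ p ^ n := dvd_pow_self p h0.ne'
    have := Nat.Coprime.eq_one_of_dvd h1.symm h2
    exact (Fact.out : p.Prime).one_lt.ne' this

/-- In a finite group with `O_p = 1`, a `p`-subgroup centralizing `F*` is trivial. -/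
theorem eq_bot_of_isPGroup_of_commutator_gfs_eq_bot [Finite H] {p : ℕ} [Fact p.Prime]
    (hO : pCore p H = ⊥) {Q : Subgroup H} (hQ : IsPGroup p Q)
    (h : ⁅generalizedFittingSubgroup H, Q⁆ = ⊥) : Q = ⊥ := by
  have hn := Cfsg.Agent.Lib.Helper29.generalizedFittingSubgroup_normal H
  have h1 : Q ≤ Subgroup.centralizer (generalizedFittingSubgroup H : Set H) :=
    commutator_eq_bot_iff_le_centralizer'.mp h
  have h2 : Q ≤ generalizedFittingSubgroup H ⊓
      Subgroup.centralizer (generalizedFittingSubgroup H : Set H) :=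
    le_inf (h1.trans centralizer_generalizedFittingSubgroup_le) h1
  exact eq_bot_of_isPGroup_of_le_of_coprime hQ (h2.trans (inf_centralizer_le_fittingSubgroup hn))
    (coprime_card_fittingSubgroup_of_pCore_eq_bot hO)

/-- `F*(K)`, viewed in `H`, is subnormal in `H` for subnormal `K`. -/
theorem gfs_map_subtype_isSubnormal {K : Subgroup H} (hK : K.IsSubnormal) :
    ((generalizedFittingSubgroup ↥K).map K.subtype).IsSubnormal :=
  (Cfsg.Agent.Lib.Helper29.generalizedFittingSubgroup_normal ↥K).isSubnormal.trans' hK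

/-- `F*(K) ≤ F*(H)` for subnormal `K`. -/
theorem gfs_map_subtype_le_of_isSubnormal [Finite H] {K : Subgroup H} (hK : K.IsSubnormal) :
    (generalizedFittingSubgroup ↥K).map K.subtype ≤ generalizedFittingSubgroup H := by
  unfold generalizedFittingSubgroup
  rw [Subgroup.map_sup]
  exact sup_le_sup (Cfsg.Agent.Lib.Helper22.layer_map_subtype_le_of_isSubnormal hK)
    (Cfsg.Agent.Lib.Helper22.fittingSubgroup_map_subtype_le_of_isSubnormal hK)

/-- `K ∩ F*(H) ≤ F*(K)` for subnormal `K`. -/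
theorem inf_gfs_le_gfs_map_subtype [Finite H] {K : Subgroup H} (hK : K.IsSubnormal) :
    K ⊓ generalizedFittingSubgroup H ≤ (generalizedFittingSubgroup ↥K).map K.subtype := by
  set S : Subgroup H := K ⊓ generalizedFittingSubgroup H with hS
  have hSsn : S.IsSubnormal :=
    hK.inf (Cfsg.Agent.Lib.Helper29.generalizedFittingSubgroup_normal H).isSubnormal
  have hSF : S ≤ generalizedFittingSubgroup H := inf_le_right
  have hSK : S ≤ K := inf_le_left
  have h1 := Cfsg.Agent.Lib.Helper22.fittingSubgroup_sup_layer_eq_top_of_isSubnormal_of_le hSsn hSF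
  have h2 : S = (fittingSubgroup ↥S).map S.subtype ⊔ (layer ↥S).map S.subtype := by
    rw [← Subgroup.map_sup, h1, ← MonoidHom.range_eq_map, Subgroup.range_subtype]
  have hsub : (S.subgroupOf K).IsSubnormal := hSsn.subgroupOf
  rw [h2]
  unfold generalizedFittingSubgroup
  rw [Subgroup.map_sup, sup_comm]
  exact sup_le_sup (Cfsg.Agent.Lib.Helper22.layer_map_subtype_mono_of_isSubnormal hSK hsub)
    (Cfsg.Agent.Lib.Helper22.fittingSubgroup_map_subtype_mono_of_isSubnormal hSK hsub)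

end Further

end Cfsg.Agent.Lib.Helper21
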