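/-
helper21 shared library: transfer argument `Z(LQ) ∩ [L, Q] ≤ L'` for a `p`-group `Q` acting on `L`
with `L / L'` a `p'`-group, and `Z(L) ∩ L' ≤ Φ(L)`.
All declarations live in `Cfsg.Agent.Lib.Helper21`.
-/
import Mathlib
import Cfsg.Prelude.Def_Local
import Cfsg.Agent.Lib.Helper21.FStarSplit

set_option autoImplicit false

namespace Cfsg.Agent.Lib.Helper21

open Cfsg
open scoped commutatorElement

universe u

section Transfer

variable {G : Type u} [Group G]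

/-- Transfer argument. Let `Q` be a `p`-group normalizing `L`, and suppose every element of the
abelianization of `L` has order dividing `m`, with `m` prime to `p`. Then a central element of
`L Q` which lies in `L ∩ [L Q, L Q]` lies in `[L, L]`. -/
theorem mem_commutator_of_central_of_mem_commutator_sup [Finite G] {p : ℕ} [Fact p.Prime]
    {L Q : Subgroup G} (hQ : IsPGroup p Q) (hQL : Q ≤ Subgroup.normalizer (L : Set G)) {m : ℕ}
    (hmp : m.Coprime p) (hm : ∀ x : ↥L, (Abelianization.of x) ^ m = 1) {a : G} (haL : a ∈ L)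
    (hac : a ∈ Subgroup.centralizer ((L ⊔ Q : Subgroup G) : Set G))
    (ha : a ∈ ⁅L ⊔ Q, L ⊔ Q⁆) : a ∈ ⁅L, L⁆ := by
  set K : Subgroup G := L ⊔ Q with hK
  have hLK : L ≤ K := le_sup_left
  have hQK : Q ≤ K := le_sup_right
  set H₁ : Subgroup ↥K := L.subgroupOf K with hH₁
  have hn : H₁.Normal :=
    (Subgroup.normal_subgroupOf_iff_le_normalizer hLK).mpr (sup_le Subgroup.le_normalizer hQL)
  let e : ↥H₁ ≃* ↥L := Subgroup.subgroupOfEquivOfLe hLK
  let φ : ↥H₁ →* Abelianization ↥L := (Abelianization.of).comp e.toMonoidHom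
  let a₁ : ↥K := ⟨a, hLK haL⟩
  -- `a₁` is central in `K`
  have hcent : ∀ g : ↥K, g * a₁ = a₁ * g := by
    intro g
    apply Subtype.ext
    exact Subgroup.mem_centralizer_iff.mp hac g g.2
  have key : ∀ (k : ℕ) (g₀ : ↥K), g₀⁻¹ * a₁ ^ k * g₀ ∈ H₁ → g₀⁻¹ * a₁ ^ k * g₀ = a₁ ^ k := by
    intro k g₀ _
    have h1 : g₀ * a₁ ^ k = a₁ ^ k * g₀ := by
      have : Commute g₀ a₁ := hcent g₀
      exact (this.pow_right k).eq
    calc g₀⁻¹ * a₁ ^ k * g₀ = g₀⁻¹ * (a₁ ^ k * g₀) := by group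
      _ = g₀⁻¹ * (g₀ * a₁ ^ k) := by rw [h1]
      _ = a₁ ^ k := by group
  have hT := MonoidHom.transfer_eq_pow φ a₁ key
  -- the transfer kills the commutator subgroup
  have hker : MonoidHom.transfer φ a₁ = 1 := by
    have h1 : a₁ ∈ _root_.commutator ↥K := by
      have h2 : (a₁ : G) ∈ (_root_.commutator ↥K).map K.subtype := by
        rw [Subgroup.map_subtype_commutator]; exact ha
      obtain ⟨b, hb, hba⟩ := h2
      have : b = a₁ := Subtype.ext hba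
      exact this ▸ hb
    exact MonoidHom.mem_ker.mp (Abelianization.commutator_subset_ker _ h1)
  rw [hker] at hT
  -- so `(of a)^n = 1` with `n = |K : L|`
  set n : ℕ := H₁.index with hn'
  have h3 : (Abelianization.of (⟨a, haL⟩ : ↥L)) ^ n = 1 := by
    rw [← map_pow]
    rw [hT]
    show _ = Abelianization.of (e ⟨a₁ ^ H₁.index, _⟩)
    congr 1
  -- `n` is a power of `p`
  have hnQ : n ∣ Nat.card Q := by
    set Q₁ : Subgroup ↥K := Q.subgroupOf K with hQ₁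
    have hsup : H₁ ⊔ Q₁ = ⊤ := by
      rw [hH₁, hQ₁, ← Subgroup.subgroupOf_sup hLK hQK, Subgroup.subgroupOf_self]
    have h4 := Cfsg.Agent.Lib.Helper1.card_sup_dvd_mul_of_normal_left H₁ Q₁
    rw [hsup, Subgroup.card_top, ← Subgroup.index_mul_card H₁] at h4
    have h5 : Nat.card Q₁ = Nat.card Q :=
      Nat.card_congr (Subgroup.subgroupOfEquivOfLe hQK).toEquiv
    rw [h5, mul_comm] at h4
    exact Nat.dvd_of_mul_dvd_mul_left Nat.card_pos h4
  obtain ⟨k, hk⟩ := IsPGroup.iff_card.mp hQ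
  rw [hk] at hnQ
  obtain ⟨j, -, hj⟩ := (Nat.dvd_prime_pow (Fact.out : p.Prime)).mp hnQ
  have hcop : Nat.Coprime n m := by
    rw [hj]
    exact Nat.Coprime.pow_left j hmp.symm
  -- conclude
  have h6 : Abelianization.of (⟨a, haL⟩ : ↥L) = 1 := by
    have h7 := orderOf_dvd_of_pow_eq_one h3
    have h8 := orderOf_dvd_of_pow_eq_one (hm ⟨a, haL⟩)
    have h9 : orderOf (Abelianization.of (⟨a, haL⟩ : ↥L)) ∣ 1 := by
      have := Nat.dvd_gcd h7 h8
      rwa [hcop.gcd_eq_one] at this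
    exact orderOf_eq_one_iff.mp (Nat.dvd_one.mp h9)
  have h10 : (⟨a, haL⟩ : ↥L) ∈ _root_.commutator ↥L := by
    rw [← Abelianization.ker_of]
    exact MonoidHom.mem_ker.mpr h6
  rw [← Subgroup.map_subtype_commutator]
  exact ⟨⟨a, haL⟩, h10, rfl⟩

end Transfer

section FrattiniCenter

/-- `Z(L) ∩ L' ≤ Φ(L)`. -/
theorem center_inf_commutator_le_frattini (L : Type*) [Group L] :
    Subgroup.center L ⊓ _root_.commutator L ≤ frattini L := by
  simp_rw [frattini, Order.radical, le_iInf_iff]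
  intro M hM z hz
  by_contra hzM
  have hzc : z ∈ Subgroup.center L := hz.1
  -- `M ⊔ ⟨z⟩ = ⊤`
  have hlt : M < M ⊔ Subgroup.zpowers z := by
    refine lt_of_le_of_ne le_sup_left ?_
    intro h
    apply hzM
    rw [h]
    exact Subgroup.mem_sup_right (Subgroup.mem_zpowers z)
  have htop : M ⊔ Subgroup.zpowers z = ⊤ := hM.2 _ hlt
  have hzn : Subgroup.zpowers z ≤ Subgroup.normalizer (M : Set L) := by
    rw [Subgroup.zpowers_le]
    rw [Subgroup.mem_normalizer_iff]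
    intro h
    have : z * h * z⁻¹ = h := by
      rw [Subgroup.mem_center_iff] at hzc
      rw [← hzc h]; group
    rw [this]
  -- every element is `m * z^k`
  have hdecomp : ∀ g : L, ∃ m ∈ M, ∃ c ∈ Subgroup.center L, g = m * c := by
    intro g
    have hg : g ∈ ((M ⊔ Subgroup.zpowers z : Subgroup L) : Set L) := by
      rw [htop]; exact Subgroup.mem_top g
    rw [Subgroup.coe_mul_of_right_le_normalizer_left _ _ hzn] at hg
    obtain ⟨m, hm, c, hc, rfl⟩ := Set.mem_mul.mp hg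
    refine ⟨m, hm, c, ?_, rfl⟩
    exact (Subgroup.zpowers_le.mpr hzc) hc
  -- all commutators lie in `M`
  have hcomm : _root_.commutator L ≤ M := by
    rw [_root_.commutator_def, Subgroup.commutator_le]
    intro g₁ _ g₂ _
    obtain ⟨m₁, hm₁, c₁, hc₁, rfl⟩ := hdecomp g₁
    obtain ⟨m₂, hm₂, c₂, hc₂, rfl⟩ := hdecomp g₂
    have h1 : ⁅m₁ * c₁, m₂ * c₂⁆ = ⁅m₁, m₂⁆ := by
      rw [Subgroup.mem_center_iff] at hc₁ hc₂
      rw [commutatorElement_def, commutatorElement_def]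
      have e1 : (m₁ * c₁)⁻¹ = m₁⁻¹ * c₁⁻¹ := by
        rw [mul_inv_rev]
        have := hc₁ m₁⁻¹
        calc c₁⁻¹ * m₁⁻¹ = c₁⁻¹ * (m₁⁻¹ * c₁) * c₁⁻¹ := by group
          _ = c₁⁻¹ * (c₁ * m₁⁻¹) * c₁⁻¹ := by rw [this]
          _ = m₁⁻¹ * c₁⁻¹ := by group
      have e2 : (m₂ * c₂)⁻¹ = m₂⁻¹ * c₂⁻¹ := by
        rw [mul_inv_rev]
        have := hc₂ m₂⁻¹
        calc c₂⁻¹ * m₂⁻¹ = c₂⁻¹ * (m₂⁻¹ * c₂) * c₂⁻¹ := by group
          _ = c₂⁻¹ * (c₂ * m₂⁻¹) * c₂⁻¹ := by rw [this]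
          _ = m₂⁻¹ * c₂⁻¹ := by group
      rw [e1, e2]
      calc m₁ * c₁ * (m₂ * c₂) * (m₁⁻¹ * c₁⁻¹) * (m₂⁻¹ * c₂⁻¹)
          = m₁ * (c₁ * m₂) * (c₂ * m₁⁻¹) * (c₁⁻¹ * m₂⁻¹) * c₂⁻¹ := by group
        _ = m₁ * (m₂ * c₁) * (m₁⁻¹ * c₂) * (m₂⁻¹ * c₁⁻¹) * c₂⁻¹ := by
            rw [← hc₁ m₂, ← hc₂ m₁⁻¹]
            congr 2
            have := hc₁ m₂⁻¹
            calc c₁⁻¹ * m₂⁻¹ = c₁⁻¹ * (m₂⁻¹ * c₁) * c₁⁻¹ := by group
              _ = c₁⁻¹ * (c₁ * m₂⁻¹) * c₁⁻¹ := by rw [this]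
              _ = m₂⁻¹ * c₁⁻¹ := by group
        _ = m₁ * m₂ * (c₁ * m₁⁻¹) * (c₂ * m₂⁻¹) * c₁⁻¹ * c₂⁻¹ := by group
        _ = m₁ * m₂ * (m₁⁻¹ * c₁) * (m₂⁻¹ * c₂) * c₁⁻¹ * c₂⁻¹ := by
            rw [← hc₁ m₁⁻¹, ← hc₂ m₂⁻¹]
        _ = m₁ * m₂ * m₁⁻¹ * (c₁ * m₂⁻¹) * c₂ * c₁⁻¹ * c₂⁻¹ := by group
        _ = m₁ * m₂ * m₁⁻¹ * (m₂⁻¹ * c₁) * c₂ * c₁⁻¹ * c₂⁻¹ := by rw [← hc₁ m₂⁻¹]
        _ = m₁ * m₂ * m₁⁻¹ * m₂⁻¹ * (c₁ * c₂) * c₁⁻¹ * c₂⁻¹ := by group
        _ = m₁ * m₂ * m₁⁻¹ * m₂⁻¹ * (c₂ * c₁) * c₁⁻¹ * c₂⁻¹ := by rw [← hc₂ c₁]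
        _ = m₁ * m₂ * m₁⁻¹ * m₂⁻¹ := by group
    rw [h1]
    exact M.mul_mem (M.mul_mem (M.mul_mem hm₁ hm₂) (M.inv_mem hm₁)) (M.inv_mem hm₂)
  exact hzM (hcomm hz.2)

end FrattiniCenter

section AbelianizationExponent

/-- If `L = F(L) E(L)` then the abelianization of `L` has exponent dividing `|F(L)|`. -/
theorem abelianization_of_pow_card_fittingSubgroup {L : Type u} [Group L] [Finite L]
    (h : fittingSubgroup L ⊔ layer L = ⊤) (x : L) :
    (Abelianization.of x) ^ Nat.card (fittingSubgroup L) = 1 := by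
  have := Cfsg.Agent.Lib.Helper29.fittingSubgroup_normal L
  have hx : x ∈ layer L ⊔ fittingSubgroup L := by
    rw [sup_comm, h]; exact Subgroup.mem_top x
  obtain ⟨e, he, f, hf, rfl⟩ := exists_mul_of_mem_sup_normal hx
  have he1 : Abelianization.of e = 1 := by
    have h1 : e ∈ _root_.commutator L := by
      rw [_root_.commutator_def]
      have h2 : ⁅layer L, layer L⁆ ≤ ⁅(⊤ : Subgroup L), ⊤⁆ :=
        Subgroup.commutator_mono le_top le_top
      apply h2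
      rw [Cfsg.Agent.Lib.Helper22.layer_commutator_self]
      exact he
    rw [← Abelianization.ker_of] at h1
    exact MonoidHom.mem_ker.mp h1
  have hf1 : f ^ Nat.card (fittingSubgroup L) = 1 := by
    have := pow_card_eq_one' (G := ↥(fittingSubgroup L)) (x := ⟨f, hf⟩)
    exact congrArg Subtype.val this
  rw [map_mul, he1, one_mul, ← map_pow, hf1, map_one]

end AbelianizationExponent

end Cfsg.Agent.Lib.Helper21
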