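/-
helper21 shared library: a four-group not inside a cyclic subgroup of index 2 is self-centralizing
when the outside elements centralize only elements of order ≤ 2 of the cyclic subgroup (dihedral
and quasi-dihedral groups); S1236.
All declarations live in `Cfsg.Agent.Lib.Helper21`.
-/
import Mathlib
import Cfsg.Prelude.Def_CaseTheorems
import Cfsg.Prelude.Def_Transfer

set_option autoImplicit false

namespace Cfsg.Agent.Lib.Helper21

open Cfsg

section FourGroup

variable {Q : Type*} [Group Q] [Finite Q]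

omit [Finite Q] in
/-- A subgroup of a cyclic subgroup all of whose elements square to one has at most 2 elements. -/
theorem card_le_two_of_le_zpowers {x : Q} {K : Subgroup Q} (hK : K ≤ Subgroup.zpowers x)
    (hsq : ∀ c ∈ K, c * c = 1) : Nat.card K ≤ 2 := by
  have hcyc : IsCyclic (Subgroup.zpowers x) := inferInstance
  have hKc : IsCyclic (K.subgroupOf (Subgroup.zpowers x)) := Subgroup.isCyclic _
  have hKc' : IsCyclic K := by
    exact (Subgroup.subgroupOfEquivOfLe hK).isCyclic.mp hKc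
  obtain ⟨g, hg⟩ := hKc'.exists_generator
  have h1 : Nat.card K = orderOf g := by
    rw [← Nat.card_zpowers]
    have : Subgroup.zpowers g = ⊤ := by
      rw [eq_top_iff]
      intro y _
      exact hg y
    rw [this, Subgroup.card_top]
  rw [h1]
  have h2 : g ^ 2 = 1 := by
    apply Subtype.ext
    rw [pow_two]
    exact hsq g.1 g.2
  exact Nat.le_of_dvd (by norm_num) (orderOf_dvd_of_pow_eq_one h2)

/-- Abstract criterion: four-groups are self-centralizing. -/
theorem centralizer_eq_of_card_four (x : Q) (hidx : (Subgroup.zpowers x).index = 2)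
    (hsq : ∀ s : Q, s ∉ Subgroup.zpowers x → ∀ c ∈ Subgroup.zpowers x, s * c = c * s → c * c = 1)
    (V : Subgroup Q) (hV4 : Nat.card V = 4) (hVab : ∀ a ∈ V, ∀ b ∈ V, a * b = b * a)
    (hV2 : ∀ a ∈ V, a * a = 1) : Subgroup.centralizer (V : Set Q) = V := by
  -- an element of `V` outside `⟨x⟩`
  obtain ⟨s, hsV, hsx⟩ : ∃ s ∈ V, s ∉ Subgroup.zpowers x := by
    by_contra hcon
    push Not at hcon
    have := card_le_two_of_le_zpowers (K := V) hcon hV2
    omega
  set Cs := Subgroup.centralizer ({s} : Set Q) with hCs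
  have hn : (Subgroup.zpowers x).Normal := Subgroup.normal_of_index_eq_two hidx
  -- `|C(s) ∩ ⟨x⟩| ≤ 2`
  have hK : Nat.card (Subgroup.zpowers x ⊓ Cs : Subgroup Q) ≤ 2 := by
    apply card_le_two_of_le_zpowers inf_le_left
    intro c hc
    apply hsq s hsx c hc.1
    have := Subgroup.mem_centralizer_iff.mp hc.2 s rfl
    exact this
  -- `|C(s)| ≤ 4`
  have hCs4 : Nat.card Cs ≤ 4 := by
    have h1 : (Subgroup.zpowers x).relIndex Cs ∣ 2 := by
      rw [← hidx]; exact Subgroup.relIndex_dvd_index_of_normal _ _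
    have h2 : (Subgroup.zpowers x).relIndex Cs ≤ 2 := Nat.le_of_dvd (by norm_num) h1
    have h3 := Subgroup.card_mul_index ((Subgroup.zpowers x).subgroupOf Cs)
    have h4 : Nat.card ((Subgroup.zpowers x).subgroupOf Cs) =
        Nat.card (Subgroup.zpowers x ⊓ Cs : Subgroup Q) := by
      rw [← Subgroup.inf_subgroupOf_right]
      exact Nat.card_congr (Subgroup.subgroupOfEquivOfLe inf_le_right).toEquiv
    rw [h4] at h3
    have h5 : ((Subgroup.zpowers x).subgroupOf Cs).index ≤ 2 := h2
    calc Nat.card Cs = Nat.card (Subgroup.zpowers x ⊓ Cs : Subgroup Q) *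
          ((Subgroup.zpowers x).subgroupOf Cs).index := h3.symm
      _ ≤ 2 * 2 := Nat.mul_le_mul hK h5
  have hVC : V ≤ Subgroup.centralizer (V : Set Q) := by
    intro a ha
    rw [Subgroup.mem_centralizer_iff]
    intro b hb
    exact hVab b hb a ha
  have hCC : Subgroup.centralizer (V : Set Q) ≤ Cs :=
    Subgroup.centralizer_le (Set.singleton_subset_iff.mpr hsV)
  have hVCs : V = Cs :=
    Subgroup.eq_of_le_of_card_ge (hVC.trans hCC) (by rw [hV4]; exact hCs4)
  apply le_antisymm _ hVC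
  rw [hVCs] at hCC ⊢
  exact hCC

omit [Finite Q] in
/-- The dihedral case of the criterion. -/
theorem dihedral_hyps {m : ℕ} (hm : 2 ≤ m) (φ : Q ≃* DihedralGroup m) :
    (Subgroup.zpowers (φ.symm (DihedralGroup.r 1))).index = 2 ∧
    ∀ s : Q, s ∉ Subgroup.zpowers (φ.symm (DihedralGroup.r 1)) →
      ∀ c ∈ Subgroup.zpowers (φ.symm (DihedralGroup.r 1)), s * c = c * s → c * c = 1 := by
  have hm0 : NeZero m := ⟨by omega⟩
  set x := φ.symm (DihedralGroup.r 1) with hx
  have hmem : ∀ q : Q, q ∈ Subgroup.zpowers x ↔ ∃ i : ZMod m, φ q = DihedralGroup.r i := by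
    intro q
    constructor
    · rintro ⟨k, rfl⟩
      refine ⟨k, ?_⟩
      rw [map_zpow, hx, MulEquiv.apply_symm_apply, DihedralGroup.r_one_zpow]
    · rintro ⟨i, hi⟩
      refine ⟨(i.val : ℤ), ?_⟩
      apply φ.injective
      rw [map_zpow, hx, MulEquiv.apply_symm_apply, DihedralGroup.r_one_zpow, hi]
      simp
  constructor
  · have h1 := Subgroup.card_mul_index (Subgroup.zpowers x)
    have h2 : Nat.card (Subgroup.zpowers x) = m := by
      rw [Nat.card_zpowers, hx, MulEquiv.orderOf_eq φ.symm, DihedralGroup.orderOf_r_one]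
    have h3 : Nat.card Q = 2 * m := by
      rw [Nat.card_congr φ.toEquiv, DihedralGroup.nat_card]
    rw [h2, h3] at h1
    have hmpos : 0 < m := by omega
    have : m * (Subgroup.zpowers x).index = m * 2 := by rw [h1]; ring
    exact Nat.eq_of_mul_eq_mul_left hmpos this
  · intro s hs c hc hcomm
    obtain ⟨k, hk⟩ := (hmem c).mp hc
    have hs' : ∃ j : ZMod m, φ s = DihedralGroup.sr j := by
      rcases h : φ s with i | j
      · exact absurd ((hmem s).mpr ⟨i, h⟩) hs
      · exact ⟨j, rfl⟩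
    obtain ⟨j, hj⟩ := hs'
    have h1 : φ (s * c) = φ (c * s) := by rw [hcomm]
    rw [map_mul, map_mul, hj, hk, DihedralGroup.sr_mul_r, DihedralGroup.r_mul_sr] at h1
    have h2 : j + k = j - k := by
      injection h1
    have h3 : k + k = 0 := by
      have : k = -k := by
        have := congrArg (fun z => z - j) h2
        simpa using this
      calc k + k = k + -k := by rw [← this]
        _ = 0 := by ring
    apply φ.injective
    rw [map_mul, hk, DihedralGroup.r_mul_r, h3, map_one]
    rfl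

/-- The quasi-dihedral case of the criterion. -/
theorem quasiDihedral_hyps {n : ℕ} (hn : 3 ≤ n) (hcard : Nat.card Q = 2 ^ (n + 1)) {x y : Q}
    (hx : orderOf x = 2 ^ n) (hy : orderOf y = 2) (hyx : y * x * y⁻¹ = x ^ (2 ^ (n - 1) - 1)) :
    (Subgroup.zpowers x).index = 2 ∧
    ∀ s : Q, s ∉ Subgroup.zpowers x →
      ∀ c ∈ Subgroup.zpowers x, s * c = c * s → c * c = 1 := by
  obtain ⟨m, rfl⟩ : ∃ m, n = m + 3 := ⟨n - 3, by omega⟩
  have hidx : (Subgroup.zpowers x).index = 2 := by
    have h1 := Subgroup.card_mul_index (Subgroup.zpowers x)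
    rw [Nat.card_zpowers, hx, hcard, pow_succ] at h1
    exact Nat.eq_of_mul_eq_mul_left (by positivity) h1
  refine ⟨hidx, ?_⟩
  have he : m + 3 - 1 = m + 2 := by omega
  rw [he] at hyx
  -- conjugation by `y` on powers of `x`
  have hconj : ∀ k : ℕ, y * x ^ k * y⁻¹ = x ^ ((2 ^ (m + 2) - 1) * k) := by
    intro k
    have : y * x ^ k * y⁻¹ = (y * x * y⁻¹) ^ k := by
      rw [← MulAut.conj_apply, map_pow, MulAut.conj_apply]
    rw [this, hyx, ← pow_mul]
  -- the key arithmetic fact
  have hkey : ∀ k : ℕ, x ^ ((2 ^ (m + 2) - 1) * k) = x ^ k → x ^ k * x ^ k = 1 := by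
    intro k hk
    rw [pow_eq_pow_iff_modEq, hx] at hk
    have hle : k ≤ (2 ^ (m + 2) - 1) * k := by
      have : 1 ≤ 2 ^ (m + 2) - 1 := by
        have : 4 ≤ 2 ^ (m + 2) := by
          calc 4 = 2 ^ 2 := by norm_num
            _ ≤ 2 ^ (m + 2) := Nat.pow_le_pow_right (by norm_num) (by omega)
        omega
      calc k = 1 * k := (one_mul k).symm
        _ ≤ (2 ^ (m + 2) - 1) * k := Nat.mul_le_mul_right k this
    have hdvd : 2 ^ (m + 3) ∣ (2 ^ (m + 2) - 1) * k - k := (Nat.modEq_iff_dvd' hle).mp hk.symm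
    have h2 : (2 ^ (m + 2) - 1) * k - k = 2 * ((2 ^ (m + 1) - 1) * k) := by
      have h4 : 2 ≤ 2 ^ (m + 1) := by
        calc 2 = 2 ^ 1 := by norm_num
          _ ≤ 2 ^ (m + 1) := Nat.pow_le_pow_right (by norm_num) (by omega)
      obtain ⟨a, ha⟩ : ∃ a, 2 ^ (m + 1) = a + 1 := ⟨2 ^ (m + 1) - 1, by omega⟩
      have h5 : 2 ^ (m + 2) = 2 * a + 2 := by rw [pow_succ, ha]; ring
      rw [h5, ha]
      have : 2 * a + 2 - 1 = 2 * a + 1 := by omega
      rw [this, Nat.add_sub_cancel]
      have : (2 * a + 1) * k - k = 2 * a * k := by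
        rw [add_mul, one_mul, Nat.add_sub_cancel]
      rw [this]; ring
    rw [h2, show 2 ^ (m + 3) = 2 * 2 ^ (m + 2) by rw [pow_succ]; ring] at hdvd
    have hdvd2 : 2 ^ (m + 2) ∣ (2 ^ (m + 1) - 1) * k :=
      (Nat.mul_dvd_mul_iff_left (by norm_num : 0 < 2)).mp hdvd
    have hcop : Nat.Coprime (2 ^ (m + 2)) (2 ^ (m + 1) - 1) := by
      apply Nat.Coprime.pow_left
      rw [Nat.coprime_two_left]
      have : Even (2 ^ (m + 1)) := by
        rw [pow_succ]; exact even_two.mul_left _
      have h4 : 1 ≤ 2 ^ (m + 1) := Nat.one_le_two_pow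
      exact Nat.Even.sub_odd h4 this odd_one
    have hk2 : 2 ^ (m + 2) ∣ k := hcop.dvd_of_dvd_mul_left hdvd2
    obtain ⟨j, rfl⟩ := hk2
    rw [← pow_add]
    have : 2 ^ (m + 2) * j + 2 ^ (m + 2) * j = 2 ^ (m + 3) * j := by
      rw [pow_succ 2 (m + 2)]; ring
    rw [this, pow_mul, ← hx, pow_orderOf_eq_one, one_pow]
  -- `y ∉ ⟨x⟩`
  have hyx' : y ∉ Subgroup.zpowers x := by
    intro h
    have hcomm : y * x = x * y := by
      obtain ⟨k, rfl⟩ := h
      exact ((Commute.refl x).zpow_left k).eq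
    have h1 : y * x ^ 1 * y⁻¹ = x ^ 1 := by
      rw [pow_one, hcomm]; group
    rw [hconj 1] at h1
    have h2 := hkey 1 h1
    rw [pow_one, ← pow_two] at h2
    have h3 : orderOf x ∣ 2 := orderOf_dvd_of_pow_eq_one h2
    rw [hx] at h3
    have h4 : 2 ^ (m + 3) ≤ 2 := Nat.le_of_dvd (by norm_num) h3
    have h5 : 8 ≤ 2 ^ (m + 3) := by
      calc 8 = 2 ^ 3 := by norm_num
        _ ≤ 2 ^ (m + 3) := Nat.pow_le_pow_right (by norm_num) (by omega)
    omega
  intro s hs c hc hcomm
  -- `s = y w`, `w ∈ ⟨x⟩`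
  have hw : y⁻¹ * s ∈ Subgroup.zpowers x := by
    rw [Subgroup.mul_mem_iff_of_index_two hidx]
    constructor
    · intro h
      exact absurd ((Subgroup.inv_mem_iff _).mp h) hyx'
    · intro h
      exact absurd h hs
  have hwc : (y⁻¹ * s) * c = c * (y⁻¹ * s) := by
    obtain ⟨a, ha⟩ := hw
    obtain ⟨b, hb⟩ := hc
    rw [← ha, ← hb, ← zpow_add, ← zpow_add, add_comm]
  have hyc : y * c * y⁻¹ = c := by
    have h1 : s = y * (y⁻¹ * s) := by group
    rw [h1] at hcomm
    have h2 : y * c * (y⁻¹ * s) = c * y * (y⁻¹ * s) := by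
      calc y * c * (y⁻¹ * s) = y * ((y⁻¹ * s) * c) := by rw [hwc]; group
        _ = y * (y⁻¹ * s) * c := by group
        _ = c * (y * (y⁻¹ * s)) := hcomm
        _ = c * y * (y⁻¹ * s) := by group
    have h3 : y * c = c * y := mul_right_cancel h2
    rw [h3]; group
  have hcpow : c ∈ Submonoid.powers x := by
    rw [mem_powers_iff_mem_zpowers]
    exact hc
  obtain ⟨k, rfl⟩ := hcpow
  rw [hconj k] at hyc
  exact hkey k hyc

end FourGroup

section Main

/-- If `π : R →* Q` has kernel inside the abelian subgroup `A` and the image of `A` is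
self-centralizing, then `A` is self-centralizing. -/
theorem centralizer_eq_of_map_centralizer_eq {R Q : Type*} [Group R] [Group Q] (π : R →* Q)
    (A : Subgroup R) (hcomm : ∀ a ∈ A, ∀ b ∈ A, a * b = b * a) (hker : π.ker ≤ A)
    (hcent : Subgroup.centralizer ((A.map π : Subgroup Q) : Set Q) = A.map π) :
    Subgroup.centralizer (A : Set R) = A := by
  apply le_antisymm
  · intro c hc
    have hc' : π c ∈ Subgroup.centralizer ((A.map π : Subgroup Q) : Set Q) := by
      rw [Subgroup.mem_centralizer_iff]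
      rintro _ ⟨a, ha, rfl⟩
      rw [← map_mul, ← map_mul, (Subgroup.mem_centralizer_iff.mp hc) a ha]
    rw [hcent] at hc'
    obtain ⟨a, ha, hac⟩ := hc'
    have h1 : a⁻¹ * c ∈ π.ker := by
      rw [MonoidHom.mem_ker, map_mul, map_inv, hac, inv_mul_cancel]
    have h2 : c = a * (a⁻¹ * c) := by group
    rw [h2]
    exact A.mul_mem ha (hker h1)
  · intro a ha
    rw [Subgroup.mem_centralizer_iff]
    intro b hb
    exact hcomm b hb a ha

/-- `|A| = |π(A)| · |ker π|` when `ker π ≤ A`. -/
theorem card_eq_card_map_mul_card_ker {R Q : Type*} [Group R] [Group Q] (π : R →* Q)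
    (A : Subgroup R) (hker : π.ker ≤ A) :
    Nat.card A = Nat.card (A.map π) * Nat.card π.ker := by
  let f : A →* Q := π.comp A.subtype
  have hrange : f.range = A.map π := by
    rw [MonoidHom.range_eq_map, ← Subgroup.map_map, ← MonoidHom.range_eq_map,
      Subgroup.range_subtype]
  have hk : f.ker = π.ker.subgroupOf A := by
    ext a
    rw [MonoidHom.mem_ker, Subgroup.mem_subgroupOf, MonoidHom.mem_ker]
    rfl
  have h1 := Subgroup.card_eq_card_quotient_mul_card_subgroup f.ker
  have h2 : Nat.card (A ⧸ f.ker) = Nat.card f.range :=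
    Nat.card_congr (QuotientGroup.quotientKerEquivRange f).toEquiv
  have h3 : Nat.card f.ker = Nat.card π.ker := by
    rw [hk]
    exact Nat.card_congr (Subgroup.subgroupOfEquivOfLe hker).toEquiv
  rw [h2, h3, hrange] at h1
  exact h1

variable {R : Type*} [Group R] [Finite R]

/-- S1236, abstract form: `t` a central involution, `R / ⟨t⟩` satisfying the criterion, `A` an
elementary abelian subgroup of order 8 containing `t`; then `C_R(A) = A`. -/
theorem centralizer_eq_of_elemAb_eight (t : R) (ht : orderOf t = 2)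
    [(Subgroup.zpowers t).Normal] (x : R ⧸ Subgroup.zpowers t)
    (hidx : (Subgroup.zpowers x).index = 2)
    (hsq : ∀ s : R ⧸ Subgroup.zpowers t, s ∉ Subgroup.zpowers x →
      ∀ c ∈ Subgroup.zpowers x, s * c = c * s → c * c = 1)
    (A : Subgroup R) (hA : IsElementaryAbelian 2 A) (hA8 : Nat.card A = 8) (htA : t ∈ A) :
    Subgroup.centralizer (A : Set R) = A := by
  have hcomm : ∀ a ∈ A, ∀ b ∈ A, a * b = b * a := by
    intro a ha b hb
    have := (hA.1).is_comm.comm (⟨a, ha⟩ : A) ⟨b, hb⟩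
    exact congrArg Subtype.val this
  have hkerEq : (QuotientGroup.mk' (Subgroup.zpowers t)).ker = Subgroup.zpowers t :=
    QuotientGroup.ker_mk' _
  have hker : (QuotientGroup.mk' (Subgroup.zpowers t)).ker ≤ A := by
    rw [hkerEq, Subgroup.zpowers_le]; exact htA
  apply centralizer_eq_of_map_centralizer_eq (QuotientGroup.mk' (Subgroup.zpowers t)) A hcomm hker
  apply centralizer_eq_of_card_four x hidx hsq
  · have h1 := card_eq_card_map_mul_card_ker (QuotientGroup.mk' (Subgroup.zpowers t)) A hker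
    rw [hkerEq, Nat.card_zpowers, ht, hA8] at h1
    omega
  · rintro _ ⟨a, ha, rfl⟩ _ ⟨b, hb, rfl⟩
    rw [← map_mul, ← map_mul, hcomm a ha b hb]
  · rintro _ ⟨a, ha, rfl⟩
    rw [← map_mul, ← pow_two, hA.2 a ha, map_one]

end Main

end Cfsg.Agent.Lib.Helper21
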