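/-
helper21 shared library: Glauberman's theorem on `C_{Aut G}(S)`, local analysis in the ambient group.
-/
import Cfsg.Agent.Lib.Helper21.GlaubermanAut2

set_option autoImplicit false

namespace Cfsg.Agent.Lib.Helper21

open Cfsg.Agent.Lib.Helper33
open scoped commutatorElement

variable {Γ : Type*} [Group Γ]

theorem ga_mem_sup_of_le_normalizer {A B : Subgroup Γ}
    (h : B ≤ Subgroup.normalizer (A : Set Γ)) {x : Γ} (hx : x ∈ A ⊔ B) :
    ∃ a ∈ A, ∃ b ∈ B, x = a * b := by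
  rw [Subgroup.sup_eq_closure] at hx
  refine Subgroup.closure_induction ?_ ?_ ?_ ?_ hx
  · rintro x (hx | hx)
    · exact ⟨x, hx, 1, B.one_mem, by simp⟩
    · exact ⟨1, A.one_mem, x, hx, by simp⟩
  · exact ⟨1, A.one_mem, 1, B.one_mem, by simp⟩
  · rintro _ _ _ _ ⟨a₁, ha₁, b₁, hb₁, rfl⟩ ⟨a₂, ha₂, b₂, hb₂, rfl⟩
    refine ⟨a₁ * (b₁ * a₂ * b₁⁻¹), A.mul_mem ha₁ (ga_conj_mem (h hb₁) ha₂), b₁ * b₂,
      B.mul_mem hb₁ hb₂, by group⟩
  · rintro _ _ ⟨a, ha, b, hb, rfl⟩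
    refine ⟨b⁻¹ * a⁻¹ * b, ga_conj_inv_mem (h hb) (A.inv_mem ha), b⁻¹, B.inv_mem hb, by group⟩

theorem ga_normalizer_of_normal (G : Subgroup Γ) [hGn : G.Normal] (g : Γ) :
    g ∈ Subgroup.normalizer (G : Set Γ) := by
  apply ga_mem_normalizer
  · intro n hn; exact hGn.conj_mem n hn g
  · intro n hn
    have := hGn.conj_mem n hn g⁻¹
    simpa using this

theorem ga_eq_one_of_coprime_two {U : Subgroup Γ} (hU : IsPGroup 2 U) {u : Γ} (hu : u ∈ U)
    (hcop : (orderOf u).Coprime 2) : u = 1 := by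
  obtain ⟨k, hk⟩ := hU ⟨u, hu⟩
  have hk' : u ^ 2 ^ k = 1 := by
    have := congrArg Subtype.val hk
    simpa using this
  have hdvd : orderOf u ∣ 2 ^ k := orderOf_dvd_of_pow_eq_one hk'
  have : orderOf u = 1 := Nat.Coprime.eq_one_of_dvd (Nat.Coprime.pow_right k hcop) hdvd
  exact orderOf_eq_one_iff.mp this

/-- **Local analysis.**  `G ⊴ Γ`, `S` a Sylow `2`-subgroup of `G`, `V ≤ C_Γ(S)`, `Y ≤ C_Γ(S)`
with `V ≤ Y`; `B ≤ Z(V) ∩ [V, Y]` a `2`-group normalized by `Y`.  If `U ≤ S B` is fully normalized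
and centric in `S B` with respect to `G B`, then `N_{GB}(U)` centralizes `B`. -/
theorem glauberman_local_centralizes [Finite Γ] {G S V Y B U : Subgroup Γ} [hGn : G.Normal]
    (hS : SylIn 2 S G) (hVS : V ≤ Subgroup.centralizer (S : Set Γ))
    (hVY : V ≤ Y) (hYS : Y ≤ Subgroup.centralizer (S : Set Γ))
    (hBV : B ≤ V ⊓ Subgroup.centralizer (V : Set Γ)) (hBV1 : B ≤ ⁅V, Y⁆)
    (hYB : Y ≤ Subgroup.normalizer (B : Set Γ)) (hB2 : IsPGroup 2 B)
    (hUR : U ≤ S ⊔ B)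
    (hfn : SylIn 2 ((S ⊔ B) ⊓ Subgroup.normalizer (U : Set Γ))
      ((G ⊔ B) ⊓ Subgroup.normalizer (U : Set Γ)))
    (hcen : (S ⊔ B) ⊓ Subgroup.centralizer (U : Set Γ) ≤ U) :
    ∀ g ∈ (G ⊔ B) ⊓ Subgroup.normalizer (U : Set Γ), ∀ a ∈ B, g * a * g⁻¹ = a := by
  have : Fact (Nat.Prime 2) := ⟨Nat.prime_two⟩
  have hBS : ∀ b ∈ B, ∀ s ∈ S, s * b = b * s :=
    fun b hb s hs => Subgroup.mem_centralizer_iff.mp (hVS (hBV hb).1) s hs
  have hBB : ∀ b ∈ B, ∀ b' ∈ B, b' * b = b * b' :=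
    fun b hb b' hb' => Subgroup.mem_centralizer_iff.mp (hBV hb).2 b' (hBV hb').1
  have hBnS : B ≤ Subgroup.normalizer (S : Set Γ) :=
    fun b hb => Subgroup.centralizer_le_normalizer _ (hVS (hBV hb).1)
  have hdecR : ∀ r ∈ S ⊔ B, ∃ s ∈ S, ∃ b ∈ B, r = s * b :=
    fun r hr => ga_mem_sup_of_le_normalizer hBnS hr
  have hR2 : IsPGroup 2 (S ⊔ B : Subgroup Γ) :=
    IsPGroup.to_sup_of_normal_left' hS.isPGroup hB2 hBnS
  have hRG : (S ⊔ B) ⊓ G = S :=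
    hS.eq_of_le inf_le_right (hR2.to_le inf_le_left) (le_inf le_sup_left hS.le)
  have hBR : ∀ b ∈ B, ∀ r ∈ S ⊔ B, r * b = b * r := by
    intro b hb r hr
    obtain ⟨s, hs, b', hb', rfl⟩ := hdecR r hr
    rw [mul_assoc, hBB b hb b' hb', ← mul_assoc, hBS b hb s hs, mul_assoc]
  have hBU : B ≤ U := by
    intro b hb
    apply hcen
    refine Subgroup.mem_inf.mpr ⟨(le_sup_right : B ≤ S ⊔ B) hb, ?_⟩
    rw [Subgroup.mem_centralizer_iff]
    intro u hu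
    exact hBR b hb u (hUR hu)
  have hPS : U ⊓ G ≤ S := by
    intro u hu
    have h1 : u ∈ (S ⊔ B) ⊓ G := Subgroup.mem_inf.mpr ⟨hUR hu.1, hu.2⟩
    rw [hRG] at h1; exact h1
  have hdecU : ∀ u ∈ U, ∃ q ∈ U ⊓ G, ∃ b ∈ B, u = q * b := by
    intro u hu
    obtain ⟨s, hs, b, hb, rfl⟩ := hdecR u (hUR hu)
    refine ⟨s, Subgroup.mem_inf.mpr ⟨?_, hS.le hs⟩, b, hb, rfl⟩
    have h1 := U.mul_mem hu (U.inv_mem (hBU hb))
    simpa using h1
  have hU2 : IsPGroup 2 U := hR2.to_le hUR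
  have hHN : G ⊓ Subgroup.normalizer (U : Set Γ) ≤ (G ⊔ B) ⊓ Subgroup.normalizer (U : Set Γ) :=
    inf_le_inf_right _ le_sup_left
  have hNH : (G ⊔ B) ⊓ Subgroup.normalizer (U : Set Γ) ≤
      Subgroup.normalizer ((G ⊓ Subgroup.normalizer (U : Set Γ) : Subgroup Γ) : Set Γ) := by
    intro g hg
    apply ga_normalizer_inf_le
    exact ⟨ga_normalizer_of_normal G g, Subgroup.le_normalizer hg.2⟩
  have hTsyl : SylIn 2 (S ⊓ Subgroup.normalizer (U : Set Γ))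
      (G ⊓ Subgroup.normalizer (U : Set Γ)) := by
    have h1 := Cfsg.Agent.S1854.sylIn_inf_of_normal hfn hHN hNH
    have heq : (S ⊔ B) ⊓ Subgroup.normalizer (U : Set Γ) ⊓ (G ⊓ Subgroup.normalizer (U : Set Γ)) =
        S ⊓ Subgroup.normalizer (U : Set Γ) := by
      conv_rhs => rw [← hRG]
      ext x; simp only [Subgroup.mem_inf]; tauto
    rwa [heq] at h1
  have hPT : U ⊓ G ≤ S ⊓ Subgroup.normalizer (U : Set Γ) :=
    fun u hu => Subgroup.mem_inf.mpr ⟨hPS hu, Subgroup.le_normalizer hu.1⟩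
  have hHP : G ⊓ Subgroup.normalizer (U : Set Γ) ≤
      Subgroup.normalizer ((U ⊓ G : Subgroup Γ) : Set Γ) := by
    intro h hh
    apply ga_normalizer_inf_le
    exact ⟨hh.2, ga_normalizer_of_normal G h⟩
  have hcentP : (S ⊓ Subgroup.normalizer (U : Set Γ)) ⊓
      Subgroup.centralizer ((U ⊓ G : Subgroup Γ) : Set Γ) ≤ U ⊓ G := by
    intro t ht
    have htS : t ∈ S := ht.1.1
    refine Subgroup.mem_inf.mpr ⟨?_, hS.le htS⟩
    apply hcen
    refine Subgroup.mem_inf.mpr ⟨(le_sup_left : S ≤ S ⊔ B) htS, ?_⟩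
    rw [Subgroup.mem_centralizer_iff]
    intro u hu
    obtain ⟨q, hq, b, hb, rfl⟩ := hdecU u hu
    have h1 : q * t = t * q := Subgroup.mem_centralizer_iff.mp ht.2 q hq
    have h2 : t * b = b * t := hBS b hb t htS
    calc q * b * t = q * (b * t) := by group
      _ = q * (t * b) := by rw [h2]
      _ = (q * t) * b := by group
      _ = (t * q) * b := by rw [h1]
      _ = t * (q * b) := by group
  have hYU : Y ≤ Subgroup.normalizer (U : Set Γ) := by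
    have key : ∀ y ∈ Y, ∀ u ∈ U, y * u * y⁻¹ ∈ U := by
      intro y hy u hu
      obtain ⟨q, hq, b, hb, rfl⟩ := hdecU u hu
      have h1 : q * y = y * q := Subgroup.mem_centralizer_iff.mp (hYS hy) q (hPS hq)
      have h2 : y * b * y⁻¹ ∈ U := hBU (ga_conj_mem (hYB hy) hb)
      have h3 : y * (q * b) * y⁻¹ = q * (y * b * y⁻¹) := by
        calc y * (q * b) * y⁻¹ = (y * q) * b * y⁻¹ := by group
          _ = (q * y) * b * y⁻¹ := by rw [h1]
          _ = q * (y * b * y⁻¹) := by group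
      rw [h3]
      exact U.mul_mem hq.1 h2
    intro y hy
    apply ga_mem_normalizer (key y hy)
    intro u hu
    have := key y⁻¹ (Y.inv_mem hy) u hu
    simpa using this
  have hYH : Y ≤ Subgroup.normalizer ((G ⊓ Subgroup.normalizer (U : Set Γ) : Subgroup Γ) : Set Γ) := by
    intro y hy
    apply ga_normalizer_inf_le
    exact ⟨ga_normalizer_of_normal G y, Subgroup.le_normalizer (hYU hy)⟩
  have hYT : Y ≤ Subgroup.centralizer ((S ⊓ Subgroup.normalizer (U : Set Γ) : Subgroup Γ) : Set Γ) :=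
    fun y hy => Subgroup.centralizer_le
      (inf_le_left : S ⊓ Subgroup.normalizer (U : Set Γ) ≤ S) (hYS hy)
  have hloc := glauberman_local hPT hTsyl hHP hcentP hYH hYT hVY
  intro g hg a ha
  obtain ⟨g0, hg0, b, hb, rfl⟩ := Subgroup.mem_sup_of_normal_left.mp hg.1
  have hg0N : g0 ∈ Subgroup.normalizer (U : Set Γ) := by
    have h1 := Subgroup.mul_mem _ hg.2 (Subgroup.inv_mem _ (Subgroup.le_normalizer (hBU hb)))
    simpa using h1
  have hg0H : g0 ∈ G ⊓ Subgroup.normalizer (U : Set Γ) := Subgroup.mem_inf.mpr ⟨hg0, hg0N⟩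
  have h1 : g0⁻¹ * a * g0 * a⁻¹ = 1 := by
    have hcop := hloc a (hBV1 ha) g0 hg0H
    have hmem : g0⁻¹ * a * g0 * a⁻¹ ∈ U :=
      U.mul_mem (ga_conj_inv_mem hg0N (hBU ha)) (U.inv_mem (hBU ha))
    exact ga_eq_one_of_coprime_two hU2 hmem hcop
  have h2 : a * g0 = g0 * a := by
    have h3 : g0⁻¹ * a * g0 = a := mul_inv_eq_one.mp h1
    calc a * g0 = g0 * (g0⁻¹ * a * g0) := by group
      _ = g0 * a := by rw [h3]
  have h3 : a * b = b * a := hBB b hb a ha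
  calc g0 * b * a * (g0 * b)⁻¹ = g0 * (b * a) * b⁻¹ * g0⁻¹ := by group
    _ = g0 * (a * b) * b⁻¹ * g0⁻¹ := by rw [h3]
    _ = (g0 * a) * g0⁻¹ := by group
    _ = (a * g0) * g0⁻¹ := by rw [h2]
    _ = a := by group

end Cfsg.Agent.Lib.Helper21
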