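/-
helper21 shared library: Glauberman's theorem on `C_{Aut G}(S)`, ambient form
(Alperin's induction + the `Z*`-theorem as an explicit hypothesis).
-/
import Cfsg.Agent.Lib.Helper21.GlaubermanAut3
import Cfsg.Agent.Lib.Helper33.AlperinCentric
import Cfsg.Agent.Lib.Helper9.PGroupLemmas

set_option autoImplicit false

namespace Cfsg.Agent.Lib.Helper21

open Cfsg.Agent.Lib.Helper33
open scoped commutatorElement

universe u

/-- The statement of Glauberman's `Z*`-theorem (the shape of `S0215`) for groups in `Type u`. -/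
def ZStarStatement : Prop :=
  ∀ {G : Type u} [Group G] [Finite G] (P : Sylow 2 G) (u : G), orderOf u = 2 → u ∈ P →
    (∀ g : G, g * u * g⁻¹ ∈ P → g * u * g⁻¹ = u) →
    ∃ N : Subgroup G, N.Normal ∧ Odd (Nat.card N) ∧ ∀ g : G, (u * g * u⁻¹ * g⁻¹) ∈ N

/-- If the normalizers of all fully normalized centric subgroups of a Sylow `2`-subgroup `R`
centralize the central element `a` of `R`, then `a` is isolated in `R`. -/
theorem isolated_of_centric_normalizers {M : Type*} [Group M] [Finite M] (R : Sylow 2 M) (a : M)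
    (haR : a ∈ (R : Subgroup M)) (_haZ : ∀ r ∈ (R : Subgroup M), r * a = a * r)
    (hloc : ∀ U : Subgroup M, U ≤ (R : Subgroup M) → FullyNormalized 2 (R : Subgroup M) U →
      (R : Subgroup M) ⊓ Subgroup.centralizer (U : Set M) ≤ U →
      ∀ g ∈ Subgroup.normalizer (U : Set M), g * a * g⁻¹ = a) :
    ∀ g : M, g * a * g⁻¹ ∈ (R : Subgroup M) → g * a * g⁻¹ = a := by
  have : Fact (Nat.Prime 2) := ⟨Nat.prime_two⟩
  have key := alperin_induction_centric (p := 2) R
    (fun P g => ∀ b ∈ P, (g * b * g⁻¹ = a ↔ b = a)) Set.univ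
    (by
      intro P hP
      obtain ⟨g, h1, h2⟩ := exists_fullyNormalized_cj R hP
      exact ⟨cj g P, trivial, ⟨g, rfl⟩, h1, h2⟩)
    (by
      intro P g h _ _ _ h1 h2 b hb
      have e : h * g * b * (h * g)⁻¹ = h * (g * b * g⁻¹) * h⁻¹ := by group
      rw [e]
      exact (h2 (g * b * g⁻¹) (conj_mem_cj hb)).trans (h1 b hb))
    (by
      intro P P' g hP'P _ _ h1 b hb
      exact h1 b (hP'P hb))
    (by
      intro P g _ _ h1 b' hb'
      rw [mem_cj] at hb'
      have h2 := h1 _ hb'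
      have e : g * (g⁻¹ * b' * g) * g⁻¹ = b' := by group
      rw [e] at h2
      rw [inv_inv]
      exact h2.symm)
    (by
      intro P g g' _ hgg' h1 b hb
      rw [← hgg' b hb]
      exact h1 b hb)
    (by
      intro U _ hUR hfn hcen _ g hg b _
      have hga : g * a * g⁻¹ = a := hloc U hUR hfn hcen g hg
      constructor
      · intro h
        have h2 : g * b * g⁻¹ = g * a * g⁻¹ := h.trans hga.symm
        exact mul_left_cancel (mul_right_cancel h2)
      · intro h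
        rw [h]; exact hga)
  intro g hg
  have hle : cj g (Subgroup.zpowers a) ≤ (R : Subgroup M) := by
    intro x hx
    rw [mem_cj, Subgroup.mem_zpowers_iff] at hx
    obtain ⟨k, hk⟩ := hx
    have e : x = (g * a * g⁻¹) ^ k := by
      rw [conj_zpow, hk]; group
    rw [e]
    exact Subgroup.zpow_mem _ hg k
  have h1 := key (Subgroup.zpowers a) (Subgroup.zpowers_le.mpr haR) g hle a
    (Subgroup.mem_zpowers a)
  exact h1.mpr rfl

section transport

variable {Γ : Type*} [Group Γ] {M : Subgroup Γ}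

theorem ga_mem_map_subtype {U : Subgroup M} {x : Γ} :
    x ∈ U.map M.subtype ↔ ∃ h : x ∈ M, (⟨x, h⟩ : M) ∈ U := by
  constructor
  · rintro ⟨u, hu, rfl⟩
    exact ⟨u.2, hu⟩
  · rintro ⟨h, hx⟩
    exact ⟨⟨x, h⟩, hx, rfl⟩

theorem ga_coe_mem_map_subtype {U : Subgroup M} {u : M} :
    (u : Γ) ∈ U.map M.subtype ↔ u ∈ U := by
  rw [ga_mem_map_subtype]
  constructor
  · rintro ⟨_, h⟩; exact h
  · intro h; exact ⟨u.2, h⟩

theorem ga_mem_normalizer_map_subtype {U : Subgroup M} {g : M} :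
    g ∈ Subgroup.normalizer (U : Set M) ↔
      (g : Γ) ∈ Subgroup.normalizer ((U.map M.subtype : Subgroup Γ) : Set Γ) := by
  constructor
  · intro hg
    apply ga_mem_normalizer
    · rintro _ ⟨u, hu, rfl⟩
      exact ⟨g * u * g⁻¹, ga_conj_mem hg hu, by simp⟩
    · rintro _ ⟨u, hu, rfl⟩
      exact ⟨g⁻¹ * u * g, ga_conj_inv_mem hg hu, by simp⟩
  · intro hg
    apply ga_mem_normalizer
    · intro u hu
      have h1 := ga_conj_mem hg (ga_coe_mem_map_subtype.mpr hu)
      have h2 : ((g * u * g⁻¹ : M) : Γ) ∈ U.map M.subtype := by simpa using h1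
      exact ga_coe_mem_map_subtype.mp h2
    · intro u hu
      have h1 := ga_conj_inv_mem hg (ga_coe_mem_map_subtype.mpr hu)
      have h2 : ((g⁻¹ * u * g : M) : Γ) ∈ U.map M.subtype := by simpa using h1
      exact ga_coe_mem_map_subtype.mp h2

theorem ga_mem_centralizer_map_subtype {U : Subgroup M} {g : M} :
    g ∈ Subgroup.centralizer (U : Set M) ↔
      (g : Γ) ∈ Subgroup.centralizer ((U.map M.subtype : Subgroup Γ) : Set Γ) := by
  rw [Subgroup.mem_centralizer_iff, Subgroup.mem_centralizer_iff]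
  constructor
  · rintro h _ ⟨u, hu, rfl⟩
    have h1 := congrArg Subtype.val (h u hu)
    simpa using h1
  · intro h u hu
    apply Subtype.ext
    have h1 := h (u : Γ) (ga_coe_mem_map_subtype.mpr hu)
    simpa using h1

theorem ga_fullyNormalized_transport {R : Subgroup M} {R' : Subgroup Γ}
    (hR : ∀ r : M, r ∈ R ↔ (r : Γ) ∈ R') (hR'M : R' ≤ M) (hR2 : IsPGroup 2 R') {U : Subgroup M}
    (hfn : FullyNormalized 2 R U) :
    SylIn 2 (R' ⊓ Subgroup.normalizer ((U.map M.subtype : Subgroup Γ) : Set Γ))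
      (M ⊓ Subgroup.normalizer ((U.map M.subtype : Subgroup Γ) : Set Γ)) := by
  refine ⟨inf_le_inf_right _ hR'M, hR2.to_le inf_le_left, ?_⟩
  have e1 : (R ⊓ Subgroup.normalizer (U : Set M)).map M.subtype =
      R' ⊓ Subgroup.normalizer ((U.map M.subtype : Subgroup Γ) : Set Γ) := by
    ext x
    constructor
    · rintro ⟨r, hr, rfl⟩
      exact Subgroup.mem_inf.mpr ⟨(hR r).mp hr.1, ga_mem_normalizer_map_subtype.mp hr.2⟩
    · intro hx
      exact ⟨⟨x, hR'M hx.1⟩, Subgroup.mem_inf.mpr ⟨(hR _).mpr hx.1,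
        ga_mem_normalizer_map_subtype.mpr hx.2⟩, rfl⟩
  have e2 : (Subgroup.normalizer (U : Set M)).map M.subtype =
      M ⊓ Subgroup.normalizer ((U.map M.subtype : Subgroup Γ) : Set Γ) := by
    ext x
    constructor
    · rintro ⟨r, hr, rfl⟩
      exact Subgroup.mem_inf.mpr ⟨r.2, ga_mem_normalizer_map_subtype.mp hr⟩
    · intro hx
      exact ⟨⟨x, hx.1⟩, ga_mem_normalizer_map_subtype.mpr hx.2, rfl⟩
  rw [← e1, ← e2, Subgroup.relIndex_map_map_of_injective _ _ (Subgroup.subtype_injective M)]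
  exact hfn

theorem ga_comm_of_mem_sup {S B : Subgroup Γ} {a : Γ} (hS : ∀ s ∈ S, s * a = a * s)
    (hB : ∀ b ∈ B, b * a = a * b) : ∀ r ∈ S ⊔ B, r * a = a * r := by
  have h1 : S ⊔ B ≤ Subgroup.centralizer ({a} : Set Γ) := by
    apply sup_le
    · intro s hs
      rw [Subgroup.mem_centralizer_iff]
      intro h hh
      rw [Set.mem_singleton_iff] at hh
      subst hh
      exact (hS s hs).symm
    · intro s hs
      rw [Subgroup.mem_centralizer_iff]
      intro h hh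
      rw [Set.mem_singleton_iff] at hh
      subst hh
      exact (hB s hs).symm
  intro r hr
  exact (Subgroup.mem_centralizer_iff.mp (h1 hr) a (Set.mem_singleton a)).symm

end transport

/-- **Glauberman's theorem, ambient form.**  Let `G ⊴ Γ` with `O(G) = 1`, `S` a Sylow
`2`-subgroup of `G`, `V ≤ C_Γ(S)` a `2`-subgroup acting faithfully on `G` and `x ∈ C_Γ(S)`
normalizing `V`.  Then `x` centralizes `V`. -/
theorem ambientGT (hZ : ZStarStatement.{u}) {Γ : Type u} [Group Γ] [Finite Γ] (G S V : Subgroup Γ)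
    (x : Γ) [hGn : G.Normal] (hS : SylIn 2 S G)
    (hO : ∀ N : Subgroup Γ, N ≤ G → G ≤ Subgroup.normalizer (N : Set Γ) → Odd (Nat.card N) → N = ⊥)
    (hV : IsPGroup 2 V) (hVS : V ≤ Subgroup.centralizer (S : Set Γ))
    (hxS : x ∈ Subgroup.centralizer (S : Set Γ)) (hxV : x ∈ Subgroup.normalizer (V : Set Γ))
    (hfaith : V ⊓ Subgroup.centralizer (G : Set Γ) = ⊥) : ∀ v ∈ V, x * v = v * x := by
  have : Fact (Nat.Prime 2) := ⟨Nat.prime_two⟩
  set Y : Subgroup Γ := Subgroup.normalizer (V : Set Γ) ⊓ Subgroup.centralizer (S : Set Γ) with hY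
  have hVY : V ≤ Y := le_inf Subgroup.le_normalizer hVS
  have hYS : Y ≤ Subgroup.centralizer (S : Set Γ) := inf_le_right
  have hYV : Y ≤ Subgroup.normalizer (V : Set Γ) := inf_le_left
  have hxY : x ∈ Y := Subgroup.mem_inf.mpr ⟨hxV, hxS⟩
  suffices h : ⁅V, Y⁆ = ⊥ by
    intro v hv
    have h1 : ⁅v, x⁆ ∈ ⁅V, Y⁆ := Subgroup.commutator_mem_commutator hv hxY
    rw [h, Subgroup.mem_bot, commutatorElement_eq_one_iff_mul_comm] at h1
    exact h1.symm
  by_contra hne
  have hV1V : ⁅V, Y⁆ ≤ V := by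
    rw [Subgroup.commutator_le]
    intro v hv y hy
    rw [commutatorElement_def]
    have h1 : y * v⁻¹ * y⁻¹ ∈ V := ga_conj_mem (hYV hy) (V.inv_mem hv)
    have h2 := V.mul_mem hv h1
    convert h2 using 1; group
  have hYV1 : Y ≤ Subgroup.normalizer ((⁅V, Y⁆ : Subgroup Γ) : Set Γ) := by
    intro y hy
    rw [mem_normalizer_iff_cj_eq, cj_commutator, mem_normalizer_iff_cj_eq.mp (hYV hy),
      cj_eq_self_of_mem hy]
  set B : Subgroup Γ := (V ⊓ Subgroup.centralizer (V : Set Γ)) ⊓ ⁅V, Y⁆ with hB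
  have hBV : B ≤ V ⊓ Subgroup.centralizer (V : Set Γ) := inf_le_left
  have hBV1 : B ≤ ⁅V, Y⁆ := inf_le_right
  have hB2 : IsPGroup 2 B := hV.to_le (hBV.trans inf_le_left)
  have hYB : Y ≤ Subgroup.normalizer (B : Set Γ) := by
    intro y hy
    apply ga_normalizer_inf_le
    exact ⟨ga_normalizer_inf_le _ _
      ⟨hYV hy, ga_normalizer_le_normalizer_centralizer V (hYV hy)⟩, hYV1 hy⟩
  have hBne : B ≠ ⊥ := by
    have hnorm : ((⁅V, Y⁆).subgroupOf V).Normal :=
      Subgroup.normal_subgroupOf_of_le_normalizer (hVY.trans hYV1)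
    have hne' : (⁅V, Y⁆).subgroupOf V ≠ ⊥ := by
      intro h
      apply hne
      rw [Subgroup.eq_bot_iff_forall]
      intro w hw
      have h1 : (⟨w, hV1V hw⟩ : V) ∈ (⁅V, Y⁆).subgroupOf V := Subgroup.mem_subgroupOf.mpr hw
      rw [h, Subgroup.mem_bot] at h1
      exact congrArg Subtype.val h1
    obtain ⟨z, hzN, hz1, hzc⟩ := Cfsg.Agent.Lib.Helper9.exists_ne_one_mem_center_of_normal
      (p := 2) hV ((⁅V, Y⁆).subgroupOf V) hne'
    intro hbot
    apply hz1
    have hzB : (z : Γ) ∈ B := by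
      refine Subgroup.mem_inf.mpr ⟨Subgroup.mem_inf.mpr ⟨z.2, ?_⟩, Subgroup.mem_subgroupOf.mp hzN⟩
      rw [Subgroup.mem_centralizer_iff]
      intro v hv
      have h1 := Subgroup.mem_center_iff.mp hzc ⟨v, hv⟩
      exact congrArg Subtype.val h1
    rw [hbot, Subgroup.mem_bot] at hzB
    exact Subtype.ext hzB
  obtain ⟨a, haB, ha2⟩ : ∃ a ∈ B, orderOf a = 2 := by
    have hnt : Nontrivial B := (Subgroup.nontrivial_iff_ne_bot B).mpr hBne
    obtain ⟨n, hn0, hn⟩ := hB2.nontrivial_iff_card.mp hnt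
    have hdvd : 2 ∣ Nat.card B := hn.symm ▸ dvd_pow_self _ (ne_of_gt hn0)
    obtain ⟨a', ha'⟩ := exists_prime_orderOf_dvd_card' 2 hdvd
    exact ⟨a', a'.2, by rw [← ha', Subgroup.orderOf_coe]⟩
  have hBnS : B ≤ Subgroup.normalizer (S : Set Γ) :=
    fun b hb => Subgroup.centralizer_le_normalizer _ (hVS (hBV hb).1)
  have hR2 : IsPGroup 2 (S ⊔ B : Subgroup Γ) :=
    IsPGroup.to_sup_of_normal_left' hS.isPGroup hB2 hBnS
  have hR'M : S ⊔ B ≤ G ⊔ B := sup_le_sup_right hS.le B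
  obtain ⟨R, hR⟩ := (hR2.comap_subtype (K := G ⊔ B)).exists_le_sylow
  have hRmem : ∀ r : ↥(G ⊔ B), r ∈ (R : Subgroup ↥(G ⊔ B)) ↔ (r : Γ) ∈ S ⊔ B := by
    intro r
    constructor
    · intro hr
      have hR0 : IsPGroup 2 ((R : Subgroup ↥(G ⊔ B)).map (G ⊔ B).subtype) := R.isPGroup'.map _
      have hR'le : S ⊔ B ≤ (R : Subgroup ↥(G ⊔ B)).map (G ⊔ B).subtype := by
        intro s hs
        exact ⟨⟨s, hR'M hs⟩, hR (Subgroup.mem_comap.mpr hs), rfl⟩
      have hRG0 : ((R : Subgroup ↥(G ⊔ B)).map (G ⊔ B).subtype) ⊓ G = S :=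
        hS.eq_of_le inf_le_right (hR0.to_le inf_le_left) (le_inf (le_sup_left.trans hR'le) hS.le)
      obtain ⟨g, hg, b, hb, hgb⟩ := Subgroup.mem_sup_of_normal_left.mp r.2
      have hbR0 : b ∈ (R : Subgroup ↥(G ⊔ B)).map (G ⊔ B).subtype :=
        hR'le ((le_sup_right : B ≤ S ⊔ B) hb)
      have hrR0 : (r : Γ) ∈ (R : Subgroup ↥(G ⊔ B)).map (G ⊔ B).subtype := ⟨r, hr, rfl⟩
      have hgS : g ∈ S := by
        rw [← hRG0]
        refine Subgroup.mem_inf.mpr ⟨?_, hg⟩
        have h1 := Subgroup.mul_mem _ hrR0 (Subgroup.inv_mem _ hbR0)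
        rw [← hgb] at h1
        simpa using h1
      rw [← hgb]
      exact Subgroup.mul_mem_sup hgS hb
    · intro hr
      exact hR (Subgroup.mem_comap.mpr hr)
  have haM : a ∈ G ⊔ B := (le_sup_right : B ≤ G ⊔ B) haB
  have haR' : a ∈ S ⊔ B := (le_sup_right : B ≤ S ⊔ B) haB
  have hcommS : ∀ s ∈ S, s * a = a * s :=
    fun s hs => Subgroup.mem_centralizer_iff.mp (hVS (hBV haB).1) s hs
  have hcommB : ∀ b ∈ B, b * a = a * b :=
    fun b hb => Subgroup.mem_centralizer_iff.mp (hBV haB).2 b (hBV hb).1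
  have hcommR := ga_comm_of_mem_sup hcommS hcommB
  have hiso := isolated_of_centric_normalizers R ⟨a, haM⟩ ((hRmem _).mpr haR')
    (by
      intro r hr
      apply Subtype.ext
      exact hcommR r ((hRmem r).mp hr))
    (by
      intro U hUR hfn hcen g hg
      have hUR' : U.map (G ⊔ B).subtype ≤ S ⊔ B := by
        rintro _ ⟨u, hu, rfl⟩
        exact (hRmem u).mp (hUR hu)
      have hfn' := ga_fullyNormalized_transport hRmem hR'M hR2 hfn
      have hcen' : (S ⊔ B) ⊓ Subgroup.centralizer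
          ((U.map (G ⊔ B).subtype : Subgroup Γ) : Set Γ) ≤ U.map (G ⊔ B).subtype := by
        intro r hr
        have hrM : r ∈ G ⊔ B := hR'M hr.1
        have h1 : (⟨r, hrM⟩ : ↥(G ⊔ B)) ∈
            (R : Subgroup ↥(G ⊔ B)) ⊓ Subgroup.centralizer (U : Set ↥(G ⊔ B)) :=
          Subgroup.mem_inf.mpr ⟨(hRmem _).mpr hr.1, ga_mem_centralizer_map_subtype.mpr hr.2⟩
        exact ga_coe_mem_map_subtype.mpr (hcen h1)
      have h2 := glauberman_local_centralizes hS hVS hVY hYS hBV hBV1 hYB hB2 hUR' hfn' hcen'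
        (g : Γ) (Subgroup.mem_inf.mpr ⟨g.2, ga_mem_normalizer_map_subtype.mp hg⟩) a haB
      apply Subtype.ext
      simpa using h2)
  have ha'2 : orderOf (⟨a, haM⟩ : ↥(G ⊔ B)) = 2 := by
    rw [Subgroup.orderOf_mk]; exact ha2
  obtain ⟨N, hNn, hNodd, hNcomm⟩ := hZ R ⟨a, haM⟩ ha'2 ((hRmem _).mpr haR') hiso
  have hN0bot : N.map (G ⊔ B).subtype ⊓ G = ⊥ := by
    apply hO _ inf_le_right
    · intro g hg
      apply ga_normalizer_inf_le
      refine ⟨?_, ga_normalizer_of_normal G g⟩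
      have hgM : g ∈ G ⊔ B := (le_sup_left : G ≤ G ⊔ B) hg
      have h1 : (⟨g, hgM⟩ : ↥(G ⊔ B)) ∈ Subgroup.normalizer ((N : Subgroup ↥(G ⊔ B)) : Set ↥(G ⊔ B)) :=
        ga_normalizer_of_normal N _
      exact ga_mem_normalizer_map_subtype.mp h1
    · have h1 : Nat.card (N.map (G ⊔ B).subtype ⊓ G : Subgroup Γ) ∣
          Nat.card (N.map (G ⊔ B).subtype) := Subgroup.card_dvd_of_le inf_le_left
      have h2 : Nat.card (N.map (G ⊔ B).subtype) = Nat.card N := Subgroup.card_subtype _ _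
      rw [h2] at h1
      exact Odd.of_dvd_nat hNodd h1
  have haG : a ∈ Subgroup.centralizer (G : Set Γ) := by
    rw [Subgroup.mem_centralizer_iff]
    intro g hg
    have hgM : g ∈ G ⊔ B := (le_sup_left : G ≤ G ⊔ B) hg
    have h1 := hNcomm ⟨g, hgM⟩
    have h2 : a * g * a⁻¹ * g⁻¹ ∈ N.map (G ⊔ B).subtype ⊓ G := by
      refine Subgroup.mem_inf.mpr ⟨⟨_, h1, by simp⟩, ?_⟩
      exact G.mul_mem (hGn.conj_mem g hg a) (G.inv_mem hg)
    rw [hN0bot, Subgroup.mem_bot] at h2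
    have h3 : a * g * a⁻¹ = g := mul_inv_eq_one.mp h2
    calc g * a = (a * g * a⁻¹) * a := by rw [h3]
      _ = a * g := by group
  have haVG : a ∈ V ⊓ Subgroup.centralizer (G : Set Γ) := Subgroup.mem_inf.mpr ⟨(hBV haB).1, haG⟩
  rw [hfaith, Subgroup.mem_bot] at haVG
  rw [haVG, orderOf_one] at ha2
  exact absurd ha2 (by norm_num)

end Cfsg.Agent.Lib.Helper21
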