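/-
helper21 shared library: Glauberman's theorem on `C_{Aut G}(S)`, automorphism-group form
(via the holomorph), conditional on the `Z*`-theorem as explicit hypothesis.
-/
import Cfsg.Agent.Lib.Helper21.GlaubermanAut4

set_option autoImplicit false

namespace Cfsg.Agent.Lib.Helper21

open Cfsg.Agent.Lib.Helper33
open SemidirectProduct

universe u

/-- Let `O(G) = 1`, `S` a Sylow `2`-subgroup of `G`, `W` a `2`-group of automorphisms of `G` fixing
`S` elementwise, and `ξ` an automorphism fixing `S` elementwise and normalizing `W`.  Then `ξ`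
centralizes `W`. -/
theorem glauberman_aut_comm (hZ : ZStarStatement.{u}) {G : Type u} [Group G] [Finite G]
    (hO : ∀ N : Subgroup G, N.Normal → Odd (Nat.card N) → N = ⊥) (S : Sylow 2 G)
    (W : Subgroup (MulAut G)) (hW : IsPGroup 2 W) (hWS : ∀ φ ∈ W, ∀ s ∈ S, φ s = s)
    (ξ : MulAut G) (hξS : ∀ s ∈ S, ξ s = s)
    (hξW : ξ ∈ Subgroup.normalizer (W : Set (MulAut G))) :
    ∀ φ ∈ W, ξ * φ = φ * ξ := by
  have : Fact (Nat.Prime 2) := ⟨Nat.prime_two⟩
  have hfin : Finite (G ⋊[MonoidHom.id (MulAut G)] MulAut G) :=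
    Finite.of_equiv _ (SemidirectProduct.equivProd (φ := MonoidHom.id (MulAut G))).symm
  set iL : G →* G ⋊[MonoidHom.id (MulAut G)] MulAut G := inl with hiL
  set iR : MulAut G →* G ⋊[MonoidHom.id (MulAut G)] MulAut G := inr with hiR
  have hnorm : (iL.range).Normal := by
    rw [hiL, range_inl_eq_ker_rightHom]; infer_instance
  have haut : ∀ (α : MulAut G) (g : G), iL (α g) = iR α * iL g * (iR α)⁻¹ := by
    intro α g
    have h1 := inl_aut (φ := MonoidHom.id (MulAut G)) α g
    rw [map_inv] at h1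
    exact h1
  have hiLinj : Function.Injective iL := inl_injective
  have hiRinj : Function.Injective iR := inr_injective
  -- Sylow
  have hS' : SylIn 2 ((S : Subgroup G).map iL) iL.range := by
    refine ⟨Subgroup.map_le_range _ _, S.isPGroup'.map _, ?_⟩
    rw [MonoidHom.range_eq_map, Subgroup.relIndex_map_map_of_injective _ _ hiLinj,
      Subgroup.relIndex_top_right]
    exact S.not_dvd_index
  -- fixing `S` elementwise means centralizing its image
  have hcent : ∀ α : MulAut G, (∀ s ∈ S, α s = s) →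
      iR α ∈ Subgroup.centralizer (((S : Subgroup G).map iL : Subgroup _) : Set _) := by
    intro α hα
    rw [Subgroup.mem_centralizer_iff]
    rintro _ ⟨s, hs, rfl⟩
    have h1 := haut α s
    rw [hα s hs] at h1
    calc iL s * iR α = (iR α * iL s * (iR α)⁻¹) * iR α := by rw [← h1]
      _ = iR α * iL s := by group
  have hO' : ∀ N : Subgroup (G ⋊[MonoidHom.id (MulAut G)] MulAut G), N ≤ iL.range →
      iL.range ≤ Subgroup.normalizer (N : Set _) → Odd (Nat.card N) → N = ⊥ := by
    intro N hN hGN hodd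
    have hN0 : (N.comap iL).Normal := by
      constructor
      intro n hn g
      rw [Subgroup.mem_comap] at hn ⊢
      rw [map_mul, map_mul, map_inv]
      exact ga_conj_mem (hGN ⟨g, rfl⟩) hn
    have hmap : (N.comap iL).map iL = N := Subgroup.map_comap_eq_self hN
    have hcard : Nat.card (N.comap iL) = Nat.card N := by
      conv_rhs => rw [← hmap]
      exact (Subgroup.card_map_of_injective hiLinj).symm
    have h0 := hO (N.comap iL) hN0 (hcard ▸ hodd)
    rw [← hmap, h0, Subgroup.map_bot]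
  have hV : IsPGroup 2 (W.map iR) := hW.map _
  have hVS : W.map iR ≤ Subgroup.centralizer (((S : Subgroup G).map iL : Subgroup _) : Set _) := by
    rintro _ ⟨φ, hφ, rfl⟩
    exact hcent φ (hWS φ hφ)
  have hxV : iR ξ ∈ Subgroup.normalizer ((W.map iR : Subgroup _) : Set _) := by
    apply ga_mem_normalizer
    · rintro _ ⟨φ, hφ, rfl⟩
      exact ⟨ξ * φ * ξ⁻¹, ga_conj_mem hξW hφ, by simp⟩
    · rintro _ ⟨φ, hφ, rfl⟩
      exact ⟨ξ⁻¹ * φ * ξ, ga_conj_inv_mem hξW hφ, by simp⟩
  have hfaith : W.map iR ⊓ Subgroup.centralizer ((iL.range : Subgroup _) : Set _) = ⊥ := by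
    rw [Subgroup.eq_bot_iff_forall]
    rintro _ ⟨⟨φ, _, rfl⟩, hc⟩
    have h1 : φ = 1 := by
      ext g
      have h2 := Subgroup.mem_centralizer_iff.mp hc (iL g) ⟨g, rfl⟩
      have h3 := haut φ g
      have h4 : iL (φ g) = iL g := by
        rw [h3, ← h2]; group
      exact hiLinj h4
    rw [h1, map_one]
  have key := ambientGT hZ iL.range ((S : Subgroup G).map iL) (W.map iR) (iR ξ) hS' hO' hV hVS
    (hcent ξ hξS) hxV hfaith
  intro φ hφ
  have h1 := key (iR φ) ⟨φ, hφ, rfl⟩
  rw [← map_mul, ← map_mul] at h1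
  exact hiRinj h1

/-- **Glauberman.**  Let `O(G) = 1`, `S` a Sylow `2`-subgroup of `G` and `C = C_{Aut G}(S)`.  Then
every Sylow `2`-subgroup of `C` is abelian and has a normal complement in `C`
(conditional on the `Z*`-theorem). -/
theorem glauberman_aut_of_zstar (hZ : ZStarStatement.{u}) {G : Type u} [Group G] [Finite G]
    (hO : ∀ N : Subgroup G, N.Normal → Odd (Nat.card N) → N = ⊥) (S : Sylow 2 G)
    (C : Subgroup (MulAut G)) (hC : ∀ φ : MulAut G, φ ∈ C ↔ ∀ s : G, s ∈ S → φ s = s) :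
    ∀ T : Sylow 2 ↥C, (∀ a b : ↥T, a * b = b * a) ∧
      ∃ N : Subgroup ↥C, N.Normal ∧ Subgroup.IsComplement' N (T : Subgroup ↥C) := by
  have : Fact (Nat.Prime 2) := ⟨Nat.prime_two⟩
  intro T
  have hW : IsPGroup 2 ((T : Subgroup ↥C).map C.subtype) := T.isPGroup'.map _
  have hWS : ∀ φ ∈ (T : Subgroup ↥C).map C.subtype, ∀ s ∈ S, φ s = s := by
    rintro _ ⟨c, _, rfl⟩ s hs
    exact (hC _).mp c.2 s hs
  have key : ∀ c : ↥C, c ∈ Subgroup.normalizer ((T : Subgroup ↥C) : Set ↥C) →
      ∀ t ∈ (T : Subgroup ↥C), c * t = t * c := by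
    intro c hc t ht
    have h1 := glauberman_aut_comm hZ hO S ((T : Subgroup ↥C).map C.subtype) hW hWS (c : MulAut G)
      ((hC _).mp c.2) (ga_mem_normalizer_map_subtype.mp hc) (t : MulAut G)
      (ga_coe_mem_map_subtype.mpr ht)
    exact Subtype.ext h1
  have hNC : Subgroup.normalizer ((T : Subgroup ↥C) : Set ↥C) ≤
      Subgroup.centralizer ((T : Subgroup ↥C) : Set ↥C) := by
    intro c hc
    rw [Subgroup.mem_centralizer_iff]
    intro t ht
    exact (key c hc t ht).symm
  refine ⟨?_, (MonoidHom.transferSylow T hNC).ker, inferInstance,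
    MonoidHom.ker_transferSylow_isComplement' T hNC⟩
  intro a b
  apply Subtype.ext
  exact key a.1 (Subgroup.le_normalizer a.2) b.1 b.2

end Cfsg.Agent.Lib.Helper21
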