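/-
helper21 shared library: Glauberman's theorem on `C_{Aut G}(S)`, unconditional forms
(the `Z*`-theorem is `Cfsg.Agent.S0215.result`).
-/
import Cfsg.Agent.S0215
import Cfsg.Agent.Lib.Helper21.GlaubermanAut5

set_option autoImplicit false

namespace Cfsg.Agent.Lib.Helper21

open Cfsg.Agent.Lib.Helper33

universe u

/-- Glauberman's `Z*`-theorem, in the shape used by this library. -/
theorem zStarStatement : ZStarStatement.{u} :=
  fun P u hu huP hiso => Cfsg.Agent.S0215.result P u hu huP hiso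

/-- **Glauberman's theorem, ambient form** (unconditional). -/
theorem ambientGT' {Γ : Type u} [Group Γ] [Finite Γ] (G S V : Subgroup Γ)
    (x : Γ) [hGn : G.Normal] (hS : SylIn 2 S G)
    (hO : ∀ N : Subgroup Γ, N ≤ G → G ≤ Subgroup.normalizer (N : Set Γ) → Odd (Nat.card N) → N = ⊥)
    (hV : IsPGroup 2 V) (hVS : V ≤ Subgroup.centralizer (S : Set Γ))
    (hxS : x ∈ Subgroup.centralizer (S : Set Γ)) (hxV : x ∈ Subgroup.normalizer (V : Set Γ))
    (hfaith : V ⊓ Subgroup.centralizer (G : Set Γ) = ⊥) : ∀ v ∈ V, x * v = v * x :=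
  ambientGT zStarStatement G S V x hS hO hV hVS hxS hxV hfaith

/-- **Glauberman's theorem for automorphisms** (unconditional): a `2`-group `W` of automorphisms
fixing a Sylow `2`-subgroup `S` of `G` (`O(G) = 1`) elementwise is centralized by every
automorphism fixing `S` elementwise and normalizing `W`. -/
theorem glauberman_aut_comm' {G : Type u} [Group G] [Finite G]
    (hO : ∀ N : Subgroup G, N.Normal → Odd (Nat.card N) → N = ⊥) (S : Sylow 2 G)
    (W : Subgroup (MulAut G)) (hW : IsPGroup 2 W) (hWS : ∀ φ ∈ W, ∀ s ∈ S, φ s = s)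
    (ξ : MulAut G) (hξS : ∀ s ∈ S, ξ s = s)
    (hξW : ξ ∈ Subgroup.normalizer (W : Set (MulAut G))) :
    ∀ φ ∈ W, ξ * φ = φ * ξ :=
  glauberman_aut_comm zStarStatement hO S W hW hWS ξ hξS hξW

/-- **Glauberman** (unconditional): with `O(G) = 1`, `S` a Sylow `2`-subgroup of `G` and
`C = C_{Aut G}(S)`, every Sylow `2`-subgroup of `C` is abelian and has a normal complement in
`C`. -/
theorem glauberman_aut {G : Type u} [Group G] [Finite G]
    (hO : ∀ N : Subgroup G, N.Normal → Odd (Nat.card N) → N = ⊥) (S : Sylow 2 G)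
    (C : Subgroup (MulAut G)) (hC : ∀ φ : MulAut G, φ ∈ C ↔ ∀ s : G, s ∈ S → φ s = s) :
    ∀ T : Sylow 2 ↥C, (∀ a b : ↥T, a * b = b * a) ∧
      ∃ N : Subgroup ↥C, N.Normal ∧ Subgroup.IsComplement' N (T : Subgroup ↥C) :=
  glauberman_aut_of_zstar zStarStatement hO S C hC

end Cfsg.Agent.Lib.Helper21
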