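import Mathlib
import Cfsg.Prelude.Def_LieRecognition
import Cfsg.Agent.Lib.Helper21.OddTransLinearMul

/-!
# The set of elements inverted by an involution is a cyclic subgroup (towards S1131)

Generic form: `D` a solvable subgroup of odd order of a finite group, normalized by an involution
`t`, acting by conjugation on an elementary abelian `2`-subgroup `M` transitively on `M ∖ {1}`,
such that `C_D(t)` fixes some `s ∈ M ∖ {1}` and `C_D(M) ≤ C_D(t) ∩ C_D(K)`, where `K` is the set of
elements of `D` inverted by `t`.  Then `K` is (the underlying set of) a cyclic subgroup.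
-/

set_option autoImplicit false
open Cfsg

namespace Cfsg.Agent.Lib.Helper21.InvertedCyclic

variable {G : Type*} [Group G]

/-- Conjugation action of a subgroup `D` on a subgroup `M` that it normalizes. -/
def conjAct (D M : Subgroup G) (h : ∀ d ∈ D, ∀ e ∈ M, d * e * d⁻¹ ∈ M) : ↥D →* MulAut ↥M where
  toFun d :=
    { toFun := fun e => ⟨(d : G) * e * (d : G)⁻¹, h d d.2 e e.2⟩
      invFun := fun e => ⟨(d : G)⁻¹ * e * (d : G), by
        have := h (d : G)⁻¹ (D.inv_mem d.2) e e.2
        rwa [inv_inv] at this⟩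
      left_inv := fun e => Subtype.ext (by simp only; group)
      right_inv := fun e => Subtype.ext (by simp only; group)
      map_mul' := fun e e' => Subtype.ext (by simp only [Subgroup.coe_mul]; group) }
  map_one' := by
    ext e
    simp
  map_mul' := fun d d' => by
    ext e
    simp [mul_assoc]

theorem conjAct_apply (D M : Subgroup G) (h : ∀ d ∈ D, ∀ e ∈ M, d * e * d⁻¹ ∈ M) (d : ↥D) (e : ↥M) :
    ((conjAct D M h d e : ↥M) : G) = (d : G) * e * (d : G)⁻¹ := rfl

theorem conjAct_eq_one_iff (D M : Subgroup G) (h : ∀ d ∈ D, ∀ e ∈ M, d * e * d⁻¹ ∈ M) (d : ↥D) :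
    conjAct D M h d = 1 ↔ ∀ e ∈ M, (d : G) * e = e * (d : G) := by
  constructor
  · intro h1 e he
    have h2 : conjAct D M h d ⟨e, he⟩ = ⟨e, he⟩ := by rw [h1]; rfl
    have h3 := congrArg Subtype.val h2
    rw [conjAct_apply] at h3
    exact mul_inv_eq_iff_eq_mul.mp h3
  · intro h1
    ext e
    rw [conjAct_apply]
    show (d : G) * e * (d : G)⁻¹ = e
    rw [h1 e e.2, mul_inv_cancel_right]

/-- In a finite group of odd order, `x * x = 1` forces `x = 1`. -/
theorem eq_one_of_mul_self_of_odd {H : Type*} [Group H] [Finite H] (hodd : Odd (Nat.card H))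
    (x : H) (hx : x * x = 1) : x = 1 := by
  have h1 : orderOf x ∣ 2 := orderOf_dvd_of_pow_eq_one (by rw [pow_two]; exact hx)
  have h2 : Odd (orderOf x) := hodd.of_dvd_nat (orderOf_dvd_natCard x)
  have h3 : orderOf x = 1 := by
    rcases (Nat.dvd_prime Nat.prime_two).mp h1 with h | h
    · exact h
    · rw [h] at h2; exact absurd h2 (by decide)
  exact orderOf_eq_one_iff.mp h3

/-- **Generic form of S1131.** -/
theorem inverted_cyclic_of_transitive [Finite G] (D M : Subgroup G) (t s : G)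
    (hsolv : Group.IsSolvable ↥D) (hodd : Odd (Nat.card ↥D)) (ht2 : t * t = 1)
    (htD : ∀ d ∈ D, t * d * t⁻¹ ∈ D)
    (hDM : ∀ d ∈ D, ∀ e ∈ M, d * e * d⁻¹ ∈ M)
    (hcomm : ∀ x ∈ M, ∀ y ∈ M, x * y = y * x) (hexp : ∀ x ∈ M, x * x = 1)
    (htrans : ∀ x ∈ M, x ≠ 1 → ∀ y ∈ M, y ≠ 1 → ∃ d ∈ D, d * x * d⁻¹ = y)
    (hs : s ∈ M) (hs1 : s ≠ 1)
    (hV : ∀ d ∈ D, t * d = d * t → d * s = s * d)
    (hW1 : ∀ d ∈ D, (∀ e ∈ M, d * e = e * d) → t * d = d * t)
    (hW2 : ∀ d ∈ D, (∀ e ∈ M, d * e = e * d) → ∀ k ∈ Cfsg.invertedBy D t, d * k = k * d) :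
    (Subgroup.closure (Cfsg.invertedBy D t) : Set G) = Cfsg.invertedBy D t ∧
      IsCyclic ↥(Subgroup.closure (Cfsg.invertedBy D t)) := by
  have htinv : t⁻¹ = t := inv_eq_of_mul_eq_one_right ht2
  -- the action hom and its range
  set φ : ↥D →* MulAut ↥M := conjAct D M hDM with hφ
  let π : ↥D →* ↥φ.range := φ.rangeRestrict
  have hπ : Function.Surjective π := φ.rangeRestrict_surjective
  let ψ : ↥φ.range →* MulAut ↥M := φ.range.subtype
  have hψ : Function.Injective ψ := φ.range.subtype_injective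
  have hψπ : ∀ d, ψ (π d) = φ d := fun d => rfl
  have hπ1 : ∀ d : ↥D, π d = 1 ↔ ∀ e ∈ M, (d : G) * e = e * (d : G) := by
    intro d
    rw [← conjAct_eq_one_iff D M hDM d]
    constructor
    · intro h
      have := congrArg ψ h
      rwa [hψπ, map_one] at this
    · intro h
      apply hψ
      rw [hψπ, map_one]; exact h
  -- conjugation by `t` on `D`
  let c : ↥D ≃* ↥D :=
    { toFun := fun d => ⟨t * d * t⁻¹, htD d d.2⟩
      invFun := fun d => ⟨t * d * t⁻¹, htD d d.2⟩
      left_inv := fun d => Subtype.ext (by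
        show t * (t * (d : G) * t⁻¹) * t⁻¹ = d
        rw [htinv]
        calc t * (t * (d : G) * t) * t = (t * t) * d * (t * t) := by group
          _ = d := by rw [ht2, one_mul, mul_one])
      right_inv := fun d => Subtype.ext (by
        show t * (t * (d : G) * t⁻¹) * t⁻¹ = d
        rw [htinv]
        calc t * (t * (d : G) * t) * t = (t * t) * d * (t * t) := by group
          _ = d := by rw [ht2, one_mul, mul_one])
      map_mul' := fun d d' => Subtype.ext (by
        show t * ((d : G) * d') * t⁻¹ = (t * d * t⁻¹) * (t * d' * t⁻¹)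
        group) }
  have hc_apply : ∀ d : ↥D, ((c d : ↥D) : G) = t * d * t⁻¹ := fun d => rfl
  have hc2 : ∀ d, c (c d) = d := fun d => c.left_inv d
  have hcfix : ∀ d : ↥D, t * (d : G) = d * t → c d = d := by
    intro d h
    apply Subtype.ext
    rw [hc_apply, h, mul_inv_cancel_right]
  have hker : ∀ d, π d = 1 → π (c d) = 1 := by
    intro d hd
    have h1 := hW1 d d.2 ((hπ1 d).mp hd)
    rw [hcfix d h1]; exact hd
  obtain ⟨τ, hτπ, hτ2⟩ := OddTransLinear.exists_induced_mulEquiv π hπ c hc2 hker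
  -- the group `R = φ.range`
  have hoddR : Odd (Nat.card ↥φ.range) :=
    hodd.of_dvd_nat (Subgroup.card_dvd_of_surjective π hπ)
  have hsolvR : Group.IsSolvable ↥φ.range := Group.isSolvable_of_surjective hπ
  have hfinM : Finite ↥M := inferInstance
  have hcommM : ∀ a b : ↥M, a * b = b * a := fun a b => Subtype.ext (hcomm a a.2 b b.2)
  have hexpM : ∀ m : ↥M, m ^ 2 = 1 := fun m => Subtype.ext (by
    rw [pow_two]; exact hexp m m.2)
  have htransM : ∀ a b : ↥M, a ≠ 1 → b ≠ 1 → ∃ r : ↥φ.range, ψ r a = b := by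
    intro a b ha hb
    obtain ⟨d, hd, hdab⟩ := htrans a a.2 (fun h => ha (Subtype.ext h)) b b.2
      (fun h => hb (Subtype.ext h))
    refine ⟨π ⟨d, hd⟩, ?_⟩
    rw [hψπ]
    apply Subtype.ext
    rw [hφ, conjAct_apply]
    exact hdab
  obtain ⟨hFcyc, hFsemi⟩ := OddTransLinear.fitting_cyclic_semiregular_of_hom ψ hψ hoddR
    Nat.prime_two hcommM hexpM htransM
  have hCF := OddTransLinear.centralizer_fitting_le_of_isSolvable hsolvR
  have hab : ∀ x ∈ fittingSubgroup ↥φ.range, ∀ y ∈ fittingSubgroup ↥φ.range, x * y = y * x := by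
    intro x hx y hy
    have := mul_comm' (⟨x, hx⟩ : ↥(fittingSubgroup ↥φ.range)) ⟨y, hy⟩
    exact congrArg Subtype.val this
  -- `τ` is fixed-point-free on `F(R)`
  have hfix : ∀ z ∈ fittingSubgroup ↥φ.range, τ z = z → z = 1 := by
    intro z hz hτz
    obtain ⟨d, rfl⟩ := hπ z
    rw [hτπ] at hτz
    -- `w = d⁻¹ * c d` lies in the kernel
    have hw : π (d⁻¹ * c d) = 1 := by
      rw [map_mul, map_inv, hτz, inv_mul_cancel]
    have hwt := hW1 _ (d⁻¹ * c d).2 ((hπ1 _).mp hw)
    have hcw : c (d⁻¹ * c d) = d⁻¹ * c d := hcfix _ hwt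
    have hw2 : (d⁻¹ * c d) * (d⁻¹ * c d) = 1 := by
      have h1 : c (d⁻¹ * c d) = (c d)⁻¹ * d := by rw [map_mul, map_inv, hc2]
      rw [hcw] at h1
      calc (d⁻¹ * c d) * (d⁻¹ * c d) = (d⁻¹ * c d) * ((c d)⁻¹ * d) := by rw [← h1]
        _ = 1 := by group
    have hw1 := eq_one_of_mul_self_of_odd hodd _ hw2
    have hcd : c d = d := by
      have := congrArg (fun x => d * x) hw1
      simpa using this
    have htd : t * (d : G) = d * t := by
      have := congrArg Subtype.val hcd
      rw [hc_apply] at this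
      exact mul_inv_eq_iff_eq_mul.mp this
    have hds := hV d d.2 htd
    by_contra hne
    have h1 : ψ (π d) ⟨s, hs⟩ = ⟨s, hs⟩ := by
      rw [hψπ]
      apply Subtype.ext
      rw [hφ, conjAct_apply]
      show (d : G) * s * (d : G)⁻¹ = s
      rw [hds, mul_inv_cancel_right]
    have h2 := hFsemi _ hz hne ⟨s, hs⟩ h1
    exact hs1 (congrArg Subtype.val h2)
  -- the inverted elements map into `F(R)`
  have hKF : ∀ k (hk : k ∈ Cfsg.invertedBy D t), π ⟨k, hk.1⟩ ∈ fittingSubgroup ↥φ.range := by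
    intro k hk
    apply OddTransLinear.mem_fitting_of_inverted hoddR hCF hab τ hτ2 hfix
    rw [hτπ, ← map_inv]
    congr 1
    apply Subtype.ext
    rw [hc_apply]
    exact hk.2
  -- `N = ⟨K⟩`
  set N : Subgroup G := Subgroup.closure (Cfsg.invertedBy D t) with hN
  have hND : N ≤ D := (Subgroup.closure_le D).mpr (fun k hk => hk.1)
  have hNF : ∀ x (hx : x ∈ N), π ⟨x, hND hx⟩ ∈ fittingSubgroup ↥φ.range := by
    intro x hx
    have hle : N ≤ ((fittingSubgroup ↥φ.range).comap π).map D.subtype := by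
      rw [hN, Subgroup.closure_le]
      intro k hk
      exact ⟨⟨k, hk.1⟩, hKF k hk, rfl⟩
    obtain ⟨y, hy, hyx⟩ := hle hx
    have : y = ⟨x, hND hx⟩ := Subtype.ext hyx
    rw [← this]; exact hy
  let f : ↥N →* ↥(fittingSubgroup ↥φ.range) :=
    (π.comp (Subgroup.inclusion hND)).codRestrict _ (fun x => hNF x x.2)
  have hf_apply : ∀ x : ↥N, ((f x : ↥(fittingSubgroup ↥φ.range)) : ↥φ.range) = π ⟨x, hND x.2⟩ :=
    fun x => rfl
  have hfker : ∀ x : ↥N, f x = 1 → ∀ e ∈ M, (x : G) * e = e * (x : G) := by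
    intro x hx
    have h1 : π ⟨x, hND x.2⟩ = 1 := by
      rw [← hf_apply, hx]; rfl
    exact (hπ1 _).mp h1
  -- elements of `N` centralized by ... : the kernel of `f` is central
  have hcentK : ∀ x : ↥N, f x = 1 → ∀ y ∈ N, (x : G) * y = y * (x : G) := by
    intro x hx y hy
    have h1 := hW2 x (hND x.2) (hfker x hx)
    have hle : N ≤ Subgroup.centralizer ({(x : G)} : Set G) := by
      refine (Subgroup.closure_le _).mpr ?_
      intro k hk
      rw [SetLike.mem_coe, Subgroup.mem_centralizer_iff]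
      intro z hz
      rw [Set.mem_singleton_iff] at hz
      subst hz
      exact h1 k hk
    have := hle hy
    rw [Subgroup.mem_centralizer_iff] at this
    exact this x rfl
  have hfkerc : f.ker ≤ Subgroup.center ↥N := by
    intro x hx
    rw [MonoidHom.mem_ker] at hx
    rw [Subgroup.mem_center_iff]
    intro y
    apply Subtype.ext
    exact (hcentK x hx y y.2).symm
  have hNcomm : ∀ a b : ↥N, a * b = b * a :=
    isMulCommutative_iff.mp (MonoidHom.isMulCommutative_of_isCyclic_of_ker_le_center f hfkerc)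
  -- `t` inverts `N`
  have hNinv : ∀ x ∈ N, t * x * t⁻¹ = x⁻¹ := by
    intro x hx
    rw [hN] at hx
    induction hx using Subgroup.closure_induction with
    | mem k hk => exact hk.2
    | one => simp
    | mul x y hx hy ihx ihy =>
      have hxy : x * y = y * x := congrArg Subtype.val (hNcomm ⟨x, hx⟩ ⟨y, hy⟩)
      calc t * (x * y) * t⁻¹ = (t * x * t⁻¹) * (t * y * t⁻¹) := by group
        _ = x⁻¹ * y⁻¹ := by rw [ihx, ihy]
        _ = (y * x)⁻¹ := by group
        _ = (x * y)⁻¹ := by rw [hxy]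
    | inv x hx ihx =>
      calc t * x⁻¹ * t⁻¹ = (t * x * t⁻¹)⁻¹ := by group
        _ = (x⁻¹)⁻¹ := by rw [ihx]
  have hNK : (N : Set G) = Cfsg.invertedBy D t := by
    apply Set.Subset.antisymm
    · intro x hx
      exact ⟨hND hx, hNinv x hx⟩
    · exact Subgroup.subset_closure
  refine ⟨hNK, ?_⟩
  -- `f` is injective
  have hfinj : Function.Injective f := by
    rw [injective_iff_map_eq_one]
    intro x hx
    have h1 := hW1 x (hND x.2) (hfker x hx)
    have h2 := hNinv x x.2
    rw [h1, mul_inv_cancel_right] at h2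
    have h3 : (x : G) * x = 1 := by
      nth_rewrite 1 [h2]
      exact inv_mul_cancel _
    have hoddN : Odd (Nat.card ↥N) := hodd.of_dvd_nat (Subgroup.card_dvd_of_le hND)
    exact eq_one_of_mul_self_of_odd hoddN x (Subtype.ext h3)
  exact isCyclic_of_injective f hfinj

end Cfsg.Agent.Lib.Helper21.InvertedCyclic
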