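/-
helper21 shared library: the character-theoretic heart of Kazarin's theorem.

If `x` has a conjugacy class of `p`-power size and `q ≠ p` is a prime dividing `|G|`, then the
principal `q`-block contains a non-principal irreducible character afforded by a representation
in which `x` acts as a scalar (Burnside's argument inside the principal `q`-block, using weak
block orthogonality).
-/
import Mathlib
import Cfsg.Agent.Lib.Helper78.WBO
import Cfsg.Agent.Lib.Helper78.CharMore
import Cfsg.Agent.Lib.Helper79.Integrality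
import Cfsg.Agent.Lib.Helper16.LocalRing
import Cfsg.Agent.S0138

set_option autoImplicit false
set_option linter.style.haveILetI false

namespace Cfsg.Agent.Lib.Helper21

open Cfsg
open scoped ComplexConjugate

/-- A maximal ideal of the algebraic integers above a rational prime. -/
theorem exists_isPModular_of_prime (q : ℕ) (hq : q.Prime) :
    ∃ M : Ideal AlgInt, IsPModular q M := by
  have hne : Ideal.span {(q : AlgInt)} ≠ ⊤ := by
    intro htop
    have h1 : (1 : AlgInt) ∈ Ideal.span {(q : AlgInt)} := by rw [htop]; trivial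
    obtain ⟨a, ha⟩ := Ideal.mem_span_singleton'.mp h1
    have ha' : (a : ℂ) * (q : ℂ) = 1 := by
      have := congrArg (fun x : AlgInt => (x : ℂ)) ha
      simpa using this
    have hq0 : (q : ℂ) ≠ 0 := by exact_mod_cast hq.ne_zero
    have hint : IsIntegral ℤ (((1 : ℕ) : ℂ) / (q : ℂ)) := by
      have : ((1 : ℕ) : ℂ) / (q : ℂ) = (a : ℂ) := by
        field_simp
        rw [mul_comm]; simpa using ha'.symm
      rw [this]
      exact a.2
    have := Cfsg.Agent.Lib.Helper79.dvd_of_isIntegral_div hq.ne_zero hint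
    exact hq.one_lt.ne' (Nat.dvd_one.mp this)
  obtain ⟨M, hM, hle⟩ := Ideal.exists_le_maximal _ hne
  exact ⟨M, hq, hM, hle (Ideal.subset_span (Set.mem_singleton _))⟩

/-- The principal character as an element of `IrrCharacter G`. -/
noncomputable def principalIrr (G : Type*) [Group G] : IrrCharacter G :=
  ⟨fun _ => 1, Cfsg.Agent.Lib.Helper78.isIrrCharacter_one⟩

theorem isPBlock_principalBlock (M : Ideal AlgInt) (G : Type*) [Group G] :
    IsPBlock M (principalBlock M G) :=
  ⟨principalIrr G, rfl⟩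

/-- In the principal `q`-block, characters do not vanish at an element whose class size is
prime to `q`. -/
theorem ne_zero_of_mem_principalBlock {G : Type*} [Group G] [Finite G] {q : ℕ}
    {M : Ideal AlgInt} (hM : IsPModular q M) (x : G)
    (hx : ¬ q ∣ (Subgroup.centralizer ({x} : Set G)).index)
    (χ : IrrCharacter G) (hχ : χ ∈ principalBlock M G) : (χ : G → ℂ) x ≠ 0 := by
  intro h0
  have h := hχ x
  unfold centralChar at h
  rw [h0] at h
  simp only [mul_one, div_one, mul_zero, zero_div, sub_zero] at h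
  exact hx ((Cfsg.Agent.Lib.Helper16.memLocalIdeal_natCast_iff hM _).mp h)

/-- **Kazarin's lemma.**  If the class of `x` has `p`-power size and `q ≠ p` is a prime
dividing `|G|`, then the principal `q`-block contains a non-principal irreducible character
afforded by a representation in which `x` acts as a scalar. -/
theorem exists_irr_scalar_of_prime_power_class {G : Type*} [Group G] [Finite G] (x : G)
    {p k q : ℕ} (hp : p.Prime) (hpq : p ≠ q)
    (hidx : (Subgroup.centralizer ({x} : Set G)).index = p ^ k) (hqG : q ∣ Nat.card G)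
    {M : Ideal AlgInt} (hM : IsPModular q M) :
    ∃ χ : IrrCharacter G, χ ∈ principalBlock M G ∧ χ ≠ principalIrr G ∧
      ∃ (n : ℕ) (ρ : Representation ℂ G (Fin n → ℂ)), ρ.IsIrreducible ∧
        ρ.character = (χ : G → ℂ) ∧ ∃ ω : ℂ, ρ x = ω • (LinearMap.id : (Fin n → ℂ) →ₗ[ℂ] _) := by
  classical
  have := Fintype.ofFinite G
  have hq : q.Prime := hM.1
  haveI : Fact q.Prime := ⟨hq⟩
  by_contra hcon
  set χ₀ : IrrCharacter G := principalIrr G with hχ₀
  have hqx : ¬ q ∣ (Subgroup.centralizer ({x} : Set G)).index := by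
    rw [hidx]
    intro h
    have := hq.dvd_of_dvd_pow h
    exact hpq ((Nat.prime_dvd_prime_iff_eq hq hp).mp this).symm
  -- every non-principal χ in the principal block has degree divisible by p
  have key : ∀ χ : IrrCharacter G, χ ∈ principalBlock M G → χ ≠ χ₀ →
      p ∣ Cfsg.charDegree (χ : G → ℂ) := by
    intro χ hχB hχ
    by_contra hdvd
    have hcop : Nat.Coprime (Cfsg.charDegree (χ : G → ℂ))
        (Subgroup.centralizer ({x} : Set G)).index := by
      rw [hidx]
      exact Nat.Coprime.pow_right k ((Nat.Prime.coprime_iff_not_dvd hp).mpr hdvd).symm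
    rcases Cfsg.Agent.Lib.Helper79.irr_burnside_coprime χ x hcop with h0 | hnorm
    · exact ne_zero_of_mem_principalBlock hM x hqx χ hχB h0
    · obtain ⟨n, ρ, hirr, hρ⟩ := χ.2
      have hdeg : Cfsg.charDegree (χ : G → ℂ) = n := by
        rw [← hρ]; exact Cfsg.Agent.Lib.Helper79.charDegree_of_rep ρ
      have hnorm' : ‖ρ.character x‖ = (Module.finrank ℂ (Fin n → ℂ) : ℝ) := by
        rw [hρ, hnorm, hdeg]; simp
      have hscal := (Cfsg.Agent.S0138.result ρ x).mp hnorm'
      exact hcon ⟨χ, hχB, hχ, n, ρ, hirr, hρ, hscal⟩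
  -- an element of order q
  obtain ⟨y, hy⟩ := exists_prime_orderOf_dvd_card' q hqG
  have hy' : q ∣ orderOf y := by rw [hy]
  have h1reg : ¬ q ∣ orderOf (1 : G) := by
    rw [orderOf_one]
    exact fun h => hq.one_lt.ne' (Nat.dvd_one.mp h)
  have horth := Cfsg.Agent.Lib.Helper78.weak_block_orthogonality_sum hM
    (isPBlock_principalBlock M G) (1 : G) y h1reg hy'
  have h1 : ∀ χ : IrrCharacter G, conj ((χ : G → ℂ) 1) = (Cfsg.charDegree (χ : G → ℂ) : ℂ) := by
    intro χ
    rw [Cfsg.Agent.Lib.Helper79.irr_apply_one_eq_charDegree χ]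
    simp
  simp only [h1] at horth
  have hχ₀B : χ₀ ∈ Finset.univ.filter (fun χ : IrrCharacter G => χ ∈ principalBlock M G) := by
    rw [Finset.mem_filter]
    refine ⟨Finset.mem_univ _, ?_⟩
    intro g
    simpa [χ₀, principalIrr] using
      Cfsg.Agent.Lib.Helper16.memLocalIdeal_zero (M := M) hM.2.1.ne_top
  let a : IrrCharacter G → ℂ := fun χ =>
    if p ∣ Cfsg.charDegree (χ : G → ℂ) then
      ((Cfsg.charDegree (χ : G → ℂ) / p : ℕ) : ℂ) * (χ : G → ℂ) y else 0
  have ha : ∀ χ : IrrCharacter G, χ ∈ principalBlock M G → χ ≠ χ₀ →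
      (χ : G → ℂ) y * (Cfsg.charDegree (χ : G → ℂ) : ℂ) = (p : ℂ) * a χ := by
    intro χ hχB hχ
    have hd := key χ hχB hχ
    simp only [a]
    rw [if_pos hd]
    obtain ⟨m, hm⟩ := hd
    rw [hm, Nat.mul_div_cancel_left m hp.pos]
    push_cast; ring
  have haint : ∀ χ : IrrCharacter G, IsIntegral ℤ (a χ) := by
    intro χ
    simp only [a]
    split_ifs
    · have hnat : IsIntegral ℤ (((Cfsg.charDegree (χ : G → ℂ) / p : ℕ) : ℂ)) := by
        generalize Cfsg.charDegree (χ : G → ℂ) / p = m
        have := isIntegral_algebraMap (R := ℤ) (A := ℂ) (x := (m : ℤ))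
        simpa using this
      exact IsIntegral.mul hnat (Cfsg.Agent.Lib.Helper79.isIntegral_irr χ y)
    · exact isIntegral_zero
  rw [← Finset.add_sum_erase _ _ hχ₀B] at horth
  have hχ₀v : (χ₀ : G → ℂ) y * (Cfsg.charDegree (χ₀ : G → ℂ) : ℂ) = 1 := by
    have : Cfsg.charDegree (χ₀ : G → ℂ) = 1 := by
      simp [χ₀, principalIrr, Cfsg.charDegree]
    rw [this]; simp [χ₀, principalIrr]
  rw [hχ₀v] at horth
  have hsum : ∑ χ ∈ (Finset.univ.filter
        (fun χ : IrrCharacter G => χ ∈ principalBlock M G)).erase χ₀,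
      (χ : G → ℂ) y * (Cfsg.charDegree (χ : G → ℂ) : ℂ) =
      (p : ℂ) * ∑ χ ∈ (Finset.univ.filter
        (fun χ : IrrCharacter G => χ ∈ principalBlock M G)).erase χ₀, a χ := by
    rw [Finset.mul_sum]
    apply Finset.sum_congr rfl
    intro χ hχ
    have hχ' := Finset.mem_of_mem_erase hχ
    rw [Finset.mem_filter] at hχ'
    exact ha χ hχ'.2 (Finset.ne_of_mem_erase hχ)
  rw [hsum] at horth
  have hS : IsIntegral ℤ (∑ χ ∈ (Finset.univ.filter
      (fun χ : IrrCharacter G => χ ∈ principalBlock M G)).erase χ₀, a χ) :=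
    IsIntegral.sum _ (fun χ _ => haint χ)
  have hpc : (p : ℂ) ≠ 0 := by exact_mod_cast hp.ne_zero
  have hval : ((1 : ℕ) : ℂ) / (p : ℂ) = - ∑ χ ∈ (Finset.univ.filter
      (fun χ : IrrCharacter G => χ ∈ principalBlock M G)).erase χ₀, a χ := by
    field_simp
    push_cast
    linear_combination horth
  have hI : IsIntegral ℤ (((1 : ℕ) : ℂ) / (p : ℂ)) := by
    rw [hval]; exact hS.neg
  have := Cfsg.Agent.Lib.Helper79.dvd_of_isIntegral_div hp.ne_zero hI
  exact hp.one_lt.ne' (Nat.dvd_one.mp this)

end Cfsg.Agent.Lib.Helper21
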