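/-
helper21 shared library: group-theoretic tools for Kazarin's theorem.
-/
import Mathlib
import Cfsg.Agent.Lib.Helper21.Kazarin1
import Cfsg.Agent.Lib.Helper22.Solvable
import Cfsg.Agent.S0144

set_option autoImplicit false
set_option linter.style.haveILetI false

namespace Cfsg.Agent.Lib.Helper21

open Cfsg
open scoped ComplexConjugate

section Index

variable {G : Type*} [Group G]

/-- For `N` normal (and everything finite), `|N : N ∩ C|` divides `|G : C|`. -/
theorem relIndex_dvd_index_of_normal_right [Finite G] (C N : Subgroup G) [hN : N.Normal] :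
    C.relIndex N ∣ C.index := by
  have h1 : (C ⊓ N).relIndex C * C.relIndex (N ⊔ C) = (C ⊓ N).relIndex (N ⊔ C) :=
    Subgroup.relIndex_mul_relIndex (C ⊓ N) C (N ⊔ C) inf_le_left le_sup_right
  have h2 : (C ⊓ N).relIndex N * N.relIndex (N ⊔ C) = (C ⊓ N).relIndex (N ⊔ C) :=
    Subgroup.relIndex_mul_relIndex (C ⊓ N) N (N ⊔ C) inf_le_right le_sup_left
  have h3 : N.relIndex (N ⊔ C) = N.relIndex C := Subgroup.relIndex_sup_left C N
  have h4 : (C ⊓ N).relIndex C = N.relIndex C := Subgroup.inf_relIndex_left C N
  have h5 : (C ⊓ N).relIndex N = C.relIndex N := Subgroup.inf_relIndex_right C N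
  rw [h3, h5] at h2
  rw [h4] at h1
  have hne : N.relIndex C ≠ 0 := by
    unfold Subgroup.relIndex
    exact Subgroup.index_ne_zero_of_finite
  have h6 : C.relIndex (N ⊔ C) = C.relIndex N := by
    have : N.relIndex C * C.relIndex (N ⊔ C) = N.relIndex C * C.relIndex N := by
      rw [h1, ← h2, mul_comm]
    exact Nat.eq_of_mul_eq_mul_left (Nat.pos_of_ne_zero hne) this
  rw [← h6]
  exact Subgroup.relIndex_dvd_index_of_le le_sup_right

/-- The centralizer of an element of a subgroup, computed inside the subgroup. -/
theorem centralizer_singleton_subgroupOf (N : Subgroup G) (z : N) :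
    Subgroup.centralizer ({z} : Set N) =
      (Subgroup.centralizer ({(z : G)} : Set G)).subgroupOf N := by
  ext g
  rw [Subgroup.mem_subgroupOf, Subgroup.mem_centralizer_singleton_iff,
    Subgroup.mem_centralizer_singleton_iff]
  constructor
  · intro h
    have := congrArg (fun t : N => (t : G)) h
    simpa using this
  · intro h
    apply Subtype.ext
    simpa using h

/-- Class sizes in a normal subgroup divide class sizes in the group. -/
theorem index_centralizer_dvd_of_normal [Finite G] (N : Subgroup G) [N.Normal] (z : N) :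
    (Subgroup.centralizer ({z} : Set N)).index ∣
      (Subgroup.centralizer ({(z : G)} : Set G)).index := by
  rw [centralizer_singleton_subgroupOf]
  exact relIndex_dvd_index_of_normal_right _ N

/-- Class sizes of powers divide class sizes. -/
theorem index_centralizer_pow_dvd (x : G) (j : ℕ) :
    (Subgroup.centralizer ({x ^ j} : Set G)).index ∣
      (Subgroup.centralizer ({x} : Set G)).index := by
  apply Subgroup.index_dvd_of_le
  intro g hg
  rw [Subgroup.mem_centralizer_singleton_iff] at hg ⊢
  exact ((Commute.pow_right (show Commute g x from hg) j)).eq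

/-- Class sizes in quotients divide class sizes. -/
theorem index_centralizer_mk_dvd [Finite G] (K : Subgroup G) [K.Normal] (x : G) :
    (Subgroup.centralizer ({(QuotientGroup.mk x : G ⧸ K)} : Set (G ⧸ K))).index ∣
      (Subgroup.centralizer ({x} : Set G)).index := by
  have h1 : (Subgroup.centralizer ({x} : Set G)).map (QuotientGroup.mk' K) ≤
      Subgroup.centralizer ({(QuotientGroup.mk x : G ⧸ K)} : Set (G ⧸ K)) := by
    rintro _ ⟨g, hg, rfl⟩
    rw [Subgroup.mem_centralizer_singleton_iff]
    have hg' : g * x = x * g := Subgroup.mem_centralizer_singleton_iff.mp hg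
    show (QuotientGroup.mk g : G ⧸ K) * QuotientGroup.mk x =
      QuotientGroup.mk x * QuotientGroup.mk g
    rw [← QuotientGroup.mk_mul, ← QuotientGroup.mk_mul, hg']
  exact dvd_trans (Subgroup.index_dvd_of_le h1)
    (Subgroup.index_map_dvd _ (QuotientGroup.mk'_surjective K))

/-- Conjugate elements have centralizers of the same index. -/
theorem index_centralizer_conj (x g : G) :
    (Subgroup.centralizer ({g * x * g⁻¹} : Set G)).index =
      (Subgroup.centralizer ({x} : Set G)).index := by
  have h : Subgroup.centralizer ({g * x * g⁻¹} : Set G) =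
      (Subgroup.centralizer ({x} : Set G)).map (MulAut.conj g).toMonoidHom := by
    ext t
    rw [Subgroup.mem_map, Subgroup.mem_centralizer_singleton_iff]
    constructor
    · intro ht
      refine ⟨g⁻¹ * t * g, ?_, ?_⟩
      · rw [Subgroup.mem_centralizer_singleton_iff]
        have : g⁻¹ * t * g * x = g⁻¹ * (t * (g * x * g⁻¹)) * g := by group
        rw [this, ht]
        group
      · simp [MulAut.conj_apply]
        group
    · rintro ⟨s, hs, rfl⟩
      rw [Subgroup.mem_centralizer_singleton_iff] at hs
      simp only [MulEquiv.coe_toMonoidHom, MulAut.conj_apply]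
      have : g * s * g⁻¹ * (g * x * g⁻¹) = g * (s * x) * g⁻¹ := by group
      rw [this, hs]
      group
  rw [h]
  exact Subgroup.index_map_equiv _ (MulAut.conj g)

end Index

section Solvable

variable {H : Type*} [Group H]

/-- A finite join of solvable normal subgroups is solvable (and normal). -/
theorem isSolvable_iSup_of_normal [Finite H] {ι : Type*} (f : ι → Subgroup H)
    (hn : ∀ i, (f i).Normal) (hs : ∀ i, Group.IsSolvable (f i)) : Group.IsSolvable ↥(⨆ i, f i) := by
  classical
  have hfin : (Set.range f).Finite := Set.toFinite _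
  have h1 : (⨆ i, f i) = hfin.toFinset.sup id := by
    rw [Finset.sup_id_eq_sSup, Set.Finite.coe_toFinset, sSup_range]
  rw [h1]
  have key : (hfin.toFinset.sup id).Normal ∧ Group.IsSolvable ↥(hfin.toFinset.sup id) := by
    apply Finset.sup_induction (p := fun X : Subgroup H => X.Normal ∧ Group.IsSolvable ↥X)
    · refine ⟨inferInstance, ?_⟩
      infer_instance
    · rintro X ⟨hXn, hXs⟩ Y ⟨hYn, hYs⟩
      refine ⟨inferInstance, ?_⟩
      apply Cfsg.Agent.Lib.Helper22.isSolvable_sup_of_le_normalizer _ hXs hYs
      rw [Subgroup.normalizer_eq_top_iff.mpr hXn]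
      exact le_top
    · intro X hX
      rw [Set.Finite.mem_toFinset] at hX
      obtain ⟨i, rfl⟩ := hX
      exact ⟨hn i, hs i⟩
  exact key.2

end Solvable

end Cfsg.Agent.Lib.Helper21
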