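/-
helper21 shared library: from the scalar character of Kazarin's lemma to a proper normal
subgroup with a strong arithmetic property.
-/
import Mathlib
import Cfsg.Agent.Lib.Helper21.Kazarin2

set_option autoImplicit false
set_option linter.style.haveILetI false

namespace Cfsg.Agent.Lib.Helper21

open Cfsg
open scoped ComplexConjugate

/-- If `1 - ω` lies in the local ideal, so does `1 - ω ^ i`. -/
theorem memLocalIdeal_one_sub_pow {M : Ideal AlgInt} [M.IsPrime] {ω : ℂ}
    (hω : Cfsg.MemLocalRing M ω) (h : Cfsg.MemLocalIdeal M (1 - ω)) (i : ℕ) :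
    Cfsg.MemLocalIdeal M (1 - ω ^ i) := by
  induction i with
  | zero =>
    simpa using Cfsg.Agent.Lib.Helper16.memLocalIdeal_zero (M := M) (Ideal.IsPrime.ne_top ‹_›)
  | succ i ih =>
    have e : 1 - ω ^ (i + 1) = (1 - ω ^ i) + ω ^ i * (1 - ω) := by ring
    rw [e]
    exact Cfsg.Agent.Lib.Helper16.memLocalIdeal_add ih
      (Cfsg.Agent.Lib.Helper16.memLocalIdeal_mul_left
        (Cfsg.Agent.Lib.Helper16.memLocalRing_pow hω i) h)

/-- A root of unity `ω' ≠ 1` of prime order `ℓ` which is congruent to `1` modulo a `q`-modular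
ideal forces `ℓ = q`. -/
theorem prime_eq_of_root_of_unity_congr_one {M : Ideal AlgInt} {q ℓ : ℕ}
    (hM : Cfsg.IsPModular q M) (hℓ : ℓ.Prime) {ω : ℂ} (hω : Cfsg.MemLocalRing M ω)
    (h : Cfsg.MemLocalIdeal M (1 - ω)) (hne : ω ≠ 1) (hpow : ω ^ ℓ = 1) : ℓ = q := by
  haveI := Cfsg.Agent.Lib.Helper16.isPModular_isPrime hM
  have hgeom : (∑ i ∈ Finset.range ℓ, ω ^ i) = 0 := by
    have h1 := geom_sum_mul ω ℓ
    rw [hpow, sub_self] at h1
    rcases mul_eq_zero.mp h1 with h2 | h2
    · exact h2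
    · exact absurd (sub_eq_zero.mp h2) hne
  have hsum : Cfsg.MemLocalIdeal M (∑ i ∈ Finset.range ℓ, (1 - ω ^ i)) :=
    Cfsg.Agent.Lib.Helper16.memLocalIdeal_sum _ _
      (fun i _ => memLocalIdeal_one_sub_pow hω h i)
  rw [Finset.sum_sub_distrib, hgeom, sub_zero] at hsum
  simp only [Finset.sum_const, Finset.card_range, nsmul_eq_mul, mul_one] at hsum
  have hdvd := (Cfsg.Agent.Lib.Helper16.memLocalIdeal_natCast_iff hM ℓ).mp hsum
  exact ((Nat.prime_dvd_prime_iff_eq hM.1 hℓ).mp hdvd).symm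

/-- **Kazarin's lemma, group-theoretic form.**  If the class of `x` has `p`-power size and
`q ≠ p` is a prime dividing `|G|`, there is a proper normal subgroup `K` such that every power of
`x` having prime order `ℓ` modulo `K` has `ℓ = q`. -/
theorem exists_normal_of_prime_power_class {G : Type*} [Group G] [Finite G] (x : G)
    {p k q : ℕ} (hp : p.Prime) (hq : q.Prime) (hpq : p ≠ q)
    (hidx : (Subgroup.centralizer ({x} : Set G)).index = p ^ k) (hqG : q ∣ Nat.card G) :
    ∃ K : Subgroup G, K.Normal ∧ K ≠ ⊤ ∧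
      ∀ ℓ : ℕ, ℓ.Prime → ∀ j : ℕ, x ^ j ∉ K → (x ^ j) ^ ℓ ∈ K → ℓ = q := by
  classical
  have := Fintype.ofFinite G
  obtain ⟨M, hM⟩ := exists_isPModular_of_prime q hq
  haveI hMp := Cfsg.Agent.Lib.Helper16.isPModular_isPrime hM
  obtain ⟨χ, hχB, hχne, n, ρ, hirr, hρ, ω, hω⟩ :=
    exists_irr_scalar_of_prime_power_class x hp hpq hidx hqG hM
  have hdeg : Cfsg.charDegree (χ : G → ℂ) = n := by
    rw [← hρ]; exact Cfsg.Agent.Lib.Helper79.charDegree_of_rep ρ
  have hnpos : 0 < n := by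
    rw [← hdeg]; exact Cfsg.Agent.Lib.Helper79.irr_charDegree_pos χ
  have hnC : (n : ℂ) ≠ 0 := by exact_mod_cast hnpos.ne'
  -- scalars acting trivially are `1`
  have hscal_inj : ∀ c : ℂ, c • (LinearMap.id : (Fin n → ℂ) →ₗ[ℂ] _) = LinearMap.id → c = 1 := by
    intro c hc
    have h1 := congrArg (fun f : (Fin n → ℂ) →ₗ[ℂ] (Fin n → ℂ) => f (fun _ => (1 : ℂ)) ⟨0, hnpos⟩) hc
    simpa using h1
  have hpowρ : ∀ j : ℕ, ρ (x ^ j) = (ω ^ j) • (LinearMap.id : (Fin n → ℂ) →ₗ[ℂ] _) := by
    intro j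
    rw [map_pow, hω]
    induction j with
    | zero => simp; rfl
    | succ j ih =>
      rw [pow_succ, ih, pow_succ]
      ext v i
      simp [mul_comm, mul_assoc]
  refine ⟨MonoidHom.ker ρ, MonoidHom.normal_ker ρ, ?_, ?_⟩
  · intro hK
    have htriv : ∀ g : G, ρ g = LinearMap.id := by
      intro g
      have : g ∈ MonoidHom.ker ρ := by rw [hK]; exact Subgroup.mem_top g
      exact MonoidHom.mem_ker.mp this
    have hconst : ∀ g, (χ : G → ℂ) g = (n : ℂ) := by
      intro g
      rw [← hρ]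
      show LinearMap.trace ℂ _ (ρ g) = _
      rw [htriv g]
      simp
    have hself := Cfsg.Agent.Lib.Helper78.classInner_irr_self χ.2
    unfold Cfsg.classInner at hself
    simp only [hconst] at hself
    have hcard : (Nat.card G : ℂ) ≠ 0 := by
      have : Nat.card G ≠ 0 := Nat.card_pos.ne'
      exact_mod_cast this
    have hn2 : (n : ℂ) * (n : ℂ) = 1 := by
      simp only [Finset.sum_const, Finset.card_univ, nsmul_eq_mul, map_natCast] at hself
      rw [← Nat.card_eq_fintype_card, ← mul_assoc, inv_mul_cancel₀ hcard, one_mul] at hself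
      exact hself
    have hn1 : n = 1 := by
      have : n * n = 1 := by exact_mod_cast hn2
      exact Nat.eq_one_of_mul_eq_one_left this
    apply hχne
    apply Subtype.ext
    funext g
    rw [hconst g, hn1]
    simp [principalIrr]
  · intro ℓ hℓ j hj1 hj2
    -- `ω` is a root of unity, hence integral
    have hωpow : ω ^ orderOf x = 1 := by
      apply hscal_inj
      rw [← hpowρ, pow_orderOf_eq_one, map_one]; rfl
    have hωint : IsIntegral ℤ ω := by
      refine ⟨Polynomial.X ^ orderOf x - 1, ?_, ?_⟩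
      · exact Polynomial.monic_X_pow_sub_C (1 : ℤ) (orderOf_pos x).ne'
      · simp [hωpow]
    have hωR : Cfsg.MemLocalRing M ω :=
      Cfsg.Agent.Lib.Helper16.memLocalRing_of_isIntegral hMp.ne_top hωint
    -- the block condition at `x`
    have hblock := hχB x
    unfold centralChar at hblock
    have hχx : (χ : G → ℂ) x = (n : ℂ) * ω := by
      rw [← hρ]
      show LinearMap.trace ℂ _ (ρ x) = _
      rw [hω]
      simp [mul_comm]
    have hχ1 : (χ : G → ℂ) 1 = (n : ℂ) := by
      rw [Cfsg.Agent.Lib.Helper79.irr_apply_one_eq_charDegree χ, hdeg]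
    rw [hχx, hχ1, hidx] at hblock
    have e : ((p ^ k : ℕ) : ℂ) * 1 / 1 - ((p ^ k : ℕ) : ℂ) * ((n : ℂ) * ω) / (n : ℂ) =
        ((p ^ k : ℕ) : ℂ) * (1 - ω) := by
      field_simp
    rw [e] at hblock
    have hpk : ¬ Cfsg.MemLocalIdeal M ((p ^ k : ℕ) : ℂ) := by
      rw [Cfsg.Agent.Lib.Helper16.memLocalIdeal_natCast_iff hM]
      intro h
      have := hq.dvd_of_dvd_pow h
      exact hpq ((Nat.prime_dvd_prime_iff_eq hq hp).mp this).symm
    have h1ω : Cfsg.MemLocalIdeal M (1 - ω) := by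
      rcases (Cfsg.Agent.Lib.Helper16.memLocalIdeal_mul_iff
        (Cfsg.Agent.Lib.Helper16.memLocalRing_natCast hMp.ne_top _)
        (Cfsg.Agent.Lib.Helper16.memLocalRing_sub
          (Cfsg.Agent.Lib.Helper16.memLocalRing_one hMp.ne_top) hωR)).mp hblock with h | h
      · exact absurd h hpk
      · exact h
    -- now `ω' = ω ^ j`
    have hne : ω ^ j ≠ 1 := by
      intro h1
      apply hj1
      rw [MonoidHom.mem_ker, hpowρ, h1, one_smul]; rfl
    have hpow : (ω ^ j) ^ ℓ = 1 := by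
      apply hscal_inj
      rw [← pow_mul, ← hpowρ, pow_mul]
      exact MonoidHom.mem_ker.mp hj2
    exact prime_eq_of_root_of_unity_congr_one hM hℓ
      (Cfsg.Agent.Lib.Helper16.memLocalRing_pow hωR j) (memLocalIdeal_one_sub_pow hωR h1ω j)
      hne hpow

end Cfsg.Agent.Lib.Helper21
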