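/-
helper21 shared library: Kazarin's theorem.  If the conjugacy class of `x` has prime-power size,
the normal closure of `x` is solvable.
-/
import Mathlib
import Cfsg.Agent.Lib.Helper21.Kazarin3

set_option autoImplicit false
set_option linter.style.haveILetI false

namespace Cfsg.Agent.Lib.Helper21

open Cfsg

universe u

/-- A non-solvable finite group has order divisible by two distinct primes different from a
given prime `p` (Burnside's `p^a q^b` theorem). -/
theorem exists_two_primes_of_not_solvable {G : Type*} [Group G] [Finite G] {p : ℕ} (hp : p.Prime)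
    (hns : ¬ Group.IsSolvable G) :
    ∃ q₁ q₂ : ℕ, q₁.Prime ∧ q₂.Prime ∧ q₁ ≠ q₂ ∧ q₁ ≠ p ∧ q₂ ≠ p ∧
      q₁ ∣ Nat.card G ∧ q₂ ∣ Nat.card G := by
  have hn0 : Nat.card G ≠ 0 := Nat.card_pos.ne'
  have hnm := Nat.ordProj_mul_ordCompl_eq_self (Nat.card G) p
  have hpm := Nat.not_dvd_ordCompl hp hn0
  set m := Nat.card G / p ^ (Nat.card G).factorization p with hm
  have hmn : m ∣ Nat.card G := Dvd.intro_left _ hnm
  have hm0 : m ≠ 0 := by
    rintro h0
    rw [h0, mul_zero] at hnm
    exact hn0 hnm.symm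
  by_cases hm1 : m = 1
  · exfalso
    apply hns
    refine Cfsg.Agent.S0144.result p 2 ((Nat.card G).factorization p) 0 hp Nat.prime_two ?_
    rw [pow_zero, mul_one]
    rw [hm1, mul_one] at hnm
    exact hnm.symm
  have hq₁ : m.minFac.Prime := Nat.minFac_prime hm1
  have hq₁m : m.minFac ∣ m := Nat.minFac_dvd m
  have hq₁p : m.minFac ≠ p := fun h => hpm (h ▸ hq₁m)
  have hnm' := Nat.ordProj_mul_ordCompl_eq_self m m.minFac
  have hpm' := Nat.not_dvd_ordCompl hq₁ hm0
  set m' := m / m.minFac ^ m.factorization m.minFac with hm'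
  have hm'm : m' ∣ m := Dvd.intro_left _ hnm'
  by_cases hm'1 : m' = 1
  · exfalso
    apply hns
    refine Cfsg.Agent.S0144.result p m.minFac ((Nat.card G).factorization p)
      (m.factorization m.minFac) hp hq₁ ?_
    rw [hm'1, mul_one] at hnm'
    rw [hnm']
    exact hnm.symm
  have hq₂ : m'.minFac.Prime := Nat.minFac_prime hm'1
  have hq₂m : m'.minFac ∣ m' := Nat.minFac_dvd m'
  refine ⟨m.minFac, m'.minFac, hq₁, hq₂, ?_, hq₁p, ?_, hq₁m.trans hmn,
    (hq₂m.trans hm'm).trans hmn⟩
  · intro h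
    apply hpm'
    rw [h]
    exact hq₂m
  · intro h
    apply hpm
    rw [← h]
    exact hq₂m.trans hm'm

/-- Transfer of solvability from `⊤`. -/
theorem isSolvable_of_top {H : Type*} [Group H] (h : Group.IsSolvable ↥(⊤ : Subgroup H)) :
    Group.IsSolvable H :=
  Group.isSolvable_of_isSolvable_injective (f := (Subgroup.topEquiv (G := H)).symm.toMonoidHom)
    (Subgroup.topEquiv (G := H)).symm.injective

theorem isSolvable_of_eq_top {H : Type*} [Group H] {N : Subgroup H} (hN : N = ⊤)
    (h : Group.IsSolvable ↥N) : Group.IsSolvable H := by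
  subst hN
  exact isSolvable_of_top h

/-- A `p`-power divisor of a `p`-power. -/
theorem exists_eq_pow_of_dvd_pow {p k d : ℕ} (hp : p.Prime) (h : d ∣ p ^ k) : ∃ k', d = p ^ k' := by
  obtain ⟨k', _, hk'⟩ := (Nat.dvd_prime_pow hp).mp h
  exact ⟨k', hk'⟩

/-- **Kazarin's theorem**, induction form. -/
theorem kazarin_aux : ∀ (n : ℕ) (G : Type u) [Group G] [Finite G], Nat.card G = n →
    ∀ (x : G) (p k : ℕ), p.Prime → (Subgroup.centralizer ({x} : Set G)).index = p ^ k →
    Group.IsSolvable ↥(Subgroup.normalClosure ({x} : Set G)) := by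
  intro n
  induction n using Nat.strong_induction_on with
  | _ n ih =>
  intro G _ _ hcard x p k hp hidx
  -- Claim A
  have claimA : ∀ y : G, (∃ k' : ℕ, (Subgroup.centralizer ({y} : Set G)).index = p ^ k') →
      Subgroup.normalClosure ({y} : Set G) ≠ ⊤ →
      Group.IsSolvable ↥(Subgroup.normalClosure ({y} : Set G)) := by
    intro y hy hne
    obtain ⟨k', hk'⟩ := hy
    set N := Subgroup.normalClosure ({y} : Set G) with hN
    have hNlt : Nat.card N < n := by
      rw [← hcard]
      exact lt_of_le_of_ne (Subgroup.card_le_card_group N)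
        (mt (Subgroup.card_eq_iff_eq_top N).mp hne)
    have hmem : ∀ g : G, g * y * g⁻¹ ∈ N := by
      intro g
      apply Subgroup.conjugatesOfSet_subset_normalClosure
      rw [Group.mem_conjugatesOfSet_iff]
      exact ⟨y, rfl, isConj_iff.mpr ⟨g, rfl⟩⟩
    let z : G → N := fun g => ⟨g * y * g⁻¹, hmem g⟩
    let f : G → Subgroup N := fun g => Subgroup.normalClosure ({z g} : Set N)
    have hfs : ∀ g, Group.IsSolvable ↥(f g) := by
      intro g
      have h1 : (Subgroup.centralizer ({z g} : Set N)).index ∣ p ^ k' := by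
        have := index_centralizer_dvd_of_normal N (z g)
        rw [show ((z g : N) : G) = g * y * g⁻¹ from rfl, index_centralizer_conj, hk'] at this
        exact this
      obtain ⟨k'', hk''⟩ := exists_eq_pow_of_dvd_pow hp h1
      exact ih (Nat.card N) hNlt N rfl (z g) p k'' hp hk''
    have hsup : (⨆ g, f g) = ⊤ := by
      rw [eq_top_iff]
      have h1 : Subgroup.closure (((↑) : N → G) ⁻¹' (Group.conjugatesOfSet ({y} : Set G))) =
          (⊤ : Subgroup N) := Subgroup.closure_closure_coe_preimage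
      rw [← h1, Subgroup.closure_le]
      intro t ht
      rw [Set.mem_preimage, Group.mem_conjugatesOfSet_iff] at ht
      obtain ⟨a, ha, hconj⟩ := ht
      rw [Set.mem_singleton_iff] at ha
      subst ha
      obtain ⟨g, hg⟩ := isConj_iff.mp hconj
      have htz : t = z g := Subtype.ext hg.symm
      rw [htz]
      have h2 : z g ∈ f g := Subgroup.subset_normalClosure (Set.mem_singleton _)
      exact (le_iSup f g) h2
    have hs := isSolvable_iSup_of_normal f (fun g => Subgroup.normalClosure_normal) hfs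
    exact isSolvable_of_eq_top hsup hs
  by_cases htop : Subgroup.normalClosure ({x} : Set G) = ⊤
  swap
  · exact claimA x ⟨k, hidx⟩ htop
  -- it suffices to show `G` solvable
  suffices hG : Group.IsSolvable G by infer_instance
  by_cases hx1 : x = 1
  · have hbot : Subgroup.normalClosure ({x} : Set G) = ⊥ := by
      rw [Subgroup.normalClosure_eq_bot_iff, hx1]
    have hs : Group.IsSolvable ↥(Subgroup.normalClosure ({x} : Set G)) := by
      rw [hbot]; infer_instance
    exact isSolvable_of_eq_top htop hs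
  by_cases hS : ∃ Mn : Subgroup G, Mn.Normal ∧ Mn ≠ ⊥ ∧ Group.IsSolvable ↥Mn
  · obtain ⟨Mn, hMn, hMnb, hMns⟩ := hS
    have hlt : Nat.card (G ⧸ Mn) < n := by
      rw [← hcard, Subgroup.card_eq_card_quotient_mul_card_subgroup Mn]
      have h1 : 1 < Nat.card Mn := (Subgroup.one_lt_card_iff_ne_bot Mn).mpr hMnb
      have h2 : 0 < Nat.card (G ⧸ Mn) := Nat.card_pos
      nlinarith
    have h1 : (Subgroup.centralizer
        ({(QuotientGroup.mk x : G ⧸ Mn)} : Set (G ⧸ Mn))).index ∣ p ^ k := by
      rw [← hidx]; exact index_centralizer_mk_dvd Mn x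
    obtain ⟨k', hk'⟩ := exists_eq_pow_of_dvd_pow hp h1
    have hq := ih (Nat.card (G ⧸ Mn)) hlt (G ⧸ Mn) rfl (QuotientGroup.mk x) p k' hp hk'
    have hqtop : Subgroup.normalClosure ({(QuotientGroup.mk x : G ⧸ Mn)} : Set (G ⧸ Mn)) = ⊤ := by
      have := Subgroup.map_normalClosure ({x} : Set G) (QuotientGroup.mk' Mn)
        (QuotientGroup.mk'_surjective Mn)
      rw [htop, Set.image_singleton, ← MonoidHom.range_eq_map,
        MonoidHom.range_eq_top.mpr (QuotientGroup.mk'_surjective Mn)] at this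
      exact this.symm
    have hQ : Group.IsSolvable (G ⧸ Mn) := isSolvable_of_eq_top hqtop hq
    refine Group.isSolvable_of_ker_le_range Mn.subtype (QuotientGroup.mk' Mn) ?_
    rw [QuotientGroup.ker_mk', Subgroup.range_subtype]
  -- no nontrivial solvable normal subgroups
  have claimB : ∀ K : Subgroup G, K.Normal → K ≠ ⊤ → ∀ j : ℕ, x ^ j ∈ K → x ^ j = 1 := by
    intro K hK hKt j hj
    have h1 : (Subgroup.centralizer ({x ^ j} : Set G)).index ∣ p ^ k := by
      rw [← hidx]; exact index_centralizer_pow_dvd x j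
    have hle : Subgroup.normalClosure ({x ^ j} : Set G) ≤ K :=
      Subgroup.normalClosure_le_normal (Set.singleton_subset_iff.mpr hj)
    have hne : Subgroup.normalClosure ({x ^ j} : Set G) ≠ ⊤ := by
      intro h
      apply hKt
      rw [eq_top_iff, ← h]
      exact hle
    have hsol := claimA (x ^ j) (exists_eq_pow_of_dvd_pow hp h1) hne
    by_contra hxj
    apply hS
    refine ⟨Subgroup.normalClosure ({x ^ j} : Set G), Subgroup.normalClosure_normal, ?_, hsol⟩
    rw [Ne, Subgroup.normalClosure_eq_bot_iff]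
    intro h
    exact hxj (h (Set.mem_singleton _))
  by_contra hns
  obtain ⟨q₁, q₂, hq₁, hq₂, hq12, hq₁p, hq₂p, hq₁n, hq₂n⟩ :=
    exists_two_primes_of_not_solvable hp hns
  obtain ⟨K₁, hK₁n, hK₁t, hK₁⟩ :=
    exists_normal_of_prime_power_class x hp hq₁ (Ne.symm hq₁p) hidx hq₁n
  obtain ⟨K₂, hK₂n, hK₂t, hK₂⟩ :=
    exists_normal_of_prime_power_class x hp hq₂ (Ne.symm hq₂p) hidx hq₂n
  have ho1 : orderOf x ≠ 1 := by
    rw [Ne, orderOf_eq_one_iff]; exact hx1
  have ho0 : 0 < orderOf x := orderOf_pos x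
  set ℓ := (orderOf x).minFac with hℓ
  have hℓp : ℓ.Prime := Nat.minFac_prime ho1
  have hℓd : ℓ ∣ orderOf x := Nat.minFac_dvd _
  obtain ⟨j, hj⟩ := hℓd
  have hj0 : j ≠ 0 := by
    rintro rfl
    rw [mul_zero] at hj
    omega
  have hjlt : j < orderOf x := by
    rw [hj]
    have := hℓp.one_lt
    nlinarith [Nat.pos_of_ne_zero hj0]
  have hxj : x ^ j ≠ 1 := pow_ne_one_of_lt_orderOf hj0 hjlt
  have hxjl : (x ^ j) ^ ℓ = 1 := by
    rw [← pow_mul, mul_comm, ← hj, pow_orderOf_eq_one]
  have e1 : ℓ = q₁ := by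
    apply hK₁ ℓ hℓp j
    · intro h; exact hxj (claimB K₁ hK₁n hK₁t j h)
    · rw [hxjl]; exact K₁.one_mem
  have e2 : ℓ = q₂ := by
    apply hK₂ ℓ hℓp j
    · intro h; exact hxj (claimB K₂ hK₂n hK₂t j h)
    · rw [hxjl]; exact K₂.one_mem
  exact hq12 (e1.symm.trans e2)

/-- **Kazarin's theorem.**  If the conjugacy class of `x` has prime-power size, then the normal
closure of `x` is solvable. -/
theorem kazarin {G : Type u} [Group G] [Finite G] (x : G) {p k : ℕ} (hp : p.Prime)
    (hidx : (Subgroup.centralizer ({x} : Set G)).index = p ^ k) :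
    Group.IsSolvable ↥(Subgroup.normalClosure ({x} : Set G)) :=
  kazarin_aux (Nat.card G) G rfl x p k hp hidx

end Cfsg.Agent.Lib.Helper21
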