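/-
helper21 shared library: the centre of the layer (S1263).
All declarations live in `Cfsg.Agent.Lib.Helper21`.
-/
import Mathlib
import Cfsg.Prelude.Def_Local
import Cfsg.Agent.Lib.Helper21.Components

set_option autoImplicit false

namespace Cfsg.Agent.Lib.Helper21

open Cfsg
open scoped Pointwise commutatorElement

universe u

section General

variable {G : Type*} [Group G]

/-- Elements of `H ⊔ K` with `H`, `K` commuting elementwise are products `h * k`. -/
theorem exists_mul_of_mem_sup_of_commute {H K : Subgroup G}
    (hc : ∀ h ∈ H, ∀ k ∈ K, h * k = k * h) {x : G} (hx : x ∈ H ⊔ K) :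
    ∃ h ∈ H, ∃ k ∈ K, x = h * k := by
  rw [Subgroup.sup_eq_closure] at hx
  induction hx using Subgroup.closure_induction with
  | mem y hy =>
    rcases hy with hy | hy
    · exact ⟨y, hy, 1, K.one_mem, by simp⟩
    · exact ⟨1, H.one_mem, y, hy, by simp⟩
  | one => exact ⟨1, H.one_mem, 1, K.one_mem, by simp⟩
  | mul a b _ _ iha ihb =>
    obtain ⟨h, hh, k, hk, rfl⟩ := iha
    obtain ⟨h', hh', k', hk', rfl⟩ := ihb
    refine ⟨h * h', H.mul_mem hh hh', k * k', K.mul_mem hk hk', ?_⟩
    have := hc h' hh' k hk
    calc h * k * (h' * k') = h * (k * h') * k' := by group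
      _ = h * (h' * k) * k' := by rw [this]
      _ = h * h' * (k * k') := by group
  | inv a _ iha =>
    obtain ⟨h, hh, k, hk, rfl⟩ := iha
    refine ⟨h⁻¹, H.inv_mem hh, k⁻¹, K.inv_mem hk, ?_⟩
    have := hc h⁻¹ (H.inv_mem hh) k⁻¹ (K.inv_mem hk)
    rw [mul_inv_rev, this]

end General

section LayerCenter

variable {G : Type u} [Group G] [Finite G]

/-- The centre of a subgroup, as a subgroup of the ambient group. -/
abbrev centerIn (L : Subgroup G) : Subgroup G := (Subgroup.center ↥L).map L.subtype

omit [Finite G] in
theorem mem_centerIn_iff {L : Subgroup G} {z : G} :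
    z ∈ centerIn L ↔ z ∈ L ∧ ∀ x ∈ L, x * z = z * x := by
  constructor
  · rintro ⟨⟨z, hz⟩, hzc, rfl⟩
    refine ⟨hz, fun x hx => ?_⟩
    have := Subgroup.mem_center_iff.mp hzc ⟨x, hx⟩
    exact congrArg Subtype.val this
  · rintro ⟨hz, hc⟩
    refine ⟨⟨z, hz⟩, ?_, rfl⟩
    show (⟨z, hz⟩ : L) ∈ Subgroup.center ↥L
    rw [Subgroup.mem_center_iff]
    intro g
    apply Subtype.ext
    exact hc g.1 g.2

theorem center_decomp_aux (T : Finset (Subgroup G)) :
    (∀ L ∈ T, IsComponent L) → ∀ z ∈ ⨆ L ∈ T, L, (∀ L ∈ T, ∀ x ∈ L, x * z = z * x) →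
      z ∈ ⨆ L ∈ T, centerIn L := by
  classical
  induction T using Finset.induction_on with
  | empty =>
    intro _ z hz _
    simpa using hz
  | insert L T hLT ih =>
    intro hcomp z hz hcz
    rw [Finset.iSup_insert] at hz ⊢
    have hcompT : ∀ K ∈ T, IsComponent K := fun K hK => hcomp K (Finset.mem_insert_of_mem hK)
    have hL : IsComponent L := hcomp L (Finset.mem_insert_self L T)
    -- `L` commutes with the join of the others
    have hcomm : ∀ l ∈ L, ∀ e ∈ ⨆ K ∈ T, K, l * e = e * l := by
      have : (⨆ K ∈ T, K) ≤ Subgroup.centralizer (L : Set G) := by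
        apply iSup₂_le
        intro K hK
        have hne : K ≠ L := fun h => hLT (h ▸ hK)
        have := component_commutator_eq_bot_of_ne (hcompT K hK) hL hne
        rwa [Subgroup.commutator_eq_bot_iff_le_centralizer] at this
      intro l hl e he
      exact this he l hl
    obtain ⟨l, hl, e, he, rfl⟩ := exists_mul_of_mem_sup_of_commute hcomm hz
    -- `l` is central in `L`
    have hlc : l ∈ centerIn L := by
      rw [mem_centerIn_iff]
      refine ⟨hl, fun x hx => ?_⟩
      have h1 := hcz L (Finset.mem_insert_self L T) x hx
      have h2 := hcomm x hx e he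
      -- x * (l * e) = (l * e) * x and x * e = e * x
      have : x * l * e = l * x * e := by
        calc x * l * e = x * (l * e) := by group
          _ = l * e * x := h1
          _ = l * (e * x) := by group
          _ = l * (x * e) := by rw [h2]
          _ = l * x * e := by group
      exact mul_right_cancel this
    -- `e` centralizes each `K ∈ T`
    have hec : ∀ K ∈ T, ∀ x ∈ K, x * e = e * x := by
      intro K hK x hx
      have hne : K ≠ L := fun h => hLT (h ▸ hK)
      have hKL := component_commutator_eq_bot_of_ne (hcompT K hK) hL hne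
      have h1 : x * l = l * x := (commutator_eq_bot_iff_commute.mp hKL) x hx l hl
      have h2 := hcz K (Finset.mem_insert_of_mem hK) x hx
      have : l * (x * e) = l * (e * x) := by
        calc l * (x * e) = (l * x) * e := by group
          _ = (x * l) * e := by rw [h1]
          _ = x * (l * e) := by group
          _ = l * e * x := h2
          _ = l * (e * x) := by group
      exact mul_left_cancel this
    have he' := ih hcompT e he hec
    exact Subgroup.mul_mem_sup hlc he'

/-- S1263: `Z(E(G))` is generated by the centres of the components. -/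
theorem center_layer_eq_iSup :
    (Subgroup.center ↥(layer G)).map (layer G).subtype =
      ⨆ L : {K : Subgroup G // IsComponent K},
        (Subgroup.center ↥(L : Subgroup G)).map (L : Subgroup G).subtype := by
  classical
  have hfin : {K : Subgroup G | IsComponent K}.Finite := Set.toFinite _
  set T : Finset (Subgroup G) := hfin.toFinset with hT
  have hmemT : ∀ K, K ∈ T ↔ IsComponent K := by
    intro K; simp [hT]
  have hlayer : layer G = ⨆ L ∈ T, L := by
    unfold layer
    rw [sSup_eq_iSup]
    apply le_antisymm
    · apply iSup₂_le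
      intro K hK
      exact le_iSup₂_of_le K ((hmemT K).mpr hK) le_rfl
    · apply iSup₂_le
      intro K hK
      exact le_iSup₂_of_le K ((hmemT K).mp hK) le_rfl
  have hrhs : (⨆ L : {K : Subgroup G // IsComponent K},
      (Subgroup.center ↥(L : Subgroup G)).map (L : Subgroup G).subtype) = ⨆ L ∈ T, centerIn L := by
    apply le_antisymm
    · apply iSup_le
      rintro ⟨K, hK⟩
      exact le_iSup₂_of_le K ((hmemT K).mpr hK) le_rfl
    · apply iSup₂_le
      intro K hK
      exact le_iSup_of_le ⟨K, (hmemT K).mp hK⟩ le_rfl
  rw [hrhs]
  apply le_antisymm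
  · intro z hz
    have hz' := (mem_centerIn_iff (L := layer G)).mp hz
    apply center_decomp_aux T (fun L hL => (hmemT L).mp hL) z
    · rw [← hlayer]; exact hz'.1
    · intro L hL x hx
      exact hz'.2 x (component_le_layer ((hmemT L).mp hL) hx)
  · apply iSup₂_le
    intro L hL
    have hLc := (hmemT L).mp hL
    intro z hz
    have hz' := mem_centerIn_iff.mp hz
    apply (mem_centerIn_iff (L := layer G)).mpr
    refine ⟨component_le_layer hLc hz'.1, ?_⟩
    -- the centralizer of `z` contains every component
    have : layer G ≤ Subgroup.centralizer ({z} : Set G) := by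
      unfold layer
      apply sSup_le
      intro K hK x hx
      rw [Subgroup.mem_centralizer_singleton_iff]
      by_cases hKL : K = L
      · subst hKL
        exact (hz'.2 x hx)
      · have hKLc := component_commutator_eq_bot_of_ne hK hLc hKL
        exact ((commutator_eq_bot_iff_commute.mp hKLc) x hx z hz'.1)
    intro x hx
    have := this hx
    rw [Subgroup.mem_centralizer_singleton_iff] at this
    exact this

end LayerCenter

end Cfsg.Agent.Lib.Helper21
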