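import Mathlib
import Cfsg.Prelude.Def_LieRecognition
import Cfsg.Agent.Lib.Helper21.InvertedCyclic
import Cfsg.Agent.Lib.Helper19.RankOne
import Cfsg.Agent.S1122
import Cfsg.Agent.S1123
import Cfsg.Agent.S1124
import Cfsg.Agent.S1127
import Cfsg.Agent.S1130

/-!
# Rank-one set-up: the inverted set `K` is a cyclic normal subgroup of `D` when `D` is solvable

(S1131 modulo solvability of the two-point stabiliser `D`.)
-/

set_option autoImplicit false
open Cfsg
open scoped Pointwise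

namespace Cfsg.Agent.Lib.Helper21.RankOneInverted

variable {G Ω : Type*} [Group G] [Finite G] [MulAction G Ω] [FaithfulSMul G Ω] {a : Ω} {t : G}
  {Q : Subgroup G}

/-- The involutions of `G_a` together with `1`, as a subgroup. -/
def invSub (hS : Cfsg.IsRankOneSetup G Ω a t Q)
    (h2 : ∃ x y : G, x ≠ 1 ∧ y ≠ 1 ∧ x ≠ y ∧ x * x = 1 ∧ y * y = 1 ∧ x * y = y * x) : Subgroup G where
  carrier := {x | x = 1 ∨ x ∈ Cfsg.involutionsIn (MulAction.stabilizer G a : Set G)}
  one_mem' := Or.inl rfl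
  mul_mem' := by
    rintro x y (rfl | hx) (rfl | hy)
    · left; exact one_mul 1
    · right; rwa [one_mul]
    · right; rwa [mul_one]
    · exact (Cfsg.Agent.S1130.result hS h2).2 x hx y hy
  inv_mem' := by
    rintro x (rfl | hx)
    · left; exact inv_one
    · right
      have : x⁻¹ = x := inv_eq_of_mul_eq_one_left hx.2.2
      rwa [this]

theorem mem_invSub (hS : Cfsg.IsRankOneSetup G Ω a t Q)
    (h2 : ∃ x y : G, x ≠ 1 ∧ y ≠ 1 ∧ x ≠ y ∧ x * x = 1 ∧ y * y = 1 ∧ x * y = y * x) (x : G) :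
    x ∈ invSub hS h2 ↔ x = 1 ∨ x ∈ Cfsg.involutionsIn (MulAction.stabilizer G a : Set G) := Iff.rfl

/-- **S1131 modulo solvability of `D`.** -/
theorem ro_inverted_cyclic_normal (hS : Cfsg.IsRankOneSetup G Ω a t Q)
    (h2 : ∃ x y : G, x ≠ 1 ∧ y ≠ 1 ∧ x ≠ y ∧ x * x = 1 ∧ y * y = 1 ∧ x * y = y * x)
    (hsolv : Group.IsSolvable ↥(MulAction.stabilizer G a ⊓ MulAction.stabilizer G (t • a))) :
    ∃ C : Subgroup G, (C : Set G) = Cfsg.invertedBy (MulAction.stabilizer G a ⊓ MulAction.stabilizer G (t • a)) t ∧ IsCyclic C ∧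
      ∀ d ∈ (MulAction.stabilizer G a ⊓ MulAction.stabilizer G (t • a)), ∀ c ∈ C, d * c * d⁻¹ ∈ C := by
  have htinv : t⁻¹ = t := Cfsg.Agent.Lib.Helper19.ro_tinv hS
  have htta : t • t • a = a := Cfsg.Agent.Lib.Helper19.ro_tta hS
  obtain ⟨h30a, h30b⟩ := Cfsg.Agent.S1130.result hS h2
  obtain ⟨h22a, h22b⟩ := Cfsg.Agent.S1122.result hS
  obtain ⟨h27a, h27b⟩ := Cfsg.Agent.S1127.result hS
  obtain ⟨⟨s, r⟩, ⟨hsI, hrQ, hsr⟩, -⟩ := Cfsg.Agent.S1123.result hS
  simp only at hsI hrQ hsr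
  set D : Subgroup G := MulAction.stabilizer G a ⊓ MulAction.stabilizer G (t • a) with hD
  have htD : ∀ d ∈ D, t * d * t⁻¹ ∈ D := by
    intro d hd
    obtain ⟨hda, hdb⟩ := Subgroup.mem_inf.mp hd
    rw [MulAction.mem_stabilizer_iff] at hda hdb
    refine Subgroup.mem_inf.mpr ⟨?_, ?_⟩
    · rw [MulAction.mem_stabilizer_iff, htinv, mul_smul, mul_smul, hdb, htta]
    · rw [MulAction.mem_stabilizer_iff, mul_smul, mul_smul, inv_smul_smul, hda]
  have hDa : ∀ d ∈ D, d ∈ MulAction.stabilizer G a := fun d hd => (Subgroup.mem_inf.mp hd).1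
  have hDM : ∀ d ∈ D, ∀ e ∈ invSub hS h2, d * e * d⁻¹ ∈ invSub hS h2 := by
    rintro d hd e (rfl | he)
    · left; simp
    · right
      refine ⟨?_, ?_, ?_⟩
      · exact Subgroup.mul_mem _ (Subgroup.mul_mem _ (hDa d hd) he.1) (Subgroup.inv_mem _ (hDa d hd))
      · intro h
        apply he.2.1
        have : e = d⁻¹ * (d * e * d⁻¹) * d := by group
        rw [this, h]; group
      · calc d * e * d⁻¹ * (d * e * d⁻¹) = d * (e * e) * d⁻¹ := by group
          _ = 1 := by rw [he.2.2]; group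
  have hcomm : ∀ x ∈ invSub hS h2, ∀ y ∈ invSub hS h2, x * y = y * x := by
    rintro x (rfl | hx) y (rfl | hy)
    · rfl
    · rw [one_mul, mul_one]
    · rw [one_mul, mul_one]
    · exact (h30a x hx).2 y (h30a y hy).1
  have hexp : ∀ x ∈ invSub hS h2, x * x = 1 := by
    rintro x (rfl | hx)
    · exact one_mul 1
    · exact hx.2.2
  have htrans : ∀ x ∈ invSub hS h2, x ≠ 1 → ∀ y ∈ invSub hS h2, y ≠ 1 → ∃ d ∈ D, d * x * d⁻¹ = y := by
    intro x hx hx1 y hy hy1
    have hx' : x ∈ Cfsg.involutionsIn (MulAction.stabilizer G a : Set G) :=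
      hx.resolve_left hx1
    have hy' : y ∈ Cfsg.involutionsIn (MulAction.stabilizer G a : Set G) :=
      hy.resolve_left hy1
    obtain ⟨k, hk, hkxy⟩ := h22b x hx' y hy'
    refine ⟨k⁻¹, D.inv_mem hk.1, ?_⟩
    rw [inv_inv]; exact hkxy
  have hsM : s ∈ invSub hS h2 := Or.inr hsI
  have hV : ∀ d ∈ D, t * d = d * t → d * s = s * d := by
    intro d hd htd
    have h1 : d ∈ D ⊓ Subgroup.centralizer {t} := by
      refine Subgroup.mem_inf.mpr ⟨hd, ?_⟩
      rw [Subgroup.mem_centralizer_iff]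
      intro z hz
      rw [Set.mem_singleton_iff] at hz
      subst hz
      exact htd
    rw [h27a s r hsI hrQ hsr] at h1
    have h3 := (Subgroup.mem_inf.mp h1).2
    rw [Subgroup.mem_centralizer_iff] at h3
    exact (h3 s rfl).symm
  have hWmem : ∀ d ∈ D, (∀ e ∈ invSub hS h2, d * e = e * d) →
      d ∈ D ⊓ Subgroup.centralizer {t} ⊓ Subgroup.centralizer (Cfsg.invertedBy D t) := by
    intro d hd hde
    rw [h27b]
    refine Subgroup.mem_inf.mpr ⟨hd, ?_⟩
    rw [Subgroup.mem_centralizer_iff]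
    intro e he
    exact (hde e (Or.inr he)).symm
  have hW1 : ∀ d ∈ D, (∀ e ∈ invSub hS h2, d * e = e * d) → t * d = d * t := by
    intro d hd hde
    have h1 := (Subgroup.mem_inf.mp (Subgroup.mem_inf.mp (hWmem d hd hde)).1).2
    rw [Subgroup.mem_centralizer_iff] at h1
    exact h1 t rfl
  have hW2 : ∀ d ∈ D, (∀ e ∈ invSub hS h2, d * e = e * d) →
      ∀ k ∈ Cfsg.invertedBy D t, d * k = k * d := by
    intro d hd hde k hk
    have h1 := (Subgroup.mem_inf.mp (hWmem d hd hde)).2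
    rw [Subgroup.mem_centralizer_iff] at h1
    exact (h1 k hk).symm
  obtain ⟨hCK, hCcyc⟩ := InvertedCyclic.inverted_cyclic_of_transitive D (invSub hS h2) t s hsolv
    hS.odd_card hS.mul_self htD hDM hcomm hexp htrans hsM hsI.2.1 hV hW1 hW2
  refine ⟨Subgroup.closure (Cfsg.invertedBy D t), hCK, hCcyc, ?_⟩
  have hot : orderOf t = 2 :=
    orderOf_eq_prime (by rw [pow_two]; exact hS.mul_self) hS.ne_one
  obtain ⟨-, -, h24⟩ := Cfsg.Agent.S1124.result t hot D hS.odd_card htD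
  intro d hd c hc
  have h1 := h24 d hd
  rw [← h1]
  have h2' : MulAut.conj d • c ∈ MulAut.conj d • Subgroup.closure (Cfsg.invertedBy D t) :=
    Subgroup.smul_mem_pointwise_smul _ _ _ hc
  rwa [MulAut.smul_def, MulAut.conj_apply] at h2'

end Cfsg.Agent.Lib.Helper21.RankOneInverted
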