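import Mathlib
import Cfsg.Agent.Lib.Helper21.InvertedCyclic
import Cfsg.Agent.Lib.Helper19.SuzRegField

/-!
# A group normalizing a regular commutative group acts as field automorphisms

If a commutative subgroup `N` acts regularly by conjugation on `M ∖ {1}` (`M` an abelian `p`-subgroup)
and `V` normalizes `M` and `N` and fixes some `x₀ ∈ M ∖ {1}`, then `V / C_V(M)` embeds in the
automorphism group of a finite field, hence is cyclic: `V = C_V(M) ⟨v⟩` (towards S1133).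
-/

set_option autoImplicit false
open Cfsg

namespace Cfsg.Agent.Lib.Helper21.RegularFieldAut

open Cfsg.Agent.Lib.Helper21.InvertedCyclic

variable {G : Type*} [Group G]

/-- If `V` maps to a cyclic group with kernel inside `W ≤ V`, then `V = W ⟨v⟩`. -/
theorem exists_gen_of_hom_cyclic {A : Type*} [Group A] [IsCyclic A] (V W : Subgroup G) (hWV : W ≤ V)
    (ρ : ↥V →* A) (hker : ∀ x : ↥V, ρ x = 1 → (x : G) ∈ W) :
    ∃ v ∈ V, W ⊔ Subgroup.closure {v} = V := by
  have hcyc : IsCyclic ↥ρ.range := inferInstance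
  obtain ⟨⟨g, v, rfl⟩, hg⟩ := IsCyclic.exists_generator (α := ↥ρ.range)
  refine ⟨v, v.2, le_antisymm (sup_le hWV ((Subgroup.closure_le _).mpr ?_)) ?_⟩
  · intro y hy
    rw [Set.mem_singleton_iff] at hy
    rw [hy]; exact v.2
  · intro x hx
    obtain ⟨i, hi⟩ := Subgroup.mem_zpowers_iff.mp (hg ⟨ρ ⟨x, hx⟩, ⟨_, rfl⟩⟩)
    have h1 : ρ v ^ i = ρ ⟨x, hx⟩ := by
      have := congrArg Subtype.val hi
      rwa [Subgroup.coe_zpow] at this
    have h2 : ρ (⟨x, hx⟩ * v ^ (-i)) = 1 := by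
      rw [map_mul, map_zpow, ← h1, ← zpow_add, add_neg_cancel, zpow_zero]
    have h3 := hker _ h2
    have h4 : x = (x * (v : G) ^ (-i)) * (v : G) ^ i := by group
    rw [h4]
    refine Subgroup.mul_mem _ (Subgroup.mem_sup_left ?_) (Subgroup.mem_sup_right ?_)
    · simpa using h3
    · have hv : (v : G) ∈ Subgroup.closure ({(v : G)} : Set G) :=
        Subgroup.subset_closure (Set.mem_singleton _)
      exact Subgroup.zpow_mem _ hv i

/-- The ring automorphism group of a finite field of characteristic `p` is cyclic. -/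
theorem isCyclic_ringAut (p : ℕ) [Fact p.Prime] (F : Type*) [Field F] [Finite F]
    [Algebra (ZMod p) F] : IsCyclic (F ≃+* F) := by
  have hcomm : ∀ (f : F ≃+* F) (x : ZMod p),
      f ((algebraMap (ZMod p) F) x) = (algebraMap (ZMod p) F) x := by
    intro f x
    have hx : x = ((x.val : ℕ) : ZMod p) := (ZMod.natCast_zmod_val x).symm
    rw [hx, map_natCast, map_natCast]
  let toAlg : (F ≃+* F) →* (F ≃ₐ[ZMod p] F) :=
    { toFun := fun f => AlgEquiv.ofRingEquiv (f := f) (hcomm f)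
      map_one' := by ext x; rfl
      map_mul' := fun f g => by ext x; rfl }
  have hinj : Function.Injective toAlg := by
    intro f g hfg
    ext x
    have := congrArg (fun e : F ≃ₐ[ZMod p] F => e x) hfg
    exact this
  exact isCyclic_of_injective toAlg hinj

/-- **Generic form of S1133.** -/
theorem exists_gen_mod_centralizer [Finite G] (p : ℕ) [Fact p.Prime] (M N V : Subgroup G)
    (hMcomm : ∀ x ∈ M, ∀ y ∈ M, x * y = y * x) (hMp : IsPGroup p ↥M)
    (hNcomm : ∀ x ∈ N, ∀ y ∈ N, x * y = y * x)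
    (hNM : ∀ k ∈ N, ∀ e ∈ M, k * e * k⁻¹ ∈ M)
    (hreg : ∀ x ∈ M, x ≠ 1 → ∀ y ∈ M, y ≠ 1 → ∃! k : ↥N, (k : G) * x * (k : G)⁻¹ = y)
    (hVM : ∀ v ∈ V, ∀ e ∈ M, v * e * v⁻¹ ∈ M) (hVN : ∀ v ∈ V, ∀ k ∈ N, v * k * v⁻¹ ∈ N)
    (x₀ : G) (hx₀ : x₀ ∈ M) (hx₀1 : x₀ ≠ 1) (hVx : ∀ v ∈ V, v * x₀ = x₀ * v) :
    ∃ v ∈ V, (V ⊓ Subgroup.centralizer (M : Set G)) ⊔ Subgroup.closure {v} = V := by
  classical
  obtain ⟨n, hn⟩ := hMp.exists_card_eq
  have hn0 : n ≠ 0 := by
    rintro rfl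
    rw [pow_zero] at hn
    have := (Nat.card_eq_one_iff_unique.mp hn).1
    exact hx₀1 (congrArg Subtype.val (Subsingleton.elim (⟨x₀, hx₀⟩ : ↥M) 1))
  let F : Type := GaloisField p n
  let instFt : Fintype F := Fintype.ofFinite F
  have hFcard : Fintype.card F = Nat.card ↥M := by
    rw [← Nat.card_eq_fintype_card, GaloisField.card p n hn0, hn]
  set cN : ↥N →* MulAut ↥M := conjAct N M hNM with hcN
  set cV : ↥V →* MulAut ↥M := conjAct V M hVM with hcV
  have hcommM : ∀ a b : ↥M, a * b = b * a := fun a b => Subtype.ext (hMcomm a a.2 b b.2)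
  have hT : ∀ s t : ↥N, s * t = t * s := fun s t => Subtype.ext (hNcomm s s.2 t t.2)
  have hregM : ∀ x y : ↥M, x ≠ 1 → y ≠ 1 → ∃! k : ↥N, cN k x = y := by
    intro x y hx hy
    obtain ⟨k, hk, hku⟩ := hreg x x.2 (fun h => hx (Subtype.ext h)) y y.2 (fun h => hy (Subtype.ext h))
    refine ⟨k, Subtype.ext hk, ?_⟩
    intro l hl
    exact hku l (congrArg Subtype.val hl)
  obtain ⟨a, κ, habij, haadd, hax₀, hκ0, hκs, hκm, haκ⟩ :=
    Cfsg.Agent.Lib.Helper19.Suz.regField (M := ↥M) hcommM hT (fun k m => cN k m)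
      (fun t x y => map_mul (cN t) x y)
      (fun s t x => by show cN (s * t) x = cN s (cN t x); rw [map_mul]; rfl)
      (fun x => by show cN 1 x = x; rw [map_one]; rfl)
      hregM ⟨x₀, hx₀⟩ (fun h => hx₀1 (congrArg Subtype.val h)) F hFcard
  have ha1 : a 1 = 0 := by
    have := haadd 1 1
    rw [mul_one] at this
    exact left_eq_add.mp this
  -- the maps `σ v`
  let aE : ↥M ≃ F := Equiv.ofBijective a habij
  have haE : ∀ m, aE.symm (a m) = m := fun m => Equiv.ofBijective_symm_apply_apply a habij m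
  obtain ⟨σ, hσdef⟩ : ∃ σ : ↥V → F → F, ∀ v u, σ v u = a (cV v (aE.symm u)) :=
    ⟨fun v u => a (cV v (aE.symm u)), fun _ _ => rfl⟩
  have hσa : ∀ v m, σ v (a m) = a (cV v m) := by
    intro v m
    rw [hσdef, haE]
  have hσadd : ∀ v u w, σ v (u + w) = σ v u + σ v w := by
    intro v u w
    obtain ⟨m1, rfl⟩ := habij.2 u
    obtain ⟨m2, rfl⟩ := habij.2 w
    rw [← haadd, hσa, hσa, hσa, map_mul, haadd]
  have hσzero : ∀ v, σ v 0 = 0 := by
    intro v
    rw [← ha1, hσa, map_one]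
  have hkey : ∀ (v : ↥V) (k : ↥N) (m : ↥M),
      cV v (cN k m) = cN ⟨(v : G) * k * (v : G)⁻¹, hVN v v.2 k k.2⟩ (cV v m) := by
    intro v k m
    apply Subtype.ext
    rw [hcV, hcN, conjAct_apply, conjAct_apply, conjAct_apply, conjAct_apply]
    show (v : G) * ((k : G) * m * (k : G)⁻¹) * (v : G)⁻¹ =
      ((v : G) * k * (v : G)⁻¹) * ((v : G) * m * (v : G)⁻¹) * ((v : G) * k * (v : G)⁻¹)⁻¹
    group
  have hcVx₀ : ∀ v : ↥V, cV v ⟨x₀, hx₀⟩ = ⟨x₀, hx₀⟩ := by
    intro v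
    apply Subtype.ext
    rw [hcV, conjAct_apply]
    show (v : G) * x₀ * (v : G)⁻¹ = x₀
    rw [hVx v v.2, mul_inv_cancel_right]
  have hσκ : ∀ (v : ↥V) (k : ↥N), σ v (κ k) = κ ⟨(v : G) * k * (v : G)⁻¹, hVN v v.2 k k.2⟩ := by
    intro v k
    have h1 : κ k = a (cN k ⟨x₀, hx₀⟩) := by
      rw [haκ, hax₀, mul_one]
    rw [h1, hσa, hkey, haκ, hcVx₀, hax₀, mul_one]
  have hσmul : ∀ v u w, σ v (u * w) = σ v u * σ v w := by
    intro v u w
    by_cases hu : u = 0
    · rw [hu, zero_mul, hσzero, zero_mul]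
    · obtain ⟨k, rfl⟩ := hκs u hu
      obtain ⟨m, rfl⟩ := habij.2 w
      rw [← haκ, hσa, hkey, haκ, hσκ, hσa]
  have hσcomp : ∀ v v' u, σ (v * v') u = σ v (σ v' u) := by
    intro v v' u
    obtain ⟨m, rfl⟩ := habij.2 u
    rw [hσa v' m, hσa v, hσa (v * v'), map_mul]; rfl
  have hσone : ∀ u, σ 1 u = u := by
    intro u
    obtain ⟨m, rfl⟩ := habij.2 u
    rw [hσa, map_one]; rfl
  let ρ : ↥V →* (F ≃+* F) :=
    { toFun := fun v =>
        { toFun := σ v
          invFun := σ v⁻¹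
          left_inv := fun u => by rw [← hσcomp, inv_mul_cancel, hσone]
          right_inv := fun u => by rw [← hσcomp, mul_inv_cancel, hσone]
          map_mul' := hσmul v
          map_add' := hσadd v }
      map_one' := by
        ext u
        exact hσone u
      map_mul' := fun v v' => by
        ext u
        exact hσcomp v v' u }
  have hρ_apply : ∀ v u, ρ v u = σ v u := fun v u => rfl
  have hcyc : IsCyclic (F ≃+* F) := isCyclic_ringAut p F
  apply exists_gen_of_hom_cyclic V (V ⊓ Subgroup.centralizer (M : Set G)) inf_le_left ρ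
  intro v hv
  refine Subgroup.mem_inf.mpr ⟨v.2, ?_⟩
  rw [Subgroup.mem_centralizer_iff]
  intro m hm
  have h1 : σ v (a ⟨m, hm⟩) = a ⟨m, hm⟩ := by
    rw [← hρ_apply, hv]; rfl
  rw [hσa] at h1
  have h2 := congrArg Subtype.val (habij.1 h1)
  rw [hcV, conjAct_apply] at h2
  exact (mul_inv_eq_iff_eq_mul.mp h2).symm

end Cfsg.Agent.Lib.Helper21.RegularFieldAut
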