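import Mathlib
import Cfsg.Prelude.Def_LieRecognition
import Cfsg.Agent.Lib.Helper21.RankOneInverted
import Cfsg.Agent.Lib.Helper21.RegularFieldAut
import Cfsg.Agent.S1128

/-!
# Rank-one set-up: `K` acts regularly on the involutions; `V / W` is cyclic when `D` is solvable

(S1133 modulo solvability of the two-point stabiliser `D`.)
-/

set_option autoImplicit false
open Cfsg

namespace Cfsg.Agent.Lib.Helper21.RankOneField

open Cfsg.Agent.Lib.Helper21.RankOneInverted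

variable {G Ω : Type*} [Group G] [Finite G] [MulAction G Ω] [FaithfulSMul G Ω] {a : Ω} {t : G}
  {Q : Subgroup G}

theorem invSub_comm (hS : Cfsg.IsRankOneSetup G Ω a t Q)
    (h2 : ∃ x y : G, x ≠ 1 ∧ y ≠ 1 ∧ x ≠ y ∧ x * x = 1 ∧ y * y = 1 ∧ x * y = y * x) :
    ∀ x ∈ invSub hS h2, ∀ y ∈ invSub hS h2, x * y = y * x := by
  obtain ⟨h30a, -⟩ := Cfsg.Agent.S1130.result hS h2
  rintro x (rfl | hx) y (rfl | hy)
  · rfl
  · rw [one_mul, mul_one]
  · rw [one_mul, mul_one]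
  · exact (h30a x hx).2 y (h30a y hy).1

theorem invSub_sq (hS : Cfsg.IsRankOneSetup G Ω a t Q)
    (h2 : ∃ x y : G, x ≠ 1 ∧ y ≠ 1 ∧ x ≠ y ∧ x * x = 1 ∧ y * y = 1 ∧ x * y = y * x) :
    ∀ x ∈ invSub hS h2, x * x = 1 := by
  rintro x (rfl | hx)
  · exact one_mul 1
  · exact hx.2.2

theorem invSub_conj (hS : Cfsg.IsRankOneSetup G Ω a t Q)
    (h2 : ∃ x y : G, x ≠ 1 ∧ y ≠ 1 ∧ x ≠ y ∧ x * x = 1 ∧ y * y = 1 ∧ x * y = y * x) :
    ∀ d ∈ MulAction.stabilizer G a, ∀ e ∈ invSub hS h2, d * e * d⁻¹ ∈ invSub hS h2 := by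
  rintro d hd e (rfl | he)
  · left; simp
  · right
    refine ⟨?_, ?_, ?_⟩
    · exact Subgroup.mul_mem _ (Subgroup.mul_mem _ hd he.1) (Subgroup.inv_mem _ hd)
    · intro h
      apply he.2.1
      have : e = d⁻¹ * (d * e * d⁻¹) * d := by group
      rw [this, h]; group
    · calc d * e * d⁻¹ * (d * e * d⁻¹) = d * (e * e) * d⁻¹ := by group
        _ = 1 := by rw [he.2.2]; group

theorem invSub_isPGroup (hS : Cfsg.IsRankOneSetup G Ω a t Q)
    (h2 : ∃ x y : G, x ≠ 1 ∧ y ≠ 1 ∧ x ≠ y ∧ x * x = 1 ∧ y * y = 1 ∧ x * y = y * x) :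
    IsPGroup 2 ↥(invSub hS h2) := by
  intro g
  refine ⟨1, ?_⟩
  rw [pow_one, pow_two]
  exact Subtype.ext (invSub_sq hS h2 g g.2)

/-- `K` (once known to be a subgroup `C`) acts regularly on the involutions of `G_a`. -/
theorem ro_regular (hS : Cfsg.IsRankOneSetup G Ω a t Q)
    (h2 : ∃ x y : G, x ≠ 1 ∧ y ≠ 1 ∧ x ≠ y ∧ x * x = 1 ∧ y * y = 1 ∧ x * y = y * x)
    (C : Subgroup G)
    (hC : (C : Set G) = Cfsg.invertedBy (MulAction.stabilizer G a ⊓ MulAction.stabilizer G (t • a)) t) :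
    ∀ x ∈ invSub hS h2, x ≠ 1 → ∀ y ∈ invSub hS h2, y ≠ 1 →
      ∃! k : ↥C, (k : G) * x * (k : G)⁻¹ = y := by
  obtain ⟨h30a, -⟩ := Cfsg.Agent.S1130.result hS h2
  obtain ⟨-, h22b⟩ := Cfsg.Agent.S1122.result hS
  have hCK : ∀ k, k ∈ C ↔ k ∈ Cfsg.invertedBy (MulAction.stabilizer G a ⊓ MulAction.stabilizer G (t • a)) t := by
    intro k
    rw [← hC]; rfl
  intro x hx hx1 y hy hy1
  have hx' : x ∈ Cfsg.involutionsIn (MulAction.stabilizer G a : Set G) := hx.resolve_left hx1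
  have hy' : y ∈ Cfsg.involutionsIn (MulAction.stabilizer G a : Set G) := hy.resolve_left hy1
  obtain ⟨k, hk, hkxy⟩ := h22b x hx' y hy'
  have hkC : k ∈ C := (hCK k).mpr hk
  refine ⟨⟨k⁻¹, C.inv_mem hkC⟩, ?_, ?_⟩
  · show k⁻¹ * x * (k⁻¹)⁻¹ = y
    rw [inv_inv]; exact hkxy
  · intro l hl
    -- `m = k * l` centralizes `x`
    have hm : k * (l : G) ∈ C := C.mul_mem hkC l.2
    have hmx : (k * (l : G)) * x = x * (k * (l : G)) := by
      have h1 : (l : G) * x * (l : G)⁻¹ = k⁻¹ * x * k := by rw [hl, hkxy]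
      calc (k * (l : G)) * x = k * ((l : G) * x * (l : G)⁻¹) * l := by group
        _ = k * (k⁻¹ * x * k) * l := by rw [h1]
        _ = x * (k * (l : G)) := by group
    by_cases hm1 : k * (l : G) = 1
    · apply Subtype.ext
      show (l : G) = k⁻¹
      exact eq_inv_of_mul_eq_one_right hm1
    · exfalso
      have h28 := Cfsg.Agent.S1128.result hS h2 (k * (l : G)) ((hCK _).mp hm) hm1
      have hxmem : x ∈ Q ⊓ Subgroup.centralizer {k * (l : G)} := by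
        refine Subgroup.mem_inf.mpr ⟨(h30a x hx').1, ?_⟩
        rw [Subgroup.mem_centralizer_iff]
        intro z hz
        rw [Set.mem_singleton_iff] at hz
        subst hz
        exact hmx
      rw [h28, Subgroup.mem_bot] at hxmem
      exact hx1 hxmem

/-- **S1133 modulo solvability of `D`.** -/
theorem ro_centralizer_quotient_cyclic (hS : Cfsg.IsRankOneSetup G Ω a t Q)
    (h2 : ∃ x y : G, x ≠ 1 ∧ y ≠ 1 ∧ x ≠ y ∧ x * x = 1 ∧ y * y = 1 ∧ x * y = y * x)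
    (hsolv : Group.IsSolvable ↥(MulAction.stabilizer G a ⊓ MulAction.stabilizer G (t • a))) :
    ∃ v ∈ (MulAction.stabilizer G a ⊓ MulAction.stabilizer G (t • a)) ⊓ Subgroup.centralizer {t},
      ((MulAction.stabilizer G a ⊓ MulAction.stabilizer G (t • a)) ⊓ Subgroup.centralizer {t} ⊓ Subgroup.centralizer (Cfsg.invertedBy (MulAction.stabilizer G a ⊓ MulAction.stabilizer G (t • a)) t)) ⊔ Subgroup.closure {v} =
        (MulAction.stabilizer G a ⊓ MulAction.stabilizer G (t • a)) ⊓ Subgroup.centralizer {t} := by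
  have : Fact (Nat.Prime 2) := ⟨Nat.prime_two⟩
  obtain ⟨C, hC, hCcyc, -⟩ := ro_inverted_cyclic_normal hS h2 hsolv
  obtain ⟨h27a, h27b⟩ := Cfsg.Agent.S1127.result hS
  obtain ⟨⟨s, r⟩, ⟨hsI, hrQ, hsr⟩, -⟩ := Cfsg.Agent.S1123.result hS
  simp only at hsI hrQ hsr
  set D : Subgroup G := MulAction.stabilizer G a ⊓ MulAction.stabilizer G (t • a) with hD
  have hCK : ∀ k, k ∈ C ↔ k ∈ Cfsg.invertedBy D t := by
    intro k
    rw [← hC]; rfl
  have hDa : ∀ d ∈ D, d ∈ MulAction.stabilizer G a := fun d hd => (Subgroup.mem_inf.mp hd).1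
  have hCD : ∀ k ∈ C, k ∈ D := fun k hk => ((hCK k).mp hk).1
  have hNcomm : ∀ x ∈ C, ∀ y ∈ C, x * y = y * x := by
    intro x hx y hy
    have := mul_comm' (⟨x, hx⟩ : ↥C) ⟨y, hy⟩
    exact congrArg Subtype.val this
  have hVt : ∀ v ∈ D ⊓ Subgroup.centralizer {t}, t * v = v * t := by
    intro v hv
    have h1 := (Subgroup.mem_inf.mp hv).2
    rw [Subgroup.mem_centralizer_iff] at h1
    exact h1 t rfl
  have hVN : ∀ v ∈ D ⊓ Subgroup.centralizer {t}, ∀ k ∈ C, v * k * v⁻¹ ∈ C := by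
    intro v hv k hk
    have hvD : v ∈ D := (Subgroup.mem_inf.mp hv).1
    obtain ⟨hkD, hkt⟩ := (hCK k).mp hk
    rw [hCK]
    refine ⟨D.mul_mem (D.mul_mem hvD hkD) (D.inv_mem hvD), ?_⟩
    have h1 := hVt v hv
    have h1' : t * v⁻¹ = v⁻¹ * t := by
      calc t * v⁻¹ = v⁻¹ * (v * t) * v⁻¹ := by group
        _ = v⁻¹ * (t * v) * v⁻¹ := by rw [h1]
        _ = v⁻¹ * t := by group
    calc t * (v * k * v⁻¹) * t⁻¹ = (t * v) * k * (v⁻¹ * t⁻¹) := by group
      _ = (v * t) * k * (v⁻¹ * t⁻¹) := by rw [h1]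
      _ = v * (t * k * t⁻¹) * (t * v⁻¹) * t⁻¹ := by group
      _ = v * k⁻¹ * (v⁻¹ * t) * t⁻¹ := by rw [hkt, h1']
      _ = (v * k * v⁻¹)⁻¹ := by group
  have hVx : ∀ v ∈ D ⊓ Subgroup.centralizer {t}, v * s = s * v := by
    intro v hv
    rw [h27a s r hsI hrQ hsr] at hv
    have h3 := (Subgroup.mem_inf.mp hv).2
    rw [Subgroup.mem_centralizer_iff] at h3
    exact (h3 s rfl).symm
  obtain ⟨v, hv, hgen⟩ := RegularFieldAut.exists_gen_mod_centralizer 2 (invSub hS h2) C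
    (D ⊓ Subgroup.centralizer {t}) (invSub_comm hS h2) (invSub_isPGroup hS h2) hNcomm
    (fun k hk e he => invSub_conj hS h2 k (hDa k (hCD k hk)) e he)
    (ro_regular hS h2 C hC)
    (fun v hv e he => invSub_conj hS h2 v (hDa v (Subgroup.mem_inf.mp hv).1) e he)
    hVN s (Or.inr hsI) hsI.2.1 hVx
  refine ⟨v, hv, ?_⟩
  have hW : D ⊓ Subgroup.centralizer {t} ⊓ Subgroup.centralizer (Cfsg.invertedBy D t) =
      D ⊓ Subgroup.centralizer {t} ⊓ Subgroup.centralizer ((invSub hS h2 : Subgroup G) : Set G) := by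
    apply le_antisymm
    · intro x hx
      refine Subgroup.mem_inf.mpr ⟨(Subgroup.mem_inf.mp hx).1, ?_⟩
      rw [h27b] at hx
      have h1 := (Subgroup.mem_inf.mp hx).2
      rw [Subgroup.mem_centralizer_iff] at h1 ⊢
      rintro e (rfl | he)
      · rw [one_mul, mul_one]
      · exact h1 e he
    · intro x hx
      rw [h27b]
      refine Subgroup.mem_inf.mpr ⟨(Subgroup.mem_inf.mp (Subgroup.mem_inf.mp hx).1).1, ?_⟩
      have h1 := (Subgroup.mem_inf.mp hx).2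
      rw [Subgroup.mem_centralizer_iff] at h1 ⊢
      intro e he
      exact h1 e (Or.inr he)
  rw [hW]
  exact hgen

end Cfsg.Agent.Lib.Helper21.RankOneField
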