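import Mathlib
import Cfsg.Prelude.Def_LieRecognition
import Cfsg.Agent.Lib.Helper21.RankOneField
import Cfsg.Agent.Lib.Helper19.RankOneNilp
import Cfsg.Agent.S1129

/-!
# Rank-one set-up: a Sylow 2-subgroup of `Q` is abelian or a Suzuki 2-group when `D` is solvable

(S1132 modulo solvability of the two-point stabiliser `D`.)
-/

set_option autoImplicit false
open Cfsg

namespace Cfsg.Agent.Lib.Helper21.RankOneSuzuki

open Cfsg.Agent.Lib.Helper21.RankOneInverted Cfsg.Agent.Lib.Helper21.RankOneField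

section general

variable {G : Type*} [Group G]

/-- In a finite nilpotent group, every `2`-element lies in the Sylow `2`-subgroup. -/
theorem mem_sylow_of_two_power {H : Type*} [Group H] [Finite H] [Group.IsNilpotent H]
    (S : Sylow 2 H) (x : H) (n : ℕ) (hx : x ^ (2 ^ n) = 1) : x ∈ S := by
  have : Fact (Nat.Prime 2) := ⟨Nat.prime_two⟩
  have hz : IsPGroup 2 ↥(Subgroup.zpowers x) := by
    rintro ⟨y, hy⟩
    obtain ⟨i, rfl⟩ := Subgroup.mem_zpowers_iff.mp hy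
    refine ⟨n, Subtype.ext ?_⟩
    show (x ^ i) ^ (2 ^ n) = 1
    rw [← zpow_natCast, ← zpow_mul, mul_comm, zpow_mul, zpow_natCast, hx, one_zpow]
  obtain ⟨P', hP'⟩ := hz.exists_le_sylow
  have hSn : (S : Subgroup H).Normal := inferInstance
  have hu := Sylow.unique_of_normal S hSn
  have : P' = S := Subsingleton.elim _ _
  rw [← this]
  exact hP' (Subgroup.mem_zpowers x)

/-- Conjugation action of a subgroup `C ≤ G` on a subgroup `S'` of `↥Q`. -/
def conjActSub (C Q : Subgroup G) (S' : Subgroup ↥Q)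
    (hQ : ∀ k ∈ C, ∀ x ∈ Q, k * x * k⁻¹ ∈ Q)
    (hS' : ∀ k (hk : k ∈ C) (x : ↥Q), x ∈ S' → (⟨k * x * k⁻¹, hQ k hk x x.2⟩ : ↥Q) ∈ S') :
    ↥C →* MulAut ↥S' :=
  let f : ↥C → ↥S' → ↥S' := fun k x =>
    ⟨⟨(k : G) * ((x : ↥Q) : G) * (k : G)⁻¹, hQ k k.2 _ x.1.2⟩, hS' k k.2 x.1 x.2⟩
  { toFun := fun k =>
      { toFun := f k
        invFun := f k⁻¹
        left_inv := fun x => Subtype.ext (Subtype.ext (by
          show ((k⁻¹ : ↥C) : G) * ((k : G) * ((x : ↥Q) : G) * (k : G)⁻¹) * ((k⁻¹ : ↥C) : G)⁻¹ = _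
          rw [Subgroup.coe_inv]; group))
        right_inv := fun x => Subtype.ext (Subtype.ext (by
          show (k : G) * (((k⁻¹ : ↥C) : G) * ((x : ↥Q) : G) * ((k⁻¹ : ↥C) : G)⁻¹) * (k : G)⁻¹ = _
          rw [Subgroup.coe_inv]; group))
        map_mul' := fun x y => Subtype.ext (Subtype.ext (by
          show (k : G) * (((x * y : ↥S') : ↥Q) : G) * (k : G)⁻¹ =
            ((k : G) * ((x : ↥Q) : G) * (k : G)⁻¹) * ((k : G) * ((y : ↥Q) : G) * (k : G)⁻¹)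
          rw [Subgroup.coe_mul, Subgroup.coe_mul]; group)) }
    map_one' := by
      ext x
      show (((1 : ↥C) : G)) * ((x : ↥Q) : G) * (((1 : ↥C) : G))⁻¹ = ((x : ↥Q) : G)
      rw [Subgroup.coe_one]; group
    map_mul' := fun k l => by
      ext x
      show (((k * l : ↥C) : G)) * ((x : ↥Q) : G) * (((k * l : ↥C) : G))⁻¹ =
        (k : G) * ((l : G) * ((x : ↥Q) : G) * (l : G)⁻¹) * (k : G)⁻¹
      rw [Subgroup.coe_mul]; group }

theorem conjActSub_apply (C Q : Subgroup G) (S' : Subgroup ↥Q)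
    (hQ : ∀ k ∈ C, ∀ x ∈ Q, k * x * k⁻¹ ∈ Q)
    (hS' : ∀ k (hk : k ∈ C) (x : ↥Q), x ∈ S' → (⟨k * x * k⁻¹, hQ k hk x x.2⟩ : ↥Q) ∈ S')
    (k : ↥C) (x : ↥S') :
    (((conjActSub C Q S' hQ hS' k x : ↥S') : ↥Q) : G) = (k : G) * ((x : ↥Q) : G) * (k : G)⁻¹ := rfl

end general

variable {G Ω : Type*} [Group G] [Finite G] [MulAction G Ω] [FaithfulSMul G Ω] {a : Ω} {t : G}
  {Q : Subgroup G}

/-- **S1132 modulo solvability of `D`.** -/
theorem ro_sylow_two_abelian_or_suzuki (hS : Cfsg.IsRankOneSetup G Ω a t Q)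
    (h2 : ∃ x y : G, x ≠ 1 ∧ y ≠ 1 ∧ x ≠ y ∧ x * x = 1 ∧ y * y = 1 ∧ x * y = y * x)
    (hsolv : Group.IsSolvable ↥(MulAction.stabilizer G a ⊓ MulAction.stabilizer G (t • a)))
    (S : Sylow 2 ↥Q) :
    IsMulCommutative (S : Subgroup ↥Q) ∨ Cfsg.IsSuzukiTwoGroup ↥(S : Subgroup ↥Q) := by
  by_cases hab : IsMulCommutative (S : Subgroup ↥Q)
  · exact Or.inl hab
  right
  have : Fact (Nat.Prime 2) := ⟨Nat.prime_two⟩
  have hnil : Group.IsNilpotent ↥Q := Cfsg.Agent.S1129.result hS h2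
  obtain ⟨C, hC, hCcyc, -⟩ := ro_inverted_cyclic_normal hS h2 hsolv
  obtain ⟨h30a, -⟩ := Cfsg.Agent.S1130.result hS h2
  have hCa : ∀ k ∈ C, k ∈ MulAction.stabilizer G a := by
    intro k hk
    have : k ∈ Cfsg.invertedBy (MulAction.stabilizer G a ⊓ MulAction.stabilizer G (t • a)) t := by
      rw [← hC]; exact hk
    exact (Subgroup.mem_inf.mp this.1).1
  have hQ : ∀ k ∈ C, ∀ x ∈ Q, k * x * k⁻¹ ∈ Q := fun k hk x hx => hS.conj_mem k (hCa k hk) x hx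
  have hS' : ∀ k (hk : k ∈ C) (x : ↥Q), x ∈ (S : Subgroup ↥Q) →
      (⟨k * x * k⁻¹, hQ k hk x x.2⟩ : ↥Q) ∈ (S : Subgroup ↥Q) := by
    intro k hk x hx
    obtain ⟨n, hn⟩ := S.isPGroup' ⟨x, hx⟩
    have hn' : (x : G) ^ (2 ^ n) = 1 := by
      have := congrArg (fun y : ↥(S : Subgroup ↥Q) => ((y : ↥Q) : G)) hn
      simpa using this
    apply mem_sylow_of_two_power S _ n
    apply Subtype.ext
    show (k * (x : G) * k⁻¹) ^ (2 ^ n) = 1
    rw [conj_pow, hn', mul_one, mul_inv_cancel]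
  set cK := conjActSub C Q (S : Subgroup ↥Q) hQ hS' with hcK
  -- involutions of `P` are involutions of `G_a`
  have hinvP : ∀ x : ↥(S : Subgroup ↥Q), x ≠ 1 → x * x = 1 →
      ((x : ↥Q) : G) ∈ invSub hS h2 ∧ ((x : ↥Q) : G) ≠ 1 := by
    intro x hx1 hx2
    have hne : ((x : ↥Q) : G) ≠ 1 := fun h => hx1 (Subtype.ext (Subtype.ext h))
    refine ⟨Or.inr ⟨hS.le x.1.2, hne, ?_⟩, hne⟩
    have := congrArg (fun y : ↥(S : Subgroup ↥Q) => ((y : ↥Q) : G)) hx2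
    simpa using this
  -- involutions of `G_a` lie in `P`
  have hPinv : ∀ u ∈ Cfsg.involutionsIn (MulAction.stabilizer G a : Set G),
      ∃ x : ↥(S : Subgroup ↥Q), ((x : ↥Q) : G) = u := by
    intro u hu
    have huQ : u ∈ Q := (h30a u hu).1
    have hmem : (⟨u, huQ⟩ : ↥Q) ∈ (S : Subgroup ↥Q) := by
      apply mem_sylow_of_two_power S _ 1
      apply Subtype.ext
      show u ^ (2 ^ 1) = 1
      rw [pow_one, pow_two]; exact hu.2.2
    exact ⟨⟨⟨u, huQ⟩, hmem⟩, rfl⟩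
  refine ⟨inferInstance, S.isPGroup', ?_, ?_, cK.range, ?_, ?_⟩
  · by_contra hcon
    push Not at hcon
    exact hab (isMulCommutative_iff.mpr hcon)
  · obtain ⟨u, v, hu, hv, huv⟩ := Cfsg.Agent.Lib.Helper19.ro_two_invol_stab hS h2
    obtain ⟨x, hx⟩ := hPinv u hu
    obtain ⟨y, hy⟩ := hPinv v hv
    refine ⟨x, y, ?_, ?_, ?_, ?_, ?_⟩
    · intro h; apply huv; rw [← hx, ← hy, h]
    · intro h; apply hu.2.1; rw [← hx, h]; rfl
    · apply Subtype.ext; apply Subtype.ext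
      show ((x : ↥Q) : G) * ((x : ↥Q) : G) = 1
      rw [hx]; exact hu.2.2
    · intro h; apply hv.2.1; rw [← hy, h]; rfl
    · apply Subtype.ext; apply Subtype.ext
      show ((y : ↥Q) : G) * ((y : ↥Q) : G) = 1
      rw [hy]; exact hv.2.2
  · exact isCyclic_of_surjective cK.rangeRestrict cK.rangeRestrict_surjective
  · intro x y hx1 hx2 hy1 hy2
    obtain ⟨hxM, hxne⟩ := hinvP x hx1 hx2
    obtain ⟨hyM, hyne⟩ := hinvP y hy1 hy2
    obtain ⟨k, hk, hku⟩ := ro_regular hS h2 C hC _ hxM hxne _ hyM hyne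
    refine ⟨⟨cK k, ⟨k, rfl⟩⟩, ?_, ?_⟩
    · apply Subtype.ext; apply Subtype.ext
      show (((cK k x : ↥(S : Subgroup ↥Q)) : ↥Q) : G) = ((y : ↥Q) : G)
      rw [hcK, conjActSub_apply]; exact hk
    · rintro ⟨_, ⟨l, rfl⟩⟩ hl
      have h1 : (l : G) * ((x : ↥Q) : G) * (l : G)⁻¹ = ((y : ↥Q) : G) := by
        have := congrArg (fun z : ↥(S : Subgroup ↥Q) => ((z : ↥Q) : G)) hl
        simp only at this
        rw [← this]; rfl
      have h2' := hku l h1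
      apply Subtype.ext
      show cK l = cK k
      rw [h2']

end Cfsg.Agent.Lib.Helper21.RankOneSuzuki
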