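import Mathlib
import Cfsg.Agent.Lib.Helper12.SimsLocDefs

/-!
# S2772 (helper12's sheet), module [SL-W2]

An element of odd prime order `q` acting non-trivially on `V` with `[V, G]` inside a subgroup `W`
of order `≤ 4` forces `q = 3`.
-/

set_option autoImplicit false

namespace Cfsg.Agent.Lib.Helper21.SimsLocW2

open Cfsg.Agent.Lib.Helper12.SimsLoc

variable {H : Type*} [Group H] [Finite H]

omit [Finite H] in
/-- iterated conjugation stays in `W` -/
private theorem conj_pow_mem (W : Subgroup H) (d : H)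
    (hdW : ∀ c ∈ W, d * c * d⁻¹ ∈ W) (k : ℕ) : ∀ c ∈ W, d ^ k * c * (d ^ k)⁻¹ ∈ W := by
  induction k with
  | zero => intro c hc; simpa using hc
  | succ k ih =>
    intro c hc
    have h1 := hdW _ (ih c hc)
    have : d ^ (k + 1) * c * (d ^ (k + 1))⁻¹ = d * (d ^ k * c * (d ^ k)⁻¹) * d⁻¹ := by
      rw [pow_succ']; group
    rw [this]; exact h1

/-- [SL-W2] -/
theorem q_three_of_small_comm (G Q V W : Subgroup H)
    (hQG : Q ≤ G) (twoQ : IsPGroup 2 ↥Q) (q : ℕ) (hq : q.Prime) (hq2 : q ≠ 2)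
    (hqG : q ∣ Nat.card ↥G)
    (hVn : ∀ g ∈ G, ∀ v ∈ V, g * v * g⁻¹ ∈ V) (hVE : EA V)
    (hfaith : ∀ g ∈ G, (∀ v ∈ V, g * v = v * g) → g ∈ Q)
    (hWV : W ≤ V) (hW4 : Nat.card ↥W ≤ 4)
    (hW : ∀ g ∈ G, ∀ v ∈ V, g * v * g⁻¹ * v⁻¹ ∈ W) : q = 3 := by
  have : Fact q.Prime := ⟨hq⟩
  obtain ⟨d', hd'⟩ := exists_prime_orderOf_dvd_card' (G := ↥G) q hqG
  set d : H := (d' : H) with hd_def
  have hdG : d ∈ G := d'.2
  have hdo : orderOf d = q := by rw [hd_def, Subgroup.orderOf_coe]; exact hd'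
  have hdq : d ^ q = 1 := by rw [← hdo]; exact pow_orderOf_eq_one d
  -- `d ∉ Q`
  have hdQ : d ∉ Q := by
    intro hd
    obtain ⟨k, hk⟩ := twoQ ⟨d, hd⟩
    have hk' : d ^ (2 ^ k) = 1 := by
      have := congrArg (fun z : ↥Q => (z : H)) hk
      simpa using this
    have h1 : q ∣ 2 ^ k := by rw [← hdo]; exact orderOf_dvd_of_pow_eq_one hk'
    have h2 : q ∣ 2 := hq.dvd_of_dvd_pow h1
    exact hq2 ((Nat.prime_dvd_prime_iff_eq hq Nat.prime_two).mp h2)
  -- some `v₁ ∈ V` not centralized by `d`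
  have hex : ∃ v ∈ V, d * v ≠ v * d := by
    by_contra hcon
    push Not at hcon
    exact hdQ (hfaith d hdG hcon)
  obtain ⟨v, hvV, hv⟩ := hex
  -- `d` normalizes `W`
  have hdW : ∀ c ∈ W, d * c * d⁻¹ ∈ W := by
    intro c hc
    have h1 := hW d hdG c (hWV hc)
    have : d * c * d⁻¹ = (d * c * d⁻¹ * c⁻¹) * c := by group
    rw [this]; exact mul_mem h1 hc
  by_cases hcase : ∀ c ∈ W, d * c * d⁻¹ = c
  · -- `d` centralizes `W`: contradiction
    exfalso
    set c : H := d * v * d⁻¹ * v⁻¹ with hc_def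
    have hcW : c ∈ W := hW d hdG v hvV
    have hdc : d * c = c * d := by
      have := hcase c hcW
      calc d * c = (d * c * d⁻¹) * d := by group
        _ = c * d := by rw [this]
    have hcomm : Commute d c := hdc
    have hpow : ∀ k : ℕ, d ^ k * v * (d ^ k)⁻¹ = c ^ k * v := by
      intro k
      induction k with
      | zero => simp
      | succ k ih =>
        have h1 : d ^ (k + 1) * v * (d ^ (k + 1))⁻¹ = d * (d ^ k * v * (d ^ k)⁻¹) * d⁻¹ := by
          rw [pow_succ']; group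
        rw [h1, ih]
        have h2 : d * c ^ k = c ^ k * d := (hcomm.pow_right k).eq
        calc d * (c ^ k * v) * d⁻¹ = (d * c ^ k) * v * d⁻¹ := by group
          _ = (c ^ k * d) * v * d⁻¹ := by rw [h2]
          _ = c ^ k * (d * v * d⁻¹ * v⁻¹) * v := by group
          _ = c ^ (k + 1) * v := by rw [← hc_def, pow_succ]
    have hcq : c ^ q = 1 := by
      have := hpow q
      rw [hdq] at this
      have h3 : v = c ^ q * v := by simpa using this
      calc c ^ q = (c ^ q * v) * v⁻¹ := by group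
        _ = v * v⁻¹ := by rw [← h3]
        _ = 1 := mul_inv_cancel v
    have hc2 : c ^ 2 = 1 := by rw [pow_two]; exact hVE c (hWV hcW)
    have h1 : orderOf c ∣ q := orderOf_dvd_of_pow_eq_one hcq
    have h2 : orderOf c ∣ 2 := orderOf_dvd_of_pow_eq_one hc2
    have hcop : Nat.Coprime q 2 := (Nat.coprime_primes hq Nat.prime_two).mpr hq2
    have h3 : orderOf c = 1 := Nat.eq_one_of_dvd_coprimes hcop h1 h2
    have hc1 : c = 1 := orderOf_eq_one_iff.mp h3
    apply hv
    calc d * v = (d * v * d⁻¹ * v⁻¹) * (v * d) := by group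
      _ = v * d := by rw [← hc_def, hc1, one_mul]
  · -- some `c₀ ∈ W` moved by `d`
    push Not at hcase
    obtain ⟨c₀, hc₀W, hc₀⟩ := hcase
    by_contra hq3
    have hq5 : 5 ≤ q := by
      have h2 := hq.two_le
      rcases Nat.lt_or_ge q 5 with h | h
      · interval_cases q
        · exact absurd rfl hq2
        · exact absurd rfl hq3
        · exact absurd hq (by decide)
      · exact h
    -- no `d ^ m`, `0 < m < q`, fixes `c₀`
    have hfix : ∀ m : ℕ, 0 < m → m < q → d ^ m * c₀ * (d ^ m)⁻¹ ≠ c₀ := by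
      intro m hm0 hmq hfix
      have hcop : Nat.Coprime m q := by
        rw [Nat.coprime_comm]
        exact (Nat.Prime.coprime_iff_not_dvd hq).mpr (Nat.not_dvd_of_pos_of_lt hm0 hmq)
      obtain ⟨n, -, hn⟩ := Nat.exists_mul_mod_eq_one_of_coprime hcop hq.one_lt
      have hdm : (d ^ m) ^ n = d := by
        rw [← pow_mul, ← pow_mod_orderOf, hdo, hn, pow_one]
      have hcm : Commute (d ^ m) c₀ := by
        show d ^ m * c₀ = c₀ * d ^ m
        calc d ^ m * c₀ = (d ^ m * c₀ * (d ^ m)⁻¹) * d ^ m := by group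
          _ = c₀ * d ^ m := by rw [hfix]
      have hcd : Commute d c₀ := by
        have := hcm.pow_left n
        rwa [hdm] at this
      apply hc₀
      calc d * c₀ * d⁻¹ = (d * c₀) * d⁻¹ := rfl
        _ = (c₀ * d) * d⁻¹ := by rw [hcd.eq]
        _ = c₀ := by group
    have hc₀1 : ∀ k : ℕ, d ^ k * c₀ * (d ^ k)⁻¹ ≠ 1 := by
      intro k h
      have : c₀ = 1 := by
        calc c₀ = (d ^ k)⁻¹ * (d ^ k * c₀ * (d ^ k)⁻¹) * d ^ k := by group
          _ = 1 := by rw [h]; group
      apply hc₀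
      rw [this]; group
    let f : Option (Fin 4) → ↥W := fun o =>
      match o with
      | none => 1
      | some k => ⟨d ^ (k : ℕ) * c₀ * (d ^ (k : ℕ))⁻¹, conj_pow_mem W d hdW k c₀ hc₀W⟩
    have hkey : ∀ i j : ℕ, i < j → j < 4 →
        d ^ i * c₀ * (d ^ i)⁻¹ ≠ d ^ j * c₀ * (d ^ j)⁻¹ := by
      intro i j hij hj4 heq
      have hm : d ^ (j - i) * c₀ * (d ^ (j - i))⁻¹ = c₀ := by
        have hj : d ^ j = d ^ i * d ^ (j - i) := by
          rw [← pow_add]; congr 1; omega
        rw [hj] at heq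
        calc d ^ (j - i) * c₀ * (d ^ (j - i))⁻¹
            = (d ^ i)⁻¹ * (d ^ i * d ^ (j - i) * c₀ * (d ^ i * d ^ (j - i))⁻¹) * d ^ i := by group
          _ = (d ^ i)⁻¹ * (d ^ i * c₀ * (d ^ i)⁻¹) * d ^ i := by rw [← heq]
          _ = c₀ := by group
      exact hfix (j - i) (by omega) (by omega) hm
    have hf : Function.Injective f := by
      intro a b hab
      match a, b with
      | none, none => rfl
      | none, some k =>
        exfalso
        have := congrArg (fun z : ↥W => (z : H)) hab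
        exact hc₀1 k this.symm
      | some k, none =>
        exfalso
        have := congrArg (fun z : ↥W => (z : H)) hab
        exact hc₀1 k this
      | some i, some j =>
        have h := congrArg (fun z : ↥W => (z : H)) hab
        have h' : d ^ (i : ℕ) * c₀ * (d ^ (i : ℕ))⁻¹ = d ^ (j : ℕ) * c₀ * (d ^ (j : ℕ))⁻¹ := h
        rcases lt_trichotomy (i : ℕ) (j : ℕ) with hlt | heq | hgt
        · exact absurd h' (hkey i j hlt j.2)
        · rw [Fin.ext heq]
        · exact absurd h'.symm (hkey j i hgt i.2)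
    have hcard := Nat.card_le_card_of_injective f hf
    have h5 : Nat.card (Option (Fin 4)) = 5 := by
      rw [Nat.card_eq_fintype_card, Fintype.card_option, Fintype.card_fin]
    omega

end Cfsg.Agent.Lib.Helper21.SimsLocW2
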