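/-
helper21: project SUZ2 part 2 (helper85): `O_2(G)` is a normal subgroup (no finiteness needed).
-/
import Mathlib
import Cfsg.Prelude.Def_Solvable

set_option autoImplicit false

namespace Cfsg.Agent.Lib.Helper21.Suz2Aux

open Cfsg

/-- `O_p(G)` is normal -/
theorem pCore_normal' (p : ℕ) (G : Type*) [Group G] : (pCore p G).Normal := by
  unfold pCore
  refine ⟨fun n hn g => ?_⟩
  have hmem : ∀ N ∈ {N : Subgroup G | N.Normal ∧ IsPGroup p N},
      N ≤ (sSup {N : Subgroup G | N.Normal ∧ IsPGroup p N}).comap (MulAut.conj g).toMonoidHom := by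
    intro N hN x hx
    rw [Subgroup.mem_comap]
    show g * x * g⁻¹ ∈ _
    exact (le_sSup hN) (hN.1.conj_mem x hx g)
  have := (sSup_le hmem) hn
  rw [Subgroup.mem_comap] at this
  exact this

end Cfsg.Agent.Lib.Helper21.Suz2Aux
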