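/-
helper21: project SUZ2 part 2 (helper85, S3797), module SUZ2-[T-B4]: in CASE B (the Sylow 2-subgroup `S` centralizes all
involutions) `S ≤ O_2(G)`.  Inputs as explicit hypotheses: `SHyp S Y_S` ([T-B1]), `SHyp P (conjY P ⊤)` ([T-B2]),
the statement of [T-B3] for `G`, and the part-1 theorem [FIN] ([MAIN] is not needed).
Proof: for `t ∈ S`, `p ∈ P = O_2(G)` the commutator `c = p⁻¹t⁻¹pt` lies in `P` and has `c² = 1` (theorem H for `S`);
theorem H for `P` gives `c ∈ Φ(P)` (nonabelian: `Φ(P) = Z(P) = Ω₁`; abelian with an element of order 4: the involutions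
of `Φ(P)` form a nontrivial invariant subgroup of `Z0 P`; elementary abelian: `c = 1` by CASE B).  Then [T-B3].
-/
import Cfsg.Agent.Lib.Helper85.Suz2ThDefs
import Cfsg.Agent.Lib.Helper53.FrattiniAut
import Cfsg.Agent.Lib.Helper76.PCore
import Cfsg.Agent.Lib.Helper21.Suz2Aux

set_option autoImplicit false

namespace Cfsg.Agent.Lib.Helper21.Suz2B4

open Cfsg Cfsg.Agent.Lib.Helper19.Suz Cfsg.Agent.Lib.Helper85.Suz2
open scoped commutatorElement

universe u

/-- the statement of part-1 [FIN] -/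
def StmtFin : Prop :=
  ∀ (P : Type u) [Group P] (Y : Subgroup (MulAut P)), SHyp P Y → (∃ x y : P, x * y ≠ y * x) →
    commutator P = frattini P ∧ frattini P = Subgroup.center P ∧
      ∀ x : P, x ∈ Subgroup.center P ↔ x ^ 2 = 1

/-- theorem H: a commutator has square one -/
theorem comm_sq_one (hfin : StmtFin.{u}) {P : Type u} [Group P]
    {Y : Subgroup (MulAut P)} (h : SHyp P Y) (a b : P) :
    (a⁻¹ * b⁻¹ * a * b) * (a⁻¹ * b⁻¹ * a * b) = 1 := by
  by_cases hna : ∃ x y : P, x * y ≠ y * x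
  · obtain ⟨h1, h2, h3⟩ := hfin P Y h hna
    have hc : a⁻¹ * b⁻¹ * a * b ∈ commutator P := by
      have : a⁻¹ * b⁻¹ * a * b = ⁅a⁻¹, b⁻¹⁆ := by
        rw [commutatorElement_def]
        group
      rw [this]
      exact Subgroup.commutator_mem_commutator (Subgroup.mem_top _) (Subgroup.mem_top _)
    rw [h1, h2] at hc
    have := (h3 _).1 hc
    rw [pow_two] at this
    exact this
  · push Not at hna
    have : a⁻¹ * b⁻¹ * a * b = 1 := by
      have hab := hna a b
      calc a⁻¹ * b⁻¹ * a * b = a⁻¹ * b⁻¹ * (a * b) := by group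
        _ = a⁻¹ * b⁻¹ * (b * a) := by rw [hab]
        _ = 1 := by group
    rw [this, one_mul]

/-- in an abelian `P` with an element of order `> 2`, every element of square one lies in `Φ(P)` -/
theorem sq_one_mem_frattini_of_abelian {P : Type u} [Group P] {Y : Subgroup (MulAut P)} (h : SHyp P Y)
    (hab : ∀ x y : P, x * y = y * x) (y : P) (hy : y * y ≠ 1) (c : P) (hc : c * c = 1) :
    c ∈ frattini P := by
  have hfinP : Finite P := h.fin
  have hp2 : Fact (Nat.Prime 2) := ⟨Nat.prime_two⟩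
  -- the subgroup of elements of square one in the Frattini subgroup
  let H : Subgroup P :=
    { carrier := {z | z ∈ frattini P ∧ z * z = 1}
      one_mem' := ⟨Subgroup.one_mem _, by simp⟩
      mul_mem' := by
        rintro a b ⟨ha, ha2⟩ ⟨hb, hb2⟩
        refine ⟨Subgroup.mul_mem _ ha hb, ?_⟩
        calc a * b * (a * b) = a * (b * a) * b := by group
          _ = a * (a * b) * b := by rw [hab b a]
          _ = (a * a) * (b * b) := by group
          _ = 1 := by rw [ha2, hb2, one_mul]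
      inv_mem' := by
        rintro a ⟨ha, ha2⟩
        refine ⟨Subgroup.inv_mem _ ha, ?_⟩
        calc a⁻¹ * a⁻¹ = (a * a)⁻¹ := by group
          _ = 1 := by rw [ha2, inv_one] }
  have hHle : H ≤ Z0 P := fun z hz => (h.mem_Z0_iff).2 hz.2
  have hHinv : ∀ k ∈ Y, ∀ x ∈ H, k x ∈ H := by
    intro k _ x hx
    refine ⟨?_, ?_⟩
    · have hfix := (inferInstance : (frattini P).Characteristic).fixed k
      have : x ∈ (frattini P).comap k.toMonoidHom := by rw [hfix]; exact hx.1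
      exact this
    · rw [← map_mul, hx.2, map_one]
  have hHne : H ≠ ⊥ := by
    obtain ⟨n, hn⟩ := (IsPGroup.iff_orderOf.mp h.pgrp) y
    have hn2 : 2 ≤ n := by
      by_contra hlt
      push Not at hlt
      have h2 : orderOf y ∣ 2 := by
        rw [hn]
        have : n ≤ 1 := by omega
        calc 2 ^ n ∣ 2 ^ 1 := pow_dvd_pow 2 this
          _ = 2 := pow_one 2
      have := orderOf_dvd_iff_pow_eq_one.mp h2
      rw [pow_two] at this
      exact hy this
    obtain ⟨m, rfl⟩ : ∃ m, n = m + 2 := ⟨n - 2, by omega⟩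
    have hw : (y ^ 2) ^ (2 ^ m) ∈ H := by
      refine ⟨Subgroup.pow_mem _ (Cfsg.Agent.Lib.Helper53.pow_prime_mem_frattini' h.pgrp y) _, ?_⟩
      rw [← pow_mul, ← pow_add, ← two_mul, ← pow_succ', ← pow_succ', ← hn]
      exact pow_orderOf_eq_one y
    intro hbot
    rw [hbot, Subgroup.mem_bot, ← pow_mul, ← pow_succ'] at hw
    have hdvd := orderOf_dvd_of_pow_eq_one hw
    rw [hn] at hdvd
    have := Nat.le_of_dvd (by positivity) hdvd
    have hlt : 2 ^ (m + 1) < 2 ^ (m + 2) := Nat.pow_lt_pow_right (by norm_num) (by omega)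
    omega
  have hHeq := h.Z0_irred H hHle hHinv hHne
  have hcZ : c ∈ Z0 P := (h.mem_Z0_iff).2 hc
  rw [← hHeq] at hcZ
  exact hcZ.1

variable {G : Type u} [Group G]

/-- [T-B4], with [T-B1], [T-B2], [T-B3] (for this `G`) and part 1 as hypotheses -/
theorem sylow_le_core_of (hfin : StmtFin.{u}) (S : Sylow 2 G)
    (hc : ∀ s ∈ (S : Subgroup G), ∀ x : G, x * x = 1 → s * x = x * s)
    {YS : Subgroup (MulAut ↥(S : Subgroup G))} (hS : SHyp ↥(S : Subgroup G) YS)
    {YP : Subgroup (MulAut ↥(pCore 2 G))} (hP : SHyp ↥(pCore 2 G) YP)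
    (hB3 : ∀ t : G, (∀ p ∈ pCore 2 G,
      p⁻¹ * t⁻¹ * p * t ∈ (frattini ↥(pCore 2 G)).map (pCore 2 G).subtype) → t ∈ pCore 2 G) :
    (S : Subgroup G) ≤ pCore 2 G := by
  have hp2 : Fact (Nat.Prime 2) := ⟨Nat.prime_two⟩
  have hPn : (pCore 2 G).Normal := Cfsg.Agent.Lib.Helper21.Suz2Aux.pCore_normal' 2 G
  have hPS : pCore 2 G ≤ (S : Subgroup G) := Cfsg.Agent.Lib.Helper76.pCore_le_sylow 2 S
  intro t ht
  apply hB3 t
  intro p hp
  -- the commutator lies in `P`
  have hcP : p⁻¹ * t⁻¹ * p * t ∈ pCore 2 G := by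
    have h1 : t⁻¹ * p * t⁻¹⁻¹ ∈ pCore 2 G := hPn.conj_mem p hp t⁻¹
    have h2 : p⁻¹ * t⁻¹ * p * t = p⁻¹ * (t⁻¹ * p * t⁻¹⁻¹) := by group
    rw [h2]
    exact Subgroup.mul_mem _ (Subgroup.inv_mem _ hp) h1
  -- it has square one (theorem H for `S`)
  have hsq : (p⁻¹ * t⁻¹ * p * t) * (p⁻¹ * t⁻¹ * p * t) = 1 := by
    have := comm_sq_one hfin hS (⟨p, hPS hp⟩ : ↥(S : Subgroup G)) ⟨t, ht⟩
    have h2 := congrArg (Subtype.val) this
    simpa using h2
  -- theorem H for `P`
  have hsqP : (⟨p⁻¹ * t⁻¹ * p * t, hcP⟩ : ↥(pCore 2 G)) * ⟨p⁻¹ * t⁻¹ * p * t, hcP⟩ = 1 :=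
    Subtype.ext hsq
  have hfr : (⟨p⁻¹ * t⁻¹ * p * t, hcP⟩ : ↥(pCore 2 G)) ∈ frattini ↥(pCore 2 G) ∨
      p⁻¹ * t⁻¹ * p * t = 1 := by
    by_cases hna : ∃ x y : ↥(pCore 2 G), x * y ≠ y * x
    · left
      obtain ⟨-, h2, h3⟩ := hfin _ _ hP hna
      rw [h2]
      apply (h3 _).2
      rw [pow_two]
      exact hsqP
    · push Not at hna
      by_cases hel : ∀ y : ↥(pCore 2 G), y * y = 1
      · right
        have hpp : p * p = 1 := by
          have := hel ⟨p, hp⟩
          exact congrArg Subtype.val this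
        have hcomm : t * p = p * t := hc t ht p hpp
        calc p⁻¹ * t⁻¹ * p * t = p⁻¹ * t⁻¹ * (p * t) := by group
          _ = p⁻¹ * t⁻¹ * (t * p) := by rw [hcomm]
          _ = 1 := by group
      · left
        push Not at hel
        obtain ⟨y, hy⟩ := hel
        exact sq_one_mem_frattini_of_abelian hP hna y hy _ hsqP
  rcases hfr with hfr | hfr
  · exact ⟨⟨p⁻¹ * t⁻¹ * p * t, hcP⟩, hfr, rfl⟩
  · rw [hfr]
    exact Subgroup.one_mem _

end Cfsg.Agent.Lib.Helper21.Suz2B4
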