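/-
helper21: project SUZ2 part 2 (helper85, S3797), module SUZ2-[T-NORMAL]: under `THyp G` the Sylow 2-subgroup is normal.
Strong induction on `|G|`; the modules [T-A1], [T-A2], [T-B4] enter as explicit hypotheses (exact skeleton statements).
-/
import Cfsg.Agent.Lib.Helper85.Suz2ThDefs
import Cfsg.Agent.Lib.Helper76.PCore

set_option autoImplicit false

namespace Cfsg.Agent.Lib.Helper21.Suz2Normal

open Cfsg Cfsg.Agent.Lib.Helper85.Suz2

universe u

/-- the statement of [T-A1] -/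
def StmtA1 : Prop :=
  ∀ (G : Type u) [Group G], THyp G → ∀ S : Sylow 2 G,
    (∃ s ∈ (S : Subgroup G), ∃ x : G, x * x = 1 ∧ s * x ≠ x * s) →
    ∃ G₁ : Subgroup G, G₁.Normal ∧ G₁.index = 2 ∧ pCore 2 G ≤ G₁ ∧
      ∀ x y : G, x ≠ 1 → x * x = 1 → y ≠ 1 → y * y = 1 → ∃ g ∈ G₁, g * x * g⁻¹ = y

/-- the statement of [T-A2] -/
def StmtA2 : Prop :=
  ∀ (G : Type u) [Group G], THyp G →
    (∀ (H : Type u) [Group H], THyp H → Nat.card H < Nat.card G →
      ∀ S : Sylow 2 H, (S : Subgroup H).Normal) →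
    ∀ G₁ : Subgroup G, G₁.Normal → G₁.index = 2 → pCore 2 G ≤ G₁ →
      (∀ x y : G, x ≠ 1 → x * x = 1 → y ≠ 1 → y * y = 1 → ∃ g ∈ G₁, g * x * g⁻¹ = y) → False

/-- the statement of [T-B4] -/
def StmtB4 : Prop :=
  ∀ (G : Type u) [Group G], THyp G → ∀ S : Sylow 2 G,
    (∀ s ∈ (S : Subgroup G), ∀ x : G, x * x = 1 → s * x = x * s) →
    (S : Subgroup G) ≤ pCore 2 G

/-- `O_2(G)` is normal -/
theorem pCore_two_normal (G : Type u) [Group G] : (pCore 2 G).Normal := by
  unfold pCore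
  refine ⟨fun n hn g => ?_⟩
  have hmem : ∀ N ∈ {N : Subgroup G | N.Normal ∧ IsPGroup 2 N}, N ≤ (sSup {N : Subgroup G | N.Normal ∧ IsPGroup 2 N}).comap
      (MulAut.conj g).toMonoidHom := by
    intro N hN x hx
    rw [Subgroup.mem_comap]
    show g * x * g⁻¹ ∈ _
    exact (le_sSup hN) (hN.1.conj_mem x hx g)
  have := (sSup_le hmem) hn
  rw [Subgroup.mem_comap] at this
  exact this

/-- [T-NORMAL], with [T-A1], [T-A2], [T-B4] as hypotheses -/
theorem sylow_normal_of (hA1 : StmtA1.{u}) (hA2 : StmtA2.{u}) (hB4 : StmtB4.{u}) :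
    ∀ (G : Type u) [Group G], THyp G → ∀ S : Sylow 2 G, (S : Subgroup G).Normal := by
  have key : ∀ n : ℕ, ∀ (G : Type u) [Group G], Nat.card G = n → THyp G →
      ∀ S : Sylow 2 G, (S : Subgroup G).Normal := by
    intro n
    induction n using Nat.strong_induction_on with
    | _ n ih =>
      intro G _ hcard h S
      have hp2 : Fact (Nat.Prime 2) := ⟨Nat.prime_two⟩
      have IH : ∀ (H : Type u) [Group H], THyp H → Nat.card H < Nat.card G →
          ∀ S : Sylow 2 H, (S : Subgroup H).Normal := by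
        intro H _ hH hlt T
        exact ih (Nat.card H) (hcard ▸ hlt) H rfl hH T
      by_cases hc : ∀ s ∈ (S : Subgroup G), ∀ x : G, x * x = 1 → s * x = x * s
      · -- case B
        have h1 : (S : Subgroup G) ≤ pCore 2 G := hB4 G h S hc
        have h2 : pCore 2 G ≤ (S : Subgroup G) := Cfsg.Agent.Lib.Helper76.pCore_le_sylow 2 S
        have h3 : (S : Subgroup G) = pCore 2 G := le_antisymm h1 h2
        rw [h3]
        exact pCore_two_normal G
      · -- case A
        exfalso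
        push Not at hc
        obtain ⟨s, hs, x, hx, hsx⟩ := hc
        obtain ⟨G₁, hn, hidx, hP, htr⟩ := hA1 G h S ⟨s, hs, x, hx, hsx⟩
        exact hA2 G h IH G₁ hn hidx hP htr
  intro G _ h S
  exact key (Nat.card G) G rfl h S

end Cfsg.Agent.Lib.Helper21.Suz2Normal
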