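/-
helper21: project SUZ2 part 2 (helper85, S3797), module SUZ2-[T-PLEN]: if `S·O_{2'}(G)` is normal in `G`
(`S` a Sylow 2-subgroup) then `G` has 2-length at most one.
Series: `K = O_{2'}(G)` (length 0), `SK/K` (a 2-group, length 1), `G/SK` (odd order, length 0).
-/
import Cfsg.Agent.Lib.Helper63.PLen2
import Cfsg.Agent.Lib.Helper76.PCore

set_option autoImplicit false

namespace Cfsg.Agent.Lib.Helper21.Suz2PLen

open Cfsg

universe u

variable {G : Type u} [Group G]

/-- [T-PLEN] -/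
theorem plength_one [Finite G] (hG : Group.IsSolvable G) (S : Sylow 2 G)
    (hn : ((S : Subgroup G) ⊔ pPrimeCore 2 G).Normal) : Cfsg.PLengthLE 2 1 G := by
  have hp2 : Fact (Nat.Prime 2) := ⟨Nat.prime_two⟩
  have hKn : (pPrimeCore 2 G).Normal := inferInstance
  have hKM : pPrimeCore 2 G ≤ (S : Subgroup G) ⊔ pPrimeCore 2 G := le_sup_right
  have hSM : (S : Subgroup G) ≤ (S : Subgroup G) ⊔ pPrimeCore 2 G := le_sup_left
  -- the quotient by `SK` has odd order
  have hQ : PLengthLE 2 0 (G ⧸ ((S : Subgroup G) ⊔ pPrimeCore 2 G)) := by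
    apply Cfsg.Agent.Lib.Helper63.PLengthLE.zero_of_coprime
    rw [← Subgroup.index_eq_card]
    have h1 : ((S : Subgroup G) ⊔ pPrimeCore 2 G).index ∣ (S : Subgroup G).index :=
      Subgroup.index_dvd_of_le hSM
    have h2 : ¬ 2 ∣ (S : Subgroup G).index := S.not_dvd_index
    have h3 : ¬ 2 ∣ ((S : Subgroup G) ⊔ pPrimeCore 2 G).index := fun h => h2 (dvd_trans h h1)
    exact ((Nat.Prime.coprime_iff_not_dvd Nat.prime_two).2 h3).symm
  -- `SK` has 2-length at most one
  have hM : PLengthLE 2 1 ↥((S : Subgroup G) ⊔ pPrimeCore 2 G) := by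
    have hN' : ((pPrimeCore 2 G).subgroupOf ((S : Subgroup G) ⊔ pPrimeCore 2 G)).Normal :=
      Subgroup.Normal.subgroupOf hKn _
    have h0 : PLengthLE 2 0 ↥((pPrimeCore 2 G).subgroupOf ((S : Subgroup G) ⊔ pPrimeCore 2 G)) := by
      apply Cfsg.Agent.Lib.Helper63.PLengthLE.zero_of_coprime
      rw [Nat.card_congr (Subgroup.subgroupOfEquivOfLe hKM).toEquiv]
      exact Cfsg.Agent.Lib.Helper76.pPrimeCore_coprime 2
    have h1 : PLengthLE 2 1 (↥((S : Subgroup G) ⊔ pPrimeCore 2 G) ⧸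
        (pPrimeCore 2 G).subgroupOf ((S : Subgroup G) ⊔ pPrimeCore 2 G)) := by
      apply Cfsg.Agent.Lib.Helper63.PLengthLE.one_of_isPGroup
      -- the composite `S → SK → SK/K` is onto
      let f : ↥(S : Subgroup G) →* (↥((S : Subgroup G) ⊔ pPrimeCore 2 G) ⧸
          (pPrimeCore 2 G).subgroupOf ((S : Subgroup G) ⊔ pPrimeCore 2 G)) :=
        (QuotientGroup.mk' _).comp (Subgroup.inclusion hSM)
      have hf : Function.Surjective f := by
        intro y
        obtain ⟨m, rfl⟩ := QuotientGroup.mk'_surjective _ y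
        obtain ⟨s, hs, k, hk, hsk⟩ := Subgroup.mem_sup_of_normal_right.mp m.2
        refine ⟨⟨s, hs⟩, ?_⟩
        show (QuotientGroup.mk' _) (Subgroup.inclusion hSM ⟨s, hs⟩) = (QuotientGroup.mk' _) m
        rw [QuotientGroup.mk'_eq_mk']
        refine ⟨⟨k, hKM hk⟩, ?_, ?_⟩
        · exact Subgroup.mem_subgroupOf.mpr hk
        · apply Subtype.ext
          exact hsk
      exact IsPGroup.of_surjective S.2 f hf
    have h2 := Cfsg.Agent.Lib.Helper63.PLengthLE.extension
      ((pPrimeCore 2 G).subgroupOf ((S : Subgroup G) ⊔ pPrimeCore 2 G)) h0 h1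
    simpa using h2
  have h3 := Cfsg.Agent.Lib.Helper63.PLengthLE.extension ((S : Subgroup G) ⊔ pPrimeCore 2 G) hM hQ
  simpa using h3

end Cfsg.Agent.Lib.Helper21.Suz2PLen
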