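import Mathlib
import Cfsg.Prelude.Def_GeometricClasses
import Cfsg.Agent.Lib.Helper99.AschDefs
import Cfsg.Agent.Lib.Helper99.U92.Defs
import Cfsg.Agent.Lib.Helper25.U92PT2
import Cfsg.Agent.Lib.Helper25.U92R3Span

/-!
# U92-[R9-SPAN] (helper21, for helper99's sub-sheet U92 of project ASCHU)

`R9set ω` spans the full matrix algebra `M_9(F)`.
-/

set_option autoImplicit false
set_option linter.unusedSectionVars false

namespace Cfsg.Agent.Lib.Helper99.U92

open Cfsg Cfsg.Geo Cfsg.Agent.Lib.Helper99.Asch Cfsg.Agent.Lib.Helper70.AschU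
open Cfsg.Agent.Lib.Helper15.AschSlotNorm Cfsg.Agent.Lib.Helper15.AschUPure
open scoped MatrixGroups Matrix

variable {F : Type*} [Field F] [Fintype F] {σ : F ≃+* F} {ω : F}

/-- U92-[R9-SPAN] -/
theorem span_R9set (hF : Fintype.card F = 2 ^ 2) (hω : ω ^ 2 + ω + 1 = 0) :
    Submodule.span F (R9set ω) = ⊤ := by
  have h3 : Submodule.span F (R3set ω) = ⊤ := span_R3set hF hω
  have hzl : ∀ B : Matrix (Fin 3) (Fin 3) F, PT ![(0 : Matrix (Fin 3) (Fin 3) F), B] = 0 := fun B => by
    have := PT_two_smul_left (0 : F) (0 : Matrix (Fin 3) (Fin 3) F) B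
    rwa [zero_smul, zero_smul] at this
  have hzr : ∀ A : Matrix (Fin 3) (Fin 3) F, PT ![A, (0 : Matrix (Fin 3) (Fin 3) F)] = 0 := fun A => by
    have := PT_two_smul_right (0 : F) A (0 : Matrix (Fin 3) (Fin 3) F)
    rwa [zero_smul, zero_smul] at this
  -- first factor arbitrary, second in `R3set`
  have step1 : ∀ B ∈ R3set ω, ∀ A : Matrix (Fin 3) (Fin 3) F,
      PT ![A, B] ∈ Submodule.span F (R9set ω) := by
    intro B hB A
    have hA : A ∈ Submodule.span F (R3set ω) := by rw [h3]; trivial
    induction hA using Submodule.span_induction with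
    | mem A hA => exact Submodule.subset_span ⟨A, hA, B, hB, rfl⟩
    | zero => rw [hzl]; exact Submodule.zero_mem _
    | add A A' _ _ ihA ihA' => rw [PT_two_add_left]; exact Submodule.add_mem _ ihA ihA'
    | smul c A _ ihA => rw [PT_two_smul_left]; exact Submodule.smul_mem _ c ihA
  -- both factors arbitrary
  have step2 : ∀ A B : Matrix (Fin 3) (Fin 3) F, PT ![A, B] ∈ Submodule.span F (R9set ω) := by
    intro A B
    have hB : B ∈ Submodule.span F (R3set ω) := by rw [h3]; trivial
    induction hB using Submodule.span_induction with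
    | mem B hB => exact step1 B hB A
    | zero => rw [hzr]; exact Submodule.zero_mem _
    | add B B' _ _ ihB ihB' => rw [PT_two_add_right]; exact Submodule.add_mem _ ihB ihB'
    | smul c B _ ihB => rw [PT_two_smul_right]; exact Submodule.smul_mem _ c ihB
  rw [eq_top_iff]
  intro M _
  rw [Matrix.matrix_eq_sum_single M]
  refine Submodule.sum_mem _ (fun x _ => Submodule.sum_mem _ (fun y _ => ?_))
  have h1 : Matrix.single x y (M x y) = M x y • Matrix.single x y (1 : F) := by
    rw [Matrix.smul_single, smul_eq_mul, mul_one]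
  rw [h1, ← PT_two_single]
  exact Submodule.smul_mem _ _ (step2 _ _)

end Cfsg.Agent.Lib.Helper99.U92
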