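import Mathlib
import Cfsg.Prelude.Def_GeometricClasses
import Cfsg.Agent.Lib.Helper99.AschDefs
import Cfsg.Agent.Lib.Helper99.U92.Defs
import Cfsg.Agent.Lib.Helper25.U92PT2

/-!
# U92-[UNIT-FACTORS] (helper21, for helper99's sub-sheet U92 of project ASCHU)

If `a ⊗ b` is unitary over the field with four elements then `a` and `b` are unitary.
-/

set_option autoImplicit false
set_option linter.unusedSectionVars false

namespace Cfsg.Agent.Lib.Helper99.U92

open Cfsg Cfsg.Geo Cfsg.Agent.Lib.Helper99.Asch Cfsg.Agent.Lib.Helper70.AschU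
open Cfsg.Agent.Lib.Helper15.AschSlotNorm Cfsg.Agent.Lib.Helper15.AschUPure
open scoped MatrixGroups Matrix

variable {F : Type*} [Field F] [Fintype F] {σ : F ≃+* F} {ω : F}

/-- U92-[UNIT-FACTORS] -/
theorem isU_factors (hσ : UCtx σ 2) (a b : Matrix (Fin 3) (Fin 3) F) (h : IsU σ (PT ![a, b])) :
    IsU σ a ∧ IsU σ b := by
  have h1 : PT ![aᵀ * a.map σ, bᵀ * b.map σ] = 1 := by
    have h' : (PT ![a, b])ᵀ * (PT ![a, b]).map σ = 1 := h
    rwa [PT_two_transpose, PT_two_map, PT_two_mul] at h'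
  obtain ⟨c, hc0, hca, hcb⟩ := PT_two_eq_one (by norm_num : 0 < 3) h1
  -- the diagonal entry `c` of `aᵀ a^σ` is fixed by `σ`
  have hc : c = (aᵀ * a.map σ) 0 0 := by
    rw [hca]; simp
  have hfix : σ c = c := by
    rw [hc, Matrix.mul_apply, map_sum]
    refine Finset.sum_congr rfl (fun k _ => ?_)
    rw [map_mul, Matrix.transpose_apply, Matrix.map_apply, hσ.invol, mul_comm]
  have hsq : c ^ 2 = c := by rw [← hσ.frob, hfix]
  have hc1 : c = 1 := by
    have : c * (c - 1) = 0 := by rw [mul_sub, mul_one, ← pow_two, hsq, sub_self]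
    rcases mul_eq_zero.1 this with h0 | h0
    · exact absurd h0 hc0
    · exact sub_eq_zero.1 h0
  subst hc1
  refine ⟨?_, ?_⟩
  · show aᵀ * a.map σ = 1
    rw [hca, one_smul]
  · show bᵀ * b.map σ = 1
    rw [hcb, inv_one, one_smul]

end Cfsg.Agent.Lib.Helper99.U92
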