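import Mathlib
import Cfsg.Agent.S1399
import Cfsg.Agent.S1401
import Cfsg.Agent.S1456
import Cfsg.Agent.Lib.Helper54.BGUnique
import Cfsg.Agent.Lib.Helper54.UqBasic
import Cfsg.Agent.Lib.Helper54.UqRank
import Cfsg.Agent.Lib.Helper54.UqNine3
import Cfsg.Agent.Lib.Helper54.UqNine4

/-!
# Rigid normal subgroups of maximal subgroups (helper21 library)

Hypothesis `h1` of `Cfsg.Agent.Lib.Helper21.scn_endgame`:
if `A` is an abelian `p`-subgroup of rank at least three of a minimal simple group of odd order which is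
not a uniqueness subgroup, and `M` is a maximal subgroup with `A ≤ M'`, then some `O_t(M)`, `t ≠ p`, is
noncyclic and all its noncyclic subgroups are uniqueness subgroups.
-/

set_option autoImplicit false

namespace Cfsg.Agent.Lib.Helper21

open Cfsg Cfsg.Agent.Lib.Helper54

variable {G : Type*} [Group G]

/-- A group of rank at least three has an elementary abelian `u`-subgroup of order `> u ^ 2`. -/
theorem exists_elemAb_of_not_rankLE {H : Type*} [Group H] (h : ¬ Cfsg.RankLE 2 H) :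
    ∃ u : ℕ, u.Prime ∧ ∃ B : Subgroup H, (∀ x ∈ B, ∀ y ∈ B, x * y = y * x) ∧
      (∀ x ∈ B, x ^ u = 1) ∧ u ^ 2 < Nat.card B := by
  unfold Cfsg.RankLE Cfsg.PRankLE at h
  push Not at h
  obtain ⟨u, hu, B, hBc, hBe, hBcard⟩ := h
  refine ⟨u, hu, B, ?_, hBe, hBcard⟩
  intro x hx y hy
  have := hBc.is_comm.comm (⟨x, hx⟩ : B) ⟨y, hy⟩
  exact congrArg Subtype.val this

/-- If `M' ≰ F(M)` for a solvable subgroup `M` of odd order, then every elementary abelian `t`-subgroup `E₀` of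
`F(M)` is centralized by an elementary abelian `u`-subgroup of `F(M)` of order `> u ^ 2` (for some prime `u`). -/
theorem exists_elemAb_fitting_centralizer [Finite G] (M : Subgroup G) [Group.IsSolvable ↥M]
    (hodd : Odd (Nat.card ↥M)) (hnot : ¬ ⁅M, M⁆ ≤ Cfsg.fittingOf M) (t : ℕ) [Fact t.Prime]
    (E₀ : Subgroup G) (hE₀F : E₀ ≤ Cfsg.fittingOf M) (hE₀c : ∀ x ∈ E₀, ∀ y ∈ E₀, x * y = y * x)
    (hE₀e : ∀ x ∈ E₀, x ^ t = 1) :
    ∃ u : ℕ, u.Prime ∧ ∃ B : Subgroup G, B ≤ Cfsg.fittingOf M ∧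
      B ≤ Subgroup.centralizer (E₀ : Set G) ∧ (∀ x ∈ B, ∀ y ∈ B, x * y = y * x) ∧
      (∀ x ∈ B, x ^ u = 1) ∧ u ^ 2 < Nat.card B := by
  have hE₀M : E₀ ≤ M := hE₀F.trans (fittingOf_le M)
  set E' : Subgroup ↥M := E₀.subgroupOf M with hE'
  have hE'F : E' ≤ Cfsg.fittingSubgroup ↥M := by
    intro y hy
    obtain ⟨f, hf, hfy⟩ := hE₀F (Subgroup.mem_subgroupOf.mp hy)
    have : f = y := Subtype.ext hfy
    rwa [← this]
  have hE'e : Cfsg.IsElementaryAbelian t E' := by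
    refine ⟨⟨⟨fun x y => ?_⟩⟩, fun a ha => ?_⟩
    · apply Subtype.ext
      apply Subtype.ext
      exact hE₀c x.1.1 (Subgroup.mem_subgroupOf.mp x.2) y.1.1 (Subgroup.mem_subgroupOf.mp y.2)
    · apply Subtype.ext
      simpa using hE₀e a.1 (Subgroup.mem_subgroupOf.mp ha)
  set X : Subgroup ↥M := Cfsg.fittingSubgroup ↥M ⊓ Subgroup.centralizer (E' : Set ↥M) with hX
  have hr : ¬ Cfsg.RankLE 2 ↥X := by
    intro hr
    apply hnot
    have h := Cfsg.Agent.S1456.result hodd t E' hE'F hE'e hr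
    rw [← Subgroup.map_subtype_commutator]
    exact Subgroup.map_mono h
  obtain ⟨u, hu, B', hB'c, hB'e, hB'card⟩ := exists_elemAb_of_not_rankLE hr
  refine ⟨u, hu, (B'.map X.subtype).map M.subtype, ?_, ?_, ?_, ?_, ?_⟩
  · rintro _ ⟨_, ⟨b, _, rfl⟩, rfl⟩
    exact ⟨b.1, b.2.1, rfl⟩
  · rintro _ ⟨_, ⟨b, _, rfl⟩, rfl⟩
    rw [Subgroup.mem_centralizer_iff]
    intro e he
    have hb : (b : ↥M) ∈ Subgroup.centralizer (E' : Set ↥M) := b.2.2
    have := (Subgroup.mem_centralizer_iff.mp hb) ⟨e, hE₀M he⟩ (Subgroup.mem_subgroupOf.mpr he)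
    exact congrArg Subtype.val this
  · rintro _ ⟨_, ⟨b, hb, rfl⟩, rfl⟩ _ ⟨_, ⟨c, hc, rfl⟩, rfl⟩
    have := hB'c b hb c hc
    exact congrArg (fun z : ↥X => ((z : ↥M) : G)) this
  · rintro _ ⟨_, ⟨b, hb, rfl⟩, rfl⟩
    have := hB'e b hb
    exact congrArg (fun z : ↥X => ((z : ↥M) : G)) this
  · rw [Subgroup.card_map_of_injective M.subtype_injective,
      Subgroup.card_map_of_injective X.subtype_injective]
    exact hB'card

/-- **Rigid normal subgroup.** Hypothesis `h1` of `scn_endgame`, from `A ≤ M'`. -/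
theorem exists_rigid_normal [Finite G] (hG : Cfsg.IsMinSimpleOddOrder G) (p : ℕ) [Fact p.Prime]
    (A : Subgroup G) (hAp : IsPGroup p A) (hAc : IsMulCommutative A) (hA3 : ¬ Cfsg.PRankLE p 2 ↥A)
    (hU : ¬ Cfsg.InUniqueMaximal A) (M : Subgroup G) (hM : IsCoatom M) (hAM' : A ≤ ⁅M, M⁆) :
    ∃ S : Subgroup G, S ≤ M ∧ M ≤ Subgroup.normalizer (S : Set G) ∧ ¬ IsCyclic S ∧
      ¬ p ∣ Nat.card S ∧ ∀ E : Subgroup G, E ≤ S → ¬ IsCyclic E → Cfsg.InUniqueMaximal E := by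
  have hp : p.Prime := Fact.out
  have hGodd : Odd (Nat.card G) := hG.1
  have : Group.IsSolvable ↥M := hG.2.2.2 M hM.1
  have hodd : Odd (Nat.card ↥M) := Odd.of_dvd_nat hGodd (Subgroup.card_subgroup_dvd_card M)
  -- `r_p(F(M)) ≤ 2`
  have hFp : Cfsg.PRankLE p 2 ↥(Cfsg.fittingOf M) := by
    by_contra h
    exact hU (Cfsg.Agent.S1401.result hG M hM p h A hAp hAc hA3)
  have hnot : ¬ ⁅M, M⁆ ≤ Cfsg.fittingOf M := fun h => hA3 (pRankLE_of_le (hAM'.trans h) hFp)
  -- a prime `t ≠ p` with `O_t(M)` of rank at least three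
  obtain ⟨t, ht, B, hBF, -, hBc, hBe, hBcard⟩ :=
    exists_elemAb_fitting_centralizer M hodd hnot p ⊥ bot_le
      (fun x hx y hy => by
        rw [Subgroup.mem_bot] at hx hy
        rw [hx, hy])
      (fun x hx => by
        rw [Subgroup.mem_bot] at hx
        rw [hx, one_pow])
  have : Fact t.Prime := ⟨ht⟩
  have htp : t ≠ p := by
    rintro rfl
    exact not_pRankLE_of_elemAb hBF hBc hBe hBcard hFp
  have hBt : IsPGroup t B := isPGroup_of_exponent hBe
  have ht2 : t ≠ 2 := by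
    rintro rfl
    have hB1 : 1 < Nat.card B := lt_of_le_of_lt (Nat.one_le_pow _ _ (by norm_num)) hBcard
    obtain ⟨k, hk⟩ := IsPGroup.iff_card.mp hBt
    have hk0 : k ≠ 0 := by
      rintro rfl
      rw [pow_zero] at hk
      omega
    have h2 : 2 ∣ Nat.card B := by
      rw [hk]
      exact dvd_pow_self 2 hk0
    have h3 : 2 ∣ Nat.card G := h2.trans (Subgroup.card_subgroup_dvd_card B)
    exact (Nat.not_even_iff_odd.mpr hGodd) (even_iff_two_dvd.mpr h3)
  set S : Subgroup G := pcOf t M with hS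
  have hSt : IsPGroup t S := pcOf_isPGroup t M
  have hSM : S ≤ M := pcOf_le t M
  have hSF : S ≤ Cfsg.fittingOf M := pcOf_le_fittingOf t M
  have hBS : B ≤ S := le_pcOf_of_isPGroup t hBt hBF
  refine ⟨S, hSM, le_normalizer_pcOf t M, ?_, ?_, ?_⟩
  · -- `S` is not cyclic
    intro hc
    have hBc' : IsCyclic B := by
      have h1 : IsCyclic ↥(B.subgroupOf S) := inferInstance
      exact isCyclic_of_surjective (Subgroup.subgroupOfEquivOfLe hBS).toMonoidHom
        (Subgroup.subgroupOfEquivOfLe hBS).surjective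
    exact not_isCyclic_of_elemAb ht hBe hBcard.le hBc'
  · -- `p ∤ |S|`
    intro hdvd
    obtain ⟨k, hk⟩ := IsPGroup.iff_card.mp hSt
    rw [hk] at hdvd
    exact htp ((Nat.prime_dvd_prime_iff_eq hp ht).mp (hp.dvd_of_dvd_pow hdvd)).symm
  · -- noncyclic subgroups of `S` are uniqueness subgroups
    intro E hES hEnc
    have hEt : IsPGroup t E := hSt.to_le hES
    obtain ⟨E₀, hE₀E, hE₀c, hE₀e, hE₀card⟩ := exists_elemAb_sq_of_not_isCyclic ht2 E hEt hEnc
    have hE₀F : E₀ ≤ Cfsg.fittingOf M := hE₀E.trans (hES.trans hSF)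
    obtain ⟨u, hu, Bu, hBuF, hBuC, hBuc, hBue, hBucard⟩ :=
      exists_elemAb_fitting_centralizer M hodd hnot t E₀ hE₀F hE₀c hE₀e
    have : Fact u.Prime := ⟨hu⟩
    have hFu : ¬ Cfsg.PRankLE u 2 ↥(Cfsg.fittingOf M) :=
      not_pRankLE_of_elemAb hBuF hBuc hBue hBucard
    have hBuAb : IsMulCommutative Bu :=
      ⟨⟨fun x y => Subtype.ext (hBuc x.1 x.2 y.1 y.2)⟩⟩
    have hBuU : Cfsg.InUniqueMaximal Bu :=
      Cfsg.Agent.S1401.result hG M hM u hFu Bu (isPGroup_of_exponent hBue) hBuAb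
        (not_pRankLE_of_elemAb le_rfl hBuc hBue hBucard)
    have hE₀C : E₀ ≤ Subgroup.centralizer (Bu : Set G) := by
      intro e he
      rw [Subgroup.mem_centralizer_iff]
      intro b hb
      exact ((Subgroup.mem_centralizer_iff.mp (hBuC hb)) e he).symm
    have hE₀r : ¬ Cfsg.RankLE 1 ↥E₀ := by
      intro h
      have h1 : t ^ 1 < Nat.card E₀ := by
        have : t ^ 1 < t ^ 2 := Nat.pow_lt_pow_right ht.one_lt (by norm_num)
        omega
      exact not_pRankLE_of_elemAb le_rfl hE₀c hE₀e h1 (h t ht)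
    have hE₀U : Cfsg.InUniqueMaximal E₀ := Cfsg.Agent.S1399.result hG Bu E₀ hBuU hE₀C hE₀r
    refine inUniqueMaximal_mono hE₀U hE₀E ?_
    intro hE
    apply hM.1
    rw [eq_top_iff, ← hE]
    exact hES.trans hSM

end Cfsg.Agent.Lib.Helper21
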