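import Mathlib

/-!
# WAT-[ETA] (helper21, for helper77's project WAT = S4644)

An `S`-invariant linear character of the abelian `p`-group `P`, trivial on `Z`, nontrivial at `u`,
when `p` does not divide `|S : C(P)|`: the product of `μ ∘ α` over the image `A` of `S` in `Aut P`.
-/

set_option autoImplicit false
set_option linter.style.haveILetI false
set_option linter.unusedVariables false

namespace Cfsg.Agent.Lib.Helper21.WAT

variable {p : ℕ} [Fact p.Prime]

/-- WAT-[ETA] : a `S`-invariant linear character of `P`, trivial on `Z`, nontrivial at `u` -/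
theorem exists_eta {K : Type*} [Group K] [Finite K] (P S : Subgroup K) (hP : IsPGroup p P)
    (hPab : ∀ x ∈ P, ∀ y ∈ P, x * y = y * x) (hSN : S ≤ Subgroup.normalizer (P : Set K))
    (hCS : Subgroup.centralizer (P : Set K) ≤ S)
    (hidx : ¬ p ∣ (Subgroup.centralizer (P : Set K)).relIndex S) (Z : Subgroup K) (hZP : Z ≤ P)
    (hZ : ∀ s ∈ S, ∀ z ∈ Z, s * z * s⁻¹ = z) {u : K} (hu : u ∈ P)
    (huS : ∀ s ∈ S, s * u * s⁻¹ = u) (huZ : u ∉ Z) :
    ∃ η : P →* ℂˣ, (∀ s ∈ S, ∀ v v' : P, s * (v : K) * s⁻¹ = (v' : K) → η v' = η v) ∧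
      (∀ z : P, (z : K) ∈ Z → η z = 1) ∧ η ⟨u, hu⟩ ≠ 1 := by
  classical
  have hp : p.Prime := Fact.out
  -- the commutative group structure on `P`
  letI cg : CommGroup P := { (inferInstance : Group P) with
    mul_comm := fun a b => Subtype.ext (hPab a a.2 b b.2) }
  let Z' : Subgroup P := Z.subgroupOf P
  have huZ' : (QuotientGroup.mk' Z' ⟨u, hu⟩) ≠ 1 := by
    intro h
    rw [QuotientGroup.mk'_apply, QuotientGroup.eq_one_iff] at h
    exact huZ h
  haveI : NeZero ((Monoid.exponent (P ⧸ Z') : ℕ) : ℂ) :=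
    ⟨by exact_mod_cast (Monoid.exponent_ne_zero_of_finite (G := P ⧸ Z'))⟩
  haveI : HasEnoughRootsOfUnity ℂ (Monoid.exponent (P ⧸ Z')) := inferInstance
  obtain ⟨μ0, hμ0⟩ := CommGroup.exists_apply_ne_one_of_hasEnoughRootsOfUnity (P ⧸ Z') ℂ huZ'
  let μ : P →* ℂˣ := μ0.comp (QuotientGroup.mk' Z')
  have hμu : μ ⟨u, hu⟩ ≠ 1 := hμ0
  have hμZ : ∀ z : P, (z : K) ∈ Z → μ z = 1 := by
    intro z hz
    show μ0 (QuotientGroup.mk' Z' z) = 1
    have : QuotientGroup.mk' Z' z = 1 := by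
      rw [QuotientGroup.mk'_apply, QuotientGroup.eq_one_iff]
      exact hz
    rw [this, map_one]
  -- the action of `S` on `P`
  let φ : S →* MulAut P := P.normalizerMonoidHom.comp (Subgroup.inclusion hSN)
  have hφ : ∀ (s : S) (v : P), ((φ s v : P) : K) = (s : K) * (v : K) * (s : K)⁻¹ := fun s v => rfl
  let A : Subgroup (MulAut P) := φ.range
  haveI : Finite A := Finite.of_surjective φ.rangeRestrict φ.rangeRestrict_surjective
  haveI : Fintype A := Fintype.ofFinite A
  have hker : (Subgroup.centralizer (P : Set K)).subgroupOf S ≤ φ.ker := by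
    intro s hs
    rw [Subgroup.mem_subgroupOf, Subgroup.mem_centralizer_iff] at hs
    rw [MonoidHom.mem_ker]
    ext v
    rw [hφ, MulAut.one_apply, ← hs (v : K) v.2, mul_inv_cancel_right]
  have hcard : ¬ p ∣ Fintype.card A := by
    rw [← Nat.card_eq_fintype_card, ← Subgroup.index_ker]
    intro h
    exact hidx (h.trans (Subgroup.index_dvd_of_le hker))
  let η : P →* ℂˣ := ∏ α : A, μ.comp ((α : MulAut P) : P ≃* P).toMonoidHom
  have hη : ∀ v : P, η v = ∏ α : A, μ ((α : MulAut P) v) := by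
    intro v
    show (∏ α : A, μ.comp ((α : MulAut P) : P ≃* P).toMonoidHom) v = _
    rw [MonoidHom.finsetProd_apply]
    rfl
  refine ⟨η, ?_, ?_, ?_⟩
  · intro s hs v v' hv
    have hv' : v' = φ ⟨s, hs⟩ v := Subtype.ext (by rw [hφ, ← hv])
    rw [hη, hη, hv']
    let a : A := ⟨φ ⟨s, hs⟩, MonoidHom.mem_range.2 ⟨_, rfl⟩⟩
    refine Fintype.prod_equiv (Equiv.mulRight a) _ _ (fun α => ?_)
    rfl
  · intro z hz
    rw [hη]
    refine Finset.prod_eq_one (fun α _ => ?_)
    obtain ⟨s, hs⟩ := MonoidHom.mem_range.1 α.2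
    have : (α : MulAut P) z = z := by
      rw [← hs]
      exact Subtype.ext (by rw [hφ]; exact hZ s s.2 z hz)
    rw [this]
    exact hμZ z hz
  · rw [hη]
    have hfix : ∀ α : A, μ ((α : MulAut P) ⟨u, hu⟩) = μ ⟨u, hu⟩ := by
      intro α
      obtain ⟨s, hs⟩ := MonoidHom.mem_range.1 α.2
      have : (α : MulAut P) ⟨u, hu⟩ = ⟨u, hu⟩ := by
        rw [← hs]
        exact Subtype.ext (by rw [hφ]; exact huS s s.2)
      rw [this]
    rw [Finset.prod_congr rfl (fun α _ => hfix α), Finset.prod_const, Finset.card_univ]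
    intro h1
    obtain ⟨k, hk⟩ := hP ⟨u, hu⟩
    have h2 : μ ⟨u, hu⟩ ^ p ^ k = 1 := by rw [← map_pow, hk, map_one]
    have hd1 : orderOf (μ ⟨u, hu⟩) ∣ Fintype.card A := orderOf_dvd_of_pow_eq_one h1
    have hd2 : orderOf (μ ⟨u, hu⟩) ∣ p ^ k := orderOf_dvd_of_pow_eq_one h2
    have hcop : Nat.Coprime (p ^ k) (Fintype.card A) :=
      ((Nat.Prime.coprime_iff_not_dvd hp).2 hcard).pow_left k
    have h3 : orderOf (μ ⟨u, hu⟩) = 1 := by
      have := Nat.dvd_gcd hd2 hd1
      rw [hcop] at this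
      exact Nat.dvd_one.1 this
    exact hμu (orderOf_eq_one_iff.1 h3)

end Cfsg.Agent.Lib.Helper21.WAT
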