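import Mathlib
import Cfsg.Agent.Lib.Helper77.Linear
import Cfsg.Agent.Lib.Helper78.CharMore

/-!
# WAT-[LIN] (helper21, for helper77's project WAT = S4644)

A linear character of a finite group is a generalized character, unimodular, with value `1` at `1`.
-/

set_option autoImplicit false

namespace Cfsg.Agent.Lib.Helper21.WAT

open Cfsg
open scoped ComplexConjugate

/-- WAT-[LIN] : a linear character of `P` is a generalized character, unimodular, `η 1 = 1` -/
theorem linear_facts {P' : Type*} [Group P'] [Finite P'] (η : P' →* ℂˣ) :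
    IsGeneralizedCharacter P' (fun v => ((η v : ℂˣ) : ℂ)) ∧
      (∀ v : P', ((η v : ℂˣ) : ℂ) * conj ((η v : ℂˣ) : ℂ) = 1) ∧ ((η 1 : ℂˣ) : ℂ) = 1 := by
  refine ⟨?_, ?_, ?_⟩
  · have hirr : IsIrrCharacter P' (fun v : P' => ((η v : ℂˣ) : ℂ)) :=
      Cfsg.Agent.Lib.Helper77.isIrrCharacter_of_monoidHom η
    exact ⟨_, 0, Cfsg.Agent.Lib.Helper78.IsIrrCharacter.isCharacter hirr,
      Cfsg.Agent.Lib.Helper78.isCharacter_zero, (sub_zero _).symm⟩
  · intro v
    have h1 : ((η v : ℂˣ) : ℂ) ^ orderOf v = 1 := by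
      rw [← Units.val_pow_eq_pow_val, ← map_pow, pow_orderOf_eq_one, map_one, Units.val_one]
    have h2 : ‖((η v : ℂˣ) : ℂ)‖ = 1 :=
      Complex.norm_eq_one_of_pow_eq_one h1 (orderOf_pos v).ne'
    rw [Complex.mul_conj, Complex.normSq_eq_norm_sq, h2]
    simp
  · rw [map_one, Units.val_one]

end Cfsg.Agent.Lib.Helper21.WAT
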